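import Mathlib
import Cfsg.Agent.PLocal.SL2Elts

/-!
Modules for `SL₂(2ⁿ)` on which the elements of order three act without fixed points are direct
sums of natural modules (G. Higman).
-/

set_option autoImplicit false
set_option linter.unusedSectionVars false

namespace Cfsg.Agent.PLocal.SL2Nat

open Matrix
open scoped MatrixGroups

variable {K : Type*} [Field K] [CharP K 2]

/-- Trace one. -/
def Tr1 (g : SL(2, K)) : Prop := g.1 0 0 + g.1 1 1 = 1

theorem Tr1.inv {g : SL(2, K)} (h : Tr1 g) : Tr1 g⁻¹ := by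
  rwa [Tr1, inv_apply₀₀, inv_apply₁₁, add_comm]

theorem Tr1.conj {g : SL(2, K)} (h : Tr1 g) (k : SL(2, K)) : Tr1 (k * g * k⁻¹) := by
  have h1 := det_eq k
  simp only [Tr1, mul_apply', inv_apply₀₀, inv_apply₀₁, inv_apply₁₀, inv_apply₁₁] at h ⊢
  linear_combination (g.1 0 0 + g.1 1 1) * h1 + h

theorem Tr1.cube {g : SL(2, K)} (h : Tr1 g) : g * (g * g) = 1 := by
  have h1 := det_eq g
  have h2 : (2 : K) = 0 := CharTwo.two_eq_zero
  rw [Tr1] at h
  refine sl_ext (.trans ?_ (rfl : (1 : K) = _)) (.trans ?_ (rfl : (0 : K) = _))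
    (.trans ?_ (rfl : (0 : K) = _)) (.trans ?_ (rfl : (1 : K) = _)) <;> simp only [mul_apply'] <;> grind

theorem tr1_of_cube {g : SL(2, K)} (h : g * (g * g) = 1) (h0 : g ≠ 1) : Tr1 g := by
  by_contra h3
  have h1 := det_eq g
  have h2 : (2 : K) = 0 := CharTwo.two_eq_zero
  have e : g * g = g⁻¹ := eq_inv_of_mul_eq_one_right h
  have e1 := congrArg (fun g : SL(2, K) => g.1 0 1) e
  have e2 := congrArg (fun g : SL(2, K) => g.1 1 0) e
  have e3 := congrArg (fun g : SL(2, K) => g.1 0 0) e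
  have e4 := congrArg (fun g : SL(2, K) => g.1 1 1) e
  simp only [mul_apply', inv_apply₀₀, inv_apply₀₁, inv_apply₁₀, inv_apply₁₁] at e1 e2 e3 e4
  rw [Tr1] at h3
  refine h0 (sl_ext (.trans ?_ (rfl : (1 : K) = _)) (.trans ?_ (rfl : (0 : K) = _))
    (.trans ?_ (rfl : (0 : K) = _)) (.trans ?_ (rfl : (1 : K) = _))) <;> grind

theorem tr1_uu_nn : Tr1 (uu (1 : K) * nn 1 one_ne_zero) := by
  simp [Tr1, mul_apply', coe_uu, coe_nn, CharTwo.neg_eq]

theorem nn_sq : nn (1 : K) one_ne_zero * nn 1 one_ne_zero = 1 := by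
  refine sl_ext ?_ ?_ ?_ ?_ <;> simp [mul_apply', coe_nn, CharTwo.neg_eq]

theorem ll_eq (a : K) : ll a = nn 1 one_ne_zero * uu a * nn 1 one_ne_zero := by
  refine sl_ext ?_ ?_ ?_ ?_ <;> simp [mul_apply', coe_nn, coe_uu, coe_ll, CharTwo.neg_eq]

variable [Finite K]

theorem exists_sq (a : K) : ∃ t, t ^ 2 = a :=
  Finite.surjective_of_injective (frobenius_inj K 2) a

theorem Tr1.isConj {g : SL(2, K)} (h : Tr1 g) : IsConj g (uu 1 * nn 1 one_ne_zero) := by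
  have h2 : (2 : K) = 0 := CharTwo.two_eq_zero
  have key : ∀ g : SL(2, K), Tr1 g → g.1 1 0 ≠ 0 → IsConj g (uu 1 * nn 1 one_ne_zero) := by
    intro g h h0
    obtain ⟨t, ht⟩ := exists_sq (g.1 1 0)
    have ht0 : t ≠ 0 := by rintro rfl; exact h0 (by simpa using ht.symm)
    have h1 := det_eq g
    rw [Tr1] at h
    refine isConj_iff.2 ⟨hh t ht0 * uu (g.1 1 1 / g.1 1 0), mul_inv_eq_iff_eq_mul.2 ?_⟩
    refine sl_ext ?_ ?_ ?_ ?_ <;> simp [mul_apply', coe_nn, coe_uu, coe_hh] <;> field_simp <;> grind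
  by_cases h0 : g.1 1 0 = 0
  · by_cases h1 : g.1 0 1 = 0
    · refine (isConj_iff.2 ⟨ll 1, rfl⟩).trans (key _ (h.conj _) ?_)
      rw [Tr1] at h
      simp only [mul_apply', inv_apply₀₀, inv_apply₁₀, coe_ll, h0, h1]
      simp
      grind
    · refine (isConj_iff.2 ⟨nn 1 one_ne_zero, rfl⟩).trans (key _ (h.conj _) ?_)
      simpa [mul_apply', inv_apply₀₀, inv_apply₁₀, coe_nn] using h1
  · exact key g h h0

theorem eq_top_of_hh {M : Subgroup SL(2, K)} (h1 : ∀ t ht, hh t ht ∈ M) (h2 : nn 1 one_ne_zero ∈ M)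
    {y : SL(2, K)} (hy : y ∈ M) (h3 : y.1 0 0 ≠ 0) (h4 : y.1 0 1 ≠ 0) (h5 : y.1 1 1 ≠ 0) :
    M = ⊤ := by
  have h0 : (2 : K) = 0 := CharTwo.two_eq_zero
  obtain ⟨b, hb, b1, b2⟩ : ∃ b ∈ M, b.1 1 0 = 0 ∧ b.1 0 1 ≠ 0 := by
    by_cases h6 : y.1 1 0 = 0
    · exact ⟨y, hy, h6, h4⟩
    obtain ⟨t, ht⟩ := exists_sq (y.1 0 0 * y.1 1 1 / y.1 1 0 ^ 2)
    have ht0 : t ≠ 0 := by
      rintro rfl
      exact div_ne_zero (mul_ne_zero h3 h5) (pow_ne_zero 2 h6) (by simpa using ht.symm)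
    have h7 := det_eq y
    rw [eq_div_iff (pow_ne_zero 2 h6)] at ht
    refine ⟨_, mul_mem (mul_mem (mul_mem hy (h1 t ht0)) h2) hy, ?_, ?_⟩ <;>
      simp [mul_apply', coe_nn, coe_hh] <;> field_simp <;> grind
  have h6 := det_eq b
  have h7 : b.1 1 1 ≠ 0 := by grind
  have h8 : uu (b.1 0 1 * b.1 0 0) = b * hh _ h7 := by
    refine sl_ext ?_ ?_ ?_ ?_ <;> simp [mul_apply', coe_uu, coe_hh, b1, h7] <;> grind
  have h9 : ∀ a, uu a ∈ M := fun a => by
    by_cases ha : a = 0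
    · rw [ha, uu_zero]; exact one_mem _
    obtain ⟨t, ht⟩ := exists_sq (a / (b.1 0 1 * b.1 0 0))
    have hc : b.1 0 1 * b.1 0 0 ≠ 0 := by grind
    have ht0 : t ≠ 0 := by
      rintro rfl
      exact div_ne_zero ha hc (by simpa using ht.symm)
    have := mul_mem (h1 t ht0) (h8 ▸ mul_mem hb (h1 _ h7))
    rwa [hh_mul_uu, mul_mem_cancel_right (h1 t ht0), ht, div_mul_cancel₀ _ hc] at this
  exact eq_top_iff.2 fun g _ => uu_ll_induction (· ∈ M) h9
    (fun a => ll_eq a ▸ mul_mem (mul_mem h2 (h9 a)) h2) (fun _ _ => mul_mem) g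

omit [Finite K] in
theorem isSimpleGroup_of_ne {s : K} (hs : s ≠ 0) (h1 : s ≠ 1) : IsSimpleGroup SL(2, K) := by
  have h2 : (2 : K) = 0 := CharTwo.two_eq_zero
  have := ProjectiveSpecialLinearGroup.rank_two_simple' (F := K) ⟨s, hs, by grind⟩
  refine (MulEquiv.ofBijective (QuotientGroup.mk' (Subgroup.center SL(2, K)))
    ⟨?_, QuotientGroup.mk'_surjective _⟩).isSimpleGroup
  rw [← MonoidHom.ker_eq_bot_iff, QuotientGroup.ker_mk', eq_bot_iff]
  intro A hA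
  obtain ⟨r, h, e⟩ := Matrix.SpecialLinearGroup.mem_center_iff.1 hA
  obtain rfl : r = 1 := by rw [Fintype.card_fin] at h; grind
  exact Subtype.ext (e.symm.trans (map_one _))

section Ring

variable {R : Type*} [Ring R] (ρ : SL(2, K) →* R) (h3 : ∀ g, Tr1 g → ρ g * ρ g + ρ g + 1 = 0)

omit [CharP K 2] [Finite K] in
theorem rho_inv_mul (g : SL(2, K)) : ρ g⁻¹ * ρ g = 1 := by rw [← map_mul, inv_mul_cancel, map_one]

omit [CharP K 2] [Finite K] in
theorem rho_mul_inv (g : SL(2, K)) : ρ g * ρ g⁻¹ = 1 := by rw [← map_mul, mul_inv_cancel, map_one]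

include h3

theorem rho_inv {g : SL(2, K)} (h : Tr1 g) : ρ g⁻¹ = -1 - ρ g := by
  have := congrArg (ρ g⁻¹ * ·) (h3 g h)
  simp only [mul_add, ← mul_assoc, rho_inv_mul, one_mul, mul_one, mul_zero] at this
  rw [← sub_eq_zero, ← this]
  abel

theorem commute_hh (s : K) (hs : s ≠ 0) (g : SL(2, K)) :
    Commute (ρ g) (ρ (hh s hs) + ρ (hh s hs)⁻¹) := by
  by_cases h1 : s = 1
  · subst h1
    rw [hh_one, inv_one, map_one]
    exact (Commute.one_right _).add_right (Commute.one_right _)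
  have h0 : (2 : K) = 0 := CharTwo.two_eq_zero
  have h2 : s + 1 ≠ 0 := by grind
  let M : Subgroup SL(2, K) :=
    { carrier := {g | Commute (ρ g) (ρ (hh s hs) + ρ (hh s hs)⁻¹)}
      one_mem' := by simp
      mul_mem' := fun ha hb => by simpa using Commute.mul_left ha hb
      inv_mem' := fun {g} hg => Commute.units_inv_left (u := ρ.toHomUnits g) hg }
  let y : SL(2, K) := ⟨!![(s + 1)⁻¹, 1; (s + 1)⁻¹ ^ 2 + (s + 1)⁻¹ + 1, (s + 1)⁻¹ + 1], by
    simp [det_fin_two]; grind⟩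
  have hy : y.1 = !![(s + 1)⁻¹, 1; (s + 1)⁻¹ ^ 2 + (s + 1)⁻¹ + 1, (s + 1)⁻¹ + 1] := rfl
  have h4 : Tr1 y := by simp [Tr1, hy]; grind
  have h5 : Tr1 (y * hh s hs) := by simp [Tr1, hy, mul_apply', coe_hh]; field_simp; grind
  have h6 : y⁻¹ ∈ M := by
    have e1 : ρ (hh s hs) = ρ y⁻¹ * ρ (y * hh s hs) := by rw [← map_mul, inv_mul_cancel_left]
    have e2 : ρ (hh s hs)⁻¹ = (-1 - ρ (y * hh s hs)) * (-1 - ρ y⁻¹) := by
      rw [← rho_inv ρ h3 h5, ← rho_inv ρ h3 h4.inv, ← map_mul]; simp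
    have e3 := h3 _ h4.inv
    change _ * _ = _ * _
    rw [e1, e2, ← sub_eq_zero]
    generalize ρ y⁻¹ = A at *
    generalize ρ (y * hh s hs) = B
    calc _ = (A * A + A + 1) * B - B * (A * A + A + 1) := by noncomm_ring
      _ = 0 := by rw [e3, zero_mul, mul_zero, sub_zero]
  have h7 : ∀ t ht, Commute (hh t ht) (hh s hs) := fun t ht => by
    change _ * _ = _ * _
    simp only [hh_mul_hh, mul_comm]
  have h8 : nn 1 one_ne_zero * hh s hs = (hh s hs)⁻¹ * nn 1 one_ne_zero := by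
    refine sl_ext ?_ ?_ ?_ ?_ <;>
      simp [mul_apply', coe_nn, coe_hh, inv_apply₀₀, inv_apply₀₁, inv_apply₁₀, inv_apply₁₁]
  have h9 : nn 1 one_ne_zero * (hh s hs)⁻¹ = hh s hs * nn 1 one_ne_zero := by
    rw [mul_inv_eq_iff_eq_mul, mul_assoc, h8, mul_inv_cancel_left]
  refine (eq_top_of_hh (M := M) (fun t ht => ((h7 t ht).map ρ).add_right ((h7 t ht).inv_right.map ρ))
    ?_ ((inv_mem_iff (x := y)).1 h6) (by simpa [hy] using h2) (by simp [hy]) ?_).ge (Subgroup.mem_top g)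
  · change _ * _ = _ * _
    rw [mul_add, add_mul, ← map_mul, ← map_mul, h8, h9, map_mul, map_mul, add_comm]
  · simp [hy]
    field_simp
    grind

theorem nil_mul_hh (a : K) {s : K} (hs : s ≠ 0) (h1 : s ≠ 1) :
    (ρ (uu a) - 1) * ρ (hh s hs) = -ρ (hh s hs)⁻¹ * (ρ (uu a) - 1) := by
  have h0 : (2 : K) = 0 := CharTwo.two_eq_zero
  have h2 : s ^ 2 + 1 ≠ 0 := by grind
  have e1 : uu a * hh s hs = uu (a / (s ^ 2 + 1)) * hh s hs * (uu (a / (s ^ 2 + 1)))⁻¹ := by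
    rw [← uu_neg, mul_assoc, hh_mul_uu, ← mul_assoc, ← uu_add]
    congr 2
    field_simp
    grind
  have e2 : (hh s hs)⁻¹ * uu a = uu (a / (s ^ 2 + 1)) * (hh s hs)⁻¹ * (uu (a / (s ^ 2 + 1)))⁻¹ := by
    rw [← _root_.inv_inj, _root_.mul_inv_rev, inv_inv, ← uu_neg, CharTwo.neg_eq, e1]
    group
  have e3 := (commute_hh ρ h3 s hs (uu (a / (s ^ 2 + 1)))).eq
  have e4 : ρ (uu a) * ρ (hh s hs) + ρ (hh s hs)⁻¹ * ρ (uu a) = ρ (hh s hs) + ρ (hh s hs)⁻¹ := by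
    rw [← map_mul, ← map_mul, e1, e2, map_mul, map_mul, map_mul, map_mul, ← add_mul, ← mul_add, e3,
      mul_assoc, rho_mul_inv, mul_one]
  rw [← sub_eq_zero, ← sub_eq_zero.2 e4]
  noncomm_ring

theorem two_mul_rho {s : K} (hs : s ≠ 0) (h1 : s ≠ 1) (g : SL(2, K)) : 2 * ρ g = 2 := by
  have h0 : (2 : K) = 0 := CharTwo.two_eq_zero
  have key : ∀ a, 2 * ρ (uu a) = 2 := fun a => by
    have e1 := nil_mul_hh ρ h3 a hs h1
    have e2 := nil_mul_hh ρ h3 a (mul_ne_zero hs hs) (by grind)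
    rw [← hh_mul_hh s hs s hs, map_mul, ← mul_assoc, e1, mul_assoc, e1, _root_.mul_inv_rev, map_mul] at e2
    have e3 := congrArg (ρ (hh s hs) * ρ (hh s hs) * ·) e2
    simp only [neg_mul, mul_neg, neg_neg, mul_assoc] at e3
    simp only [← mul_assoc (ρ (hh s hs)) (ρ (hh s hs)⁻¹), rho_mul_inv, one_mul] at e3
    rw [eq_neg_iff_add_eq_zero] at e3
    rw [← sub_eq_zero, ← e3, ← two_mul, mul_sub, mul_one]
  refine uu_ll_induction (fun g => 2 * ρ g = 2) key (fun a => ?_) (fun g h e1 e2 => ?_) g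
  · rw [ll_eq, map_mul, map_mul, ← mul_assoc, ← mul_assoc, (Commute.ofNat_left 2 _).eq,
      mul_assoc _ 2, key, mul_assoc, (Commute.ofNat_left 2 _).eq, ← mul_assoc, ← map_mul, nn_sq,
      map_one, one_mul]
  · rw [map_mul, ← mul_assoc, e1, e2]

variable (h2 : (2 : R) = 0)
include h2

theorem nil_W : (ρ (uu 1) - 1) * ρ (nn 1 one_ne_zero) + ρ (nn 1 one_ne_zero) * (ρ (uu 1) - 1) = 1 := by
  have e := rho_inv ρ h3 tr1_uu_nn
  rw [_root_.mul_inv_rev, ← uu_neg, nn_inv, map_mul, map_mul] at e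
  simp only [CharTwo.neg_eq] at e
  rw [← sub_eq_zero]
  calc _ = ρ (nn 1 one_ne_zero) * ρ (uu 1) - (-1 - ρ (uu 1) * ρ (nn 1 one_ne_zero)) -
      2 * (1 + ρ (nn 1 one_ne_zero)) := by noncomm_ring
    _ = 0 := by rw [e, h2, sub_self, zero_mul, sub_zero]

theorem nil_hh (a : K) {s : K} (hs : s ≠ 0) :
    (ρ (uu a) - 1) * ρ (hh s hs) = ρ (hh s hs)⁻¹ * (ρ (uu a) - 1) := by
  by_cases h1 : s = 1
  · subst h1; simp [hh_one]
  rw [nil_mul_hh ρ h3 a hs h1, neg_mul, neg_eq_iff_add_eq_zero, ← two_mul, h2, zero_mul]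

theorem nil_eq {a : K} (ha : a ≠ 0) : ρ (uu a) - 1 = ρ (hh a ha) * (ρ (uu 1) - 1) := by
  obtain ⟨t, rfl⟩ := exists_sq a
  have ht : t ≠ 0 := by rintro rfl; simp at ha
  have e1 : ρ (hh t ht) * (ρ (uu 1) - 1) = (ρ (uu (t ^ 2)) - 1) * ρ (hh t ht) := by
    rw [mul_sub, sub_mul, ← map_mul, hh_mul_uu, map_mul, mul_one, mul_one, one_mul]
  have e2 : hh (t ^ 2) ha = hh t ht * hh t ht := by simp only [hh_mul_hh, sq]
  rw [e2, map_mul, mul_assoc, e1, nil_hh ρ h3 h2, ← mul_assoc, rho_mul_inv, one_mul]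

theorem nil_mul_nil (a b : K) : (ρ (uu a) - 1) * (ρ (uu b) - 1) = 0 := by
  by_cases ha : a = 0
  · simp [ha, uu_zero]
  by_cases hb : b = 0
  · simp [hb, uu_zero]
  have e : (ρ (uu 1) - 1) * (ρ (uu 1) - 1) = 0 := by
    calc _ = ρ (uu 1) * ρ (uu 1) - 1 - 2 * (ρ (uu 1) - 1) := by noncomm_ring
      _ = 0 := by rw [← map_mul, ← uu_add, CharTwo.add_self_eq_zero, uu_zero, h2]; simp
  rw [nil_eq ρ h3 h2 ha, nil_eq ρ h3 h2 hb, mul_assoc, ← mul_assoc _ (ρ (hh b hb)), nil_hh ρ h3 h2,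
    mul_assoc, e, mul_zero, mul_zero]

theorem nil_add (a b : K) : ρ (uu (a + b)) - 1 = (ρ (uu a) - 1) + (ρ (uu b) - 1) := by
  rw [← sub_eq_zero, ← nil_mul_nil ρ h3 h2 a b, uu_add, map_mul]
  noncomm_ring

theorem nil_W_nil (a b : K) :
    (ρ (uu a) - 1) * ρ (nn 1 one_ne_zero) * (ρ (uu b) - 1) = ρ (uu (a * b)) - 1 := by
  by_cases ha : a = 0
  · simp [ha, uu_zero]
  by_cases hb : b = 0
  · simp [hb, uu_zero]
  have e1 : nn 1 one_ne_zero * hh b hb = hh b⁻¹ (inv_ne_zero hb) * nn 1 one_ne_zero := by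
    simp only [nn_mul_hh, hh_mul_nn, mul_comm]
  have e2 : (hh b⁻¹ (inv_ne_zero hb))⁻¹ = hh b hb :=
    inv_eq_of_mul_eq_one_left (by simp only [hh_mul_hh, mul_inv_cancel₀ hb, hh_one])
  have e3 : (ρ (uu 1) - 1) * (ρ (nn 1 one_ne_zero) * (ρ (uu 1) - 1)) = ρ (uu 1) - 1 := by
    rw [eq_sub_of_add_eq' (nil_W ρ h3 h2), mul_sub, ← mul_assoc, nil_mul_nil ρ h3 h2]
    simp
  rw [nil_eq ρ h3 h2 ha, nil_eq ρ h3 h2 hb, nil_eq ρ h3 h2 (mul_ne_zero ha hb), mul_assoc, mul_assoc,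
    ← mul_assoc (ρ (nn _ _)), ← map_mul, e1, map_mul, mul_assoc, ← mul_assoc (_ - _),
    nil_hh ρ h3 h2, e2, mul_assoc, e3, ← mul_assoc, ← map_mul, hh_mul_hh]

/-- The scalars. -/
def scal : K →+* R where
  toFun a := (ρ (uu a) - 1) * ρ (nn 1 one_ne_zero) + ρ (nn 1 one_ne_zero) * (ρ (uu a) - 1)
  map_one' := nil_W ρ h3 h2
  map_mul' a b := by
    have e1 := nil_W_nil ρ h3 h2 a b
    have e2 := nil_mul_nil ρ h3 h2 a b
    have e3 : ρ (nn 1 one_ne_zero) * ρ (nn 1 one_ne_zero) = 1 := by rw [← map_mul, nn_sq, map_one]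
    rw [← e1]
    generalize ρ (uu a) - 1 = A at *
    generalize ρ (uu b) - 1 = B at *
    generalize ρ (nn 1 one_ne_zero) = W at *
    calc _ = A * W * B * W + W * (A * W * B) + A * (W * W) * B + W * (A * B) * W := by
          rw [e3, mul_one, e2, mul_zero, zero_mul, add_zero, add_zero]
      _ = _ := by noncomm_ring
  map_zero' := by simp [uu_zero]
  map_add' a b := by rw [nil_add ρ h3 h2]; noncomm_ring

end Ring

/-- Higman: a finite `SL₂(2ⁿ)`-module (`n ≥ 2`) on which the elements of order three act without fixed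
points is a direct sum of natural modules. -/
theorem exists_equiv_of_fpf {V : Type*} [AddCommGroup V] [Finite V] (ρ : SL(2, K) →* AddMonoid.End V)
    (hf : ∀ g, Tr1 g → ∀ v, ρ g v = v → v = 0) {s : K} (hs : s ≠ 0) (h1 : s ≠ 1) :
    ∃ (k : ℕ) (Ψ : (Fin k → Fin 2 → K) ≃+ V), ∀ g c, Ψ (fun i => g • c i) = ρ g (Ψ c) := by
  have h3 : ∀ g, Tr1 g → ρ g * ρ g + ρ g + 1 = 0 := fun g hg => by
    have : ρ g * (ρ g * ρ g + ρ g + 1) = ρ g * ρ g + ρ g + 1 := by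
      rw [mul_add, mul_add, ← map_mul, ← map_mul, hg.cube, map_one, mul_one, map_mul]
      abel
    exact DFunLike.ext _ _ fun v => hf g hg _ (DFunLike.congr_fun this v)
  have h2 : (2 : AddMonoid.End V) = 0 := by
    have := two_mul_rho ρ h3 hs h1 (uu 1 * nn 1 one_ne_zero)
    rw [(Commute.ofNat_left 2 _).eq] at this
    exact DFunLike.ext _ _ fun v => hf _ tr1_uu_nn _ (DFunLike.congr_fun this v)
  let : Module K V := Module.compHom V (scal ρ h3 h2)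
  obtain ⟨W, hW⟩ : ∃ W, W = ρ (nn 1 one_ne_zero) := ⟨_, rfl⟩
  obtain ⟨N, hN⟩ : ∃ N : K → AddMonoid.End V, ∀ a, N a = ρ (uu a) - 1 := ⟨_, fun _ => rfl⟩
  have e1 : ∀ (a : K) (v : V), a • v = N a (W v) + W (N a v) := fun a v => by rw [hN, hW]; rfl
  have e2 : ∀ a b v, N a (N b v) = 0 := fun a b v => by
    rw [hN, hN]; exact DFunLike.congr_fun (nil_mul_nil ρ h3 h2 a b) v
  have e3 : ∀ a b v, N a (W (N b v)) = N (a * b) v := fun a b v => by
    rw [hN, hN, hN, hW]; exact DFunLike.congr_fun (nil_W_nil ρ h3 h2 a b) v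
  have e4 : ∀ a v, N 1 v = 0 → N a v = 0 := fun a v h => by
    rw [← mul_one a, ← e3, h, map_zero, map_zero]
  have e5 : ∀ v, W (W v) = v := fun v => by
    change (W * W) v = v
    rw [hW, ← map_mul, nn_sq, map_one]; rfl
  let U : Submodule K V :=
    { carrier := {v | N 1 v = 0}
      add_mem' := fun {a b} (ha : _ = _) (hb : _ = _) => by
        rw [Set.mem_ofPred_eq, map_add, ha, hb, add_zero]
      zero_mem' := map_zero _
      smul_mem' := fun a v hv => by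
        rw [Set.mem_ofPred_eq, e1, map_add, e2, e4 a v hv, map_zero, map_zero, add_zero] }
  have e6 : ∀ (a : K) (v : U), N a (W v) = (a • v : U) := fun a v => by
    rw [U.coe_smul, e1, e4 a v v.2, map_zero, add_zero]
  let E := (Module.finBasis K U).equivFun.symm
  let Ψ : (Fin (Module.finrank K U) → Fin 2 → K) →+ V :=
    { toFun := fun c => E (c · 0) + W (E (c · 1))
      map_zero' := by simp [← Pi.zero_def]
      map_add' := fun c d => by
        simp only [Pi.add_apply, ← Pi.add_def, map_add, U.coe_add]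
        abel }
  have hΨ : ∀ c, Ψ c = E (c · 0) + W (E (c · 1)) := fun _ => rfl
  have hn : ∀ c, Ψ (fun i => nn (1 : K) one_ne_zero • c i) = W (Ψ c) := fun c => by
    simp only [hΨ, nn_smul_zero, nn_smul_one, inv_one, CharTwo.neg_eq, one_mul, map_add, e5]
    exact add_comm _ _
  have hu : ∀ (a : K) c, Ψ (fun i => uu a • c i) = ρ (uu a) (Ψ c) := fun a c => by
    have : (fun i => c i 0 + a * c i 1) = (c · 0) + a • (c · 1) := rfl
    rw [← eq_sub_iff_add_eq.1 (hN a)]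
    simp only [hΨ, uu_smul_zero, uu_smul_one, this, map_add, map_smul, U.coe_add, ← e6]
    change _ = N a _ + _ + (N a _ + _)
    rw [e4 a _ (E _).2, zero_add]
    exact add_assoc _ _ _
  have hm : ∀ g h : SL(2, K), (∀ c, Ψ (fun i => g • c i) = ρ g (Ψ c)) →
      (∀ c, Ψ (fun i => h • c i) = ρ h (Ψ c)) → ∀ c, Ψ (fun i => (g * h) • c i) = ρ (g * h) (Ψ c) :=
    fun g h hg hh c => by simp only [mul_smul]; rw [hg fun i => h • c i, hh, map_mul]; rfl
  refine ⟨_, AddEquiv.ofBijective Ψ ⟨(injective_iff_map_eq_zero _).2 fun c hc => ?_, fun v => ?_⟩,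
    uu_ll_induction _ hu (fun a => ?_) hm⟩
  · have h4 := congrArg (N 1) hc
    rw [hΨ, map_add, (E _).2, zero_add, e6, one_smul, map_zero, U.coe_eq_zero] at h4
    rw [hΨ, h4, U.coe_zero, map_zero, add_zero, U.coe_eq_zero] at hc
    rw [map_eq_zero_iff _ E.injective] at h4 hc
    exact funext fun i => vec_ext (congrFun hc i) (congrFun h4 i)
  · refine ⟨fun i => ![E.symm ⟨_, e2 1 1 (W v)⟩ i, E.symm ⟨_, e2 1 1 v⟩ i], ?_⟩
    simp [hΨ, ← e1]
  · rw [ll_eq]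
    exact hm _ _ (hm _ _ (hW ▸ hn) (hu a)) (hW ▸ hn)

end Cfsg.Agent.PLocal.SL2Nat
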