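import Mathlib
import Cfsg.Agent.PLocal.GlbComp

/-!
# Generation by good elements
-/

set_option autoImplicit false

namespace Cfsg.Agent.PLocal.Glb

open Cfsg Subgroup Cfsg.Agent.PLocal.Amb
open scoped commutatorElement

universe u

variable {G : Type u} [Group G] [Finite G]

theorem fitting_le_pPrimeCore (hO : pCore 2 G = ⊥) : fittingSubgroup G ≤ pPrimeCore 2 G := by
  have : Fact (Nat.Prime 2) := ⟨Nat.prime_two⟩
  have h := CP.coprime_card_fitting_inf (p := 2) (L := (⊤ : Subgroup G))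
    (by rw [Amb.pCoreOf_top, hO])
  rw [inf_top_eq] at h
  exact Grp.le_pPrimeCore inferInstance h

theorem eq_bot_of_good (h3 : F3 G) (hY : YG G) (hO : pCore 2 G = ⊥) {A : Subgroup G}
    (hA : IsElementaryAbelian 2 A) (h : ∀ x, Good ⊥ A x → x = 1) : A = ⊥ := by
  have : Fact (Nat.Prime 2) := ⟨Nat.prime_two⟩
  set O := pPrimeCore 2 G with hOdef
  have hn : ∀ (N : Subgroup G) [N.Normal], A ≤ 𝐍[N] := fun N _ => by
    rw [normalizer_eq_top]; exact le_top
  have h1 : ⁅O, A⁆ = ⊥ := eq_bot_iff.2 (commutator_le_of_odd h3 hA (fun x hx => h x hx ▸ one_mem _)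
    (Grp.pPrimeCore_coprime 2 G) (hn O))
  have hF := fitting_le_pPrimeCore hO
  rw [eq_bot_iff, ← hO]
  refine CP.le_pCore_of_le_centralizer_fstar (isEA_isPGroup hA) ?_
  rw [fstar_def, Amb.centralizer_sup, le_inf_iff]
  refine ⟨?_, (le_centralizer_iff.1 (commutator_eq_bot_iff_le_centralizer.1 h1)).trans
    (centralizer_anti hF)⟩
  rw [le_centralizer_iff, ← commutator_eq_bot_iff_le_centralizer, commutator_layer_eq_bot_iff]
  intro K hK
  by_cases hKO : K ≤ O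
  · exact eq_bot_iff.2 (h1 ▸ commutator_mono hKO le_rfl)
  refine (CP.comp_le_commutator_or hK A).resolve_left fun h2 => hKO (h2.trans ?_)
  let π := QuotientGroup.mk' O
  have hπ : Function.Surjective π := QuotientGroup.mk'_surjective O
  have hk : π.ker = O := QuotientGroup.ker_mk' O
  have hK' := comp_map_of_surjective hK π hπ fun h4 => hKO (hk ▸ (Subgroup.map_eq_bot_iff _).1 h4)
  rw [← hk, ← Subgroup.map_eq_bot_iff, Subgroup.map_commutator, commutator_comm,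
    commutator_eq_bot_iff_le_centralizer]
  by_contra hC
  obtain ⟨S, hS, hAS⟩ := exists_isSyl_ge (isEA_isPGroup (isEA_map hA π)) le_top
  have := hS.pgrp.isNilpotent
  refine qsS_not_le_solvable hK'.2 (H := S) inferInstance (comp_le' (h3.of_surj π hπ)
    (hY.of_surj π hπ) (isEA_map hA π) hS hAS le_rfl (fun y hy => ?_) hK' ?_ hC)
  · obtain ⟨x, rfl, hx⟩ := hy.lift hπ (R := ⊥) (isSyl_of_not_dvd_relIndex IsPGroup.of_bot bot_le (by
      rw [relIndex_bot_left, hk]; exact Grp.not_dvd_card_pPrimeCore 2 G)) hA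
    rw [h x hx, map_one]; exact one_mem _
  · rw [eq_bot_iff]
    rintro _ ⟨⟨k, hk', rfl⟩, hc⟩
    rcases qsS_normal hK.2 ((𝐂[K.map π]).comap π) (le_normalizer_iff_cj.2 fun g hg =>
      cj_le_iff_forall.2 fun x hx => by
        rw [mem_comap, map_mul, map_mul, map_inv]
        exact conj_mem_of_mem_normalizer (normalizer_le_normalizer_centralizer _
          (le_normalizer (mem_map_of_mem π hg))) hx) with h4 | h4
    · exact absurd (map_le_iff_le_comap.2 h4) (qsS_not_le_centralizer hK'.2)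
    · rw [mem_bot, ← MonoidHom.mem_ker, hk]
      exact hF (comp_inf_centralizer_le_fitting hK ⟨hk', h4 ⟨hc, hk'⟩⟩)

/-- Outside `O₂(G)` there is a nontrivial good element. -/
theorem exists_good (h3 : F3 G) (hY : YG G) {A : Subgroup G} (hA : IsElementaryAbelian 2 A)
    (h : ¬ A ≤ pCore 2 G) : ∃ x, x ≠ 1 ∧ Good (pCore 2 G) A x := by
  by_contra hc
  push Not at hc
  let π := QuotientGroup.mk' (pCore 2 G)
  have hπ : Function.Surjective π := QuotientGroup.mk'_surjective _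
  have hk : π.ker = pCore 2 G := QuotientGroup.ker_mk' _
  refine h (hk ▸ (Subgroup.map_eq_bot_iff _).1 (eq_bot_of_good (h3.of_surj π hπ) (hY.of_surj π hπ)
    (Grp.pCore_quotient_pCore 2 G) (isEA_map hA π) fun y hy => ?_))
  obtain ⟨x, rfl, hx⟩ := hy.lift hπ (R := pCore 2 G)
    ⟨hk.ge, Grp.pCore_isPGroup 2 G, fun _ _ _ h => hk ▸ h⟩ hA
  by_cases h1 : x = 1
  · rw [h1, map_one]
  · exact absurd hx (hc x h1)

theorem exists_normal_step [Nontrivial G] (h3 : F3 G) (hY : YG G) :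
    ∃ N : Subgroup G, N.Normal ∧ N ≠ ⊥ ∧ ∀ S A M : Subgroup G, IsSyl 2 S ⊤ →
      IsElementaryAbelian 2 A → A ≤ S → S ≤ M → (∀ x, Good ⊥ A x → x ∈ M) → ⁅N, A⁆ ≤ M := by
  have : Fact (Nat.Prime 2) := ⟨Nat.prime_two⟩
  by_cases h1 : pCore 2 G = ⊥
  swap
  · refine ⟨_, inferInstance, h1, fun S A M hS _ _ hSM _ => (commutator_le_left _ _).trans
      ((hS.le_of_le_normalizer (Grp.pCore_isPGroup 2 G) le_top ?_).trans hSM)⟩
    rw [normalizer_eq_top]; exact le_top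
  by_cases h2 : pPrimeCore 2 G = ⊥
  swap
  · refine ⟨_, inferInstance, h2, fun S A M _ hA _ _ hM =>
      commutator_le_of_odd h3 hA hM (Grp.pPrimeCore_coprime 2 G) ?_⟩
    rw [normalizer_eq_top]; exact le_top
  have hF : fittingSubgroup G = ⊥ := eq_bot_iff.2 (h2 ▸ fitting_le_pPrimeCore h1)
  refine ⟨layer G, inferInstance, fun h => fstar_ne_bot G (by rw [fstar_def, h, hF, bot_sup_eq]),
    fun S A M hS hA hAS hSM hM => commutator_le.2 fun x hx a ha => ?_⟩
  obtain ⟨b, hb, c, hc, rfl⟩ := mem_layer_split (fun K => ¬ A ≤ 𝐂[K]) hx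
  have h4 : b ∈ M := (sSup_le fun K hK => comp_le' h3 hY hA hS hAS hSM hM hK.1
    (eq_bot_iff.2 (hF ▸ comp_inf_centralizer_le_fitting hK.1)) hK.2 : _ ≤ M) hb
  have h5 : c ∈ 𝐂[A] := (sSup_le fun K hK => le_centralizer_iff.1 (not_not.1 hK.2) : _ ≤ 𝐂[A]) hc
  rw [show ⁅b * c, a⁆ = b * (c * a * c⁻¹) * b⁻¹ * a⁻¹ by rw [commutatorElement_def]; group,
    ← mem_centralizer_iff.1 h5 a ha, mul_inv_cancel_right]
  have := hSM (hAS ha)
  exact mul_mem (mul_mem (mul_mem h4 this) (inv_mem h4)) (inv_mem this)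

theorem good_pull {Γ : Type*} [Group Γ] {H R A M : Subgroup G} {f : H →* Γ}
    (hf : Function.Surjective f) (hR : IsSyl 2 R (f.ker.map H.subtype)) (hn : H ≤ 𝐍[R])
    (hA : IsElementaryAbelian 2 A) (hAH : A ≤ H) (h : ∀ x, Good R A x → x ∈ M) (y : Γ)
    (hy : Good ⊥ ((A.subgroupOf H).map f) y) : y ∈ (M.subgroupOf H).map f := by
  have := normal_subgroupOf' hn
  have hRH : R ≤ H := hR.le.trans (map_subtype_le _)
  obtain ⟨x, rfl, hx⟩ := hy.lift hf (R := R.subgroupOf H) ⟨fun r hr => mem_map_subtype.1 (hR.le hr),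
    Amb.isPGroup_subgroupOf hR.pgrp H, fun T hT h1 h2 => map_le_iff_le_comap.1
      (hR.max _ (hT.map _) (by rw [← map_subgroupOf_of_le hRH]; exact map_mono h1) (map_mono h2))⟩
    (isEA_subgroupOf hA H)
  have h1 := hx.map H.subtype_injective
  rw [map_subgroupOf_of_le hRH, map_subgroupOf_of_le hAH] at h1
  exact mem_map_of_mem f (h _ h1)

omit [Finite G] in
theorem cj_le_of_commutator {Γ : Type*} [Group Γ] {H A M : Subgroup G} {f : H →* Γ}
    {X : Subgroup Γ} (hAH : A ≤ H) (hAM : A ≤ M)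
    (h : ⁅X, (A.subgroupOf H).map f⁆ ≤ (M.subgroupOf H).map f) {n : H} (hn : f n ∈ X) :
    cj((n : G), A) ≤ (M ⊓ H) ⊔ f.ker.map H.subtype := by
  refine cj_le_iff_forall.2 fun a ha => ?_
  obtain ⟨m, hm, h1⟩ := h (commutator_mem_commutator hn (mem_map_of_mem f
    (show (⟨a, hAH ha⟩ : H) ∈ A.subgroupOf H from ha)))
  rw [← map_commutatorElement, ← mul_inv_eq_one, ← map_inv, ← map_mul, ← MonoidHom.mem_ker] at h1
  have h2 := mem_map_of_mem H.subtype (inv_mem h1)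
  have : (n : G) * a * (n : G)⁻¹ = H.subtype (m * ⁅n, ⟨a, hAH ha⟩⁆⁻¹)⁻¹ * m * a := by
    simp [commutatorElement_def]
  rw [this]
  exact mul_mem (mul_mem (mem_sup_right h2) (mem_sup_left ⟨hm, m.2⟩)) (mem_sup_left ⟨hAM ha, hAH ha⟩)

/-- A conjugation invariant family of elementary abelian `2`-subgroups lies in every overgroup of a
Sylow `2`-subgroup containing the good elements. -/
theorem le_of_good (h3 : F3 G) (hY : YG G) {S M Q : Subgroup G} [Q.Normal] (hS : IsSyl 2 S ⊤)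
    (hSM : S ≤ M) (hQS : Q ≤ S) (𝓕 : Set (Subgroup G)) (hE : ∀ A ∈ 𝓕, IsElementaryAbelian 2 A)
    (hc : ∀ A ∈ 𝓕, ∀ g : G, cj(g, A) ∈ 𝓕)
    (h : ∀ A ∈ 𝓕, A ≤ S → ∀ R, Q ≤ R → R ≤ S → ∀ x, Good R A x → x ∈ M) : ∀ A ∈ 𝓕, A ≤ M := by
  have : Fact (Nat.Prime 2) := ⟨Nat.prime_two⟩
  have hn : ∀ (N : Subgroup G) [N.Normal] (X : Subgroup G), X ≤ 𝐍[N] := fun N _ X => by
    rw [normalizer_eq_top]; exact le_top
  have aux : ∀ L, S ≤ L → ∀ A ∈ 𝓕, A ≤ L → ∃ l ∈ L, ∃ B ∈ 𝓕, B ≤ S ∧ A = cj(l, B) := by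
    intro L hL A hA hAL
    obtain ⟨g, hg, h1⟩ := (hS.mono hL le_top).exists_cj_le (isEA_isPGroup (hE A hA)) hAL
    exact ⟨g⁻¹, inv_mem hg, _, hc A hA g, h1, (cj_inv_cj g A).symm⟩
  suffices key : ∀ N : Subgroup G, N.Normal → Q ≤ N → ∀ H, S ≤ H → H ⊔ N = ⊤ → H ≤ 𝐍[S ⊓ N] →
      ∀ A ∈ 𝓕, A ≤ H → A ≤ M from fun A hA => key Q inferInstance le_rfl ⊤ le_top (top_sup_eq _)
        (by rw [inf_eq_right.2 hQS]; exact hn Q _) A hA le_top
  intro N
  induction N using WellFoundedGT.induction with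
  | ind N ih =>
  intro hN hQN H hSH hHN hR A hA hAH
  by_cases htop : N = ⊤
  · rw [htop, inf_top_eq] at hR
    exact (hS.le_of_normalizes (isEA_isPGroup (hE A hA)) le_top (hAH.trans hR)).trans hSM
  have hRS : IsSyl 2 (S ⊓ N) (H ⊓ N) := (hS.mono hSH le_top).inf (hn N H)
  have hgood : ∀ B ∈ 𝓕, B ≤ S → ∀ x, Good (S ⊓ N) B x → x ∈ M := fun B hB hBS =>
    h B hB hBS _ (le_inf hQS hQN) inf_le_left
  have hodd : ∀ B ∈ 𝓕, B ≤ S → ∀ d ∈ H ⊓ N, cj(d, B) ≤ M := by
    intro B hB hBS d hd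
    have := normal_subgroupOf' hR
    let π := QuotientGroup.mk' ((S ⊓ N).subgroupOf H)
    have hπ : Function.Surjective π := QuotientGroup.mk'_surjective _
    have hk : π.ker.map H.subtype = S ⊓ N := by
      rw [QuotientGroup.ker_mk', map_subgroupOf_of_le (inf_le_left.trans hSH)]
    have h1 : (Nat.card ((N.subgroupOf H).map π)).Coprime 2 := by
      rw [← relIndex_ker, QuotientGroup.ker_mk', ← inf_subgroupOf_left N,
        relIndex_subgroupOf inf_le_left]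
      exact ((Nat.Prime.coprime_iff_not_dvd Nat.prime_two).2 hRS.not_dvd_relIndex).symm
    have : ((N.subgroupOf H).map π).Normal := Normal.map inferInstance π hπ
    have h2 := commutator_le_of_odd ((h3.sub H).of_surj π hπ)
      (isEA_map (isEA_subgroupOf (hE B hB) H) π) (good_pull hπ (R := S ⊓ N)
        (by rw [hk]; exact ⟨le_rfl, hRS.pgrp, fun _ _ _ h => h⟩) hR (hE B hB) (hBS.trans hSH)
        (hgood B hB hBS)) h1 (by rw [normalizer_eq_top]; exact le_top)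
    refine (cj_le_of_commutator (hBS.trans hSH) (hBS.trans hSM) h2 (n := ⟨d, hd.1⟩)
      (mem_map_of_mem π hd.2)).trans (sup_le inf_le_left ?_)
    rw [hk]; exact inf_le_left.trans hSM
  let π := QuotientGroup.mk' N
  have hπ : Function.Surjective π := QuotientGroup.mk'_surjective _
  have : Nontrivial (G ⧸ N) := QuotientGroup.nontrivial_iff.2 htop
  obtain ⟨X, hX, hX1, hstep⟩ := exists_normal_step (h3.of_surj π hπ) (hY.of_surj π hπ)
  have hNX : N < X.comap π := by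
    refine lt_of_le_of_ne (fun n hn => ?_) fun h1 => hX1 ?_
    · rw [mem_comap, show π n = 1 from (QuotientGroup.eq_one_iff n).2 hn]; exact one_mem _
    · rw [← map_comap_eq_self_of_surjective hπ X, ← h1, QuotientGroup.map_mk'_self]
  have hS1 : IsSyl 2 (S ⊓ X.comap π) (H ⊓ X.comap π) := (hS.mono hSH le_top).inf (hn _ H)
  have hn1 : H ≤ 𝐍[H ⊓ X.comap π] := Amb.le_normalizer_inf le_normalizer (hn _ H)
  have ih' := ih _ hNX inferInstance (hQN.trans hNX.le) (H ⊓ 𝐍[S ⊓ X.comap π])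
    (le_inf hSH (Amb.le_normalizer_inf le_normalizer (hn _ S))) (by
      rw [eq_top_iff, ← hHN]
      refine sup_le ?_ (hNX.le.trans le_sup_right)
      nth_rewrite 1 [← hS1.frattini_sup inf_le_left hn1]
      exact sup_le (inf_le_right.trans le_sup_right) le_sup_left) inf_le_right
  obtain ⟨g, hg, A₀, hA₀, hA₀S, rfl⟩ := aux H hSH A hA hAH
  obtain ⟨n, hn', x, hx, rfl⟩ := hS1.frattini (hn1 hg)
  have hxH : x ∈ H := by simpa using mul_mem (inv_mem (mem_inf.1 hn').1) hg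
  have h1 : cj(x, A₀) ≤ H ⊓ 𝐍[S ⊓ X.comap π] := cj_le_of_mem (hA₀S.trans
    (le_inf hSH (Amb.le_normalizer_inf le_normalizer (hn _ S)))) ⟨hxH, hx⟩
  obtain ⟨m, hm, A₂, hA₂, hA₂S, h2⟩ := aux (M ⊓ H) (le_inf hSM hSH) _ (hc A₀ hA₀ x)
    (le_inf (ih' _ (hc A₀ hA₀ x) h1) (h1.trans inf_le_left))
  rw [cj_mul, h2, ← cj_mul, show n * m = m * (m⁻¹ * n * m) by group, cj_mul]
  refine cj_le_of_mem ?_ hm.1
  have h4 := inv_conj_mem_of_mem_normalizer (hn1 hm.2) hn'
  let f : H →* G ⧸ N := π.comp H.subtype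
  have hf : Function.Surjective f := by
    rw [← MonoidHom.range_eq_top, MonoidHom.range_comp, range_subtype, eq_top_iff,
      ← map_top_of_surjective π hπ, ← hHN, Subgroup.map_sup, QuotientGroup.map_mk'_self,
      sup_bot_eq]
  have hk : f.ker.map H.subtype = H ⊓ N := by
    rw [← MonoidHom.comap_ker, QuotientGroup.ker_mk', comap_subtype, subgroupOf_map_subtype,
      inf_comm]
  have hm' : ∀ Z ≤ H, (Z.subgroupOf H).map f = Z.map π := fun Z hZ => by
    rw [← map_map, map_subgroupOf_of_le hZ]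
  have h5 := hstep (S.map π) _ ((M.subgroupOf H).map f)
    (map_top_of_surjective π hπ ▸ hS.map π) (isEA_map (isEA_subgroupOf (hE A₂ hA₂) H) f)
    (by rw [hm' _ (hA₂S.trans hSH)]; exact map_mono hA₂S)
    (by rw [← hm' _ hSH]; exact map_mono (comap_mono hSM))
    (good_pull hf (hk ▸ hRS) hR (hE A₂ hA₂) (hA₂S.trans hSH) (hgood A₂ hA₂ hA₂S))
  have h6 := cj_le_of_commutator (hA₂S.trans hSH) (hA₂S.trans hSM) h5 (n := ⟨_, h4.1⟩) h4.2
  rw [hk] at h6
  obtain ⟨l, hl, A₃, hA₃, hA₃S, h7⟩ := aux _ ((le_inf hSM hSH).trans le_sup_left) _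
    (hc A₂ hA₂ _) h6
  obtain ⟨m', hm', d, hd, rfl⟩ := (mem_sup_of_le_normalizer_right
    (inf_le_right.trans (Amb.le_normalizer_inf le_normalizer (hn N H)))).1 hl
  rw [h7, cj_mul]
  exact cj_le_of_mem (hodd A₃ hA₃ hA₃S d hd) hm'.1

end Cfsg.Agent.PLocal.Glb
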