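import Mathlib
import Cfsg.Prelude.Def_PLocal
import Cfsg.Prelude.Def_Transfer
import Cfsg.Agent.PLocal.Thompson
import Cfsg.Agent.PLocal.FFModel

/-!
Glauberman's failure of factorization theorem for `p = 2`, modulo the centralizer of the module.
-/

set_option autoImplicit false

namespace Cfsg.Agent.PLocal

open Cfsg
open scoped commutatorElement

namespace FFSetup

variable {G : Type*} [Group G] [Finite G] {V H O : Subgroup G}

theorem block_inf {p : ℕ} [Fact p.Prime] (h : FFSetup p V H O) {A : Subgroup G} (hAH : A ≤ H)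
    (hA : IsMinOffender p V A) : (⁅O, A⁆ ⊔ A) ⊓ O = ⁅O, A⁆ :=
  le_antisymm (fun _ hd => h.mem_commutator_of_pow hAH hA hd.1 h.cop
    (orderOf_dvd_iff_pow_eq_one.1 (O.orderOf_dvd_natCard hd.2)))
    (le_inf le_sup_left (h.commutator_le hAH))

theorem le_normalizer_commutator {p : ℕ} [Fact p.Prime] (h : FFSetup p V H O)
    (hgen : H = ⨆ A : {A : Subgroup G // A ≤ H ∧ IsBestOffenderOn p V A}, (A : Subgroup G))
    {A : Subgroup G} (hAH : A ≤ H) (hA : IsMinOffender p V A) :
    H ≤ Subgroup.normalizer ((⁅O, A⁆ : Subgroup G) : Set G) := by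
  rw [← h.block_inf hAH hA]
  exact Solv.le_normalizer_inf (h.le_normalizer_block hgen hAH hA) h.normO

theorem card_commutator_two (h : FFSetup 2 V H O) {A : Subgroup G} (hAH : A ≤ H)
    (hA : IsMinOffender 2 V A) : Nat.card ↥⁅O, A⁆ = 3 := by
  obtain ⟨φ⟩ := h.nonempty_block_equiv hAH hA
  have h1 := card_sup_mul_card_inf (Subgroup.normalizer_commutator_ge_right O A)
  have h2 : A ⊓ ⁅O, A⁆ = ⊥ := le_bot_iff.1 (h.inf_eq_bot (isEA_isPGroup
    (h.isEA_of_offender hAH hA.1)) ▸ inf_le_inf_left _ (h.commutator_le hAH))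
  rw [sup_comm, Nat.card_congr φ.toEquiv, card_sl2_two, h2, Subgroup.card_bot,
    h.card_of_isMinOffender hAH hA] at h1
  omega

theorem exists_eq_commutator_two (h : FFSetup 2 V H O)
    (hgen : H = ⨆ A : {A : Subgroup G // A ≤ H ∧ IsBestOffenderOn 2 V A}, (A : Subgroup G))
    {X : Subgroup G} (hXO : X ≤ O) (hn : H ≤ Subgroup.normalizer (X : Set G))
    (hX : Nat.card X = 3) : ∃ A ≤ H, IsMinOffender 2 V A ∧ X = ⁅O, A⁆ := by
  have : Fact (Nat.Prime 3) := ⟨Nat.prime_three⟩
  by_contra hne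
  push Not at hne
  have h1 : ∀ A ≤ H, IsMinOffender 2 V A → X ≤ Subgroup.centralizer (A : Set G) := by
    intro A hAH hA
    rw [← Subgroup.commutator_eq_bot_iff_le_centralizer]
    refine (eq_bot_or_eq_of_le_of_card_prime hX (Subgroup.le_normalizer_iff_commutator_le_left.1
      (hAH.trans hn))).resolve_right fun he => hne A hAH hA (eq_of_le_of_card_le ?_ ?_)
    · rw [← he]; exact Subgroup.commutator_mono hXO le_rfl
    · rw [hX, h.card_commutator_two hAH hA]
  have h2 : ⁅V, H⁆ ≤ V ⊓ Subgroup.centralizer (X : Set G) := by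
    rw [Subgroup.commutator_comm]
    refine (CommMod.le_centMod.1 (h.le_sSup_block hgen fun A hAH hA => CommMod.le_centMod.2
      ⟨Solv.le_normalizer_inf (hAH.trans h.norm) (Solv.le_normalizer_centralizer (hAH.trans hn)),
      le_inf (Subgroup.le_normalizer_iff_commutator_le_right.1 (hAH.trans h.norm)) ?_⟩)).2
    rw [Subgroup.commutator_comm, Subgroup.le_centralizer_iff]
    intro x hx
    simpa using pow_sub_one_mem_centralizer_of_card_prime
      (h.card_commutator_of_isMinOffender hAH hA) (Solv.le_normalizer_commutator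
        ((hXO.trans h.le).trans h.norm)
        ((h1 A hAH hA).trans (Subgroup.centralizer_le_normalizer _)) hx)
  have h3 : X = ⊥ := by
    rw [eq_bot_iff, ← h.faithful_commutator le_rfl (h.le.trans Subgroup.le_normalizer)]
    exact le_inf (hXO.trans h.le) (Subgroup.le_centralizer_iff.1 (h2.trans inf_le_right))
  rw [h3, Subgroup.card_bot] at hX
  omega

theorem pow_mem_of_commutator_le {p : ℕ} [hp : Fact p.Prime] (h : FFSetup p V H O)
    (hgen : H = ⨆ A : {A : Subgroup G // A ≤ H ∧ IsBestOffenderOn p V A}, (A : Subgroup G))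
    {N : Subgroup G} (hn : H ≤ Subgroup.normalizer (N : Set G))
    (hN : ∀ A ≤ H, IsMinOffender p V A → ⁅O, A⁆ ≤ N) : ⁅H, H⁆ ≤ N := by
  refine (CommMod.le_centMod.1 (h.le_sSup_block hgen fun A hAH hA => CommMod.le_centMod.2
    ⟨hAH.trans hn, ?_⟩)).2
  rw [Subgroup.commutator_comm]
  refine (CommMod.le_centMod.1 (h.le_sSup_block hgen fun B hBH hB => CommMod.le_centMod.2
    ⟨hBH.trans hn, ?_⟩)).2
  by_cases he : ⁅O, B⁆ ⊔ B = ⁅O, A⁆ ⊔ A
  · refine (Subgroup.commutator_mono (le_sup_right.trans he.le) le_rfl).trans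
      (le_trans (CommMod.commutator_sup_le Subgroup.le_normalizer
        (Subgroup.normalizer_commutator_ge_right O A)
        (Subgroup.le_normalizer_iff_commutator_le_left.1
          (Subgroup.normalizer_commutator_ge_right O A)) ?_) (hN A hAH hA))
    rw [Subgroup.commutator_self_eq_bot_iff.2 (h.isEA_of_offender hAH hA.1).1]
    exact bot_le
  · exact ((Subgroup.commutator_mono le_sup_right le_sup_right).trans
      (h.commutator_block_block hBH hB hAH hA he).le).trans bot_le

theorem mem_of_odd_orderOf (h : FFSetup 2 V H O)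
    (hgen : H = ⨆ A : {A : Subgroup G // A ≤ H ∧ IsBestOffenderOn 2 V A}, (A : Subgroup G))
    {N : Subgroup G} (hn : H ≤ Subgroup.normalizer (N : Set G))
    (hN : ∀ A ≤ H, IsMinOffender 2 V A → ⁅O, A⁆ ≤ N) {x : G} (hx : x ∈ H)
    (hodd : Odd (orderOf x)) : x ∈ N := by
  have hc := h.pow_mem_of_commutator_le hgen hn hN
  let T : Subgroup G :=
    { carrier := {g | g ∈ H ∧ g ^ 2 ∈ N}
      one_mem' := ⟨H.one_mem, by simp⟩
      mul_mem' := fun {a b} ha hb => ⟨H.mul_mem ha.1 hb.1, by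
        have := N.mul_mem (N.mul_mem ha.2
          (hc (Subgroup.commutator_mem_commutator (H.inv_mem ha.1) hb.1))) hb.2
        convert this using 1
        simp only [commutatorElement_def, pow_two]; group⟩
      inv_mem' := fun {a} ha => ⟨H.inv_mem ha.1, by rw [inv_pow]; exact N.inv_mem ha.2⟩ }
  have hT : H ≤ T := h.le_sSup_block hgen fun A hAH hA a ha =>
    ⟨hAH ha, by rw [(h.isEA_of_offender hAH hA.1).2 a ha]; exact N.one_mem⟩
  obtain ⟨m, hm⟩ := exists_pow_eq_self_of_coprime (x := x) (n := 2)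
    (Nat.coprime_two_left.2 hodd)
  rw [← hm]
  exact N.pow_mem (hT hx).2 m

end FFSetup

theorem commutator_holV_map {G : Type*} [Group G] {V : Subgroup G} [V.Normal] (X : Subgroup G) :
    ⁅holV V, X.map (holMap V)⁆ = (⁅V, X⁆.subgroupOf V).map SemidirectProduct.inl := by
  have key : ∀ (v : V) (x : G), ⁅(SemidirectProduct.inl v : Hol V), holMap V x⁆ =
      SemidirectProduct.inl (v * (MulAut.conjNormal x v)⁻¹) := fun v x => by
    ext <;> simp [commutatorElement_def, holMap, mul_assoc]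
  have key' : ∀ (v : V) (x : G), ((v * (MulAut.conjNormal x v)⁻¹ : V) : G) = ⁅(v : G), x⁆ :=
    fun v x => by simp [commutatorElement_def, mul_assoc]
  refine le_antisymm (Subgroup.commutator_le.2 ?_) ?_
  · rintro _ ⟨v, rfl⟩ _ ⟨x, hx, rfl⟩
    refine ⟨_, ?_, (key v x).symm⟩
    rw [SetLike.mem_coe, Subgroup.mem_subgroupOf, key']
    exact Subgroup.commutator_mem_commutator v.2 hx
  · rw [Subgroup.map_le_iff_le_comap, ← Subgroup.map_le_map_iff_of_injective V.subtype_injective,
      Subgroup.map_subgroupOf_eq_of_le (Subgroup.commutator_le_left V X)]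
    refine Subgroup.commutator_le.2 fun v hv x hx =>
      ⟨⟨v, hv⟩ * (MulAut.conjNormal x ⟨v, hv⟩)⁻¹, ?_, key' ⟨v, hv⟩ x⟩
    rw [SetLike.mem_coe, Subgroup.mem_comap, ← key]
    exact Subgroup.commutator_mem_commutator ⟨_, rfl⟩ ⟨x, hx, rfl⟩

theorem card_commutator_holV_map {G : Type*} [Group G] {V : Subgroup G} [V.Normal]
    (X : Subgroup G) : Nat.card ↥⁅holV V, X.map (holMap V)⁆ = Nat.card ↥⁅V, X⁆ := by
  rw [commutator_holV_map, card_map_of_injective _ SemidirectProduct.inl_injective,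
    card_subgroupOf_of_le (Subgroup.commutator_le_left V X)]

/-- the normal subgroups of order 3 of `J(G) C(V) / C(V)` -/
def ffThrees {G : Type*} [Group G] (V : Subgroup G) : Set (Subgroup G) :=
  {X | Subgroup.centralizer (V : Set G) ≤ X ∧
    X ≤ thompsonSubgroup 2 G ⊔ Subgroup.centralizer (V : Set G) ∧
    (Subgroup.centralizer (V : Set G)).relIndex X = 3 ∧
    thompsonSubgroup 2 G ≤ Subgroup.normalizer (X : Set G)}

/-- `J(G) C(V) / C(V)` is a direct product of groups `SL₂(2)`, and `V` is the direct product of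
the fixed points and the natural modules -/
theorem ff_two_mod_centralizer {G : Type*} [Group G] [Finite G] (hs : Group.IsSolvable G)
    (V : Subgroup G) [V.Normal] (hV : IsElementaryAbelian 2 V)
    (hO : pCore 2 (G ⧸ Subgroup.centralizer (V : Set G)) = ⊥) :
    (∀ x ∈ thompsonSubgroup 2 G, Odd (orderOf x) →
      x ∈ Subgroup.centralizer (V : Set G) ⊔ sSup (ffThrees V)) ∧
    (∀ X ∈ ffThrees V, Nat.card ↥⁅V, X⁆ = 4) ∧
    (∀ X ∈ ffThrees V, ∀ Y ∈ ffThrees V, X ≠ Y → ⁅⁅V, X⁆, Y⁆ = ⊥) ∧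
    V ≤ (V ⊓ Subgroup.centralizer (thompsonSubgroup 2 G : Set G)) ⊔ ⨆ X ∈ ffThrees V, ⁅V, X⁆ := by
  have := thompsonSubgroup_normal (p := 2) (G := G)
  have h := ffSetup_hol isPSolvable_of_isSolvable hV hO (thompsonSubgroup 2 G)
  have hgen := map_thompsonSubgroup_eq_iSup hV
  have hle : ∀ X : Subgroup (Hol V), X ≤ (thompsonSubgroup 2 G).map (holMap V) →
      (thompsonSubgroup 2 G).map (holMap V) ≤ Subgroup.normalizer (X : Set (Hol V)) →
      Nat.card X = 3 → X ≤ (pPrimeCore 2 ((thompsonSubgroup 2 G).map (holMap V))).map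
        ((thompsonSubgroup 2 G).map (holMap V)).subtype := fun X h1 h2 h3 =>
    Grp.le_map_pPrimeCore h1 h2 (by rw [h3]; norm_num)
  generalize (pPrimeCore 2 ((thompsonSubgroup 2 G).map (holMap V))).map
    ((thompsonSubgroup 2 G).map (holMap V)).subtype = O at h hle
  have h1 : ∀ X ∈ ffThrees V, ∃ A ≤ (thompsonSubgroup 2 G).map (holMap V),
      IsMinOffender 2 (holV V) A ∧ X.map (holMap V) = ⁅O, A⁆ := by
    rintro X ⟨-, h2, h3, h4⟩
    rw [← ker_holMap] at h2 h3
    rw [Subgroup.relIndex_ker] at h3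
    have h5 := (Subgroup.map_mono h4).trans (map_normalizer_le (holMap V) X)
    exact h.exists_eq_commutator_two hgen (hle _ (Subgroup.map_le_map_iff.2 h2) h5 h3) h5 h3
  have h2 : ∀ A ≤ (thompsonSubgroup 2 G).map (holMap V), IsMinOffender 2 (holV V) A →
      ∃ X ∈ ffThrees V, X.map (holMap V) = ⁅O, A⁆ := by
    intro A hAH hA
    have h3 := (h.commutator_le hAH).trans h.le
    have h4 := Subgroup.map_comap_eq_self (h3.trans (Subgroup.map_le_range _ _))
    refine ⟨⁅O, A⁆.comap (holMap V), ⟨?_, ?_, ?_, ?_⟩, h4⟩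
    · rw [← ker_holMap]; exact Subgroup.ker_le_comap _ _
    · rw [← ker_holMap, ← Subgroup.comap_map_eq]; exact Subgroup.comap_mono h3
    · rw [← ker_holMap, Subgroup.relIndex_ker, h4, h.card_commutator_two hAH hA]
    · exact (Subgroup.map_le_iff_le_comap.1 (h.le_normalizer_commutator hgen hAH hA)).trans
        (Subgroup.le_normalizer_comap _)
  refine ⟨fun x hx hodd => ?_, fun X hX => ?_, fun X hX Y hY hne => ?_, ?_⟩
  · rw [← ker_holMap, sup_comm, ← Subgroup.comap_map_eq, Subgroup.mem_comap]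
    refine h.mem_of_odd_orderOf hgen ((Subgroup.map_mono ?_).trans (map_normalizer_le _ _))
      (fun A hAH hA => ?_) ⟨x, hx, rfl⟩ (hodd.of_dvd_nat (orderOf_map_dvd _ x))
    · refine Grp.le_normalizer_sSup fun g hg U hU => ?_
      rwa [Grp.mem_normalizer_iff_conj_smul_eq.1 (hU.2.2.2 hg)]
    · obtain ⟨X, hX, h3⟩ := h2 A hAH hA
      exact h3 ▸ Subgroup.map_mono (le_sSup hX)
  · obtain ⟨A, hAH, hA, h3⟩ := h1 X hX
    rw [← card_commutator_holV_map, h3, (h.commutator_commutator_eq hAH hA).1,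
      h.card_commutator_block hAH hA]
    rfl
  · obtain ⟨A, hAH, hA, h3⟩ := h1 X hX
    obtain ⟨B, hBH, hB, h4⟩ := h1 Y hY
    have h5 := h.commutator_block_le_centralizer hAH hA hBH hB fun he => hne (by
      rw [← Subgroup.comap_map_eq_self ((ker_holMap (V := V)).le.trans hX.1),
        ← Subgroup.comap_map_eq_self ((ker_holMap (V := V)).le.trans hY.1), h3, h4,
        ← h.block_inf hAH hA,
        ← h.block_inf hBH hB, he])
    rw [← (h.commutator_commutator_eq hAH hA).1, ← h.centralizer_commutator_eq hBH hB, ← h3, ← h4,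
      commutator_holV_map, holV_inf_centralizer_map,
      Subgroup.map_le_map_iff_of_injective SemidirectProduct.inl_injective] at h5
    rw [Subgroup.commutator_eq_bot_iff_le_centralizer]
    exact fun v hv => h5 (show (⟨v, Subgroup.commutator_le_left V X hv⟩ : V) ∈ _ from hv)
  · obtain ⟨-, -, -, h3⟩ := h.structure_blocks hgen (fun E => Iff.rfl)
    have h4 : holV V ≤ (((V ⊓ Subgroup.centralizer (thompsonSubgroup 2 G : Set G)) ⊔
        ⨆ X ∈ ffThrees V, ⁅V, X⁆).subgroupOf V).map SemidirectProduct.inl := by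
      refine h3.ge.trans (sup_le ?_ (iSup_le ?_))
      · rw [holV_inf_centralizer_map]
        exact Subgroup.map_mono fun v hv => Subgroup.mem_sup_left ⟨v.2, hv⟩
      · rintro ⟨E, A, hAH, hA, rfl⟩
        obtain ⟨X, hX, h5⟩ := h2 A hAH hA
        show ⁅holV V, ⁅O, A⁆ ⊔ A⁆ ≤ _
        rw [← (h.commutator_commutator_eq hAH hA).1, ← h5, commutator_holV_map]
        exact Subgroup.map_mono (Subgroup.subgroupOf_mono _
          (le_sup_of_le_right (le_iSup₂_of_le X hX le_rfl)))
    intro v hv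
    obtain ⟨w, hw, h5⟩ := h4 ⟨⟨v, hv⟩, rfl⟩
    rw [SemidirectProduct.inl_injective h5] at hw
    exact hw

end Cfsg.Agent.PLocal
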