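import Mathlib
import Cfsg.Agent.PLocal.FFTwo
import Cfsg.Agent.PLocal.JCompBase

/-!
Glauberman's failure of factorization theorem for `p = 2`, for a subgroup `L` of the ambient group.
-/

set_option autoImplicit false

namespace Cfsg.Agent.PLocal.JC

open Cfsg Subgroup Cfsg.Agent.PLocal.Amb Cfsg.Agent.Grp
open scoped Cfsg.Agent.PLocal.CP commutatorElement

variable {G : Type*} [Group G]

/-- the normal subgroups of order 3 of `J(L) C_L(V) / C_L(V)` -/
structure FF (L V X : Subgroup G) : Prop where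
  ge : L ⊓ 𝐂[V] ≤ X
  le : X ≤ 𝐉[L] ⊔ (L ⊓ 𝐂[V])
  idx : (L ⊓ 𝐂[V]).relIndex X = 3
  norm : 𝐉[L] ≤ 𝐍[X]

/-- the join of the `FF` subgroups and the centralizer -/
def ffD (L V : Subgroup G) : Subgroup G := (L ⊓ 𝐂[V]) ⊔ sSup {X | FF L V X}

/-- the join of the natural modules -/
def ffW (L V : Subgroup G) : Subgroup G := ⨆ X ∈ {X | FF L V X}, ⁅V, X⁆

theorem FF.le_L {L V X : Subgroup G} (h : FF L V X) : X ≤ L :=
  h.le.trans (sup_le (thompsonSubgroupOf_le L) inf_le_left)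

theorem FF.cj {L V X : Subgroup G} (h : FF L V X) (g : G) : FF cj(g, L) cj(g, V) cj(g, X) where
  ge := by rw [centralizer_cj, ← cj_inf]; exact cj_mono g h.ge
  le := by rw [centralizer_cj, ← cj_inf, J_cj, ← cj_sup]; exact cj_mono g h.le
  idx := by rw [centralizer_cj, ← cj_inf, Amal.relIndex_cj, h.idx]
  norm := by rw [J_cj, normalizer_cj]; exact cj_mono g h.norm

theorem FF.cj_of_mem {L V X : Subgroup G} (h : FF L V X) (hn : L ≤ 𝐍[V]) {g : G} (hg : g ∈ L) :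
    FF L V cj(g, X) := by
  have := h.cj g
  rwa [Amb.cj_of_mem hg, cj_of_mem_normalizer (hn hg)] at this

theorem ff_iff {L V : Subgroup G} (hV : V ≤ L) {X : Subgroup L} :
    X ∈ ffThrees (V.subgroupOf L) ↔ FF L V (X.map L.subtype) := by
  have hC : (𝐂[V.subgroupOf L]).map L.subtype = L ⊓ 𝐂[V] := by
    rw [centralizer_subgroupOf hV, subgroupOf_map_subtype, inf_comm]
  have hJ : (thompsonSubgroup 2 L).map L.subtype = 𝐉[L] := rfl
  have inj := L.subtype_injective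
  have e1 : 𝐂[V.subgroupOf L] ≤ X ↔ L ⊓ 𝐂[V] ≤ X.map L.subtype := by
    rw [← hC, map_le_map_iff_of_injective inj]
  have e2 : X ≤ thompsonSubgroup 2 L ⊔ 𝐂[V.subgroupOf L] ↔
      X.map L.subtype ≤ 𝐉[L] ⊔ (L ⊓ 𝐂[V]) := by
    rw [← hC, ← hJ, ← Subgroup.map_sup, map_le_map_iff_of_injective inj]
  have e3 : (𝐂[V.subgroupOf L]).relIndex X = (L ⊓ 𝐂[V]).relIndex (X.map L.subtype) := by
    rw [← hC, relIndex_map_map_of_injective _ _ inj]
  have e4 : thompsonSubgroup 2 L ≤ 𝐍[X] ↔ 𝐉[L] ≤ 𝐍[X.map L.subtype] := by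
    rw [normalizer_eq_subgroupOf, ← hJ, map_le_iff_le_comap]
    rfl
  exact ⟨fun h => ⟨e1.1 h.1, e2.1 h.2.1, e3 ▸ h.2.2.1, e4.1 h.2.2.2⟩,
    fun h => ⟨e1.2 h.ge, e2.2 h.le, e3 ▸ h.idx, e4.2 h.norm⟩⟩

theorem ff_amb [Finite G] {L V : Subgroup G} (hs : Group.IsSolvable L) (h : CP.IsPRed 2 V L) :
    𝐎[2, 𝐉[L]] ≤ ffD L V ∧ (∀ X, FF L V X → Nat.card ↥⁅V, X⁆ = 4) ∧
    (∀ X Y, FF L V X → FF L V Y → X ≠ Y → ⁅⁅V, X⁆, Y⁆ = ⊥) ∧ V ≤ (V ⊓ 𝐂[𝐉[L]]) ⊔ ffW L V := by
  obtain ⟨hn, he, _, hO⟩ := (CP.isPReducedNormal_subgroupOf h.le).2 h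
  obtain ⟨h1, h2, h3, h4⟩ := ff_two_mod_centralizer hs (V.subgroupOf L) he hO
  have inj := L.subtype_injective
  have hC : (𝐂[V.subgroupOf L]).map L.subtype = L ⊓ 𝐂[V] := by
    rw [centralizer_subgroupOf h.le, subgroupOf_map_subtype, inf_comm]
  have key : ∀ X, FF L V X → X.subgroupOf L ∈ ffThrees (V.subgroupOf L) := fun X hX => by
    rw [ff_iff h.le, map_subgroupOf_of_le hX.le_L]; exact hX
  have hc : ∀ X : Subgroup L, (⁅V.subgroupOf L, X⁆).map L.subtype = ⁅V, X.map L.subtype⁆ :=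
    fun X => by rw [map_commutator, map_subgroupOf_of_le h.le]
  refine ⟨pRes_le_iff.2 fun g hg ho => ?_, fun X hX => ?_, fun X Y hX hY hne => ?_, ?_⟩
  · obtain ⟨y, hy, rfl⟩ := hg
    have h5 := mem_map_of_mem L.subtype (h1 y hy (by
      rw [← orderOf_injective L.subtype inj y]; exact coprime_two_iff.1 ho))
    rw [Subgroup.map_sup, hC] at h5
    refine (sup_le_sup_left ?_ _ : _ ≤ ffD L V) h5
    rw [map_le_iff_le_comap]
    exact sSup_le fun X hX => map_le_iff_le_comap.1 (le_sSup ((ff_iff h.le).1 hX))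
  · rw [← h2 _ (key X hX), ← card_map_of_injective _ inj, hc, map_subgroupOf_of_le hX.le_L]
  · have h5 := h3 _ (key X hX) _ (key Y hY) fun e => hne (by
      rw [← map_subgroupOf_of_le hX.le_L, e, map_subgroupOf_of_le hY.le_L])
    have h6 := congrArg (Subgroup.map L.subtype) h5
    rwa [map_commutator, hc, map_subgroupOf_of_le hX.le_L, map_subgroupOf_of_le hY.le_L,
      Subgroup.map_bot] at h6
  · have h5 := map_mono (f := L.subtype) h4
    rw [map_subgroupOf_of_le h.le, Subgroup.map_sup, map_inf_centralizer_of_injective inj,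
      map_subgroupOf_of_le h.le] at h5
    refine h5.trans (sup_le_sup_left ?_ _)
    rw [map_le_iff_le_comap]
    refine iSup₂_le fun X hX => map_le_iff_le_comap.1 ?_
    rw [hc]
    exact le_iSup₂_of_le (f := fun X (_ : X ∈ {X | FF L V X}) => ⁅V, X⁆) _ ((ff_iff h.le).1 hX) le_rfl

section
variable {L V X Y : Subgroup G}

theorem norm_C (hn : L ≤ 𝐍[V]) : L ≤ 𝐍[L ⊓ 𝐂[V]] :=
  le_normalizer_inf le_normalizer (le_normalizer_centralizer hn)

theorem FF.le_ffD (h : FF L V X) : X ≤ ffD L V := le_sup_of_le_right (le_sSup h)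

theorem C_le_ffD (L V : Subgroup G) : L ⊓ 𝐂[V] ≤ ffD L V := le_sup_left

theorem ffD_le (L V : Subgroup G) : ffD L V ≤ 𝐉[L] ⊔ (L ⊓ 𝐂[V]) :=
  sup_le le_sup_right (sSup_le fun _ h => h.le)

theorem ffD_le_L (L V : Subgroup G) : ffD L V ≤ L :=
  (ffD_le L V).trans (sup_le (thompsonSubgroupOf_le L) inf_le_left)

theorem FF.ffD_norm (h : FF L V X) : ffD L V ≤ 𝐍[X] :=
  (ffD_le L V).trans (sup_le h.norm (h.ge.trans le_normalizer))

theorem le_normalizer_ffD (hn : L ≤ 𝐍[V]) : L ≤ 𝐍[ffD L V] := by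
  refine le_normalizer_sup (norm_C hn) (le_normalizer_iff_cj.2 fun g hg => ?_)
  rw [cj_le_iff]
  exact sSup_le fun X hX => cj_le_iff.1 (le_sSup (FF.cj_of_mem hX hn hg))

theorem FF.inf_eq (hX : FF L V X) (hY : FF L V Y) (hne : X ≠ Y) : X ⊓ Y = L ⊓ 𝐂[V] := by
  rcases Amal.eq_or_eq_of_relIndex_prime (by rw [hX.idx]; exact Nat.prime_three)
    (le_inf hX.ge hY.ge) inf_le_left with h | h
  · exact h
  · have h1 : X ≤ Y := h.ge.trans inf_le_right
    rcases Amal.eq_or_eq_of_relIndex_prime (by rw [hY.idx]; exact Nat.prime_three)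
      hX.ge h1 with h2 | h2
    · have := hX.idx
      rw [h2, relIndex_self] at this
      omega
    · exact absurd h2 hne

theorem FF.commutator_le (hn : L ≤ 𝐍[V]) (hX : FF L V X) (hY : FF L V Y) :
    ⁅X, Y⁆ ≤ L ⊓ 𝐂[V] := by
  by_cases h : X = Y
  · subst h
    exact commutator_le_of_relIndex_prime (by rw [hX.idx]; exact Nat.prime_three) hX.ge
      (hX.le_L.trans (norm_C hn))
  · rw [← hX.inf_eq hY h]
    refine le_inf (Solv.commutator_le_of_le_normalizer (hY.le_ffD.trans hX.ffD_norm)) ?_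
    rw [commutator_comm]
    exact Solv.commutator_le_of_le_normalizer (hX.le_ffD.trans hY.ffD_norm)

theorem ffD_commutator_le (hn : L ≤ 𝐍[V]) : ⁅ffD L V, ffD L V⁆ ≤ L ⊓ 𝐂[V] := by
  have hC := norm_C hn
  have h0 : ⁅L ⊓ 𝐂[V], ffD L V⁆ ≤ L ⊓ 𝐂[V] :=
    Solv.commutator_le_of_le_normalizer ((ffD_le_L L V).trans hC)
  refine CommMod.commutator_sup_le le_normalizer ((sSup_le fun X hX => FF.le_L hX).trans hC) h0
    (CommMod.commutator_sSup_le (fun X hX => (FF.le_L hX).trans hC) fun X hX => ?_)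
  rw [commutator_comm]
  refine CommMod.commutator_sup_le le_normalizer ((sSup_le fun X hX => FF.le_L hX).trans hC)
    ((commutator_mono le_rfl (FF.le_ffD hX)).trans h0)
    (CommMod.commutator_sSup_le (fun X hX => (FF.le_L hX).trans hC) fun Y hY => ?_)
  exact FF.commutator_le hn hY hX

theorem ffD_le_normalizer (hn : L ≤ 𝐍[V]) {U : Subgroup G} (h1 : L ⊓ 𝐂[V] ≤ U)
    (h2 : U ≤ ffD L V) : ffD L V ≤ 𝐍[U] := by
  rw [le_normalizer_iff]
  intro g hg u hu
  have : g * u * g⁻¹ = ⁅g, u⁆ * u := by group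
  rw [this]
  exact mul_mem (h1 (ffD_commutator_le hn (commutator_mem_commutator hg (h2 hu)))) hu

end

theorem commutator_sup_centralizer {V K C : Subgroup G} (hC : C ≤ 𝐂[V]) (hV : K ≤ 𝐍[V]) :
    ⁅V, K ⊔ C⁆ = ⁅V, K⁆ := by
  refine le_antisymm (CP.commutator_sup_le (Solv.le_normalizer_commutator_right V K) ?_ le_rfl ?_)
    (commutator_mono le_rfl le_sup_left)
  · exact (hC.trans (centralizer_anti (Solv.commutator_le_of_le_normalizer hV))).trans
      (centralizer_le_normalizer' _)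
  · rw [commutator_eq_bot_iff_le_centralizer.2 (le_centralizer_iff.1 hC)]; exact bot_le

end Cfsg.Agent.PLocal.JC
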