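import Mathlib
import Cfsg.Agent.PLocal.FFTwoAmb
import Cfsg.Agent.S2941

/-!
`J(T)`-components inside an overgroup `L` (Kurzweil-Stellmacher 12.2).
-/

set_option autoImplicit false

namespace Cfsg.Agent.PLocal.JC

open Cfsg Subgroup Cfsg.Agent.PLocal.Amb Cfsg.Agent.Grp
open scoped Cfsg.Agent.PLocal.CP commutatorElement

variable {G : Type*} [Group G]

/-! ### computing modulo a subgroup -/

/-- the quotient map of the normalizer -/
def qm (C : Subgroup G) : 𝐍[C] →* 𝐍[C] ⧸ C.subgroupOf 𝐍[C] := QuotientGroup.mk' _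

theorem qm_eq_one {C : Subgroup G} {a : 𝐍[C]} : qm C a = 1 ↔ (a : G) ∈ C :=
  QuotientGroup.eq_one_iff (N := C.subgroupOf 𝐍[C]) a

theorem qm_commute {C : Subgroup G} {a b : 𝐍[C]} :
    Commute (qm C a) (qm C b) ↔ ⁅(a : G), (b : G)⁆ ∈ C := by
  rw [← commutatorElement_eq_one_iff_commute, ← map_commutatorElement, qm_eq_one]
  rfl

theorem mul_pow_mem {C : Subgroup G} {x y : G} (hx : x ∈ 𝐍[C]) (hy : y ∈ 𝐍[C]) (h : ⁅x, y⁆ ∈ C)
    {n : ℕ} (h1 : x ^ n ∈ C) (h2 : y ^ n ∈ C) : (x * y) ^ n ∈ C := by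
  have h3 : Commute (qm C ⟨x, hx⟩) (qm C ⟨y, hy⟩) := qm_commute.2 h
  have h4 : qm C ((⟨x, hx⟩ * ⟨y, hy⟩) ^ n) = 1 := by
    rw [map_pow, map_mul, h3.mul_pow, ← map_pow, ← map_pow, (qm_eq_one (a := ⟨x, hx⟩ ^ n)).2 h1,
      (qm_eq_one (a := ⟨y, hy⟩ ^ n)).2 h2, mul_one]
  exact qm_eq_one.1 h4

theorem commutator_pow_mem {C : Subgroup G} {x y : G} (hx : x ∈ 𝐍[C]) (hy : y ∈ 𝐍[C])
    (h : ⁅x, ⁅x, y⁆⁆ ∈ C) {n : ℕ} (h1 : x ^ n = 1) : ⁅x, y⁆ ^ n ∈ C := by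
  have h3 : Commute (qm C ⟨x, hx⟩) ⁅qm C ⟨x, hx⟩, qm C ⟨y, hy⟩⁆ := by
    rw [← map_commutatorElement]
    exact qm_commute.2 h
  have h4 := CP.pow_conj_eq_of_commute h3 n
  have h5 : qm C ⟨x, hx⟩ ^ n = 1 := by
    rw [← map_pow, qm_eq_one]
    change x ^ n ∈ C
    exact h1 ▸ one_mem C
  rw [h5, one_mul, inv_one, mul_one, right_eq_mul, ← map_commutatorElement, ← map_pow] at h4
  exact qm_eq_one.1 h4

theorem card_le_two_mul [Finite G] {A B : Subgroup G} {t : G} (h : ∀ a ∈ A, a ∈ B ∨ a * t ∈ B) :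
    Nat.card A ≤ 2 * Nat.card B := by
  have h1 : (A : Set G) ⊆ (B : Set G) ∪ (fun b => b * t⁻¹) '' (B : Set G) := fun a ha =>
    (h a ha).imp id fun h' => ⟨a * t, h', by simp⟩
  have h2 := (Set.ncard_le_ncard h1).trans (Set.ncard_union_le _ _)
  rw [Set.ncard_image_of_injective _ (mul_left_injective t⁻¹)] at h2
  change (A : Set G).ncard ≤ 2 * (B : Set G).ncard
  omega

/-- A largest elementary abelian subgroup inverting a fixed point free element bounds the module. -/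
theorem card_le_four [Finite G] {W A P : Subgroup G} (hW : IsElementaryAbelian 2 W) (hWP : W ≤ P)
    (hA : A ∈ maxEA 2 P) (hAW : A ≤ 𝐍[W]) {y t : G} (hy : y ∈ 𝐍[W]) (ho : Odd (orderOf y))
    (hf : W ⊓ 𝐂[zpowers y] = ⊥) (ht : t ∈ A) (hty : t * y * t⁻¹ = y⁻¹)
    (hB : ∀ a ∈ A, ⁅a, y⁆ ∈ 𝐂[W] ∨ ⁅a * t, y⁆ ∈ 𝐂[W]) : Nat.card W ≤ 4 := by
  let B : Subgroup G :=
    { carrier := {a | a ∈ A ∧ ⁅a, y⁆ ∈ 𝐂[W]}
      one_mem' := ⟨one_mem _, by simp⟩
      mul_mem' := by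
        rintro a b ⟨ha, ha'⟩ ⟨hb, hb'⟩
        refine ⟨mul_mem ha hb, ?_⟩
        have : ⁅a * b, y⁆ = a * ⁅b, y⁆ * a⁻¹ * ⁅a, y⁆ := by group
        rw [this]
        exact mul_mem (conj_mem_of_mem_normalizer (le_normalizer_centralizer hAW ha) hb') ha'
      inv_mem' := by
        rintro a ⟨ha, ha'⟩
        refine ⟨inv_mem ha, ?_⟩
        have : ⁅a⁻¹, y⁆ = a⁻¹ * ⁅a, y⁆⁻¹ * a := by group
        rw [this]
        exact inv_conj_mem_of_mem_normalizer (le_normalizer_centralizer hAW ha) (inv_mem ha') }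
  have hBA : B ≤ A := fun a ha => ha.1
  have h1 : Nat.card A ≤ 2 * Nat.card B := card_le_two_mul (t := t) fun a ha =>
    (hB a ha).imp (fun h => ⟨ha, h⟩) fun h => ⟨mul_mem ha ht, h⟩
  have hoff := (isBestOffenderOn_of_mem_maxEA hW hWP hA).1
  have hn : ∀ B' ≤ B, y ∈ 𝐍[W ⊓ 𝐂[B']] := fun B' hB' => by
    refine mem_normalizer_of_cj_le (cj_le_iff_forall.2 fun w hw => ?_)
    have h2 : y * w * y⁻¹ ∈ W := conj_mem_of_mem_normalizer hy hw.1
    refine ⟨h2, fun b hb => ?_⟩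
    have h3 := (hB' hb).2 _ h2
    have h4 := hw.2 b hb
    calc b * (y * w * y⁻¹) = ⁅b, y⁆ * y * (b * w) * y⁻¹ := by group
      _ = ⁅b, y⁆ * (y * w * y⁻¹) * (y * b * y⁻¹) := by rw [h4]; group
      _ = y * w * y⁻¹ * b := by rw [← h3]; group
  set C₀ := W ⊓ 𝐂[A] with hC₀
  set W₀ := W ⊓ 𝐂[B] with hW₀
  have hCW : C₀ ≤ W₀ := inf_le_inf_left _ (centralizer_anti hBA)
  have h2 : Nat.card C₀ * Nat.card C₀ ≤ Nat.card W₀ := by
    have h3 : cj(y, C₀) ≤ W₀ := cj_le_of_mem_normalizer hCW (hn B le_rfl)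
    have h4 : C₀ ⊓ cj(y, C₀) = ⊥ := by
      rw [← le_bot_iff, ← hf]
      rintro w ⟨hw, hw'⟩
      refine ⟨hw.1, ?_⟩
      have h5 := hw.2 t ht
      have h6 := (mem_cj.1 hw').2 t ht
      have h7 : y * y ∈ centralizer ({w} : Set G) := by
        have a1 : t ∈ centralizer ({w} : Set G) := mem_centralizer_singleton_iff.2 h5
        have a2 : y * t * y⁻¹ ∈ centralizer ({w} : Set G) := by
          rw [mem_centralizer_singleton_iff]
          calc y * t * y⁻¹ * w = y * (t * (y⁻¹ * w * y)) * y⁻¹ := by group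
            _ = w * (y * t * y⁻¹) := by rw [h6]; group
        have e : y * y = y * t * y⁻¹ * t⁻¹ := by
          calc y * y = y * (t * y * t⁻¹)⁻¹ := by rw [hty, inv_inv]
            _ = y * t * y⁻¹ * t⁻¹ := by group
        rw [e]
        exact mul_mem a2 (inv_mem a1)
      have h8 := Sym4Rec.mem_of_sq_mem_of_odd ho h7
      have h9 : w ∈ 𝐂[zpowers y] := by
        rw [Amb.centralizer_zpowers, mem_centralizer_singleton_iff]
        exact (mem_centralizer_singleton_iff.1 h8).symm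
      exact h9
    have e := card_sup_mul_card_inf (A := C₀) (B := cj(y, C₀))
      (le_normalizer_of_comm (isEA_iff.1 hW).1 inf_le_left (h3.trans inf_le_left))
    rw [h4, card_bot, mul_one, card_cj] at e
    exact e ▸ card_le_card_of_le (sup_le hCW h3)
  have hpB : 0 < Nat.card B := Nat.card_pos
  have hpC : 0 < Nat.card C₀ := Nat.card_pos
  by_cases h3 : W ≤ W₀
  · have h4 := hoff B hBA
    have h5 := card_le_card_of_le h3
    have h6 := card_le_card_of_le (inf_le_left : W₀ ≤ W)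
    have h7 : Nat.card W₀ ≤ 2 * Nat.card C₀ := by
      refine Nat.le_of_mul_le_mul_left (h4.trans ?_) hpB
      calc Nat.card A * Nat.card C₀ ≤ 2 * Nat.card B * Nat.card C₀ := Nat.mul_le_mul_right _ h1
        _ = Nat.card B * (2 * Nat.card C₀) := by ring
    have h8 : Nat.card C₀ ≤ 2 := Nat.le_of_mul_le_mul_right (h2.trans h7) hpC
    omega
  exfalso
  obtain ⟨u, hu, hu', hc⟩ := CP.exists_notMem_commutator_mem (isEA_isPGroup hW)
    (isEA_isPGroup hA.2.1) hAW h3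
  set B₁ := B ⊓ centralizer ({u} : Set G) with hB₁
  have h4 : Nat.card B ≤ Nat.card B₁ * Nat.card C₀ := by
    rw [← card_inf_mul_relIndex (centralizer ({u} : Set G)) B, inf_comm]
    refine Nat.mul_le_mul_left _ ((relIndex_centralizer_le B u ((fun z => z⁻¹ * u) '' (C₀ : Set G))
      fun b hb => ⟨⁅u, b⁆, ⟨(hc b (mem_sup_right hb.1)).1, fun a ha => ?_⟩, ?_⟩).trans ?_)
    · have h5 := (hc a (mem_sup_right ha)).2
      have h6 := h5.2 b hb
      have h7 := isEA_comm hW h5.1 (hc b (mem_sup_right hb.1)).1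
      have h8 := isEA_comm hA.2.1 ha hb.1
      have h9 : a * b⁻¹ = b⁻¹ * a := (show Commute a b from h8).inv_right
      have h10 : ⁅u, a⁆ * b⁻¹ = b⁻¹ * ⁅u, a⁆ := (show Commute b ⁅u, a⁆ from h6).symm.inv_right
      calc a * ⁅u, b⁆ = ⁅u, a⁆⁻¹ * u * (a * b) * u⁻¹ * b⁻¹ := by group
        _ = ⁅u, a⁆⁻¹ * u * b * u⁻¹ * ⁅u, a⁆ * (a * b⁻¹) := by rw [h8]; group
        _ = ⁅u, a⁆⁻¹ * u * b * u⁻¹ * (⁅u, a⁆ * b⁻¹) * a := by rw [h9]; group
        _ = ⁅u, a⁆⁻¹ * (⁅u, b⁆ * ⁅u, a⁆) * a := by rw [h10]; group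
        _ = ⁅u, b⁆ * a := by rw [← h7]; group
    · group
    · exact Set.ncard_image_le
  set W₁ := W ⊓ 𝐂[B₁] with hW₁
  have h5 : W₀ ≤ W₁ := inf_le_inf_left _ (centralizer_anti inf_le_left)
  have h6 : u ∈ W₁ := ⟨hu, fun b hb => mem_centralizer_singleton_iff.1 hb.2⟩
  have h7 : Nat.card W₁ ≤ Nat.card W₀ * 2 := by
    refine Nat.le_of_mul_le_mul_left ((hoff B₁ (inf_le_left.trans hBA)).trans ?_)
      (Nat.card_pos (α := B₁))
    calc Nat.card A * Nat.card C₀ ≤ 2 * (Nat.card B₁ * Nat.card C₀) * Nat.card C₀ :=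
          Nat.mul_le_mul_right _ (h1.trans (Nat.mul_le_mul_left _ h4))
      _ = Nat.card B₁ * (Nat.card C₀ * Nat.card C₀ * 2) := by ring
      _ ≤ Nat.card B₁ * (Nat.card W₀ * 2) := Nat.mul_le_mul_left _ (Nat.mul_le_mul_right _ h2)
  rw [← card_mul_relIndex_of_le h5] at h7
  have h8 := Nat.le_of_mul_le_mul_left h7 Nat.card_pos
  have h9 : W₀.relIndex W₁ ≠ 0 := FiniteIndex.index_ne_zero
  have h10 : W₀.relIndex W₁ ≠ 1 := fun h => hu' (relIndex_eq_one.1 h h6)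
  have h11 : W₀.relIndex W₁ = 2 := by omega
  have hW₁p : IsPGroup 2 W₁ := (isEA_isPGroup hW).to_le inf_le_left
  have h12 := Solv.coprime_commutator_sup_centralizer (zpowers y) W₁
    (zpowers_le.2 (hn B₁ inf_le_left)) (CP.coprime_card_zpowers hW₁p (coprime_two_iff.2 ho))
    (Or.inr (Solv.isSolvable_of_isPGroup hW₁p))
  refine hu' ((h12.ge.trans (sup_le ?_ ?_) : W₁ ≤ W₀) h6)
  · rw [commutator_comm]
    refine CommMod.commutator_zpowers_le (hn B le_rfl) fun w hw => ?_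
    by_cases h13 : w ∈ W₀
    · exact mul_mem (conj_mem_of_mem_normalizer (hn B le_rfl) h13) (inv_mem h13)
    · refine Amal.mul_mem_of_relIndex_two h11 (conj_mem_of_mem_normalizer (hn B₁ inf_le_left) hw)
        (inv_mem hw) (fun h => h13 ?_) fun h => h13 (inv_mem_iff.1 h)
      have := inv_conj_mem_of_mem_normalizer (hn B le_rfl) h
      rwa [show y⁻¹ * (y * w * y⁻¹) * y = w by group] at this
  · exact (hf ▸ inf_le_inf_right _ inf_le_left : W₁ ⊓ _ ≤ ⊥).trans bot_le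

/-! ### the hypothesis -/

/-- local characteristic 2, solvable 2-locals, and `C(Ω Z(S)) ≤ N(S)` -/
structure ZN (G : Type*) [Group G] : Prop where
  char : IsCharacteristicTwoType G
  solv : ∀ N : Subgroup G, IsTwoLocal N → Group.IsSolvable N
  cz : ∀ S : Sylow 2 G, 𝐂[omegaCenterOf (S : Subgroup G)] ≤ 𝐍[(S : Subgroup G)]

/-- the 2-core is self-centralizing in the whole group -/
def Ch (L : Subgroup G) : Prop := 𝐂[𝐐[L]] ≤ 𝐐[L]

/-- `Ω Z(O₂(L))` -/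
scoped notation:max "𝐙[" L "]" => Cfsg.omegaOne 2 (Cfsg.pCoreOf 2 L ⊓
  Subgroup.centralizer (SetLike.coe (Cfsg.pCoreOf 2 L : Subgroup _)))
/-- `C_L(Ω Z(O₂(L)))` -/
scoped notation:max "𝐊[" L "]" => L ⊓ Subgroup.centralizer (SetLike.coe (Cfsg.omegaOne 2
  (Cfsg.pCoreOf 2 L ⊓ Subgroup.centralizer (SetLike.coe (Cfsg.pCoreOf 2 L : Subgroup _))) : Subgroup _))

theorem isTwoLocal_normalizer {T : Subgroup G} (hT : IsPGroup 2 T) (h1 : T ≠ ⊥) :
    IsTwoLocal 𝐍[T] := ⟨T, hT, h1, rfl⟩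

theorem isTwoLocal_cj {L : Subgroup G} (h : IsTwoLocal L) (g : G) : IsTwoLocal cj(g, L) := by
  obtain ⟨T, hT, h1, rfl⟩ := h
  exact ⟨cj(g, T), isPGroup_cj g hT, fun h => h1 (cj_eq_bot.1 h), (normalizer_cj g T).symm⟩

theorem Q_ne_bot_of_isTwoLocal {L : Subgroup G} (h : IsTwoLocal L) : 𝐐[L] ≠ ⊥ := by
  obtain ⟨T, hT, h1, rfl⟩ := h
  exact fun h => h1 (le_bot_iff.1 (h ▸ le_pCoreOf hT le_normalizer le_rfl))

theorem centralizer_eq_normalizer [Finite G] {x : G} (h : x * x = 1) (h1 : x ≠ 1) :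
    centralizer ({x} : Set G) = 𝐍[zpowers x] := by
  rw [← Amb.centralizer_zpowers]
  exact le_antisymm (centralizer_le_normalizer' _) fun g hg =>
    Sym4Rec.mem_centralizer_of_card_le_two (card_zpowers_two h h1).le hg

theorem isTwoLocal_centralizer [Finite G] {x : G} (h : x * x = 1) (h1 : x ≠ 1) :
    IsTwoLocal (centralizer ({x} : Set G)) := by
  rw [centralizer_eq_normalizer h h1]
  exact isTwoLocal_normalizer (isEA_isPGroup (isEA_zpowers (by rw [pow_two]; exact h)))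
    (fun h' => h1 (zpowers_eq_bot.1 h'))

theorem Ch.cj {L : Subgroup G} (h : Ch L) (g : G) : Ch cj(g, L) := by
  rw [Ch, pCoreOf_cj, centralizer_cj]
  exact cj_mono g h

theorem Ch.of_le {L P : Subgroup G} (h : Ch L) (h1 : 𝐐[L] ≤ P) (h2 : P ≤ L) : Ch P :=
  ((centralizer_anti (pCoreOf_le_of_le h2 h1)).trans h).trans (pCoreOf_le_of_le h2 h1)

theorem Ch.omegaZ_le {L S : Subgroup G} (h : Ch L) (hS : 𝐐[L] ≤ S) : ΩZ[2, S] ≤ 𝐙[L] :=
  CP.omegaZ_le_omegaZ hS (((CP.omegaZ_le_centralizer S).trans (centralizer_anti hS)).trans h)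

theorem norm_Z (L : Subgroup G) : L ≤ 𝐍[𝐙[L]] :=
  le_normalizer.trans (normalizer_le_normalizer_omegaQ L)

theorem Q_le_K (L : Subgroup G) : 𝐐[L] ≤ 𝐊[L] :=
  le_inf (pCoreOf_le 2 L) (CP.le_centralizer_omegaZ _)

theorem Z_le_Q (L : Subgroup G) : 𝐙[L] ≤ 𝐐[L] := CP.omegaZ_le _

theorem norm_K (L : Subgroup G) : L ≤ 𝐍[𝐊[L]] := norm_C (norm_Z L)

namespace ZN
variable (h : ZN G)
include h

theorem ch {L : Subgroup G} (hL : IsTwoLocal L) : Ch L := by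
  obtain ⟨T, hT, h1, rfl⟩ := hL
  have h2 := charP_iff.1 (h.char.2 T hT h1)
  exact (le_inf ((centralizer_anti (le_pCoreOf hT le_normalizer le_rfl)).trans
    (centralizer_le_normalizer' T)) le_rfl).trans h2

variable [Finite G]

theorem Q_ne_bot {L : Subgroup G} (hL : Ch L) : 𝐐[L] ≠ ⊥ := fun h' => by
  have h1 : (⊤ : Subgroup G) ≤ ⊥ := by
    have := hL
    rwa [Ch, h', centralizer_bot'] at this
  have h2 := card_le_card_of_le h1
  rw [card_top, card_bot] at h2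
  have h3 := h.char.1
  have h4 : 0 < Nat.card G := Nat.card_pos
  obtain ⟨k, hk⟩ := h3
  omega

theorem solvable {L : Subgroup G} (hL : Ch L) : Group.IsSolvable L := by
  have := h.solv _ (isTwoLocal_normalizer (isPGroup_pCoreOf 2 L) (h.Q_ne_bot hL))
  exact solvable_of_solvable_injective (inclusion_injective (le_normalizer_pCoreOf 2 L))

omit [Finite G] in
theorem cz' {S : Subgroup G} (hS : IsSyl 2 S ⊤) : 𝐂[ΩZ[2, S]] ≤ 𝐍[S] := by
  obtain ⟨P, rfl⟩ := hS.exists_sylow_top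
  exact h.cz P

omit [Finite G] in
theorem K_norm {L T : Subgroup G} (hL : Ch L) (hT : IsSyl 2 T L) : 𝐊[L] ≤ 𝐍[T] := by
  obtain ⟨S, hS, hTS⟩ := exists_isSyl_ge hT.pgrp (le_top : T ≤ ⊤)
  have h1 : L ⊓ S = T := hT.eq (hS.pgrp.to_le inf_le_right) (le_inf hT.le hTS) inf_le_left
  rw [← h1]
  exact le_normalizer_inf (inf_le_left.trans le_normalizer) (inf_le_right.trans
    ((centralizer_anti (hL.omegaZ_le (hT.pCoreOf_le.trans hTS))).trans (h.cz' hS)))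

theorem le_Q {L P : Subgroup G} (hL : Ch L) (hP : IsPGroup 2 P) (hPK : P ≤ 𝐊[L]) : P ≤ 𝐐[L] := by
  obtain ⟨T, hT, hPT⟩ := exists_isSyl_ge hP (hPK.trans inf_le_left)
  have h1 : T ⊓ 𝐊[L] ≤ 𝐐[𝐊[L]] := le_pCoreOf (hT.pgrp.to_le inf_le_left) inf_le_right
    (le_normalizer_inf (h.K_norm hL hT) le_normalizer)
  exact ((le_inf hPT hPK).trans h1).trans (pCoreOf_mono_of_normal inf_le_left (norm_K L))

theorem mem_Q {L : Subgroup G} (hL : Ch L) {c : G} (hc : c ∈ 𝐊[L]) {k : ℕ}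
    (hk : c ^ 2 ^ k ∈ 𝐐[L]) : c ∈ 𝐐[L] := by
  obtain ⟨m, hm⟩ := isPGroup_iff.1 (isPGroup_pCoreOf 2 L) _ hk
  exact h.le_Q hL (isPGroup_zpowers ⟨k + m, by rw [pow_add, pow_mul, hm]⟩) (zpowers_le.2 hc)
    (mem_zpowers c)

theorem commutator_K_two {L P : Subgroup G} (hL : Ch L) (hP : IsPGroup 2 P) (hPL : P ≤ L) :
    ⁅𝐊[L], P⁆ ≤ 𝐐[L] := by
  obtain ⟨T, hT, hPT⟩ := exists_isSyl_ge hP hPL
  have h1 : ⁅𝐊[L], P⁆ ≤ T := by
    refine (commutator_mono le_rfl hPT).trans ?_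
    rw [commutator_comm]
    exact Solv.commutator_le_of_le_normalizer (h.K_norm hL hT)
  exact h.le_Q hL (hT.pgrp.to_le h1) (Solv.commutator_le_of_le_normalizer (hPL.trans (norm_K L)))

theorem commutator_K_J {L : Subgroup G} (hL : Ch L) : ⁅𝐊[L], 𝐉[L]⁆ ≤ 𝐐[L] := by
  rw [commutator_comm, thompsonSubgroupOf_eq_sSup]
  refine CommMod.commutator_sSup_le (fun A hA => hA.1.trans (le_normalizer_pCoreOf 2 L))
    fun A hA => ?_
  rw [commutator_comm]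
  exact h.commutator_K_two hL (isEA_isPGroup hA.2.1) hA.1

theorem isPRed {L : Subgroup G} (hL : Ch L) : CP.IsPRed 2 𝐙[L] L := by
  refine ⟨(Z_le_Q L).trans (pCoreOf_le 2 L), norm_Z L, CP.omegaZ_isEA _, fun D h1 h2 h3 => ?_⟩
  obtain ⟨T, hT⟩ := exists_isSyl 2 L
  have h4 := hT.inf_of_le h1 h2
  have h5 : D ≤ 𝐍[T ⊓ D] := by
    refine le_normalizer_inf ?_ le_normalizer
    rw [← h4.pRes_sup]
    exact sup_le ((le_inf ((pRes_le 2 D).trans h1) h3).trans (h.K_norm hL hT))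
      (inf_le_left.trans le_normalizer)
  rw [← h4.pRes_sup]
  refine sup_le h3 (((le_pCoreOf h4.pgrp h4.le h5).trans (pCoreOf_mono_of_normal h1 h2)).trans ?_)
  exact CP.le_centralizer_omegaZ _

theorem ff {L : Subgroup G} (hL : Ch L) :
    𝐎[2, 𝐉[L]] ≤ ffD L 𝐙[L] ∧ (∀ X, FF L 𝐙[L] X → Nat.card ↥⁅𝐙[L], X⁆ = 4) ∧
    (∀ X Y, FF L 𝐙[L] X → FF L 𝐙[L] Y → X ≠ Y → ⁅⁅𝐙[L], X⁆, Y⁆ = ⊥) :=
  have := ff_amb (h.solvable hL) (h.isPRed hL)
  ⟨this.1, this.2.1, this.2.2.1⟩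

/-- a 2-element acting trivially modulo `C` acts trivially modulo `Q` -/
theorem commutator_mem_Q {L P : Subgroup G} (hL : Ch L) (hP : IsPGroup 2 P) (hPL : P ≤ L) {j y : G}
    (hj : j ∈ P) (hy : y ∈ L) (hc : ⁅j, y⁆ ∈ 𝐊[L]) : ⁅j, y⁆ ∈ 𝐐[L] := by
  obtain ⟨k, hk⟩ := isPGroup_iff.1 hP j hj
  refine h.mem_Q hL hc (k := k) (commutator_pow_mem (le_normalizer_pCoreOf 2 L (hPL hj))
    (le_normalizer_pCoreOf 2 L hy) ?_ hk)
  have := h.commutator_K_two hL hP hPL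
  rw [commutator_comm] at this
  exact this (commutator_mem_commutator hj hc)

end ZN

theorem commutator_le_wOf [Finite G] {K V : Subgroup G} (hres : 𝐎[2, K] = K)
    (hV : IsElementaryAbelian 2 V) (h1 : V ≤ 𝐍[K]) (h2 : K ≤ 𝐍[V]) (h3 : 𝐐[K] ≤ 𝐂[V]) :
    ⁅V, K⁆ ≤ wOf K := by
  have h4 : ⁅V, K⁆ ≤ V := Solv.commutator_le_of_le_normalizer h2
  have h5 : ⁅V, K⁆ ≤ K := by
    rw [commutator_comm]; exact Solv.commutator_le_of_le_normalizer h1
  have h6 := CP.commutator_pRes_pRes (isEA_isPGroup hV) h2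
  rw [hres] at h6
  rw [← h6]
  refine commutator_mono (CP.le_omegaZ (isEA_mono hV h4) (le_pCoreOf ((isEA_isPGroup hV).to_le h4) h5
    (Solv.le_normalizer_commutator_right V K)) (h4.trans (le_centralizer_iff.1 h3))) le_rfl

theorem pow_mem_iff_of_coprime_aux {K : Subgroup G} {x : G} {m n : ℕ} (hc : m.Coprime n)
    (h1 : x ^ m ∈ K) (h2 : x ^ n ∈ K) : x ∈ K := by
  have h3 := Nat.gcd_eq_gcd_ab m n
  rw [hc] at h3
  have : x = (x ^ m) ^ (m.gcdA n) * (x ^ n) ^ (m.gcdB n) := by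
    rw [← zpow_natCast, ← zpow_natCast, ← zpow_mul, ← zpow_mul, ← zpow_add, ← h3]
    simp
  rw [this]
  exact mul_mem (zpow_mem h1 _) (zpow_mem h2 _)

theorem IsJC.comm_mem_Q [Finite G] {J K : Subgroup G} (k : IsJC J K) {j x : G} (hj : j ∈ J)
    (hx : x ∈ K) (h : j ∈ 𝐂[wOf K]) : ⁅j, x⁆ ∈ 𝐐[K] := by
  have := k.commutator_le_Q (zpowers_le.2 h) (zpowers_le.2 (k.norm hj))
  rw [commutator_comm] at this
  exact this (commutator_mem_commutator (mem_zpowers j) hx)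

theorem IsJC.inv_mem_Q [Finite G] {J K : Subgroup G} (k : IsJC J K) {j x : G} (hj : j ∈ J)
    (hx : x ∈ K) (hx' : x ∉ 𝐐[K]) (h : j ∉ 𝐂[wOf K]) : j * x * j⁻¹ * x ∈ 𝐐[K] := by
  rcases three_cases k.idx (pCoreOf_le 2 K) (le_normalizer_pCoreOf 2 K) hx hx'
    (conj_mem_of_mem_normalizer (k.norm hj) hx) with h1 | h1 | h1
  · refine absurd ?_ hx'
    have := inv_conj_mem_of_mem_normalizer (k.normQ hj) h1
    rwa [show j⁻¹ * (j * x * j⁻¹) * j = x by group] at this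
  · refine absurd (k.le_centralizer_W_of_commutator (k.two.to_le (zpowers_le.2 hj))
      (zpowers_le.2 (k.norm hj)) ?_ (mem_zpowers j)) h
    refine (CommMod.le_centMod.1 (k.le_of_mem (CommMod.le_centMod.2 ⟨le_normalizer,
      Solv.commutator_le_of_le_normalizer (zpowers_le.2 (k.normQ hj))⟩) hx hx' ?_)).2
    refine ⟨le_normalizer_pCoreOf 2 K hx, ?_⟩
    rintro _ ⟨n, rfl⟩
    have h2 : Commute (qm 𝐐[K] ⟨j, k.normQ hj⟩) (qm 𝐐[K] ⟨x, le_normalizer_pCoreOf 2 K hx⟩) :=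
      qm_commute.2 h1
    have h3 := h2.symm.zpow_right n
    rw [← map_zpow] at h3
    exact qm_commute.1 h3
  · exact h1

/-- `J` is the Thompson subgroup of a Sylow 2-subgroup of `L`, which has characteristic 2. -/
structure Ov (J L : Subgroup G) : Prop where
  ch : Ch L
  syl : ∃ T, IsSyl 2 T L ∧ 𝐉[T] = J

theorem ov_of_mem [Finite G] {T L : Subgroup G} (h : L ∈ jOvergroups T) : Ov 𝐉[T] L :=
  ⟨h.2.2, T, isSylowTwoIn_iff.1 h.1, rfl⟩

theorem J_eq_of_le_cj [Finite G] {T T' : Subgroup G} {g h : G} (hJ : 𝐉[T'] = 𝐉[T])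
    (hle : 𝐉[cj(g, T)] ≤ cj(h, T')) : 𝐉[cj(g, T)] = 𝐉[cj(h, T')] := by
  obtain ⟨A, hA⟩ := maxEA_nonempty 2 T
  obtain ⟨B, hB⟩ := maxEA_nonempty 2 T'
  have e : maxEA 2 T = maxEA 2 T' := by
    rw [← maxEA_eq_of_le le_rfl (thompsonSubgroupOf_le T),
      ← maxEA_eq_of_le le_rfl (thompsonSubgroupOf_le T'), hJ]
  refine eq_of_le_of_card_le (J_le_J_of_card hle (map_mem_maxEA (MulAut.conj g).injective hA)
    (map_mem_maxEA (MulAut.conj h).injective hB) ?_) ?_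
  · rw [card_cj, card_cj]
    rw [e] at hA
    exact (card_eq_of_mem_maxEA hB hA).le
  · rw [J_cj, J_cj, card_cj, card_cj, hJ]

namespace Ov
variable {J L : Subgroup G} (h : Ov J L)
include h

theorem le : J ≤ L := by
  obtain ⟨T, hT, rfl⟩ := h.syl
  exact (thompsonSubgroupOf_le T).trans hT.le

theorem two : IsPGroup 2 J := by
  obtain ⟨T, hT, rfl⟩ := h.syl
  exact hT.pgrp.to_le (thompsonSubgroupOf_le T)

theorem Q_norm : 𝐐[L] ≤ 𝐍[J] := by
  obtain ⟨T, hT, rfl⟩ := h.syl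
  exact hT.pCoreOf_le.trans (le_normalizer_thompsonSubgroupOf T)

theorem K_norm (hz : ZN G) : 𝐊[L] ≤ 𝐍[J] := by
  obtain ⟨T, hT, rfl⟩ := h.syl
  exact (hz.K_norm h.ch hT).trans (normalizer_le_normalizer_thompsonSubgroupOf T)

theorem cj (g : G) : Ov cj(g, J) cj(g, L) := by
  obtain ⟨T, hT, rfl⟩ := h.syl
  exact ⟨h.ch.cj g, _, hT.cj g, J_cj g T⟩

variable [Finite G]

theorem J_eq {P : Subgroup G} (hP : IsPGroup 2 P) (h1 : J ≤ P) (h2 : P ≤ L) : 𝐉[P] = J := by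
  obtain ⟨T, hT, rfl⟩ := h.syl
  obtain ⟨g, -, hg⟩ := hT.exists_le_cj hP h2
  have h3 : 𝐉[cj((1 : G), T)] = 𝐉[cj(g, T)] := J_eq_of_le_cj rfl (by rw [cj_one]; exact h1.trans hg)
  rw [cj_one] at h3
  rw [h3] at h1 ⊢
  exact thompsonSubgroupOf_eq_of_le h1 hg

theorem J_self : 𝐉[J] = J := h.J_eq h.two le_rfl h.le

theorem exists_syl {P : Subgroup G} (hP : IsPGroup 2 P) (h1 : J ≤ P) (h2 : P ≤ L) :
    ∃ T, IsSyl 2 T L ∧ P ≤ T ∧ 𝐉[T] = J := by
  obtain ⟨T, hT, hPT⟩ := exists_isSyl_ge hP h2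
  exact ⟨T, hT, hPT, h.J_eq hT.pgrp (h1.trans hPT) hT.le⟩

theorem maxEA_subset : maxEA 2 J ⊆ maxEA 2 L := by
  obtain ⟨T, hT, rfl⟩ := h.syl
  rw [maxEA_eq_of_le le_rfl (thompsonSubgroupOf_le T)]
  intro A hA
  refine ⟨hA.1.trans hT.le, hA.2.1, fun B hB hB' => ?_⟩
  obtain ⟨g, -, hg⟩ := hT.exists_cj_le (isEA_isPGroup hB') hB
  rw [← card_cj g B]
  exact hA.2.2 _ hg (isEA_map hB' _)

theorem le_JL : J ≤ 𝐉[L] := by
  rw [← h.J_self]
  exact thompsonSubgroupOf_le_iff.2 fun A hA => le_thompsonSubgroupOf (h.maxEA_subset hA)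

theorem frattini : L ≤ 𝐎[2, 𝐉[L]] ⊔ (L ⊓ 𝐍[J]) := by
  obtain ⟨T, hT, hJT, e⟩ := h.exists_syl h.two le_rfl h.le
  have h1 := hT.inf_of_le (thompsonSubgroupOf_le (p := 2) L) (le_normalizer_thompsonSubgroupOf L)
  have h2 : 𝐍[T ⊓ 𝐉[L]] ≤ 𝐍[J] := by
    have := normalizer_le_normalizer_thompsonSubgroupOf (p := 2) (T ⊓ 𝐉[L])
    rwa [h.J_eq h1.pgrp (le_inf hJT h.le_JL) (inf_le_left.trans hT.le)] at this
  refine (h1.frattini_sup (thompsonSubgroupOf_le L) (le_normalizer_thompsonSubgroupOf L)).ge.trans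
    (sup_le ?_ (le_sup_of_le_right (inf_le_inf_left _ h2)))
  exact h1.pRes_sup.ge.trans (sup_le_sup_left (le_inf (inf_le_left.trans hT.le)
    (le_normalizer.trans h2)) _)

theorem JL_le : 𝐉[L] ≤ 𝐎[2, 𝐉[L]] ⊔ J := by
  obtain ⟨T, hT, hJT, e⟩ := h.exists_syl h.two le_rfl h.le
  refine thompsonSubgroupOf_le_iff.2 fun A hA => ?_
  obtain ⟨g, hg, hle⟩ := hT.exists_le_cj (isEA_isPGroup hA.2.1) hA.1
  have h1 : A ≤ cj(g, J) := by
    rw [← e, ← J_cj]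
    exact le_thompsonSubgroupOf (mem_maxEA_of_le hA hle (cj_le_of_mem hT.le hg))
  obtain ⟨d, hd, n, hn, rfl⟩ := (mem_sup_of_le_normalizer_left (inf_le_left.trans
    ((le_normalizer_thompsonSubgroupOf L).trans (normalizer_le_normalizer_pRes 2 _)))).1 (h.frattini hg)
  rw [cj_mul, cj_of_mem_normalizer hn.2] at h1
  exact h1.trans (cj_le_of_mem le_sup_right (mem_sup_left hd))

theorem ff_of (hz : ZN G) {X : Subgroup G} (h1 : 𝐊[L] ≤ X) (h2 : X ≤ ffD L 𝐙[L])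
    (h3 : (𝐊[L]).relIndex X = 3) (h4 : J ≤ 𝐍[X]) : FF L 𝐙[L] X :=
  ⟨h1, h2.trans (ffD_le _ _), h3, h.JL_le.trans (sup_le ((hz.ff h.ch).1.trans
    (ffD_le_normalizer (norm_Z L) h1 h2)) h4)⟩

section comp
variable (hz : ZN G) {K : Subgroup G} (k : IsJC J K) (hK : K ≤ L)
include hz k hK

omit hz in
theorem le_res : K ≤ 𝐎[2, 𝐉[L]] := by
  refine k.res.ge.trans (pRes_mono (k.comm.ge.trans ((commutator_mono hK h.le_JL).trans ?_)))
  rw [commutator_comm]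
  exact Solv.commutator_le_of_le_normalizer (le_normalizer_thompsonSubgroupOf L)

theorem le_ffD : K ≤ ffD L 𝐙[L] := (h.le_res k hK).trans (hz.ff h.ch).1

theorem Q_normK : 𝐐[L] ≤ 𝐍[K] :=
  S2941.result hz.char hz.solv hz.cz J h.two k.J_ne_bot K
    ((isJComponent_iff h.two).2 (by rw [h.J_self]; exact k)) _
    (by rw [h.J_self]; exact (sup_le hK h.le).trans (le_normalizer_pCoreOf 2 L))
    (by rw [h.J_self]; exact h.Q_norm)

theorem normK_of {U : Subgroup G} (hU : U ≤ L) (hc : ⁅U, K⁆ ≤ 𝐐[L]) : U ≤ 𝐍[K] := by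
  refine le_trans ?_ (k.normalizer_sup_le (isPGroup_pCoreOf 2 L) (h.Q_normK hz k hK))
  rw [le_normalizer_iff_cj]
  intro g hg
  rw [cj_sup]
  refine sup_le (cj_le_iff_forall.2 fun b hb => ?_)
    ((cj_of_mem_normalizer (le_normalizer_pCoreOf 2 L (hU hg))).le.trans le_sup_right)
  have : g * b * g⁻¹ = ⁅g, b⁆ * b := by group
  rw [this]
  exact mul_mem (mem_sup_right (hc (commutator_mem_commutator hg hb))) (mem_sup_left hb)

theorem K_normK : 𝐊[L] ≤ 𝐍[K] :=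
  h.normK_of hz k hK inf_le_left ((commutator_mono le_rfl ((h.le_res k hK).trans (pRes_le 2 _))).trans
    (hz.commutator_K_J h.ch))

theorem snIn : SnIn K L :=
  SnIn.step le_sup_left (sup_le le_normalizer (h.K_normK hz k hK))
    (SnIn.step (sup_le (h.le_ffD hz k hK) (C_le_ffD _ _))
      (ffD_le_normalizer (norm_Z L) le_sup_right (sup_le (h.le_ffD hz k hK) (C_le_ffD _ _)))
      (SnIn.of_le_normalizer (ffD_le_L _ _) (le_normalizer_ffD (norm_Z L))))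

theorem Q_le_Q : 𝐐[K] ≤ 𝐐[L] := CP.pCoreOf_le_of_snIn (h.snIn hz k hK)

theorem not_le_K : ¬ K ≤ 𝐊[L] := fun h' =>
  k.not_le_two (isPGroup_pCoreOf 2 L) (k.comm.ge.trans ((commutator_mono h' le_rfl).trans
    (hz.commutator_K_two h.ch h.two h.le)))

theorem inf_K : K ⊓ 𝐊[L] = 𝐐[K] :=
  k.inf_eq_Q ((h.Q_le_Q hz k hK).trans (Q_le_K L)) (h.not_le_K hz k hK)

theorem ff : FF L 𝐙[L] (K ⊔ 𝐊[L]) := by
  refine h.ff_of hz le_sup_right (sup_le (h.le_ffD hz k hK) (C_le_ffD _ _)) ?_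
    (le_normalizer_sup k.norm (h.le.trans (norm_K L)))
  rw [relIndex_sup_of_le_normalizer (hK.trans (norm_K L)), ← inf_relIndex_left, h.inf_K hz k hK, k.idx]

theorem W_eq' : ⁅𝐙[L], K ⊔ 𝐊[L]⁆ = wOf K := by
  refine eq_of_le_of_card_le ?_ (k.card.trans ((hz.ff h.ch).2.1 _ (h.ff hz k hK)).symm).le
  rw [commutator_sup_centralizer inf_le_right (hK.trans (norm_Z L))]
  exact commutator_le_wOf k.res (CP.omegaZ_isEA _) ((Z_le_Q L).trans (h.Q_normK hz k hK))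
    (hK.trans (norm_Z L)) ((h.Q_le_Q hz k hK).trans (CP.le_centralizer_omegaZ _))

theorem W_le : wOf K ≤ 𝐙[L] := by
  rw [← h.W_eq' hz k hK]
  exact Solv.commutator_le_of_le_normalizer ((sup_le hK inf_le_left).trans (norm_Z L))

variable {K' : Subgroup G} (k' : IsJC J K') (hK' : K' ≤ L)
include k' hK'

theorem le_of_sup_eq (e : K ⊔ 𝐊[L] = K' ⊔ 𝐊[L]) : K ≤ K' := by
  refine k.le_of_le_sup (isPGroup_pCoreOf 2 L) (h.Q_normK hz k' hK') (k.comm.ge.trans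
    ((commutator_mono (le_sup_left.trans e.le) le_rfl).trans (CommMod.commutator_sup_le
      (le_sup_left.trans le_normalizer) ?_ (k'.comm.le.trans le_sup_left) ?_)))
  · exact le_normalizer_sup (h.K_normK hz k' hK') (inf_le_left.trans (le_normalizer_pCoreOf 2 L))
  · exact (hz.commutator_K_two h.ch h.two h.le).trans le_sup_right

theorem sup_ne (hne : K ≠ K') : K ⊔ 𝐊[L] ≠ K' ⊔ 𝐊[L] := fun e =>
  hne (le_antisymm (h.le_of_sup_eq hz k hK k' hK' e) (h.le_of_sup_eq hz k' hK' k hK e.symm))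

theorem le_centralizer_W (hne : K ≠ K') : K' ≤ 𝐂[wOf K] := by
  have := (hz.ff h.ch).2.2 _ _ (h.ff hz k hK) (h.ff hz k' hK') (h.sup_ne hz k hK k' hK' hne)
  rw [h.W_eq' hz k hK, commutator_eq_bot_iff_le_centralizer] at this
  exact le_sup_left.trans (le_centralizer_iff.1 this)

theorem W_inf_W (hne : K ≠ K') : wOf K ⊓ wOf K' = ⊥ :=
  le_bot_iff.1 (k.W_inf_centralizer ▸ inf_le_inf_left _
    (le_centralizer_iff.1 (h.le_centralizer_W hz k' hK' k hK hne.symm)))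

theorem exists_sign (hne : K ≠ K') : ∃ j ∈ J, ¬ (j ∈ 𝐂[wOf K] ↔ j ∈ 𝐂[wOf K']) := by
  by_contra hc
  push Not at hc
  obtain ⟨x, hx, hx', -⟩ := k.exists_odd
  obtain ⟨y, hy, hy', -⟩ := k'.exists_odd
  have f := h.ff hz k hK
  have f' := h.ff hz k' hK'
  have hinf := f.inf_eq f' (h.sup_ne hz k hK k' hK' hne)
  have hxC : x ∈ 𝐍[𝐊[L]] := norm_K L (hK hx)
  have hyC : y ∈ 𝐍[𝐊[L]] := norm_K L (hK' hy)
  have hxK : x ∉ 𝐊[L] := fun h' => hx' (h.inf_K hz k hK ▸ mem_inf.2 ⟨hx, h'⟩)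
  have hyK : y ∉ 𝐊[L] := fun h' => hy' (h.inf_K hz k' hK' ▸ mem_inf.2 ⟨hy, h'⟩)
  have hQ : 𝐐[K] ≤ 𝐊[L] := (h.Q_le_Q hz k hK).trans (Q_le_K L)
  have hQ' : 𝐐[K'] ≤ 𝐊[L] := (h.Q_le_Q hz k' hK').trans (Q_le_K L)
  have hcm := f.commutator_le (norm_Z L) f'
  have hyX : y ∉ K ⊔ 𝐊[L] := fun h' => hyK (hinf ▸ mem_inf.2 ⟨h', mem_sup_left hy⟩)
  have hz1 : x * y ∉ K ⊔ 𝐊[L] := fun h' => hyX (by
    have := mul_mem (inv_mem (mem_sup_left hx : x ∈ K ⊔ 𝐊[L])) h'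
    simpa using this)
  have hz3 : (x * y) ^ 3 ∈ 𝐊[L] := mul_pow_mem hxC hyC
    (hcm (commutator_mem_commutator (mem_sup_left hx) (mem_sup_left hy)))
    (hQ (k.idx ▸ pow_relIndex_mem' (le_normalizer_pCoreOf 2 K) hx))
    (hQ' (k'.idx ▸ pow_relIndex_mem' (le_normalizer_pCoreOf 2 K') hy))
  have f'' : FF L 𝐙[L] (zpowers (x * y) ⊔ 𝐊[L]) := by
    refine h.ff_of hz le_sup_right (sup_le (zpowers_le.2 (mul_mem (h.le_ffD hz k hK hx)
      (h.le_ffD hz k' hK' hy))) (C_le_ffD _ _))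
      (relIndex_zpowers_sup (mul_mem hxC hyC) (fun h' => hz1 (mem_sup_right h')) hz3) ?_
    rw [le_normalizer_iff_cj]
    intro j hj
    rw [cj_sup, cj_of_mem_normalizer (norm_K L (h.le hj)), MonoidHom.map_zpowers]
    refine sup_le (zpowers_le.2 ?_) le_sup_right
    change j * (x * y) * j⁻¹ ∈ _
    by_cases hjW : j ∈ 𝐂[wOf K]
    · have a := hQ (k.comm_mem_Q hj hx hjW)
      have b := hQ' (k'.comm_mem_Q hj hy ((hc j hj).1 hjW))
      have : j * (x * y) * j⁻¹ = ⁅j, x⁆ * (x * ⁅j, y⁆ * x⁻¹) * (x * y) := by group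
      rw [this]
      exact mul_mem (mem_sup_right (mul_mem a (conj_mem_of_mem_normalizer hxC b)))
        (mem_sup_left (mem_zpowers _))
    · have a := hQ (k.inv_mem_Q hj hx hx' hjW)
      have b := hQ' (k'.inv_mem_Q hj hy hy' (fun h' => hjW ((hc j hj).2 h')))
      have c := hcm (commutator_mem_commutator (inv_mem (mem_sup_left hx)) (inv_mem (mem_sup_left hy)))
      have : j * (x * y) * j⁻¹ = j * x * j⁻¹ * x * (x⁻¹ * (j * y * j⁻¹ * y) * x) * ⁅x⁻¹, y⁻¹⁆ *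
          (x * y)⁻¹ := by group
      rw [this]
      exact mul_mem (mem_sup_right (mul_mem (mul_mem a (inv_conj_mem_of_mem_normalizer hxC b)) c))
        (inv_mem (mem_sup_left (mem_zpowers _)))
  have h1 := (hz.ff h.ch).2.2 _ _ f f'' fun e => hz1 (e ▸ mem_sup_left (mem_zpowers _))
  rw [h.W_eq' hz k hK, commutator_eq_bot_iff_le_centralizer] at h1
  have h2 : x * y ∈ 𝐂[wOf K] := le_centralizer_iff.1 h1 (mem_sup_left (mem_zpowers _))
  have h3 := mul_mem h2 (inv_mem (h.le_centralizer_W hz k hK k' hK' hne hy))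
  rw [mul_inv_cancel_right] at h3
  exact hx' (k.inf_centralizer_W ▸ mem_inf.2 ⟨hx, h3⟩)

theorem commutator_le_aux {j : G} (hj : j ∈ J) (h1 : j ∈ 𝐂[wOf K]) (h2 : j ∉ 𝐂[wOf K']) :
    ⁅K', K⁆ ≤ 𝐐[L] := by
  have hB : zpowers j ≤ J := zpowers_le.2 hj
  have hn := le_normalizer_pCoreOf 2 L
  have h3 : K' ≤ ⁅K', zpowers j⁆ := k'.le_commutator (hB.trans k'.norm) fun h' =>
    h2 (k'.le_centralizer_W_of_commutator (h.two.to_le hB) (hB.trans k'.norm) h' (mem_zpowers j))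
  refine (commutator_mono h3 le_rfl).trans (CommMod.three_subgroups_mod (hK'.trans hn)
    ((hB.trans h.le).trans hn) (hK.trans hn) ?_ ?_)
  · refine (commutator_mono ?_ le_rfl).trans (Solv.commutator_le_of_le_normalizer (hK'.trans hn))
    rw [commutator_comm]
    exact (k.commutator_le_Q (zpowers_le.2 h1) (hB.trans k.norm)).trans (h.Q_le_Q hz k hK)
  · refine (commutator_mono ((commutator_mono le_sup_left le_sup_left).trans
      ((h.ff hz k hK).commutator_le (norm_Z L) (h.ff hz k' hK'))) hB).trans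
      (hz.commutator_K_two h.ch h.two h.le)

theorem le_normalizer_comp : K' ≤ 𝐍[K] := by
  by_cases hne : K = K'
  · exact hne ▸ le_normalizer
  refine h.normK_of hz k hK hK' ?_
  obtain ⟨j, hj, hj'⟩ := h.exists_sign hz k hK k' hK' hne
  by_cases h1 : j ∈ 𝐂[wOf K]
  · exact h.commutator_le_aux hz k hK k' hK' hj h1 fun h2 => hj' ⟨fun _ => h2, fun _ => h1⟩
  · rw [commutator_comm]
    refine h.commutator_le_aux hz k' hK' k hK hj ?_ h1
    by_contra h2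
    exact hj' ⟨fun h => absurd h h1, fun h => absurd h h2⟩

end comp

theorem exists_three (hz : ZN G) {X : Subgroup G} (f : FF L 𝐙[L] X) (hX : ¬ ⁅X, J⁆ ≤ 𝐊[L]) :
    ∃ A ∈ maxEA 2 J, ∃ t ∈ A, ∃ y ∈ X, y ∉ 𝐊[L] ∧ y ^ 3 = 1 ∧ t * y * t⁻¹ = y⁻¹ := by
  have hXC : X ≤ 𝐍[𝐊[L]] := f.le_L.trans (norm_K L)
  obtain ⟨x, hx, hx'⟩ : ∃ x ∈ X, x ∉ 𝐊[L] := by
    by_contra hc
    push Not at hc
    have := f.idx
    rw [relIndex_eq_one.2 hc] at this
    omega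
  obtain ⟨A, hA, t, ht, htx⟩ : ∃ A ∈ maxEA 2 J, ∃ t ∈ A, ⁅x, t⁆ ∉ 𝐊[L] := by
    by_contra hc
    push Not at hc
    apply hX
    rw [commutator_comm]
    refine (commutator_mono (h.J_self.ge.trans (thompsonSubgroupOf_eq_sSup J).le) le_rfl).trans
      (CommMod.commutator_sSup_le (fun A hA => (hA.1.trans h.le).trans (norm_K L)) fun A hA => ?_)
    rw [commutator_comm, ← sup_zpowers_eq (by rw [f.idx]; exact Nat.prime_three) f.ge hx hx']
    exact CommMod.commutator_sup_le ((zpowers_le.2 hx).trans hXC) le_normalizer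
      (CommMod.commutator_zpowers_le (hXC hx) (hc A hA))
      (Solv.commutator_le_of_le_normalizer ((hA.1.trans h.le).trans (norm_K L)))
  have htX : t ∈ 𝐍[X] := f.norm (h.le_JL (hA.1 ht))
  have ht2 : t⁻¹ = t := inv_eq_of_mul_eq_one_right (sq_eq_one_of_isEA hA.2.1 t ht)
  have h1 : ⁅x, t⁆ ∈ X := by
    have : ⁅x, t⁆ = x * (t * x⁻¹ * t⁻¹) := by group
    rw [this]
    exact mul_mem hx (conj_mem_of_mem_normalizer htX (inv_mem hx))
  have h2 : t * ⁅x, t⁆ * t⁻¹ = ⁅x, t⁆⁻¹ := by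
    calc t * ⁅x, t⁆ * t⁻¹ = t * x * t * x⁻¹ * (t⁻¹ * t⁻¹) := by group
      _ = t * x * t⁻¹ * x⁻¹ := by rw [ht2, sq_eq_one_of_isEA hA.2.1 t ht, mul_one]
      _ = ⁅x, t⁆⁻¹ := by group
  obtain ⟨n, hn⟩ := exists_pow_coprime (p := 2) ⁅x, t⁆
  set y := ⁅x, t⁆ ^ 2 ^ n with hy
  have h3 : ⁅x, t⁆ ^ 3 ∈ 𝐊[L] := f.idx ▸ pow_relIndex_mem' hXC h1
  have hyX : y ∈ X := pow_mem h1 _
  have h4 : y ∉ 𝐊[L] := fun h' => htx (by
    have hc : (2 ^ n).Coprime 3 := Nat.Coprime.pow_left n (by norm_num)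
    have := (pow_mem_iff_of_coprime_aux (K := 𝐊[L]) hc h' h3)
    exact this)
  have h5 : t * y * t⁻¹ = y⁻¹ := by rw [hy, ← conj_pow, h2, inv_pow]
  have h6 : y ^ 3 ∈ 𝐊[L] := f.idx ▸ pow_relIndex_mem' hXC hyX
  have h7 : y ^ 3 ∈ 𝐐[L] := by
    refine hz.mem_Q h.ch h6 (k := 1) ?_
    have h8 := hz.commutator_K_two h.ch h.two h.le (commutator_mem_commutator h6 (hA.1 ht))
    have : ⁅y ^ 3, t⁆ = (y ^ 3) ^ 2 ^ 1 := by
      calc ⁅y ^ 3, t⁆ = y ^ 3 * ((t * y * t⁻¹) ^ 3)⁻¹ := by rw [conj_pow]; group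
        _ = (y ^ 3) ^ 2 ^ 1 := by rw [h5]; group
    rwa [this] at h8
  refine ⟨A, hA, t, ht, y, hyX, h4, eq_one_of_isPGroup_of_coprime (isPGroup_pCoreOf 2 L) h7 ?_, h5⟩
  exact Nat.Coprime.coprime_dvd_left (orderOf_pow_dvd 3) hn

theorem exists_comp (hz : ZN G) {X : Subgroup G} (f : FF L 𝐙[L] X) (hX : ¬ ⁅X, J⁆ ≤ 𝐊[L]) :
    ∃ K, IsJC J K ∧ K ≤ L ∧ K ⊔ 𝐊[L] = X := by
  obtain ⟨A, hA, t, ht, y, hyX, hyK, hy3, hty⟩ := h.exists_three hz f hX
  have hXC : X ≤ 𝐍[𝐊[L]] := f.le_L.trans (norm_K L)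
  have hyL : y ∈ L := f.le_L hyX
  have hQn := le_normalizer_pCoreOf 2 L
  have hyQ : y ∉ 𝐐[L] := fun h' => hyK (Q_le_K L h')
  have hy1 : y ≠ 1 := fun h' => hyK (h' ▸ one_mem _)
  have hyo : orderOf y = 3 := haveI := Fact.mk Nat.prime_three; orderOf_eq_prime hy3 hy1
  have hyc : (orderOf y).Coprime 2 := by rw [hyo]; norm_num
  have hsign : ∀ j ∈ J, ⁅j, y⁆ ∈ 𝐐[L] ∨ ⁅j * t, y⁆ ∈ 𝐐[L] := fun j hj => by
    have h1 : j * y * j⁻¹ ∈ X := conj_mem_of_mem_normalizer (f.norm (h.le_JL hj)) hyX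
    rcases three_cases f.idx f.ge hXC hyX hyK h1 with h2 | h2 | h2
    · refine absurd ?_ hyK
      have := inv_conj_mem_of_mem_normalizer (norm_K L (h.le hj)) h2
      rwa [show j⁻¹ * (j * y * j⁻¹) * j = y by group] at this
    · exact Or.inl (hz.commutator_mem_Q h.ch h.two h.le hj hyL h2)
    · refine Or.inr (hz.commutator_mem_Q h.ch h.two h.le (mul_mem hj (hA.1 ht)) hyL ?_)
      have : ⁅j * t, y⁆ = (y * (j * y * j⁻¹ * y) * y⁻¹)⁻¹ := by
        calc ⁅j * t, y⁆ = j * (t * y * t⁻¹) * j⁻¹ * y⁻¹ := by group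
          _ = _ := by rw [hty]; group
      rw [this]
      exact inv_mem (conj_mem_of_mem_normalizer (norm_K L hyL) h2)
  set E := zpowers y ⊔ 𝐐[L] with hE
  have hE3 : (𝐐[L]).relIndex E = 3 := relIndex_zpowers_sup (hQn hyL) hyQ (hy3 ▸ one_mem _)
  have hEL : E ≤ L := sup_le (zpowers_le.2 hyL) (pCoreOf_le 2 L)
  have hyE : y ∈ E := mem_sup_left (mem_zpowers y)
  have hJE : J ≤ 𝐍[E] := by
    rw [le_normalizer_iff_cj]
    intro j hj
    rw [cj_sup, cj_of_mem_normalizer (hQn (h.le hj)), MonoidHom.map_zpowers]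
    refine sup_le (zpowers_le.2 ?_) le_sup_right
    change j * y * j⁻¹ ∈ _
    rcases hsign j hj with h1 | h1
    · have : j * y * j⁻¹ = ⁅j, y⁆ * y := by group
      rw [this]
      exact mul_mem (mem_sup_right h1) hyE
    · have : j * y * j⁻¹ = (⁅j * t, y⁆ * y)⁻¹ := by
        calc j * y * j⁻¹ = (j * y⁻¹ * j⁻¹)⁻¹ := by group
          _ = _ := by rw [← hty]; group
      rw [this]
      exact inv_mem (mul_mem (mem_sup_right h1) hyE)
  set K := 𝐎[2, E] with hK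
  have hyK' : y ∈ K := mem_pRes hyE hyc
  have hKE : K ≤ E := pRes_le 2 E
  have hKL : K ≤ L := hKE.trans hEL
  have hEK : E ≤ 𝐍[K] := le_normalizer_pRes 2 E
  have hJK : J ≤ 𝐍[K] := hJE.trans (normalizer_le_normalizer_pRes 2 E)
  have hKQ : K ⊔ 𝐐[L] = E :=
    le_antisymm (sup_le hKE le_sup_right) (sup_le_sup_right (zpowers_le.2 hyK') _)
  have hQE : 𝐐[E] = 𝐐[L] := by
    refine (Amal.eq_or_eq_of_relIndex_prime (by rw [hE3]; exact Nat.prime_three)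
      (pCoreOf_le_of_le hEL le_sup_right) (pCoreOf_le 2 E)).resolve_right fun h' => hy1 ?_
    exact eq_one_of_isPGroup_of_coprime (isPGroup_pCoreOf 2 E) (h'.ge hyE) hyc
  have hQK : 𝐐[K] = K ⊓ 𝐐[L] := by rw [pCoreOf_eq_inf_of_normal hKE hEK, hQE]
  have hQL : 𝐐[K] ≤ 𝐐[L] := hQK.le.trans inf_le_right
  have hidx : (𝐐[K]).relIndex K = 3 := by
    rw [hQK, inf_relIndex_left, ← relIndex_sup_of_le_normalizer (hKL.trans hQn), hKQ, hE3]
  have hyQK : y ∉ 𝐐[K] := fun h' => hyQ (hQL h')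
  have hKX : K ⊔ 𝐊[L] = X := by
    refine le_antisymm (sup_le (hKE.trans (sup_le (zpowers_le.2 hyX) ((Q_le_K L).trans f.ge))) f.ge) ?_
    rw [← sup_zpowers_eq (by rw [f.idx]; exact Nat.prime_three) f.ge hyX hyK]
    exact sup_le_sup_right (zpowers_le.2 hyK') _
  have hp : IsPGroup 2 ↥(J ⊔ 𝐐[K]) := isPGroup_sup h.two (isPGroup_pCoreOf 2 K)
    (hJK.trans (normalizer_le_normalizer_pCoreOf 2 K))
  have hpL : J ⊔ 𝐐[K] ≤ L := sup_le h.le ((pCoreOf_le 2 K).trans hKL)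
  have hsyl := h.J_eq hp le_sup_left hpL
  refine ⟨K, ⟨h.two, pRes_pRes 2 E, ?_, hidx, hsyl, le_antisymm ?_ ?_⟩, hKL, hKX⟩
  · refine le_antisymm (Solv.commutator_le_of_le_normalizer hJK) ?_
    refine (pRes_mono (?_ : E ≤ ⁅K, J⁆ ⊔ 𝐐[L])).trans (pRes_sup_le (isPGroup_pCoreOf 2 L)
      (le_normalizer_commutator (le_sup_right.trans hEK) h.Q_norm))
    refine sup_le_sup_right (zpowers_le.2 (Sym4Rec.mem_of_sq_mem_of_odd (coprime_two_iff.1 hyc) ?_)) _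
    have : y * y = ⁅y, t⁆ := by
      calc y * y = y * (t * y * t⁻¹)⁻¹ := by rw [hty, inv_inv]
        _ = ⁅y, t⁆ := by group
    rw [this]
    exact commutator_mem_commutator hyK' (hA.1 ht)
  · have hAJ : A ∈ maxEA 2 (J ⊔ 𝐐[K]) := by
      rw [← maxEA_eq_of_le hsyl.le le_sup_left]; exact hA
    refine card_le_four (wOf_isEA K) ((wOf_le_Q K).trans le_sup_right) hAJ
      ((hA.1.trans hJK).trans (normalizer_le_normalizer_wOf K)) (le_normalizer_wOf K hyK')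
      (coprime_two_iff.1 hyc) ?_ ht hty fun a ha => ?_
    · have e : wOf K = ⁅ΩZ[2, 𝐐[K]], zpowers y⁆ := by
        rw [← commutator_sup_centralizer (CP.le_centralizer_omegaZ 𝐐[K])
          ((zpowers_le.2 hyK').trans (le_normalizer.trans (normalizer_le_normalizer_omegaQ K))),
          sup_zpowers_eq (by rw [hidx]; exact Nat.prime_three) (pCoreOf_le 2 K) hyK' hyQK]
        rfl
      have := (CP.omegaZ_isEA (p := 2) 𝐐[K]).1
      have h1 := Solv.coprime_centralizer_inf_commutator (zpowers y) ΩZ[2, 𝐐[K]]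
        ((zpowers_le.2 hyK').trans (le_normalizer.trans (normalizer_le_normalizer_omegaQ K)))
        (CP.coprime_card_zpowers (CP.isPGroup_omegaZ _) hyc)
      rw [← le_bot_iff, ← h1, ← e]
      exact le_inf (inf_le_inf_right _ (wOf_le_omega K)) inf_le_left
    · have key : ∀ j ∈ J, ⁅j, y⁆ ∈ 𝐐[L] → ⁅j, y⁆ ∈ 𝐂[wOf K] := fun j hj h1 => by
        refine Q_le_centralizer_wOf K (hQK ▸ mem_inf.2 ⟨?_, h1⟩)
        exact mul_mem (conj_mem_of_mem_normalizer (hJK hj) hyK') (inv_mem hyK')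
      exact (hsign a (hA.1 ha)).imp (key a (hA.1 ha)) (key _ (hA.1 (mul_mem ha ht)))
  · rw [← (hz.ff h.ch).2.1 X f, ← hKX, commutator_sup_centralizer inf_le_right (hKL.trans (norm_Z L))]
    exact card_le_card_of_le (commutator_le_wOf (pRes_pRes 2 E) (CP.omegaZ_isEA _)
      ((Z_le_Q L).trans (le_sup_right.trans hEK)) (hKL.trans (norm_Z L))
      (hQL.trans (CP.le_centralizer_omegaZ _)))

theorem ff_norm (hz : ZN G) {X : Subgroup G} (f : FF L 𝐙[L] X) (hX : ⁅X, J⁆ ≤ 𝐊[L]) :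
    X ≤ 𝐍[J] := by
  have h1 : X ≤ 𝐍[J ⊔ 𝐊[L]] := by
    rw [le_normalizer_iff_cj]
    intro g hg
    rw [cj_sup, cj_of_mem_normalizer (norm_K L (f.le_L hg))]
    refine sup_le (cj_le_iff_forall.2 fun b hb => ?_) le_sup_right
    have : g * b * g⁻¹ = ⁅g, b⁆ * b := by group
    rw [this]
    exact mul_mem (mem_sup_right (hX (commutator_mem_commutator hg hb))) (mem_sup_left hb)
  have h2 : J ≤ 𝐐[J ⊔ 𝐊[L]] := le_pCoreOf h.two le_sup_left (sup_le le_normalizer (h.K_norm hz))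
  have h3 := h.J_eq (isPGroup_pCoreOf 2 _) h2 ((pCoreOf_le 2 _).trans (sup_le h.le inf_le_left))
  rw [← h3]
  exact (h1.trans (normalizer_le_normalizer_pCoreOf 2 _)).trans
    (normalizer_le_normalizer_thompsonSubgroupOf _)

/-- `L` is generated by its components and `N_L(J)`. -/
theorem le_of (hz : ZN G) {M : Subgroup G} (h1 : ∀ K, IsJC J K → K ≤ L → K ≤ M)
    (h2 : L ⊓ 𝐍[J] ≤ M) : L ≤ M := by
  have h3 : 𝐊[L] ≤ M := (le_inf inf_le_left (h.K_norm hz)).trans h2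
  refine h.frattini.trans (sup_le ((hz.ff h.ch).1.trans (sup_le h3 (sSup_le fun X f => ?_))) h2)
  by_cases hX : ⁅X, J⁆ ≤ 𝐊[L]
  · exact (le_inf (FF.le_L f) (h.ff_norm hz f hX)).trans h2
  · obtain ⟨K, k, hK, rfl⟩ := h.exists_comp hz f hX
    exact sup_le (h1 K k hK) h3

theorem exists_not_le (hz : ZN G) {M : Subgroup G} (h1 : ¬ L ≤ M) (h2 : L ⊓ 𝐍[J] ≤ M) :
    ∃ K, IsJC J K ∧ K ≤ L ∧ ¬ K ≤ M := by
  by_contra hc
  push Not at hc
  exact h1 (h.le_of hz hc h2)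

/-- `L` permutes its components. -/
theorem cj_comp (hz : ZN G) {K : Subgroup G} (k : IsJC J K) (hK : K ≤ L) {g : G} (hg : g ∈ L) :
    IsJC J cj(g, K) := by
  let P : Subgroup G :=
    { carrier := {g | g ∈ L ∧ ∀ K, K ≤ L → (IsJC J K ↔ IsJC J cj(g, K))}
      one_mem' := ⟨one_mem _, fun K _ => by rw [cj_one]⟩
      mul_mem' := by
        rintro a b ⟨ha, ha'⟩ ⟨hb, hb'⟩
        exact ⟨mul_mem ha hb, fun K hK => by
          rw [cj_mul, hb' K hK, ha' _ (cj_le_of_mem hK hb)]⟩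
      inv_mem' := by
        rintro a ⟨ha, ha'⟩
        exact ⟨inv_mem ha, fun K hK => by
          rw [ha' _ (cj_le_of_mem hK (inv_mem ha)), cj_cj_inv]⟩ }
  have hP : L ≤ P := by
    refine h.le_of hz (fun K' k' hK' g hg => ⟨hK' hg, fun K hK => ⟨fun k => ?_, fun k => ?_⟩⟩)
      fun g hg => ⟨hg.1, fun K hK => ⟨fun k => k.cj_of_mem hg.2, fun k => ?_⟩⟩
    · rwa [cj_of_mem_normalizer (h.le_normalizer_comp hz k hK k' hK' hg)]
    · have := h.le_normalizer_comp hz k (cj_le_of_mem hK (hK' hg)) k' hK' (inv_mem hg)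
      rwa [← cj_inv_cj g K, cj_of_mem_normalizer this]
    · have := k.cj_of_mem (inv_mem hg.2)
      rwa [cj_inv_cj] at this
  exact ((hP hg).2 K hK).1 k

theorem mem_normalizer_of_inf (hz : ZN G) {K : Subgroup G} (k : IsJC J K) (hK : K ≤ L) {g : G}
    (hg : g ∈ L) (h1 : wOf K ⊓ cj(g, wOf K) ≠ ⊥) : g ∈ 𝐍[K] := by
  by_contra hc
  refine h1 ?_
  rw [← wOf_cj]
  exact h.W_inf_W hz k hK (h.cj_comp hz k hK hg) (cj_le_of_mem hK hg) fun e => hc (cj_eq_iff.1 e.symm)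

theorem le_normalizer_of_center (hz : ZN G) {K T : Subgroup G} (k : IsJC J K) (hK : K ≤ L)
    (hT : T ≤ L) (h1 : 𝐂[T] ⊓ wOf K ≠ ⊥) : T ≤ 𝐍[K] := fun g hg =>
  h.mem_normalizer_of_inf hz k hK (hT hg) fun h2 => h1 (le_bot_iff.1 (h2 ▸ le_inf inf_le_right
    fun w hw => mem_cj.2 (by
      rw [mul_assoc, ← hw.1 g hg, inv_mul_cancel_left]; exact hw.2)))

end Ov

end Cfsg.Agent.PLocal.JC
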