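import Mathlib
import Cfsg.Agent.PLocal.JCompOv

/-!
The family `𝒦₀` of `J(T)`-components (Kurzweil-Stellmacher 12.2).
-/

set_option autoImplicit false

namespace Cfsg.Agent.PLocal.JC

open Cfsg Subgroup Cfsg.Agent.PLocal.Amb Cfsg.Agent.Grp
open scoped Cfsg.Agent.PLocal.CP commutatorElement

variable {G : Type*} [Group G] [Finite G]

omit [Finite G] in
theorem IsJC.isTwoLocal {J K : Subgroup G} (k : IsJC J K) : IsTwoLocal 𝐍[wOf K] :=
  isTwoLocal_normalizer (wOf_two K) k.W_ne_bot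

theorem mem_zero_iff (hz : ZN G) {T K : Subgroup G} (hT : IsPGroup 2 T) :
    K ∈ jComponentsZero T ↔ IsJC 𝐉[T] K ∧ Ov 𝐉[T] 𝐍[wOf K] := by
  constructor
  · rintro ⟨h1, h2⟩
    have k := (isJComponent_iff hT).1 h1
    obtain ⟨S, hS, hJS⟩ := exists_isSyl_ge k.two k.normW
    exact ⟨k, hz.ch k.isTwoLocal, S, hS, h2 S hJS (isSylowTwoIn_iff.2 hS)⟩
  · rintro ⟨k, o⟩
    exact ⟨(isJComponent_iff hT).2 k, fun S h1 h2 => o.J_eq h2.2.1 h1 h2.1⟩

theorem normalizer_eq (hz : ZN G) {J K : Subgroup G} (k : IsJC J K) (o : Ov J 𝐍[wOf K]) :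
    𝐍[K] = 𝐍[wOf K] :=
  le_antisymm (normalizer_le_normalizer_wOf K) fun g hg =>
    o.mem_normalizer_of_inf hz k (le_normalizer_wOf K) hg (by
      rw [cj_of_mem_normalizer hg, inf_idem]; exact k.W_ne_bot)

theorem isJC_of_le (hz : ZN G) {J K : Subgroup G} (k : IsJC J K) (o : Ov J 𝐍[wOf K]) {g : G}
    (h : cj(g, J) ≤ 𝐍[wOf K]) : IsJC cj(g, J) K := by
  obtain ⟨S, hS, e⟩ := o.syl
  obtain ⟨x, hx, hle⟩ := hS.exists_le_cj (isPGroup_cj g k.two) h
  have h1 : 𝐉[cj(g, S)] = 𝐉[cj(x, S)] := J_eq_of_le_cj rfl (by rw [J_cj, e]; exact hle)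
  rw [J_cj, J_cj, e] at h1
  have := k.cj x
  rwa [← h1, cj_of_mem_normalizer ((normalizer_eq hz k o).ge hx)] at this

theorem IsJC.isPRed {J K : Subgroup G} (k : IsJC J K) : CP.IsPRed 2 (wOf K) K :=
  ⟨wOf_le K, le_normalizer_wOf K, wOf_isEA K, fun D h1 h2 h3 =>
    (le_pCoreOf (isPGroup_of_pRes_le (isPGroup_pCoreOf 2 K)
      (k.inf_centralizer_W ▸ le_inf ((pRes_le 2 D).trans h1) h3)) h1 h2).trans (Q_le_centralizer_wOf K)⟩

theorem FF.inf_centralizer {L V X : Subgroup G} (f : FF L V X) (hV : IsElementaryAbelian 2 V)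
    (hn : L ≤ 𝐍[V]) : ⁅V, X⁆ ⊓ 𝐂[X] = ⊥ := by
  have hXC : X ≤ 𝐍[L ⊓ 𝐂[V]] := f.le_L.trans (norm_C hn)
  obtain ⟨x, hx, hx'⟩ : ∃ x ∈ X, x ∉ L ⊓ 𝐂[V] := by
    by_contra hc
    push Not at hc
    have := f.idx
    rw [relIndex_eq_one.2 hc] at this
    omega
  obtain ⟨n, ho⟩ := exists_pow_coprime (p := 2) x
  have hy : x ^ 2 ^ n ∈ X := pow_mem hx _
  have hy' : x ^ 2 ^ n ∉ L ⊓ 𝐂[V] := fun h' => hx' (pow_mem_iff_of_coprime_aux
    (Nat.Coprime.pow_left n (by norm_num)) h' (f.idx ▸ pow_relIndex_mem' hXC hx))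
  have hyV : zpowers (x ^ 2 ^ n) ≤ 𝐍[V] := (zpowers_le.2 hy).trans (f.le_L.trans hn)
  have e := sup_zpowers_eq (by rw [f.idx]; exact Nat.prime_three) f.ge hy hy'
  have := hV.1
  have h1 := Solv.coprime_centralizer_inf_commutator _ V hyV
    (CP.coprime_card_zpowers (isEA_isPGroup hV) ho)
  rw [← commutator_sup_centralizer (C := L ⊓ 𝐂[V]) inf_le_right hyV, e] at h1
  rw [← le_bot_iff, ← h1]
  exact le_inf (inf_le_inf (Solv.commutator_le_of_le_normalizer (f.le_L.trans hn))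
    (centralizer_anti (zpowers_le.2 hy))) inf_le_left

/-- The Thompson subgroup of a solvable group normalizes `W_K` for a subnormal component `K`. -/
theorem J_le_normalizer_W {J K R : Subgroup G} (hs : Group.IsSolvable R) (k : IsJC J K)
    (hK : SnIn K R) : 𝐉[R] ≤ 𝐍[wOf K] := by
  set U := 𝐘[2, R] with hU
  have hr : CP.IsPRed 2 U R := CP.isPRed_Y 2 R
  have hQU : 𝐐[K] ≤ 𝐂[U] := (CP.pCoreOf_le_of_snIn hK).trans hr.pCoreOf_le
  have hKU : K ≤ 𝐍[U] := hK.le.trans hr.norm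
  have hW : ⁅U, K⁆ = wOf K := by
    refine (k.irred (commutator_le_wOf k.res hr.ea ?_ hKU hQU)
      (Solv.le_normalizer_commutator_right U K)).resolve_left fun h' => k.not_le_centralizer_W ?_
    · have := CP.pCoreOf_le_normalizer_pRes (p := 2) hK
      rw [k.res] at this
      exact hr.le_pCoreOf.trans this
    · have h1 : K ≤ K ⊓ 𝐂[U] :=
        le_inf le_rfl (le_centralizer_iff.1 (commutator_eq_bot_iff_le_centralizer.1 h'))
      rw [hU, ← CP.inf_centralizer_Y_of_snIn hK] at h1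
      exact (h1.trans inf_le_right).trans (centralizer_anti k.isPRed.le_Y)
  obtain ⟨-, h2, h3, h4⟩ := ff_amb hs hr
  obtain ⟨x, hx, hx', -⟩ := k.exists_odd
  have hxR : x ∈ R := hK.le hx
  have hUc := (isEA_iff.1 hr.ea).1
  have hVU : ∀ X, FF R U X → ⁅U, X⁆ ≤ U := fun X f =>
    Solv.commutator_le_of_le_normalizer (f.le_L.trans hr.norm)
  have hcj : ∀ X, cj(x, ⁅U, X⁆) = ⁅U, cj(x, X)⁆ := fun X => by
    rw [← commutator_cj, cj_of_mem_normalizer (hKU hx)]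
  have hcW : ∀ u ∈ U, ⁅x, u⁆ ∈ wOf K := fun u hu => by
    rw [← hW, commutator_comm]; exact commutator_mem_commutator hx hu
  have hx3 : x ^ 3 ∈ R ⊓ 𝐂[U] :=
    ⟨pow_mem hxR 3, hQU (k.idx ▸ pow_relIndex_mem' (le_normalizer_pCoreOf 2 K) hx)⟩
  have hnorm : ∀ X, FF R U X → x ∈ 𝐍[X] := fun X f => by
    by_contra hc
    have f1 := f.cj_of_mem hr.norm hxR
    have f2 := f1.cj_of_mem hr.norm hxR
    have e3 : cj(x, cj(x, cj(x, X))) = X := by
      rw [← cj_mul, ← cj_mul, show x * x * x = x ^ 3 by simp [pow_succ], cj_of_mem (f.ge hx3)]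
    have n1 : cj(x, X) ≠ X := fun e => hc (cj_eq_iff.1 e)
    have n2 : cj(x, X) ≠ cj(x, cj(x, X)) := fun e => n1 (cj_inj.1 e).symm
    have n3 : X ≠ cj(x, cj(x, X)) := fun e => n1 (by rw [← e] at e3; exact e3)
    have c1 : ⁅U, cj(x, X)⁆ ≤ 𝐂[X] := commutator_eq_bot_iff_le_centralizer.1 (h3 _ _ f1 f n1)
    have hb := f.inf_centralizer hr.ea hr.norm
    have hfix : ∀ v ∈ ⁅U, X⁆, ⁅x, v⁆ ∈ 𝐂[X] → v = 1 := fun v hv h' => by
      have h5 : x * v * x⁻¹ ∈ 𝐂[X] := c1 (hcj X ▸ conj_mem_cj x hv)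
      have h6 := mul_mem (inv_mem h') h5
      rw [show ⁅x, v⁆⁻¹ * (x * v * x⁻¹) = v by group] at h6
      exact mem_bot.1 (hb ▸ mem_inf.2 ⟨hv, h6⟩)
    let θ : ↥⁅U, X⁆ → wOf K := fun v => ⟨⁅x, (v : G)⁆, hcW v (hVU X f v.2)⟩
    have hθ : Function.Injective θ := fun a b hab => by
      have h5 : ⁅x, (a : G)⁆ = ⁅x, (b : G)⁆ := congrArg Subtype.val hab
      have h6 := hfix ((b : G)⁻¹ * a) (mul_mem (inv_mem b.2) a.2) (by
        have h7 := hUc _ (hVU X f a.2) _ (inv_mem (hVU X f b.2))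
        have : ⁅x, (b : G)⁻¹ * a⁆ = 1 := by
          have h8 := hUc _ (conj_mem_of_mem_normalizer (hKU hx) (inv_mem (hVU X f b.2))) _
            (hVU X f b.2)
          calc ⁅x, (b : G)⁻¹ * a⁆ = x * (b : G)⁻¹ * x⁻¹ * ⁅x, (a : G)⁆ * b := by group
            _ = 1 := by rw [h5]; group
        rw [this]; exact one_mem _)
      exact Subtype.ext (inv_mul_eq_one.1 h6).symm
    have hsurj := (hθ.bijective_of_nat_card_le (by rw [k.card, h2 X f])).2
    have c2 : wOf K ≤ 𝐂[cj(x, cj(x, X))] := fun w hw => by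
      obtain ⟨v, hv⟩ := hsurj ⟨w, hw⟩
      have h5 : ⁅x, (v : G)⁆ = w := congrArg Subtype.val hv
      rw [← h5]
      exact mul_mem (commutator_eq_bot_iff_le_centralizer.1 (h3 _ _ f1 f2 n2)
        (hcj X ▸ conj_mem_cj x v.2))
        (inv_mem (commutator_eq_bot_iff_le_centralizer.1 (h3 _ _ f f2 n3) v.2))
    have c3 : wOf K ≤ 𝐂[X] := by
      have := cj_mono x c2
      rwa [← centralizer_cj, e3, cj_of_mem_normalizer (le_normalizer_wOf K hx)] at this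
    obtain ⟨v, hv, hv1⟩ := exists_ne_one (ne_bot_of_card (h2 X f) (by norm_num))
    exact hv1 (hfix v hv (c3 (hcW v (hVU X f hv))))
  by_cases hc : ∀ X, FF R U X → K ≤ 𝐂[⁅U, X⁆]
  · refine le_trans (le_centralizer_iff.1 ?_) (centralizer_le_normalizer' _)
    have hn : R ≤ 𝐍[U ⊓ 𝐂[𝐉[R]]] := le_normalizer_inf hr.norm
      (le_normalizer_centralizer (le_normalizer_thompsonSubgroupOf R))
    have h5 : ffW R U ≤ 𝐂[K] := iSup₂_le fun X f => le_centralizer_iff.1 (hc X f)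
    have h6 : ffW R U ≤ U := iSup₂_le fun X f => hVU X f
    rw [← hW]
    refine ((commutator_mono h4 le_rfl).trans (CommMod.commutator_sup_le le_normalizer
      ((h6.trans hr.le).trans hn) (Solv.commutator_le_of_le_normalizer (hK.le.trans hn)) ?_)).trans
      inf_le_right
    rw [commutator_eq_bot_iff_le_centralizer.2 h5]; exact bot_le
  · push Not at hc
    obtain ⟨X, f, hf⟩ := hc
    have h5 : K ≤ 𝐍[⁅U, X⁆] := k.le_of_mem ((hQU.trans (centralizer_anti (hVU X f))).trans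
      (centralizer_le_normalizer' _)) hx hx' (by
        rw [← cj_eq_iff, hcj, cj_of_mem_normalizer (hnorm X f)])
    have h6 : wOf K ≤ ⁅U, X⁆ := k.le_of_inf_ne_bot (fun h' => hf (by
      rw [le_centralizer_iff, ← commutator_eq_bot_iff_le_centralizer, ← le_bot_iff, ← h']
      exact le_inf (hW ▸ commutator_mono (hVU X f) le_rfl)
        (Solv.commutator_le_of_le_normalizer h5))) h5
    rw [eq_of_le_of_card_le h6 (by rw [k.card, h2 X f])]
    exact le_normalizer_commutator ((thompsonSubgroupOf_le R).trans hr.norm) f.norm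

theorem Ov.isJC_of_snIn (hz : ZN G) {J L K : Subgroup G} (o : Ov J L) (hK : K ≤ L)
    (hs : SnIn K (K ⊔ J)) {g : G} (k : IsJC cj(g, J) K) (o' : Ov cj(g, J) 𝐍[wOf K]) : IsJC J K := by
  have hR : K ⊔ J ≤ L := sup_le hK o.le
  have := hz.solvable o.ch
  have h1 := J_le_normalizer_W (solvable_of_solvable_injective (inclusion_injective hR)) k hs
  have h2 : J ≤ 𝐉[K ⊔ J] := o.J_self.ge.trans (thompsonSubgroupOf_le_iff.2 fun A hA =>
    le_thompsonSubgroupOf (mem_maxEA_of_le (o.maxEA_subset hA) (hA.1.trans le_sup_right) hR))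
  have h3 := isJC_of_le hz k o' (g := g⁻¹) (by rw [cj_inv_cj]; exact h2.trans h1)
  rwa [cj_inv_cj] at h3

end Cfsg.Agent.PLocal.JC
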