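import Mathlib
import Cfsg.Agent.PLocal.JCompZero

/-!
Maximal straddling 2-subgroups (Kurzweil-Stellmacher 12.3).
-/

set_option autoImplicit false

namespace Cfsg.Agent.PLocal.JC

open Cfsg Subgroup Cfsg.Agent.PLocal.Amb Cfsg.Agent.Grp
open scoped Cfsg.Agent.PLocal.CP commutatorElement

variable {G : Type*} [Group G]

theorem maxElemAbelianOrder_eq {T A : Subgroup G} (hA : A ∈ maxEA 2 T) :
    maxElemAbelianOrder T = Nat.card A := by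
  have e : (fun A : Subgroup T => Nat.card A) '' maxElementaryAbelianSubgroups 2 T =
      {Nat.card A} := by
    ext n
    constructor
    · rintro ⟨B, hB, rfl⟩
      have h1 : B.map T.subtype ∈ maxEA 2 T :=
        image_map_subtype_maxElementaryAbelianSubgroups (p := 2) T ▸ Set.mem_image_of_mem _ hB
      exact (card_map_of_injective B T.subtype_injective).symm.trans (card_eq_of_mem_maxEA h1 hA)
    · rintro rfl
      rw [← image_map_subtype_maxElementaryAbelianSubgroups] at hA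
      obtain ⟨B, hB, rfl⟩ := hA
      exact ⟨B, hB, (card_map_of_injective B T.subtype_injective).symm⟩
  rw [maxElemAbelianOrder, e, csSup_singleton]

/-- `M` is a 2-local subgroup containing `N(J(S))` for the Sylow 2-subgroup `S`. -/
structure Sit (S M : Subgroup G) : Prop where
  zn : ZN G
  syl : IsSyl 2 S ⊤
  loc : IsTwoLocal M
  norm : 𝐍[𝐉[S]] ≤ M

theorem Sit.le {S M : Subgroup G} (h : Sit S M) : S ≤ M :=
  (le_normalizer_thompsonSubgroupOf S).trans h.norm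

theorem Sit.cj {S M : Subgroup G} (h : Sit S M) {g : G} (hg : g ∈ M) : Sit cj(g, S) M :=
  ⟨h.zn, h.syl.cj_of_mem (mem_top g), h.loc, by
    rw [J_cj, normalizer_cj]; exact cj_le_of_mem h.norm hg⟩

/-- `L` contains every 2-local subgroup containing `P` -/
structure Top (P L : Subgroup G) : Prop where
  loc : IsTwoLocal L
  le : P ≤ L
  top : ∀ L', IsTwoLocal L' → P ≤ L' → L' ≤ L

theorem Top.isMax {P L : Subgroup G} (h : Top P L) : IsMaximalTwoLocal L :=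
  ⟨h.loc, fun N hN hle => le_antisymm (h.top N hN (h.le.trans hle)) hle⟩

theorem Top.eq {P L L' : Subgroup G} (h : Top P L) (h' : IsMaximalTwoLocal L') (hle : P ≤ L') :
    L' = L := (h'.2 L h.loc (h.top L' h'.1 hle)).symm

theorem Top.mono {P P' L : Subgroup G} (h : Top P L) (h1 : P ≤ P') (h2 : P' ≤ L) : Top P' L :=
  ⟨h.loc, h2, fun L' hL' hle => h.top L' hL' (h1.trans hle)⟩

theorem Top.cj {P L : Subgroup G} (h : Top P L) (g : G) : Top cj(g, P) cj(g, L) :=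
  ⟨isTwoLocal_cj h.loc g, cj_mono g h.le, fun L' hL' hle =>
    le_cj_iff.2 (h.top _ (isTwoLocal_cj hL' g⁻¹) (cj_le_iff.1 hle))⟩

theorem normalizer_le_of_max {L : Subgroup G} (h : IsMaximalTwoLocal L) : 𝐍[L] ≤ L :=
  (normalizer_le_normalizer_pCoreOf 2 L).trans (h.2 _ (isTwoLocal_normalizer (isPGroup_pCoreOf 2 L)
    (Q_ne_bot_of_isTwoLocal h.1)) (le_normalizer_pCoreOf 2 L)).le

theorem Top.mem_of_le_cj {P L : Subgroup G} (h : Top P L) {g : G} (hg : P ≤ cj(g, L)) : g ∈ L :=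
  normalizer_le_of_max h.isMax (cj_eq_iff.1 (h.eq (by
    refine ⟨isTwoLocal_cj h.loc g, fun N hN hle => ?_⟩
    rw [← h.isMax.2 _ (isTwoLocal_cj hN g⁻¹) (cj_le_iff.1 hle), cj_cj_inv]) hg))

variable [Finite G]

theorem Top.centralizer_le {P L : Subgroup G} (h : Top P L) {x : G} (hx : x * x = 1) (h1 : x ≠ 1)
    (hc : x ∈ 𝐂[P]) : centralizer ({x} : Set G) ≤ L :=
  h.top _ (isTwoLocal_centralizer hx h1) fun g hg => mem_centralizer_singleton_iff.2 (hc g hg)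

theorem Sit.exists_ge {S M T : Subgroup G} (h : Sit S M) (hT : IsPGroup 2 T) (hTM : T ≤ M) :
    ∃ S', Sit S' M ∧ T ≤ S' := by
  obtain ⟨g, hg, hle⟩ := (h.syl.mono h.le le_top).exists_le_cj hT hTM
  exact ⟨_, h.cj hg, hle⟩

theorem max_le {M T T' : Subgroup G} (hT : T ∈ maxStraddlingTwoSubgroups M)
    (hT' : T' ∈ straddlingTwoSubgroups M) (hle : 𝐉[T] ≤ T') :
    𝐉[T'] = 𝐉[T] ∧ Nat.card T' ≤ Nat.card T := by
  obtain ⟨A, hA⟩ := maxEA_nonempty 2 T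
  obtain ⟨B, hB⟩ := maxEA_nonempty 2 T'
  obtain ⟨h1, h2⟩ := hT.2 T' hT'
  rw [maxElemAbelianOrder_eq hA, maxElemAbelianOrder_eq hB] at h1 h2
  obtain ⟨h3, h4⟩ := h2 (le_antisymm h1 (hB.2.2 A ((le_thompsonSubgroupOf hA).trans hle) hA.2.1))
  have h5 := eq_of_le_of_card_le (J_le_J_of_card hle hA hB h1) h3
  exact ⟨h5.symm, h4 (by rw [h5])⟩

theorem J_ne_bot {T : Subgroup G} (hT : IsPGroup 2 T) (h1 : T ≠ ⊥) : 𝐉[T] ≠ ⊥ :=
  thompsonSubgroupOf_ne_bot_of_isPGroup hT h1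

theorem J_two {T : Subgroup G} (hT : IsPGroup 2 T) : IsPGroup 2 𝐉[T] :=
  hT.to_le (thompsonSubgroupOf_le T)

namespace Sit
variable {S M T : Subgroup G} (h : Sit S M) (hT : T ∈ maxStraddlingTwoSubgroups M)
include h hT

theorem normJ : 𝐍[𝐉[T]] ≤ M := by
  by_contra hc
  obtain ⟨S', h', hle⟩ := h.exists_ge hT.1.1 hT.1.2.2.1
  have h1 : T ≤ S' ⊓ 𝐍[𝐉[T]] := le_inf hle (le_normalizer_thompsonSubgroupOf T)
  have h2 := (max_le hT (T' := S' ⊓ 𝐍[𝐉[T]]) ⟨h'.syl.pgrp.to_le inf_le_left,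
    fun e => hT.1.2.1 (le_bot_iff.1 (e ▸ h1)), inf_le_left.trans h'.le, _,
    isTwoLocal_normalizer (J_two hT.1.1) (J_ne_bot hT.1.1 hT.1.2.1), inf_le_right, hc⟩
    ((thompsonSubgroupOf_le T).trans h1)).2
  have h3 := eq_of_le_of_card_le h1 h2
  have h4 : T = S' := eq_of_inf_normalizer_le h'.syl.pgrp hle
    ((inf_le_inf_left _ (normalizer_le_normalizer_thompsonSubgroupOf T)).trans h3.ge)
  exact hc (h4 ▸ h'.norm)

theorem mem_str {L T₀ : Subgroup G} (hL : IsTwoLocal L) (hLM : ¬ L ≤ M) (hT₀ : IsPGroup 2 T₀)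
    (h0 : T₀ ≤ L) (hJ : 𝐉[T] ≤ T₀) : T₀ ∈ straddlingTwoSubgroups M ∧ 𝐉[T₀] = 𝐉[T] := by
  have h1 : 𝐉[T] ≤ T₀ ⊓ M := le_inf hJ ((thompsonSubgroupOf_le T).trans hT.1.2.2.1)
  have h2 : T₀ ⊓ M ∈ straddlingTwoSubgroups M := ⟨hT₀.to_le inf_le_left,
    fun e => J_ne_bot hT.1.1 hT.1.2.1 (le_bot_iff.1 (e ▸ h1)), inf_le_right, L, hL,
    inf_le_left.trans h0, hLM⟩
  have h3 := (max_le hT h2 h1).1
  have h4 : T₀ ⊓ M = T₀ := eq_of_inf_normalizer_le hT₀ inf_le_left (inf_le_inf_left _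
    ((normalizer_le_normalizer_thompsonSubgroupOf _).trans (h3 ▸ h.normJ hT)))
  rw [h4] at h2 h3
  exact ⟨h2, h3⟩

theorem ov {L : Subgroup G} (hL : IsTwoLocal L) (hLM : ¬ L ≤ M) (hJ : 𝐉[T] ≤ L) : Ov 𝐉[T] L := by
  obtain ⟨T₀, h0, h1⟩ := exists_isSyl_ge (J_two hT.1.1) hJ
  exact ⟨h.zn.ch hL, T₀, h0, (h.mem_str hT hL hLM h0.pgrp h0.le h1).2⟩

theorem isSyl {L : Subgroup G} (hL : IsTwoLocal L) (hLM : ¬ L ≤ M) (hle : T ≤ L) : IsSyl 2 T L := by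
  obtain ⟨T₀, h0, h1⟩ := exists_isSyl_ge hT.1.1 hle
  have h2 := (thompsonSubgroupOf_le (p := 2) T).trans h1
  exact h0.of_card_ge hT.1.1 hle (max_le hT (h.mem_str hT hL hLM h0.pgrp h0.le h2).1 h2).2

theorem not_le_Q {L : Subgroup G} (hL : IsTwoLocal L) (hLM : ¬ L ≤ M) : ¬ 𝐉[T] ≤ 𝐐[L] := fun hle => by
  have o := h.ov hT hL hLM (hle.trans (pCoreOf_le 2 L))
  refine hLM (le_trans ?_ (h.normJ hT))
  rw [← o.J_eq (isPGroup_pCoreOf 2 L) hle (pCoreOf_le 2 L)]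
  exact (le_normalizer_pCoreOf 2 L).trans (normalizer_le_normalizer_thompsonSubgroupOf _)

theorem exists_comp {L : Subgroup G} (hL : IsTwoLocal L) (hLM : ¬ L ≤ M) (hJ : 𝐉[T] ≤ L) :
    ∃ K, IsJC 𝐉[T] K ∧ K ≤ L ∧ ¬ K ≤ M :=
  (h.ov hT hL hLM hJ).exists_not_le h.zn hLM (inf_le_right.trans (h.normJ hT))

theorem ovW {K : Subgroup G} (k : IsJC 𝐉[T] K) (hK : ¬ K ≤ M) : Ov 𝐉[T] 𝐍[wOf K] :=
  h.ov hT k.isTwoLocal (fun h' => hK ((le_normalizer_wOf K).trans h')) k.normW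

theorem exists_outside : ∃ K, IsJC 𝐉[T] K ∧ ¬ K ≤ M ∧ 𝐐[K ⊔ T] ≠ ⊥ := by
  obtain ⟨L, hL, h1, h2⟩ := hT.1.2.2.2
  obtain ⟨K, k, h3, h4⟩ := h.exists_comp hT hL h2 ((thompsonSubgroupOf_le T).trans h1)
  exact ⟨K, k, h4, fun e => Q_ne_bot_of_isTwoLocal hL (le_bot_iff.1 (e ▸ pCoreOf_le_of_le
    (sup_le h3 h1) ((h.isSyl hT hL h2 h1).pCoreOf_le.trans le_sup_right)))⟩

theorem exists_top {K : Subgroup G} (k : IsJC 𝐉[T] K) (hK : ¬ K ≤ M) :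
    ∃ L, Top (K ⊔ 𝐉[T]) L := by
  have o := h.ovW hT k hK
  set 𝒮 : Set (Subgroup G) := {K' | IsJC 𝐉[T] K' ∧ ¬ K' ≤ M ∧ K' ≤ 𝐍[wOf K]} with h𝒮
  set E : Subgroup G := ⨆ K' ∈ 𝒮, wOf K' with hE
  have h1 : E ≤ 𝐐[𝐍[wOf K]] := iSup₂_le fun K' hK' =>
    (o.W_le h.zn hK'.1 hK'.2.2).trans (Z_le_Q _)
  have h2 : wOf K ≤ E :=
    le_iSup₂_of_le (f := fun K' (_ : K' ∈ 𝒮) => wOf K') K ⟨k, hK, le_normalizer_wOf K⟩ le_rfl
  have h3 : ∀ g : G, (∀ K' ∈ 𝒮, cj(g, K') ∈ 𝒮) → g ∈ 𝐍[E] := fun g hg => by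
    refine mem_normalizer_of_cj_le (cj_le_iff.2 (iSup₂_le fun K' hK' => cj_le_iff.1 ?_))
    rw [← wOf_cj]
    exact le_iSup₂_of_le (f := fun K' (_ : K' ∈ 𝒮) => wOf K') _ (hg K' hK') le_rfl
  have key : ∀ L', IsTwoLocal L' → K ⊔ 𝐉[T] ≤ L' → L' ≤ 𝐍[E] := fun L' hL' hle => by
    have hKL : K ≤ L' := le_sup_left.trans hle
    have o' := h.ov hT hL' (fun h' => hK (hKL.trans h')) (le_sup_right.trans hle)
    refine o'.le_of h.zn (fun K'' k'' hK'' g hg => h3 g fun K' hK' => ?_) fun g hg =>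
      h3 g fun K' hK' => ?_
    · rwa [cj_of_mem_normalizer (o.le_normalizer_comp h.zn hK'.1 hK'.2.2 k''
        ((o'.le_normalizer_comp h.zn k hKL k'' hK'').trans (normalizer_le_normalizer_wOf K)) hg)]
    · have hgM : g ∈ M := h.normJ hT hg.2
      have hM : ∀ U : Subgroup G, ¬ U ≤ M → ¬ cj(g, U) ≤ M := fun U hU h' =>
        hU ((cj_le_iff.1 h').trans (cj_of_mem (inv_mem hgM)).le)
      have k1 := k.cj_of_mem hg.2
      have k2 := hK'.1.cj_of_mem hg.2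
      refine ⟨k2, hM _ hK'.2.1, le_trans ?_ (normalizer_le_normalizer_wOf K)⟩
      refine (h.ovW hT k1 (hM _ hK)).le_normalizer_comp h.zn k
        ((o'.le_normalizer_comp h.zn k1 (cj_le_of_mem hKL hg.1) k hKL).trans
          (normalizer_le_normalizer_wOf _)) k2 ?_
      rw [wOf_cj, normalizer_cj]
      exact cj_mono g hK'.2.2
  exact ⟨𝐍[E], isTwoLocal_normalizer ((isPGroup_pCoreOf 2 _).to_le h1)
    (fun e => k.W_ne_bot (le_bot_iff.1 (e ▸ h2))),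
    (sup_le (le_normalizer_wOf K) k.normW).trans (key _ k.isTwoLocal
      (sup_le (le_normalizer_wOf K) k.normW)), key⟩

omit h hT in
theorem _root_.Cfsg.Agent.PLocal.JC.Top.T_le {K L : Subgroup G} (t : Top (K ⊔ 𝐉[T]) L)
    (hQ : 𝐐[K ⊔ T] ≠ ⊥) : T ≤ L :=
  (le_sup_right.trans (le_normalizer_pCoreOf 2 (K ⊔ T))).trans (t.top _
    (isTwoLocal_normalizer (isPGroup_pCoreOf 2 _) hQ)
    ((sup_le_sup_left (thompsonSubgroupOf_le T) K).trans (le_normalizer_pCoreOf 2 _)))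

end Sit

theorem mem_outside_iff {S M T K : Subgroup G} (h : Sit S M) (hT : T ∈ maxStraddlingTwoSubgroups M) :
    K ∈ jComponentsOutside M T ↔ IsJC 𝐉[T] K ∧ ¬ K ≤ M ∧ 𝐐[K ⊔ T] ≠ ⊥ :=
  ⟨fun k => ⟨((mem_zero_iff h.zn hT.1.1).1 k.1).1, k.2⟩,
    fun k => ⟨(mem_zero_iff h.zn hT.1.1).2 ⟨k.1, h.ovW hT k.1 k.2.1⟩, k.2⟩⟩

end Cfsg.Agent.PLocal.JC
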