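import Mathlib
import Cfsg.Agent.PLocal.JCompMax
import Cfsg.Agent.PLocal.AmalgamS4
import Cfsg.Agent.Inv.StrongEmb

/-!
The amalgam of two `J(T)`-components (Kurzweil-Stellmacher 12.3).
-/

set_option autoImplicit false

namespace Cfsg.Agent.PLocal.JC

open Cfsg Subgroup Cfsg.Agent.PLocal.Amb Cfsg.Agent.Grp
open scoped Cfsg.Agent.PLocal.CP commutatorElement

variable {G : Type*} [Group G] [Finite G]

theorem four_eq {V : Subgroup G} (h4 : Nat.card V = 4) {a b c d : G} (ha : a ∈ V) (hb : b ∈ V)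
    (hc : c ∈ V) (hd : d ∈ V) (ha1 : a ≠ 1) (hb1 : b ≠ 1) (hc1 : c ≠ 1) (hab : a ≠ b) (hac : a ≠ c)
    (hbc : b ≠ c) : d = 1 ∨ d = a ∨ d = b ∨ d = c := by
  have h1 : ({1, a, b, c} : Set G) ⊆ V := by
    rintro x (rfl | rfl | rfl | rfl)
    exacts [one_mem _, ha, hb, hc]
  have h2 : ({1, a, b, c} : Set G).ncard = 4 := by
    rw [Set.ncard_insert_of_notMem (by simp [ha1.symm, hb1.symm, hc1.symm]),
      Set.ncard_insert_of_notMem (by simp [hab, hac]), Set.ncard_pair hbc]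
  have h3 := Set.eq_of_subset_of_ncard_le h1 (by rw [h2]; exact h4.le)
  have : d ∈ ({1, a, b, c} : Set G) := h3 ▸ hd
  simpa using this

theorem card_le_two_of_inf {A B V : Subgroup G} (hV : IsElementaryAbelian 2 V) (hA : A ≤ V)
    (hB : B ≤ V) (h1 : Nat.card A * 2 = Nat.card V) (h2 : Nat.card B = Nat.card A)
    (h3 : A ⊓ B = ⊥) : Nat.card A ≤ 2 := by
  have e := card_sup_mul_card_inf (le_normalizer_of_comm (isEA_iff.1 hV).1 hA hB)
  rw [h3, card_bot, mul_one, h2] at e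
  have := card_le_card_of_le (sup_le hA hB)
  rw [e, ← h1] at this
  exact Nat.le_of_mul_le_mul_left this Nat.card_pos

theorem exists_zpowers_of_card_two {A : Subgroup G} (h : Nat.card A = 2) :
    ∃ a : G, a ≠ 1 ∧ a * a = 1 ∧ A = zpowers a := by
  obtain ⟨a, h1, h2, h3⟩ := exists_eq_zpowers_of_card_prime h
  exact ⟨a, h1, by rw [← pow_two]; exact h2, h3⟩

theorem four_sup {V A B : Subgroup G} (h4 : Nat.card V = 4) (hA : A ≤ V) (hB : B ≤ V)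
    (h2 : Nat.card A = 2) (h : ¬ B ≤ A) : A ⊔ B = V := by
  rcases four_cases h4 (sup_le hA hB) with h1 | h1 | h1
  · exact absurd ((le_sup_right.trans h1.le).trans bot_le) h
  · exact absurd (le_sup_right.trans (eq_of_le_of_card_le le_sup_left (h1.trans h2.symm).le).ge) h
  · exact h1

omit [Finite G] in
theorem omegaZ_le_omegaZ_J [Finite G] (T : Subgroup G) : ΩZ[2, T] ≤ ΩZ[2, 𝐉[T]] :=
  CP.omegaZ_le_omegaZ (thompsonSubgroupOf_le T) (omegaOne_center_le_thompsonSubgroupOf T)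

omit [Finite G] in
theorem normalizer_le_normalizer_omegaJ (T : Subgroup G) : 𝐍[T] ≤ 𝐍[ΩZ[2, 𝐉[T]]] :=
  (normalizer_le_normalizer_thompsonSubgroupOf T).trans (CP.normalizer_le_normalizer_omegaZ _)

theorem ZN.syl_ne_bot (hz : ZN G) {S : Subgroup G} (hS : IsSyl 2 S ⊤) : S ≠ ⊥ := fun h =>
  hS.eq_bot_iff.1 h (by rw [card_top]; exact even_iff_two_dvd.1 hz.char.1)

theorem omegaZ_ne_bot {S : Subgroup G} (hS : IsPGroup 2 S) (h : S ≠ ⊥) : ΩZ[2, S] ≠ ⊥ :=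
  omegaOne_ne_bot_of_isPGroup (hS.to_le inf_le_left) (inf_centralizer_ne_bot hS hS le_normalizer h)

theorem eq_of_normalizer_le {T S L : Subgroup G} (hT : IsSyl 2 T L) (hS : IsPGroup 2 S)
    (hTS : T ≤ S) (h : S ⊓ 𝐍[T] ≤ L) : T = S :=
  eq_of_inf_normalizer_le hS hTS (hT.max _ (hS.to_le inf_le_left) (le_inf hTS le_normalizer) h)

/-- no 2-local subgroup outside `M` contains all 2-local overgroups of `S` -/
def NB (S M : Subgroup G) : Prop :=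
  ∀ L, IsTwoLocal L → ¬ L ≤ M → ∃ L', IsTwoLocal L' ∧ S ≤ L' ∧ ¬ L' ≤ L

omit [Finite G] in
theorem Sit.nb_of_max {S M : Subgroup G} (h : Sit S M) (hM : IsMaximalTwoLocal M) : NB S M :=
  fun L hL hLM => ⟨M, h.loc, h.le, fun h' => hLM (hM.2 L hL h').le⟩

theorem Sit.center_cases {S M T K L : Subgroup G} (h : Sit S M) (nb : NB S M)
    (hT : T ∈ maxStraddlingTwoSubgroups M) (hTS : T ≤ S) (k : IsJC 𝐉[T] K) (hK : ¬ K ≤ M)
    (hQ : 𝐐[K ⊔ T] ≠ ⊥) (t : Top (K ⊔ 𝐉[T]) L) :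
    (ΩZ[2, S] = ΩZ[2, 𝐉[T]] ∧ Nat.card ↥ΩZ[2, 𝐉[T]] = 2) ∨
    (ΩZ[2, S] = ΩZ[2, 𝐉[T]] ∧ Nat.card ↥ΩZ[2, 𝐉[T]] = 4 ∧ T = S) ∨
    (ΩZ[2, T] = ΩZ[2, 𝐉[T]] ∧ Nat.card ↥ΩZ[2, 𝐉[T]] = 4 ∧
      (L ⊓ 𝐂[ΩZ[2, 𝐉[T]]]).relIndex 𝐍[ΩZ[2, 𝐉[T]]] = 2) := by
  have hKL : K ≤ L := le_sup_left.trans t.le
  have hLM : ¬ L ≤ M := fun h' => hK (hKL.trans h')
  have hsyl := h.isSyl hT t.loc hLM (t.T_le hQ)
  have hZT : ΩZ[2, S] ≤ ΩZ[2, T] := CP.omegaZ_le_omegaZ hTS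
    (((h.zn.ch t.loc).omegaZ_le (hsyl.pCoreOf_le.trans hTS)).trans ((Z_le_Q L).trans hsyl.pCoreOf_le))
  have hT0 := omegaZ_le_omegaZ_J T
  have hN0 := normalizer_le_normalizer_omegaJ T
  have hc := k.card_omega
  set Z := ΩZ[2, S] with hZ
  set Z₀ := ΩZ[2, 𝐉[T]] with hZ₀
  set Z₁ := Z₀ ⊓ 𝐂[K] with hZ₁
  have hea : IsElementaryAbelian 2 Z₀ := CP.omegaZ_isEA _
  have hsq := sq_eq_one_of_isEA hea
  have hZ1 : Z ≠ ⊥ := omegaZ_ne_bot h.syl.pgrp (h.zn.syl_ne_bot h.syl)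
  have hKJ : ∀ x ∈ Z₁, x ∈ 𝐂[K ⊔ 𝐉[T]] := fun x hx => by
    rw [Amb.centralizer_sup]; exact ⟨hx.2, CP.omegaZ_le_centralizer _ hx.1⟩
  have hC : ∀ x ∈ Z₁, x ≠ 1 → centralizer ({x} : Set G) ≤ L := fun x hx h1 =>
    t.centralizer_le (hsq x hx.1) h1 (hKJ x hx)
  have hZS : 𝐂[Z] ≤ 𝐍[𝐉[S]] := (h.zn.cz' h.syl).trans (normalizer_le_normalizer_thompsonSubgroupOf S)
  have hZK : ¬ Z ≤ Z₁ := fun h' =>
    hK ((le_centralizer_iff.1 (h'.trans inf_le_right)).trans (hZS.trans h.norm))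
  by_cases h1 : Nat.card Z₁ = 1
  · rw [h1, one_mul] at hc
    exact Or.inl ⟨(eq_bot_or_eq_of_le_of_card_prime hc.symm (hZT.trans hT0)).resolve_left hZ1,
      hc.symm⟩
  have hpos : 0 < Nat.card Z₁ := Nat.card_pos
  right
  by_cases hN : 𝐍[Z₀] ≤ L
  · left
    obtain rfl : T = S := eq_of_normalizer_le hsyl h.syl.pgrp hTS (inf_le_right.trans (hN0.trans hN))
    have hJL : 𝐍[𝐉[T]] ≤ L := (CP.normalizer_le_normalizer_omegaZ _).trans hN
    obtain ⟨L', hL', h2, h3⟩ := nb L t.loc hLM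
    have o' : Ov 𝐉[T] L' := ⟨h.zn.ch hL', T, h.syl.mono h2 le_top, rfl⟩
    obtain ⟨K', k', -, h4⟩ := o'.exists_not_le h.zn h3 (inf_le_right.trans hJL)
    have hc' := k'.card_omega
    rw [← hZ₀] at hc'
    have h5 : ∀ x ∈ Z₀ ⊓ 𝐂[K'], ¬ centralizer ({x} : Set G) ≤ L := fun x hx h' =>
      h4 (le_trans (fun g hg => mem_centralizer_singleton_iff.2 (hx.2 g hg)) h')
    have h6 : Nat.card Z₁ ≤ 2 := card_le_two_of_inf (B := Z₀ ⊓ 𝐂[K']) hea inf_le_left inf_le_left hc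
        (by omega) (by
      by_contra hb
      obtain ⟨x, hx, hx1⟩ := exists_ne_one hb
      exact h5 x hx.2 (hC x hx.1 hx1))
    have h7 : Nat.card Z₁ = 2 := by omega
    have h8 : Nat.card Z₀ = 4 := by omega
    refine ⟨?_, h8, rfl⟩
    rcases four_cases h8 (hZT.trans hT0) with h9 | h9 | h9
    · exact absurd h9 hZ1
    · obtain ⟨z, hz1, -, hz⟩ := exists_zpowers_of_card_two h9
      obtain ⟨a, ha1, -, ha⟩ := exists_zpowers_of_card_two h7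
      obtain ⟨b, hb1, -, hb⟩ := exists_zpowers_of_card_two (A := Z₀ ⊓ 𝐂[K']) (by omega)
      have haZ : a ∈ Z₁ := ha ▸ mem_zpowers a
      have hbZ : b ∈ Z₀ ⊓ 𝐂[K'] := hb ▸ mem_zpowers b
      have hzZ : z ∈ Z := hz ▸ mem_zpowers z
      have haz : a ≠ z := fun e => hZK (by rw [hz, ha, e])
      have hbz : b ≠ z := fun e => h4 ((le_centralizer_iff.1 (by
        rw [hz, ← e, ← hb]; exact inf_le_right : Z ≤ 𝐂[K'])).trans (hZS.trans hJL))
      have hab : a ≠ b := fun e => h5 b hbZ (e ▸ hC a haZ ha1)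
      have h10 : Z₁ ≤ 𝐂[T] := by
        rw [ha, zpowers_le]
        intro s hs
        rcases four_eq h8 haZ.1 hbZ.1 (hT0 (hZT hzZ))
          (conj_mem_of_mem_normalizer (hN0 (le_normalizer hs)) haZ.1) ha1 hb1 hz1 hab haz hbz
          with e | e | e | e
        · exact absurd (by simpa using e) ha1
        · exact mul_inv_eq_iff_eq_mul.1 e
        · refine absurd ?_ (h5 b hbZ)
          rw [← e, centralizer_singleton_conj]
          exact cj_le_of_mem (hC a haZ ha1) (hsyl.le hs)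
        · refine absurd ?_ haz
          have := CP.omegaZ_le_centralizer _ hzZ s hs
          calc a = s⁻¹ * (s * a * s⁻¹) * s := by group
            _ = s⁻¹ * (z * s) := by rw [e]; group
            _ = z := by rw [← this]; group
      refine le_antisymm (hZT.trans hT0) (CP.le_omegaZ hea
        ((CP.omegaZ_le _).trans (thompsonSubgroupOf_le T)) ?_)
      rw [← four_sup h8 inf_le_left (hZT.trans hT0) h7 hZK]
      exact sup_le h10 (CP.omegaZ_le_centralizer _)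
    · exact h9
  · obtain ⟨g, hg, hgL⟩ := SetLike.not_le_iff_exists.1 hN
    have h6 : Nat.card Z₁ ≤ 2 := card_le_two_of_inf hea inf_le_left
      (cj_le_of_mem_normalizer inf_le_left hg) hc (card_cj g Z₁) (by
        by_contra hb
        obtain ⟨x, hx, hx1⟩ := exists_ne_one hb
        obtain ⟨y, hy, rfl⟩ := mem_cj_iff_exists.1 hx.2
        refine hgL (t.mem_of_le_cj (le_trans (fun u hu => mem_centralizer_singleton_iff.2
          (hKJ _ hx.1 u hu)) ?_))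
        rw [centralizer_singleton_conj]
        exact cj_mono g (hC y hy fun e => hx1 (by rw [e]; group)))
    have h7 : Nat.card Z₁ = 2 := by omega
    have h8 : Nat.card Z₀ = 4 := by omega
    obtain ⟨a, ha1, -, ha⟩ := exists_zpowers_of_card_two h7
    have haZ : a ∈ Z₁ := ha ▸ mem_zpowers a
    set H₁ := 𝐍[Z₀] ⊓ centralizer ({a} : Set G) with hH₁
    have hHL : H₁ ≤ L := inf_le_right.trans (hC a haZ ha1)
    have r1 : H₁.relIndex 𝐍[Z₀] ≤ 3 := by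
      rw [hH₁, inf_relIndex_left]; exact four_orbit_le_three h8 le_rfl haZ.1 ha1
    have r2 : H₁.relIndex 𝐍[Z₀] ≠ 0 := FiniteIndex.index_ne_zero
    have r3 : H₁.relIndex 𝐍[Z₀] ≠ 1 := fun e => hN ((relIndex_eq_one.1 e).trans hHL)
    have r4 : H₁.relIndex 𝐍[Z₀] = 2 ∨ H₁.relIndex 𝐍[Z₀] = 3 := by omega
    have r5 : (H₁.relIndex 𝐍[Z₀]).Prime := by
      rcases r4 with e | e <;> rw [e]
      exacts [Nat.prime_two, Nat.prime_three]
    have h9 : T ≤ H₁ := (le_inf (le_normalizer.trans hN0) hsyl.le).trans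
      ((Amal.eq_or_eq_of_relIndex_prime r5 (le_inf inf_le_left hHL) inf_le_left).resolve_right
        fun e => hN (e.ge.trans inf_le_right)).le
    have h10 : T ≤ 𝐂[Z₀] := by
      rw [← four_sup h8 inf_le_left (hZT.trans hT0) h7 hZK, Amb.centralizer_sup]
      refine le_inf ?_ (hTS.trans (CP.le_centralizer_omegaZ S))
      rw [← hZ₁, ha, Amb.centralizer_zpowers]
      exact h9.trans inf_le_right
    have h11 : ΩZ[2, T] = Z₀ := le_antisymm hT0 (CP.le_omegaZ hea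
      ((CP.omegaZ_le _).trans (thompsonSubgroupOf_le T)) (le_centralizer_iff.1 h10))
    have h12 : 𝐂[Z₀] ≤ H₁ := le_inf (centralizer_le_normalizer' _)
      (centralizer_le (Set.singleton_subset_iff.2 haZ.1))
    have h13 : 𝐂[Z₀] = H₁ := by
      refine le_antisymm h12 (relIndex_eq_one.1 ?_)
      have e1 : (𝐂[Z₀]).relIndex H₁ ≤ 2 :=
        four_stab_le_two hsq h8 (inf_le_left : H₁ ≤ _) haZ.1 ha1 inf_le_right
      have e2 : (𝐂[Z₀]).relIndex H₁ ≠ 0 := FiniteIndex.index_ne_zero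
      have e3 := (hsyl.mono h9 hHL).not_dvd_relIndex
      rw [← relIndex_mul_relIndex _ _ _ h10 h12] at e3
      have e4 : (𝐂[Z₀]).relIndex H₁ ≠ 2 := fun e => e3 (e ▸ dvd_mul_left _ _)
      omega
    rcases r4 with e | e
    · exact Or.inr ⟨h11, h8, by rw [inf_of_le_right (h12.trans hHL), h13, e]⟩
    · have h14 : S ⊓ 𝐍[T] ≤ H₁ := by
        have e1 : S ⊓ 𝐍[T] ≤ 𝐍[Z₀] := inf_le_right.trans hN0
        rcases Amal.eq_or_eq_of_relIndex_prime r5 (le_sup_right : H₁ ≤ (S ⊓ 𝐍[T]) ⊔ H₁)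
          (sup_le e1 inf_le_left) with e2 | e2
        · exact le_sup_left.trans e2.le
        · exfalso
          rw [← e2, ← h13, relIndex_sup_of_le_normalizer (le_normalizer_centralizer e1)] at e
          obtain ⟨n, hn⟩ := IsPGroup.iff_card.1 (h.syl.pgrp.to_le (inf_le_left : S ⊓ 𝐍[T] ≤ S))
          have e3 : (𝐂[Z₀]).relIndex (S ⊓ 𝐍[T]) ∣ Nat.card ↥(S ⊓ 𝐍[T]) := relIndex_dvd_card _ _
          rw [e, hn] at e3
          exact absurd (Nat.prime_three.dvd_of_dvd_pow e3) (by norm_num)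
      have h15 : T = S := eq_of_normalizer_le hsyl h.syl.pgrp hTS (h14.trans hHL)
      exact Or.inl ⟨by rw [hZ, ← h15, h11], h8, h15⟩

/-- the local data at one component -/
structure Par (T K L : Subgroup G) : Prop where
  zn : ZN G
  jc : IsJC 𝐉[T] K
  top : Top (K ⊔ 𝐉[T]) L
  syl : IsSyl 2 T L
  cen : ΩZ[2, 𝐉[T]] ≤ 𝐂[T]

theorem Sit.exists_par {S M T K : Subgroup G} (h : Sit S M) (nb : NB S M)
    (hT : T ∈ maxStraddlingTwoSubgroups M) (hTS : T ≤ S) (k : IsJC 𝐉[T] K) (hK : ¬ K ≤ M)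
    (hQ : 𝐐[K ⊔ T] ≠ ⊥) : ∃ L, Par T K L := by
  obtain ⟨L, t⟩ := h.exists_top hT k hK
  refine ⟨L, h.zn, k, t, h.isSyl hT t.loc (fun h' => hK ((le_sup_left.trans t.le).trans h'))
    (t.T_le hQ), ?_⟩
  rcases h.center_cases nb hT hTS k hK hQ t with h1 | h1 | h1 <;> rw [← h1.1]
  · exact (CP.omegaZ_le_centralizer S).trans (centralizer_anti hTS)
  · exact (CP.omegaZ_le_centralizer S).trans (centralizer_anti hTS)
  · exact CP.omegaZ_le_centralizer T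

namespace Par
variable {T K L : Subgroup G} (h : Par T K L)
include h

omit [Finite G] in
theorem le : K ≤ L := le_sup_left.trans h.top.le

omit [Finite G] in
theorem ch : Ch L := h.zn.ch h.top.loc

omit [Finite G] in
theorem ov : Ov 𝐉[T] L := ⟨h.ch, T, h.syl, rfl⟩

omit [Finite G] in
theorem sup_le : K ⊔ T ≤ L := _root_.sup_le h.le h.syl.le

omit [Finite G] in
theorem top' : Top (K ⊔ T) L := h.top.mono (sup_le_sup_left (thompsonSubgroupOf_le T) K) h.sup_le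

omit [Finite G] in
theorem cj {g : G} (hg : g ∈ 𝐍[T]) : Par T cj(g, K) cj(g, L) := by
  have hJ := normalizer_le_normalizer_thompsonSubgroupOf (p := 2) T hg
  refine ⟨h.zn, h.jc.cj_of_mem hJ, ?_, ?_, h.cen⟩
  · have := h.top.cj g
    rwa [cj_sup, cj_of_mem_normalizer hJ] at this
  · have := h.syl.cj g
    rwa [cj_of_mem_normalizer hg] at this

theorem omega_eq : ΩZ[2, T] = ΩZ[2, 𝐉[T]] :=
  le_antisymm (omegaZ_le_omegaZ_J T) (CP.le_omegaZ (CP.omegaZ_isEA _)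
    ((CP.omegaZ_le _).trans (thompsonSubgroupOf_le T)) h.cen)

theorem norm : T ≤ 𝐍[K] :=
  h.ov.le_normalizer_of_center h.zn h.jc h.le h.syl.le fun e =>
    ne_bot_of_card h.jc.card_omega_inf_W (by norm_num) (le_bot_iff.1 (e ▸ inf_le_inf_right _ h.cen))

theorem Q_le : 𝐐[K] ≤ T := (h.ov.Q_le_Q h.zn h.jc h.le).trans h.syl.pCoreOf_le

theorem idx : T.relIndex (K ⊔ T) = 3 := h.jc.relIndex_sup h.syl.pgrp h.Q_le h.norm

theorem Q_eq : 𝐐[K ⊔ T] = T ⊓ 𝐂[wOf K] := h.jc.Q_sup_eq h.syl.pgrp h.Q_le h.norm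

theorem qidx : (𝐐[K ⊔ T]).relIndex T = 2 := by
  rw [h.Q_eq, inf_relIndex_left]
  exact h.jc.relIndex_centralizer_W h.syl.pgrp (h.norm.trans (normalizer_le_normalizer_wOf K))
    fun h' => h.jc.J_not_le ((thompsonSubgroupOf_le T).trans h')

theorem ch' : Ch (K ⊔ T) := h.ch.of_le (h.syl.pCoreOf_le.trans le_sup_right) h.sup_le

theorem act : ¬ K ≤ 𝐂[ΩZ[2, T]] := fun h' =>
  h.jc.omega_not_le (inf_le_left.trans (h.omega_eq ▸ le_centralizer_iff.1 h'))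

theorem dPar : Amal.DPar (K ⊔ T) T :=
  ⟨inferInstance, le_sup_right, h.syl.pgrp, by rw [h.idx]; exact Nat.prime_three,
    by rw [h.idx]; norm_num, h.qidx, inf_le_right.trans h.ch', fun h' => h.act (le_sup_left.trans h')⟩

theorem V_le : 𝐐[K ⊔ T] ≤ T := h.Q_eq.le.trans inf_le_left

theorem W_le_V : wOf K ≤ 𝐐[K ⊔ T] :=
  (le_inf ((wOf_le_Q K).trans h.Q_le) (isEA_le_centralizer (wOf_isEA K))).trans h.Q_eq.ge

theorem idx6 : (𝐐[K ⊔ T]).relIndex (K ⊔ T) = 6 := by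
  rw [← relIndex_mul_relIndex _ _ _ h.V_le le_sup_right, h.qidx, h.idx]

theorem card_V : Nat.card 𝐐[K ⊔ T] * 2 = Nat.card T := by
  have := card_mul_relIndex_of_le h.V_le
  rwa [h.qidx] at this

theorem inf_normalizer_le : (K ⊔ T) ⊓ 𝐍[T] ≤ T := by
  refine ((Amal.eq_or_eq_of_relIndex_prime (by rw [h.idx]; exact Nat.prime_three)
    (le_inf le_sup_right le_normalizer) inf_le_left).resolve_right fun e => ?_).le
  have h1 := relIndex_eq_one.2 (le_pCoreOf h.syl.pgrp le_sup_right (e.ge.trans inf_le_right))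
  rw [h.qidx] at h1
  omega

theorem eq_of_isEA (he : IsElementaryAbelian 2 𝐐[K ⊔ T]) (h16 : Nat.card T ≤ 16) : L = K ⊔ T := by
  have h1 : 𝐐[L] ≤ 𝐐[K ⊔ T] := pCoreOf_le_of_le h.sup_le (h.syl.pCoreOf_le.trans le_sup_right)
  have h2 : 𝐐[L] = 𝐐[K ⊔ T] :=
    le_antisymm h1 (((isEA_le_centralizer he).trans (centralizer_anti h1)).trans h.ch)
  have h8 : Nat.card 𝐐[K ⊔ T] ≤ 8 := by have := h.card_V; omega
  have h3 : L ≤ 𝐍[K] := fun g hg => h.ov.mem_normalizer_of_inf h.zn h.jc h.le hg fun e => by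
    have h4 : cj(g, wOf K) ≤ 𝐐[K ⊔ T] :=
      cj_le_of_mem_normalizer h.W_le_V (h2 ▸ le_normalizer_pCoreOf 2 L hg)
    have e1 := card_sup_mul_card_inf (le_normalizer_of_comm (isEA_iff.1 he).1 h.W_le_V h4)
    rw [e, card_bot, card_cj, h.jc.card] at e1
    have := card_le_card_of_le (_root_.sup_le h.W_le_V h4)
    omega
  have h4 : L ≤ 𝐍[wOf K] := h3.trans (normalizer_le_normalizer_wOf K)
  have h5 : L ⊓ 𝐂[wOf K] = 𝐐[L] := by
    refine le_antisymm (le_pCoreOf (isPGroup_of_forall_coprime fun g hg ho => ?_) inf_le_left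
      (le_normalizer_inf le_normalizer (le_normalizer_centralizer h4)))
      (le_inf (pCoreOf_le 2 L) (h1.trans (h.Q_eq.le.trans inf_le_right)))
    refine eq_one_of_isPGroup_of_coprime (isPGroup_pCoreOf 2 L) (h.ch ?_) ho
    rw [h2]
    have e1 := card_mul_relIndex_of_le h.W_le_V
    rw [h.jc.card] at e1
    exact Sym4Rec.mem_centralizer_of_relIndex_le_two (sq_eq_one_of_isEA he) h.W_le_V (by omega)
      FiniteIndex.index_ne_zero (coprime_two_iff.1 ho) (h2 ▸ le_normalizer_pCoreOf 2 L hg.1) hg.2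
  have h6 := four_le_six (wOf_sq K) h.jc.card h4
  rw [← inf_relIndex_left, h5, h2, ← relIndex_mul_relIndex _ _ _ (pCoreOf_le 2 _) h.sup_le,
    h.idx6] at h6
  have h7 : (K ⊔ T).relIndex L ≠ 0 := FiniteIndex.index_ne_zero
  exact le_antisymm (relIndex_eq_one.1 (by omega)) h.sup_le

end Par

/-- two components generating a group with trivial 2-core -/
structure Pair (T K₁ L₁ K₂ L₂ : Subgroup G) : Prop where
  p₁ : Par T K₁ L₁
  p₂ : Par T K₂ L₂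
  nle : ¬ K₂ ≤ L₁

theorem syl_mem_max {S L L' : Subgroup G} (hz : ZN G) (hS : IsSyl 2 S ⊤) (hL : S ≤ L)
    (h1 : IsTwoLocal L') (h2 : S ≤ L') (h3 : ¬ L' ≤ L) : S ∈ maxStraddlingTwoSubgroups L := by
  refine ⟨⟨hS.pgrp, hz.syl_ne_bot hS, hL, L', h1, h2, h3⟩, fun T hT => ?_⟩
  obtain ⟨g, -, hg⟩ := hS.exists_le_cj hT.1 le_top
  obtain ⟨A, hA⟩ := maxEA_nonempty 2 T
  obtain ⟨B, hB⟩ := maxEA_nonempty 2 S
  have hB' : cj(g, B) ∈ maxEA 2 cj(g, S) := map_mem_maxEA (MulAut.conj g).injective hB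
  rw [maxElemAbelianOrder_eq hA, maxElemAbelianOrder_eq hB]
  refine ⟨(hB'.2.2 A (hA.1.trans hg) hA.2.1).trans (card_cj g B).le, fun e => ⟨?_, fun _ =>
    hS.card_le hT.1 le_top⟩⟩
  rw [← card_cj g 𝐉[S], ← J_cj]
  exact card_le_card_of_le (J_le_J_of_card ((thompsonSubgroupOf_le T).trans hg) hA hB'
    ((card_cj g B).trans e.symm).le)

theorem ZN.normalizer_omega_le (hz : ZN G) {S : Subgroup G} (hS : IsSyl 2 S ⊤) :
    𝐍[ΩZ[2, S]] ≤ 𝐍[S] := by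
  have h1 : 𝐐[𝐂[ΩZ[2, S]]] = S := (hS.mono (CP.le_centralizer_omegaZ S) le_top).eq_pCoreOf (hz.cz' hS)
  have := (normalizer_le_normalizer_centralizer ΩZ[2, S]).trans (normalizer_le_normalizer_pCoreOf 2 _)
  rwa [h1] at this

theorem Sit.exists_pair_of_nb {S M T : Subgroup G} (h : Sit S M) (nb : NB S M)
    (hT : T ∈ maxStraddlingTwoSubgroups M) (hTS : T ≤ S) :
    ∃ K₁ L₁ K₂ L₂, Pair T K₁ L₁ K₂ L₂ := by
  obtain ⟨K, k, hK, hQ⟩ := h.exists_outside hT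
  obtain ⟨L, p⟩ := h.exists_par nb hT hTS k hK hQ
  by_cases hN : 𝐍[T] ≤ L
  · obtain rfl : T = S := eq_of_normalizer_le p.syl h.syl.pgrp hTS (inf_le_right.trans hN)
    have h' : Sit T L := ⟨h.zn, h.syl, p.top.loc, ((CP.normalizer_le_normalizer_omegaZ _).trans
      (p.omega_eq ▸ h.zn.normalizer_omega_le h.syl)).trans hN⟩
    obtain ⟨L', h1, h2, h3⟩ := nb L p.top.loc fun h' => hK (p.le.trans h')
    have hT' := syl_mem_max h.zn h.syl p.syl.le h1 h2 h3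
    obtain ⟨K', k', hK', hQ'⟩ := h'.exists_outside hT'
    obtain ⟨L₂, p'⟩ := h'.exists_par (h'.nb_of_max p.top.isMax) hT' le_rfl k' hK' hQ'
    exact ⟨K, L, K', L₂, p, p', hK'⟩
  · obtain ⟨g, hg, hgL⟩ := SetLike.not_le_iff_exists.1 hN
    refine ⟨K, L, _, _, p, p.cj hg, fun h' => hgL (inv_mem_iff.1 (p.top.mem_of_le_cj (sup_le
      (cj_le_iff.1 h') ?_)))⟩
    rw [← cj_le_iff, cj_of_mem_normalizer (normalizer_le_normalizer_thompsonSubgroupOf T hg)]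
    exact le_sup_right.trans p.top.le

namespace Pair
variable {T K₁ L₁ K₂ L₂ : Subgroup G} (h : Pair T K₁ L₁ K₂ L₂)
include h

omit [Finite G] in
theorem symm : Pair T K₂ L₂ K₁ L₁ :=
  ⟨h.p₂, h.p₁, fun h' => h.nle (h.p₂.le.trans (h.p₁.top.top _ h.p₂.top.loc
    (sup_le h' (le_sup_right.trans h.p₂.top.le))))⟩

omit [Finite G] in
theorem core {N : Subgroup G} (hN : IsPGroup 2 N) (h1 : K₁ ⊔ T ≤ 𝐍[N]) (h2 : K₂ ⊔ T ≤ 𝐍[N]) :
    N = ⊥ := by
  by_contra hc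
  exact h.nle ((le_sup_left.trans h2).trans (h.p₁.top'.top _ (isTwoLocal_normalizer hN hc) h1))

theorem s4 : Amal.S4Pair (K₁ ⊔ T) (K₂ ⊔ T) T :=
  Amal.s4Pair h.p₁.dPar h.p₂.dPar (h.p₁.idx.trans h.p₂.idx.symm) fun _ hN =>
    h.core (h.p₁.syl.pgrp.to_le hN)

theorem inf_eq : (K₁ ⊔ T) ⊓ (K₂ ⊔ T) = T :=
  h.p₁.dPar.inf_eq h.p₂.dPar fun _ hN => h.core (h.p₁.syl.pgrp.to_le hN)

theorem eq₁ : L₁ = K₁ ⊔ T := h.p₁.eq_of_isEA h.s4.ea₁ (by have := h.s4.card; omega)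

theorem normalizer_V : 𝐍[𝐐[K₁ ⊔ T]] = K₁ ⊔ T := by
  rw [← h.eq₁]
  exact h.p₁.top.isMax.2 _ (isTwoLocal_normalizer (isPGroup_pCoreOf 2 _)
    (Q_ne_bot_of_isTwoLocal h.p₁.top.loc)) (le_normalizer_pCoreOf 2 _)

theorem V_sup_V : 𝐐[K₁ ⊔ T] ⊔ 𝐐[K₂ ⊔ T] = T :=
  (Amal.eq_or_eq_of_relIndex_prime (by rw [h.p₁.qidx]; exact Nat.prime_two) le_sup_left
    (sup_le h.p₁.V_le h.p₂.V_le)).resolve_left fun e => h.s4.not_le₂ (le_sup_right.trans e.le)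

theorem relIndex_V : (𝐐[K₂ ⊔ T]).relIndex 𝐐[K₁ ⊔ T] = 2 := by
  have h1 := Amal.relIndex_le_two h.p₂.qidx h.p₁.V_le
  have h2 : (𝐐[K₂ ⊔ T]).relIndex 𝐐[K₁ ⊔ T] ≠ 0 := FiniteIndex.index_ne_zero
  have h3 : (𝐐[K₂ ⊔ T]).relIndex 𝐐[K₁ ⊔ T] ≠ 1 := fun e => h.s4.not_le₁ (relIndex_eq_one.1 e)
  omega

theorem card_inf : Nat.card ↥(𝐐[K₁ ⊔ T] ⊓ 𝐐[K₂ ⊔ T]) * 4 = Nat.card T := by
  have h1 := card_inf_mul_relIndex 𝐐[K₂ ⊔ T] 𝐐[K₁ ⊔ T]
  rw [h.relIndex_V, inf_comm] at h1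
  have := h.p₁.card_V
  omega

theorem not_commute {a b : G} (ha : a ∈ 𝐐[K₁ ⊔ T]) (ha' : a ∉ 𝐐[K₂ ⊔ T]) (hb : b ∈ 𝐐[K₂ ⊔ T])
    (hb' : b ∉ 𝐐[K₁ ⊔ T]) : a * b ≠ b * a := fun e => by
  refine hb' (h.p₁.ch' ?_)
  have h1 := sup_zpowers_eq (C := 𝐐[K₁ ⊔ T] ⊓ 𝐐[K₂ ⊔ T])
    (by rw [inf_relIndex_left, h.relIndex_V]; exact Nat.prime_two) inf_le_left ha fun h' => ha' h'.2
  rw [← h1, Amb.centralizer_sup, Amb.centralizer_zpowers]
  exact ⟨mem_centralizer_singleton_iff.2 e.symm,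
    centralizer_anti inf_le_right (isEA_le_centralizer h.s4.ea₂ hb)⟩

theorem mem_or_mem {x : G} (hx : x ∈ T) (h2 : x * x = 1) : x ∈ 𝐐[K₁ ⊔ T] ∨ x ∈ 𝐐[K₂ ⊔ T] := by
  by_contra hc
  push Not at hc
  rw [← h.V_sup_V] at hx
  obtain ⟨a, ha, b, hb, rfl⟩ := (mem_sup_of_le_normalizer_right
    (h.p₁.V_le.trans (le_sup_right.trans (le_normalizer_pCoreOf 2 _)))).1 hx
  refine h.not_commute ha (fun h' => hc.2 (mul_mem h' hb)) hb (fun h' => hc.1 (mul_mem ha h')) ?_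
  have e1 := sq_eq_one_of_isEA h.s4.ea₁ a ha
  have e2 := sq_eq_one_of_isEA h.s4.ea₂ b hb
  calc a * b = a * (a * b * (a * b)) * b := by rw [h2, mul_one]
    _ = (a * a) * (b * a) * (b * b) := by group
    _ = b * a := by rw [e1, e2]; group

theorem ea_le {E : Subgroup G} (hE : IsElementaryAbelian 2 E) (hET : E ≤ T) :
    E ≤ 𝐐[K₁ ⊔ T] ∨ E ≤ 𝐐[K₂ ⊔ T] := by
  by_contra hc
  push Not at hc
  obtain ⟨b, hb, hb'⟩ := SetLike.not_le_iff_exists.1 hc.1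
  obtain ⟨a, ha, ha'⟩ := SetLike.not_le_iff_exists.1 hc.2
  exact h.not_commute ((h.mem_or_mem (hET ha) (sq_eq_one_of_isEA hE a ha)).resolve_right ha') ha'
    ((h.mem_or_mem (hET hb) (sq_eq_one_of_isEA hE b hb)).resolve_left hb') hb' (isEA_comm hE ha hb)

theorem card_V_eq : Nat.card 𝐐[K₁ ⊔ T] = Nat.card 𝐐[K₂ ⊔ T] := by
  have := h.p₁.card_V
  have := h.p₂.card_V
  omega

theorem cj_V {g : G} (hg : g ∈ 𝐍[T]) :
    cj(g, 𝐐[K₁ ⊔ T]) = 𝐐[K₁ ⊔ T] ∨ cj(g, 𝐐[K₁ ⊔ T]) = 𝐐[K₂ ⊔ T] :=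
  (h.ea_le (isEA_map h.s4.ea₁ _) (cj_le_of_mem_normalizer h.p₁.V_le hg)).imp
    (fun e => eq_of_le_of_card_le e (card_cj g _).ge)
    fun e => eq_of_le_of_card_le e ((card_cj g _).trans h.card_V_eq).ge

theorem cj_V_of_notMem {g : G} (hg : g ∈ 𝐍[T]) (hg' : g ∉ T) : cj(g, 𝐐[K₁ ⊔ T]) = 𝐐[K₂ ⊔ T] :=
  (h.cj_V hg).resolve_left fun e =>
    hg' (h.p₁.inf_normalizer_le ⟨h.normalizer_V.le (cj_eq_iff.1 e), hg⟩)

theorem V_mem_maxEA : 𝐐[K₁ ⊔ T] ∈ maxEA 2 T :=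
  ⟨h.p₁.V_le, h.s4.ea₁, fun B hB hB' => (h.ea_le hB' hB).elim card_le_card_of_le
    fun e => (card_le_card_of_le e).trans h.card_V_eq.ge⟩

theorem J_eq : 𝐉[T] = T :=
  le_antisymm (thompsonSubgroupOf_le T) (h.V_sup_V.ge.trans
    (sup_le (le_thompsonSubgroupOf h.V_mem_maxEA) (le_thompsonSubgroupOf h.symm.V_mem_maxEA)))

theorem inf_le_centralizer : 𝐐[K₁ ⊔ T] ⊓ 𝐐[K₂ ⊔ T] ≤ 𝐂[T] := by
  conv_rhs => rw [← h.V_sup_V, Amb.centralizer_sup]
  exact inf_le_inf (isEA_le_centralizer h.s4.ea₁) (isEA_le_centralizer h.s4.ea₂)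

theorem omega_eq : ΩZ[2, T] = 𝐐[K₁ ⊔ T] ⊓ 𝐐[K₂ ⊔ T] :=
  le_antisymm (le_inf (omegaOne_center_le_of_mem_maxEA h.V_mem_maxEA)
    (omegaOne_center_le_of_mem_maxEA h.symm.V_mem_maxEA))
    (CP.le_omegaZ (isEA_mono h.s4.ea₁ inf_le_left) (inf_le_left.trans h.p₁.V_le) h.inf_le_centralizer)

theorem card_center : Nat.card ↥(ΩZ[2, T] ⊓ 𝐂[K₁]) * 8 = Nat.card T := by
  have h1 := h.p₁.jc.card_omega
  have h2 := h.card_inf
  rw [← h.p₁.omega_eq] at h1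
  rw [← h.omega_eq] at h2
  omega

theorem not_top {S L J K : Subgroup G} (hS : IsSyl 2 S ⊤) (hTS : T ≤ S) (t : Top S L) (o : Ov J L)
    (k : IsJC J K) (hK : K ≤ L) : False := by
  have hz := h.p₁.zn
  have hne : T ≠ S := by
    rintro rfl
    exact h.nle ((h.p₂.le.trans (t.top _ h.p₂.top.loc h.p₂.syl.le)).trans
      (t.eq h.p₁.top.isMax h.p₁.syl.le).ge)
  have hSL := hS.mono t.le le_top
  have hYS : 𝐙[L] ≤ S := (Z_le_Q L).trans hSL.pCoreOf_le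
  have hSY : S ≤ 𝐍[𝐙[L]] := t.le.trans (norm_Z L)
  have hea : IsElementaryAbelian 2 𝐙[L] := CP.omegaZ_isEA _
  obtain ⟨s, hs, hs'⟩ := SetLike.exists_of_lt (lt_inf_normalizer hS.pgrp (lt_of_le_of_ne hTS hne))
  have h1 : 𝐙[L] ⊓ T ≤ 𝐐[K₁ ⊔ T] ⊓ 𝐐[K₂ ⊔ T] := by
    have e : cj(s, 𝐙[L] ⊓ T) = 𝐙[L] ⊓ T := by
      rw [cj_inf, cj_of_mem_normalizer (hSY hs.1), cj_of_mem_normalizer hs.2]
    rcases h.ea_le (isEA_mono hea inf_le_left) (inf_le_right : 𝐙[L] ⊓ T ≤ T) with e1 | e1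
    · exact le_inf e1 (e.ge.trans ((cj_mono s e1).trans (h.cj_V_of_notMem hs.2 hs').le))
    · exact le_inf (e.ge.trans ((cj_mono s e1).trans (h.symm.cj_V_of_notMem hs.2 hs').le)) e1
  have h2 : 𝐙[L] ≤ T := by
    by_contra hc
    obtain ⟨u, hu, hu'⟩ := SetLike.exists_of_lt (lt_inf_normalizer (hS.pgrp.to_le (sup_le hTS hYS))
      (left_lt_sup.2 hc))
    obtain ⟨a, ha, y, hy, rfl⟩ := (mem_sup_of_le_normalizer_right (hTS.trans hSY)).1 hu.1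
    have hyN : y ∈ 𝐍[T] := by
      have := mul_mem (inv_mem (le_normalizer ha)) (mem_inf.1 hu).2
      rwa [inv_mul_cancel_left] at this
    refine h.s4.not_le₂ ((h.cj_V_of_notMem hyN fun h' => hu' (mul_mem ha h')).ge.trans
      (cj_le_iff_forall.2 fun v hv => ?_))
    have hvT := h.p₁.V_le hv
    have e : y * v * y⁻¹ = y * (v * y⁻¹ * v⁻¹) * v := by group
    have e1 : y * (v * y⁻¹ * v⁻¹) ∈ 𝐙[L] ⊓ T := by
      refine ⟨mul_mem hy (conj_mem_of_mem_normalizer (hSY (hTS hvT)) (inv_mem hy)), ?_⟩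
      have := mul_mem (conj_mem_of_mem_normalizer hyN hvT) (inv_mem hvT)
      rwa [show y * v * y⁻¹ * v⁻¹ = y * (v * y⁻¹ * v⁻¹) by group] at this
    rw [e]
    exact mul_mem (h1 e1).1 hv
  rw [inf_of_le_left h2, ← h.omega_eq] at h1
  have h3 := card_le_card_of_le ((o.W_le hz k hK).trans h1)
  have h4 := h.card_inf
  have h5 := h.card_center
  have h6 := h.s4.card
  rw [← h.omega_eq] at h4
  rw [k.card] at h3
  have h7 : wOf K = ΩZ[2, T] := eq_of_le_of_card_le ((o.W_le hz k hK).trans h1) (by rw [k.card]; omega)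
  have h8 : ΩZ[2, T] ≤ 𝐙[L] := h7.ge.trans (o.W_le hz k hK)
  obtain ⟨z, hz0, hz1⟩ := exists_ne_one (ne_bot_of_card (V := ΩZ[2, T] ⊓ 𝐂[K₁]) (n := 2) (by omega)
    (by norm_num))
  have h9 : centralizer ({z} : Set G) ≤ L₁ :=
    h.p₁.top'.centralizer_le (sq_eq_one_of_isEA (CP.omegaZ_isEA T) z hz0.1) hz1 (by
      rw [Amb.centralizer_sup]; exact ⟨hz0.2, CP.omegaZ_le_centralizer T hz0.1⟩)
  have h10 : T ≤ 𝐐[L] := hz.le_Q o.ch h.p₁.syl.pgrp (le_inf (hTS.trans t.le)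
    ((CP.le_centralizer_omegaZ T).trans (centralizer_anti h1)))
  have h11 : 𝐐[L] = T := h.p₁.syl.eq (isPGroup_pCoreOf 2 L) h10 (((CP.le_centralizer_omegaZ _).trans
    (centralizer_le (Set.singleton_subset_iff.2 (h8 hz0.1)))).trans h9)
  have h12 : K ≤ 𝐍[T] := h11 ▸ hK.trans (le_normalizer_pCoreOf 2 L)
  refine k.not_le_two h.p₁.syl.pgrp (k.res.ge.trans (pRes_le_iff.2 fun g hg ho => ?_))
  by_contra hc
  refine hc (h.p₁.inf_normalizer_le ⟨h.normalizer_V.le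
    (Sym4Rec.mem_of_sq_mem_of_odd (coprime_two_iff.1 ho) ?_), h12 hg⟩)
  rw [← cj_eq_iff, cj_mul, h.cj_V_of_notMem (h12 hg) hc, h.symm.cj_V_of_notMem (h12 hg) hc]

end Pair

theorem exists_max {M : Subgroup G} (h : (straddlingTwoSubgroups M).Nonempty) :
    (maxStraddlingTwoSubgroups M).Nonempty := by
  obtain ⟨T, hT, h1⟩ := Set.exists_max_image (straddlingTwoSubgroups M)
    (fun T => toLex (maxElemAbelianOrder T, toLex (Nat.card 𝐉[T], Nat.card T))) (Set.toFinite _) h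
  refine ⟨T, hT, fun T' hT' => ?_⟩
  have h2 := h1 T' hT'
  simp only [Prod.Lex.toLex_le_toLex] at h2
  omega

theorem isStronglyEmbedded_of_empty (hO : pCore 2 G = ⊥) {M : Subgroup G} (hM : IsTwoLocal M)
    (h : ¬ (straddlingTwoSubgroups M).Nonempty) : IsStronglyEmbedded M := by
  refine Inv.isStronglyEmbedded_of_normalizers ?_ ?_ fun X hX hp h1 => ?_
  · rintro rfl
    exact Q_ne_bot_of_isTwoLocal hM (by rw [pCoreOf_top, hO])
  · obtain ⟨n, hn⟩ := IsPGroup.iff_card.1 (isPGroup_pCoreOf 2 M)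
    have h1 := card_dvd_of_le (pCoreOf_le 2 M)
    have h2 : n ≠ 0 := by
      rintro rfl
      exact Q_ne_bot_of_isTwoLocal hM (card_eq_one.1 hn)
    rw [hn] at h1
    exact even_iff_two_dvd.2 ((dvd_pow_self 2 h2).trans h1)
  · by_contra hc
    exact h ⟨X, hp, h1, hX, _, isTwoLocal_normalizer hp h1, le_normalizer, hc⟩

theorem Sit.nb {S M : Subgroup G} (h : Sit S M) (hO : pCore 2 G = ⊥) : NB S M := by
  intro L hL hLM
  by_contra hc
  push Not at hc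
  have hJ : 𝐍[𝐉[S]] ≤ L := hc _ (isTwoLocal_normalizer (J_two h.syl.pgrp)
    (J_ne_bot h.syl.pgrp (h.zn.syl_ne_bot h.syl))) (le_normalizer_thompsonSubgroupOf S)
  have h' : Sit S L := ⟨h.zn, h.syl, hL, hJ⟩
  have t : Top S L := ⟨hL, h'.le, hc⟩
  have o : Ov 𝐉[S] L := ⟨h.zn.ch hL, S, h.syl.mono h'.le le_top, rfl⟩
  obtain ⟨K, k, hK, -⟩ := o.exists_not_le h.zn hLM (inf_le_right.trans h.norm)
  by_cases hne : (straddlingTwoSubgroups L).Nonempty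
  · obtain ⟨T, hT⟩ := exists_max hne
    obtain ⟨g, hg, hle⟩ := (h.syl.mono h'.le le_top).exists_le_cj hT.1.1 hT.1.2.2.1
    obtain ⟨K₁, L₁, K₂, L₂, p⟩ :=
      (h'.cj hg).exists_pair_of_nb ((h'.cj hg).nb_of_max t.isMax) hT hle
    have t' := t.cj g
    rw [cj_of_mem hg] at t'
    exact p.not_top (h'.cj hg).syl hle t' o k hK
  · have hse := isStronglyEmbedded_of_empty hO hL hne
    obtain ⟨z, hz, hz1⟩ := exists_ne_one (omegaZ_ne_bot (isPGroup_pCoreOf 2 L)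
      (Q_ne_bot_of_isTwoLocal hL))
    have h1 : 𝐉[S] ≤ 𝐐[L] := thompsonSubgroupOf_le_iff.2 fun A hA a ha => by
      by_cases ha1 : a = 1
      · exact ha1 ▸ one_mem _
      obtain ⟨u, hu, rfl⟩ := Inv.SE.exists_conj_mem hse (pCoreOf_le 2 L (Z_le_Q L hz))
        (h'.le (hA.1 ha)) (orderOf_eq_prime ((CP.omegaZ_isEA _).2 z hz) hz1)
        (orderOf_eq_prime (hA.2.1.2 a ha) ha1)
      exact conj_mem_of_mem_normalizer (le_normalizer_pCoreOf 2 L hu) (Z_le_Q L hz)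
    refine k.not_le_two (isPGroup_pCoreOf 2 L) (k.comm.ge.trans ((commutator_mono le_rfl h1).trans ?_))
    rw [commutator_comm]
    exact Solv.commutator_le_of_le_normalizer (hK.trans (le_normalizer_pCoreOf 2 L))

theorem Sit.exists_pair {S M T : Subgroup G} (h : Sit S M) (hO : pCore 2 G = ⊥)
    (hT : T ∈ maxStraddlingTwoSubgroups M) : ∃ K₁ L₁ K₂ L₂, Pair T K₁ L₁ K₂ L₂ := by
  obtain ⟨S', h', hle⟩ := h.exists_ge hT.1.1 hT.1.2.2.1
  exact h'.exists_pair_of_nb (h'.nb hO) hT hle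

end Cfsg.Agent.PLocal.JC
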