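import Mathlib
import Cfsg.Agent.PLocal.JCompAmal
import Cfsg.Agent.S0111

/-!
The structure of `O²(G)` for the amalgam of two `J(T)`-components (Kurzweil-Stellmacher 12.3).
-/

set_option autoImplicit false

namespace Cfsg.Agent.PLocal.JC

open Cfsg Subgroup Cfsg.Agent.PLocal.Amb Cfsg.Agent.Grp
open scoped Cfsg.Agent.PLocal.CP commutatorElement

variable {G : Type*} [Group G] [Finite G]

theorem IsJC.exists_conj {J K : Subgroup G} (k : IsJC J K) {w d : G} (hw : w ∈ wOf K) (hw1 : w ≠ 1)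
    (hd : d ∈ wOf K) (hd1 : d ≠ 1) : ∃ g ∈ K, g * w * g⁻¹ = d := by
  obtain ⟨x, hx, hx', ho⟩ := k.exists_odd
  have key : ∀ y ∈ K, y ∉ 𝐐[K] → y * w * y⁻¹ ≠ w := fun y hy hy' e => by
    have h1 : K ≤ centralizer ({w} : Set G) := k.le_of_mem ((Q_le_centralizer_wOf K).trans
      (centralizer_le (Set.singleton_subset_iff.2 hw))) hy hy'
      (mem_centralizer_singleton_iff.2 (mul_inv_eq_iff_eq_mul.1 e))
    exact hw1 (mem_bot.1 (k.W_inf_centralizer ▸ mem_inf.2 ⟨hw, fun g hg =>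
      mem_centralizer_singleton_iff.1 (h1 hg)⟩))
  have n1 : ∀ y : G, y * w * y⁻¹ ≠ 1 := fun y e => hw1 (by simpa using e)
  rcases four_eq k.card hw (conj_mem_of_mem_normalizer (le_normalizer_wOf K hx) hw)
    (conj_mem_of_mem_normalizer (le_normalizer_wOf K (inv_mem hx)) hw) hd hw1 (n1 _) (n1 _)
    (key x hx hx').symm (key _ (inv_mem hx) fun h' => hx' (inv_mem_iff.1 h')).symm (fun e =>
      key (x * x) (mul_mem hx hx) (fun h' => hx' (Sym4Rec.mem_of_sq_mem_of_odd ho h')) (by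
        calc x * x * w * (x * x)⁻¹ = x * (x * w * x⁻¹) * x⁻¹ := by group
          _ = w := by rw [e]; group)) with e | e | e | e
  · exact absurd e hd1
  · exact ⟨1, one_mem _, by simp [e]⟩
  · exact ⟨x, hx, e.symm⟩
  · exact ⟨x⁻¹, inv_mem hx, e.symm⟩

omit [Finite G] in
theorem eq_or_eq_of_sq {w c : G} (h : w * w = 1) (hc : c ∈ zpowers w) : c = 1 ∨ c = w := by
  obtain ⟨n, rfl⟩ := hc
  have h2 : w ^ (2 : ℤ) = 1 := by rw [zpow_two, h]
  rcases Int.even_or_odd' n with ⟨k, rfl | rfl⟩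
  · left; simp only [zpow_mul, h2, one_zpow]
  · right; simp only [zpow_add, zpow_mul, h2, one_zpow, one_mul, zpow_one]

theorem thompson_transfer {S U : Subgroup G} (hS : IsSyl 2 S ⊤) (hU : U ≤ S) (h2 : U.relIndex S = 2)
    {z : G} (hz : z * z = 1) (hzS : z ∈ S) (hzU : z ∉ U) (hH : z ∈ 𝐎[2, (⊤ : Subgroup G)]) :
    ∃ g : G, g * z * g⁻¹ ∈ U := by
  obtain ⟨P, rfl⟩ := hS.exists_sylow_top
  refine (S0111.result P U hU h2 z (orderOf_eq_prime (by rw [pow_two]; exact hz)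
    fun e => hzU (e ▸ one_mem _)) hzS hzU).resolve_left ?_
  rintro ⟨M, hM, hi, hzM⟩
  refine hzM (pRes_le_of_pow (p := 2) (fun g _ => ⟨1, ?_⟩) hH)
  rw [pow_one, ← hi]
  exact pow_index_mem M g

namespace Pair
variable {T K₁ L₁ K₂ L₂ : Subgroup G} (h : Pair T K₁ L₁ K₂ L₂)
include h

theorem W_le_T : wOf K₁ ≤ T := h.p₁.W_le_V.trans h.p₁.V_le

theorem T_norm_W : T ≤ 𝐍[wOf K₁] := h.p₁.norm.trans (normalizer_le_normalizer_wOf _)

theorem W_not_le : ¬ wOf K₁ ≤ 𝐐[K₂ ⊔ T] := fun h' =>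
  h.p₁.jc.J_not_le ((thompsonSubgroupOf_le T).trans
    (le_centralizer_iff.1 ((le_inf h.p₁.W_le_V h').trans h.inf_le_centralizer)))

theorem commutator_mem {a b : G} (ha : a ∈ wOf K₁) (hb : b ∈ wOf K₂) :
    ⁅a, b⁆ ∈ wOf K₁ ⊓ wOf K₂ := by
  refine mem_inf.2 ⟨?_, mul_mem (conj_mem_of_mem_normalizer (h.symm.T_norm_W (h.W_le_T ha)) hb) (inv_mem hb)⟩
  have : ⁅a, b⁆ = a * (b * a⁻¹ * b⁻¹) := by group
  rw [this]
  exact mul_mem ha (conj_mem_of_mem_normalizer (h.T_norm_W (h.symm.W_le_T hb)) (inv_mem ha))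

theorem W_inf_V : wOf K₁ ⊓ 𝐐[K₂ ⊔ T] = wOf K₁ ⊓ wOf K₂ ∧ Nat.card ↥(wOf K₁ ⊓ wOf K₂) = 2 := by
  have h1 : Nat.card ↥(wOf K₁ ⊓ 𝐐[K₂ ⊔ T]) = 2 := by
    have := h.p₁.jc.card_omega_inf_W
    rwa [← h.p₁.omega_eq, h.omega_eq, inf_comm _ (wOf K₁), ← inf_assoc,
      inf_of_le_left h.p₁.W_le_V] at this
  obtain ⟨a, ha, ha'⟩ := SetLike.not_le_iff_exists.1 h.W_not_le
  obtain ⟨b, hb, hb'⟩ := SetLike.not_le_iff_exists.1 h.symm.W_not_le
  have h2 := (eq_bot_or_eq_of_le_of_card_prime h1 (inf_le_inf_left _ h.p₂.W_le_V)).resolve_left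
    fun e => h.not_commute (h.p₁.W_le_V ha) ha' (h.p₂.W_le_V hb) hb'
      (commutatorElement_eq_one_iff_mul_comm.1 (mem_bot.1 (e ▸ h.commutator_mem ha hb)))
  exact ⟨h2.symm, h2 ▸ h1⟩

theorem D_le : wOf K₁ ⊔ wOf K₂ ≤ T := sup_le h.W_le_T h.symm.W_le_T

theorem norm_D : T ≤ 𝐍[wOf K₁ ⊔ wOf K₂] := le_normalizer_sup h.T_norm_W h.symm.T_norm_W

theorem card_D : Nat.card ↥(wOf K₁ ⊔ wOf K₂) = 8 := by
  have e := card_sup_mul_card_inf (h.W_le_T.trans h.symm.T_norm_W)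
  rw [h.W_inf_V.2, h.p₁.jc.card, h.p₂.jc.card] at e
  omega

theorem D_inf_V : (wOf K₁ ⊔ wOf K₂) ⊓ 𝐐[K₁ ⊔ T] = wOf K₁ := by
  rw [sup_inf_of_le_normalizer h.p₁.W_le_V (h.W_le_T.trans h.symm.T_norm_W), h.symm.W_inf_V.1,
    sup_of_le_left inf_le_right]

theorem cj_K {s : G} (hs : s ∈ 𝐍[T]) (hs' : s ∉ T) : cj(s, K₁) = K₂ := by
  rw [← h.p₁.jc.pRes_sup h.p₁.syl.pgrp h.p₁.norm, ← pRes_cj, ← h.normalizer_V, ← normalizer_cj,
    h.cj_V_of_notMem hs hs', h.symm.normalizer_V, h.p₂.jc.pRes_sup h.p₂.syl.pgrp h.p₂.norm]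

theorem cj_W {s : G} (hs : s ∈ 𝐍[T]) (hs' : s ∉ T) : cj(s, wOf K₁) = wOf K₂ := by
  rw [← wOf_cj, h.cj_K hs hs']

theorem not_conj_mem (h16 : Nat.card T = 16) {z : G} (hz : z ∈ ΩZ[2, T] ⊓ 𝐂[K₁]) (hz1 : z ≠ 1)
    (g : G) : g * z * g⁻¹ ∉ wOf K₁ ⊔ wOf K₂ := by
  have hzD : z ∉ wOf K₁ ⊔ wOf K₂ := fun h' => hz1 (mem_bot.1 (h.p₁.jc.W_inf_centralizer ▸
    mem_inf.2 ⟨h.D_inf_V ▸ mem_inf.2 ⟨h', (h.omega_eq.le hz.1).1⟩, hz.2⟩))
  have hz2 := sq_eq_one_of_isEA (CP.omegaZ_isEA T) z hz.1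
  obtain ⟨a, ha, ha'⟩ := SetLike.not_le_iff_exists.1 h.W_not_le
  obtain ⟨b, hb, hb'⟩ := SetLike.not_le_iff_exists.1 h.symm.W_not_le
  have hw := h.commutator_mem ha hb
  have hw1 : ⁅a, b⁆ ≠ 1 := fun e => h.not_commute (h.p₁.W_le_V ha) ha' (h.p₂.W_le_V hb) hb'
    (commutatorElement_eq_one_iff_mul_comm.1 e)
  intro hg
  have h1 : g * z * g⁻¹ ≠ 1 := fun e => hz1 (by simpa using e)
  obtain ⟨u, hu⟩ : ∃ u : G, u * ⁅a, b⁆ * u⁻¹ = z := by
    have : ∃ k : G, k * ⁅a, b⁆ * k⁻¹ = g * z * g⁻¹ := by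
      rcases h.mem_or_mem (h.D_le hg) (by
        calc g * z * g⁻¹ * (g * z * g⁻¹) = g * (z * z) * g⁻¹ := by group
          _ = 1 := by rw [hz2]; group) with e | e
      · obtain ⟨k, -, hk⟩ := h.p₁.jc.exists_conj hw.1 hw1 (h.D_inf_V ▸ mem_inf.2 ⟨hg, e⟩) h1
        exact ⟨k, hk⟩
      · obtain ⟨k, -, hk⟩ := h.p₂.jc.exists_conj hw.2 hw1
          (h.symm.D_inf_V ▸ mem_inf.2 ⟨sup_comm (wOf K₁) (wOf K₂) ▸ hg, e⟩) h1
        exact ⟨k, hk⟩
    obtain ⟨k, hk⟩ := this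
    exact ⟨g⁻¹ * k, by
      calc g⁻¹ * k * ⁅a, b⁆ * (g⁻¹ * k)⁻¹ = g⁻¹ * (k * ⁅a, b⁆ * k⁻¹) * g := by group
        _ = z := by rw [hk]; group⟩
  have hzP : z ∈ 𝐂[K₁ ⊔ T] := by
    rw [Amb.centralizer_sup]; exact ⟨hz.2, CP.omegaZ_le_centralizer T hz.1⟩
  have h2 : cj(u, T) ≤ K₁ ⊔ T := by
    refine le_trans ?_ ((h.p₁.top'.centralizer_le hz2 hz1 hzP).trans h.eq₁.le)
    rw [← hu, centralizer_singleton_conj]
    exact cj_mono u fun t ht => mem_centralizer_singleton_iff.2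
      (h.inf_le_centralizer ⟨h.p₁.W_le_V hw.1, h.p₂.W_le_V hw.2⟩ t ht)
  obtain ⟨v, hv, hle⟩ := (h.p₁.syl.mono le_sup_right h.p₁.sup_le).exists_cj_le
    (isPGroup_cj u h.p₁.syl.pgrp) h2
  have h3 : ⁅T, T⁆ ≤ wOf K₁ ⊔ wOf K₂ := commutator_le_of_relIndex_prime (by
    rw [Sym4Rec.relIndex_eq_of_card h.D_le h.card_D (n := 2) h16]; exact Nat.prime_two) h.D_le h.norm_D
  refine hzD (h3 (commutator_mono hle hle ?_))
  rw [commutator_cj, commutator_cj]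
  have h4 : v * z * v⁻¹ = z := mul_inv_eq_iff_eq_mul.2 (hzP v hv)
  rw [← h4, ← hu]
  exact conj_mem_cj v (conj_mem_cj u (commutator_mem_commutator (h.W_le_T ha) (h.symm.W_le_T hb)))

theorem cases_D {s : G} (hs : s ∈ 𝐍[T]) (hs' : s ∉ T) {d : G} (hd : d ∈ wOf K₁ ⊔ wOf K₂)
    (h1 : d ∈ wOf K₁ → s * d * s⁻¹ ∈ wOf K₁) (h2 : d ∈ wOf K₂ → s * d * s⁻¹ ∈ wOf K₂) :
    d ∈ wOf K₁ ⊓ wOf K₂ ∨ ∃ a ∈ wOf K₁, a ∉ 𝐐[K₂ ⊔ T] ∧ s * a * s⁻¹ ∈ wOf K₂ ∧
      s * a * s⁻¹ ∉ 𝐐[K₁ ⊔ T] ∧ ∃ c ∈ wOf K₁ ⊓ wOf K₂, d = a * (s * a * s⁻¹) * c := by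
  by_cases e1 : d ∈ wOf K₁
  · exact Or.inl ⟨e1, conj_mem_cj_iff.1 ((h.symm.cj_W hs hs').ge (h1 e1))⟩
  by_cases e2 : d ∈ wOf K₂
  · exact Or.inl ⟨conj_mem_cj_iff.1 ((h.cj_W hs hs').ge (h2 e2)), e2⟩
  right
  obtain ⟨a, ha, b, hb, rfl⟩ :=
    (mem_sup_of_le_normalizer_right (h.W_le_T.trans h.symm.T_norm_W)).1 hd
  have ha' : a ∉ 𝐐[K₂ ⊔ T] := fun h' => e2 (mul_mem (h.W_inf_V.1.le ⟨ha, h'⟩).2 hb)
  have hb' : b ∉ wOf K₁ := fun h' => e1 (mul_mem ha h')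
  have h3 : s * a * s⁻¹ ∈ wOf K₂ := (h.cj_W hs hs').le (conj_mem_cj s ha)
  have h4 : s * a * s⁻¹ ∉ 𝐐[K₁ ⊔ T] := fun h' =>
    ha' (conj_mem_cj_iff.1 ((h.symm.cj_V_of_notMem hs hs').ge h'))
  refine ⟨a, ha, ha', h3, h4, (s * a * s⁻¹)⁻¹ * b, Amal.mul_mem_of_relIndex_two
    (Sym4Rec.relIndex_eq_of_card inf_le_right h.W_inf_V.2 h.p₂.jc.card) (inv_mem h3) hb
    (fun h' => h4 (h.p₁.W_le_V (inv_mem_iff.1 (mem_inf.1 h').1))) (fun h' => hb' h'.1), by group⟩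

theorem not_le_res (h16 : Nat.card T = 16) : ¬ T ≤ 𝐎[2, (⊤ : Subgroup G)] := fun hH => by
  have c1 := h.card_center
  have c2 := h.symm.card_center
  have c4 := h.card_inf
  obtain ⟨z, hz1, hz2, hz⟩ := exists_zpowers_of_card_two (A := ΩZ[2, T] ⊓ 𝐂[K₁]) (by omega)
  have hz0 : z ∈ ΩZ[2, T] ⊓ 𝐂[K₁] := hz ▸ mem_zpowers z
  have hzT : z ∈ T := CP.omegaZ_le T hz0.1
  have hzC : z ∈ 𝐂[T] := CP.omegaZ_le_centralizer T hz0.1
  have hnc := h.not_conj_mem h16 hz0 hz1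
  have hzD : z ∉ wOf K₁ ⊔ wOf K₂ := by simpa using hnc 1
  have hDT : (wOf K₁ ⊔ wOf K₂).relIndex T = 2 := Sym4Rec.relIndex_eq_of_card h.D_le h.card_D h16
  obtain ⟨S, hS, hTS⟩ := exists_isSyl_ge h.p₁.syl.pgrp (le_top : T ≤ ⊤)
  by_cases hne : T = S
  · obtain ⟨g, hg⟩ := thompson_transfer hS (h.D_le.trans hTS) (hne ▸ hDT) hz2 (hTS hzT) hzD (hH hzT)
    exact hnc g hg
  obtain ⟨w, hw1, hw2, hw⟩ := exists_zpowers_of_card_two h.W_inf_V.2
  have hwW : w ∈ wOf K₁ ⊓ wOf K₂ := hw ▸ mem_zpowers w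
  have hAC : wOf K₁ ⊓ wOf K₂ ≤ 𝐂[T] := (inf_le_inf h.p₁.W_le_V h.p₂.W_le_V).trans h.inf_le_centralizer
  have hND : ∀ s ∈ 𝐍[T], s ∉ T → s ∈ 𝐍[wOf K₁ ⊔ wOf K₂] := fun s hs hs' => by
    rw [← cj_eq_iff, cj_sup, h.cj_W hs hs', h.symm.cj_W hs hs', sup_comm]
  have hfix : ∀ s ∈ 𝐍[T], s ∉ T → ∀ c ∈ wOf K₁ ⊓ wOf K₂, s * c * s⁻¹ = c := fun s hs hs' c hc =>
    mul_inv_eq_iff_eq_mul.2 (Sym4Rec.mem_centralizer_of_card_le_two h.W_inf_V.2.le (by
      rw [← cj_eq_iff, cj_inf, h.cj_W hs hs', h.symm.cj_W hs hs', inf_comm]) c hc).symm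
  have hsz : ∀ s ∈ 𝐍[T], s ∉ T → s * z * s⁻¹ = z * w := fun s hs hs' => by
    have h1 : s * z * s⁻¹ ∈ ΩZ[2, T] ⊓ 𝐂[K₂] :=
      ⟨conj_mem_of_mem_normalizer (CP.normalizer_le_normalizer_omegaZ T hs) hz0.1, by
        have : s * z * s⁻¹ ∈ cj(s, 𝐂[K₁]) := conj_mem_cj s hz0.2
        rwa [← centralizer_cj, h.cj_K hs hs'] at this⟩
    have hwZ : w ∈ ΩZ[2, T] := h.omega_eq.ge ⟨h.p₁.W_le_V hwW.1, h.p₂.W_le_V hwW.2⟩
    have hzw : z ≠ w := fun e => hzD (e ▸ mem_sup_left hwW.1)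
    rcases four_eq (V := ΩZ[2, T]) (by rw [h.omega_eq]; omega) hz0.1 hwZ (mul_mem hz0.1 hwZ) h1.1 hz1 hw1
      (fun e => hzw (by rw [← mul_one z, ← hw2, ← mul_assoc, e, one_mul])) hzw
      (fun e => hw1 (left_eq_mul.1 e)) (fun e => hz1 (right_eq_mul.1 e)) with e | e | e | e
    · exact absurd (by simpa using e) hz1
    · exfalso
      rw [e] at h1
      have h2 : zpowers z ≤ 𝐂[T] := zpowers_le.2 hzC
      refine hz1 (zpowers_eq_bot.1 (h.core (isEA_isPGroup (isEA_zpowers (p := 2) (by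
        rw [pow_two]; exact hz2))) (le_trans (le_centralizer_iff.1 ?_) (centralizer_le_normalizer' _))
        (le_trans (le_centralizer_iff.1 ?_) (centralizer_le_normalizer' _))))
      · rw [Amb.centralizer_sup]; exact le_inf (zpowers_le.2 hz0.2) h2
      · rw [Amb.centralizer_sup]; exact le_inf (zpowers_le.2 h1.2) h2
    · exact absurd (mem_sup_left (e ▸ hwW.1)) (hnc s)
    · exact e
  have hmul : ∀ s ∈ 𝐍[T], s ∉ T → ∀ s' ∈ 𝐍[T], s' ∉ T → s * s' ∈ T := fun s hs hs1 s' hs' hs1' =>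
    h.p₁.inf_normalizer_le ⟨h.normalizer_V.le (by
      rw [← cj_eq_iff, cj_mul, h.cj_V_of_notMem hs' hs1', h.symm.cj_V_of_notMem hs hs1]),
      mul_mem hs hs'⟩
  have hea : ∀ E : Subgroup G, IsElementaryAbelian 2 E → E ≤ 𝐍[T] → Nat.card E = 8 → E ≤ T := by
    intro E hE hEN h8
    by_contra hc
    obtain ⟨e, he, he'⟩ := SetLike.not_le_iff_exists.1 hc
    have h1 : Nat.card E ≤ 2 * Nat.card ↥(E ⊓ T) := card_le_two_mul (t := e) fun a ha => by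
      by_cases h' : a ∈ T
      · exact Or.inl ⟨ha, h'⟩
      · exact Or.inr ⟨mul_mem ha he, hmul a (hEN ha) h' e (hEN he) he'⟩
    have e0 : cj(e, E ⊓ T) = E ⊓ T := by rw [cj_inf, cj_of_mem he, cj_of_mem_normalizer (hEN he)]
    have h2 : E ⊓ T ≤ 𝐐[K₁ ⊔ T] ⊓ 𝐐[K₂ ⊔ T] := by
      rcases h.ea_le (isEA_mono hE inf_le_left) (inf_le_right : E ⊓ T ≤ T) with e1 | e1
      · exact le_inf e1 (e0.ge.trans ((cj_mono e e1).trans (h.cj_V_of_notMem (hEN he) he').le))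
      · exact le_inf (e0.ge.trans ((cj_mono e e1).trans (h.symm.cj_V_of_notMem (hEN he) he').le)) e1
    have h3 : z ∈ E := ((eq_of_le_of_card_le h2 (by omega)).ge (h.omega_eq.le hz0.1)).1
    have h4 := hsz e (hEN he) he'
    rw [isEA_comm hE he h3, mul_inv_cancel_right] at h4
    exact hw1 (left_eq_mul.1 h4)
  have hSN : S ≤ 𝐍[T] := by
    have h1 : S ⊓ 𝐍[T] = S := by
      refine eq_of_inf_normalizer_le hS.pgrp inf_le_left (le_inf inf_le_left fun u hu => ?_)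
      refine mem_normalizer_of_cj_le ?_
      have c5 := h.p₁.card_V
      have c6 := h.p₂.card_V
      conv_lhs => rw [← h.V_sup_V, cj_sup]
      exact sup_le (hea _ (isEA_map h.s4.ea₁ _) ((cj_le_of_mem_normalizer (h.p₁.V_le.trans
        (le_inf hTS le_normalizer)) hu.2).trans inf_le_right) (by rw [card_cj]; omega))
        (hea _ (isEA_map h.s4.ea₂ _) ((cj_le_of_mem_normalizer (h.p₂.V_le.trans
        (le_inf hTS le_normalizer)) hu.2).trans inf_le_right) (by rw [card_cj]; omega))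
    exact h1.ge.trans inf_le_right
  obtain ⟨s₀, hs₀, hs₀'⟩ := SetLike.exists_of_lt (lt_of_le_of_ne hTS hne)
  have hS32 : Nat.card S ≤ 32 := by
    have : Nat.card S ≤ 2 * Nat.card T := card_le_two_mul (t := s₀) fun a ha => by
      by_cases h' : a ∈ T
      · exact Or.inl h'
      · exact Or.inr (hmul a (hSN ha) h' s₀ (hSN hs₀) hs₀')
    omega
  have hcomm : ∀ a ∈ wOf K₁, a ∉ 𝐐[K₂ ⊔ T] → ∀ b ∈ wOf K₂, b ∉ 𝐐[K₁ ⊔ T] → a * b = w * (b * a) :=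
    fun a ha ha' b hb hb' => by
      have := (eq_or_eq_of_sq hw2 (hw ▸ h.commutator_mem ha hb)).resolve_left fun e =>
        h.not_commute (h.p₁.W_le_V ha) ha' (h.p₂.W_le_V hb) hb'
          (commutatorElement_eq_one_iff_mul_comm.1 e)
      rw [← this]; group
  have hsq : ∀ s ∈ 𝐍[T], s ∉ T → s * s ∈ wOf K₁ ⊔ wOf K₂ := fun s hs hs' => by
    by_contra hc
    have h1 := Amal.mul_mem_of_relIndex_two hDT hzT (hmul s hs hs' s hs hs') hzD hc
    set d := z * (s * s) with hd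
    have hdT : d ∈ T := h.D_le h1
    have h2 : s * d * s⁻¹ = w * d := by
      calc s * d * s⁻¹ = s * z * s⁻¹ * (s * s) := by rw [hd]; group
        _ = z * w * (s * s) := by rw [hsz s hs hs']
        _ = w * d := by rw [hAC hwW z hzT, hd, mul_assoc]
    rcases h.cases_D hs hs' h1 (fun e => h2 ▸ mul_mem hwW.1 e) (fun e => h2 ▸ mul_mem hwW.2 e)
      with e | ⟨a, ha, ha', hb, hb', c, hc, e⟩
    · rw [hfix s hs hs' d e] at h2
      exact hw1 (right_eq_mul.1 h2)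
    · set b := s * a * s⁻¹ with hbd
      have haT := h.W_le_T ha
      have hbT := h.symm.W_le_T hb
      have e1 := hcomm a ha ha' b hb hb'
      have e2 : s * b * s⁻¹ = d * a * d⁻¹ := by
        calc s * b * s⁻¹ = z⁻¹ * (d * a * d⁻¹ * z) := by rw [hbd, hd]; group
          _ = d * a * d⁻¹ := by
            rw [hzC _ (mul_mem (mul_mem hdT haT) (inv_mem hdT)), inv_mul_cancel_left]
      have e3 : d * a * d⁻¹ = w * a := by
        calc d * a * d⁻¹ = a * b * (c * a) * c⁻¹ * (a * b)⁻¹ := by rw [e]; group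
          _ = a * (b * a) * (a * b)⁻¹ := by rw [← hAC hc a haT]; group
          _ = a * w⁻¹ := by rw [e1]; group
          _ = w * a := by rw [inv_eq_of_mul_eq_one_right hw2, hAC hwW a haT]
      have e4 : s * d * s⁻¹ = d := by
        calc s * d * s⁻¹ = b * (s * b * s⁻¹) * (s * c * s⁻¹) := by rw [e, hbd]; group
          _ = b * w * a * c := by rw [e2, e3, hfix s hs hs' c hc]; group
          _ = w * (b * a) * c := by rw [hAC hwW b hbT]; group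
          _ = d := by rw [← e1, e]
      rw [e4] at h2
      exact hw1 (right_eq_mul.1 h2)
  have htr : ∀ s ∈ S, s ∉ T → ∃ d ∈ wOf K₁ ⊔ wOf K₂, s * d * (s * d) = 1 := fun s hs hs' => by
    have hn := hND s (hSN hs) hs'
    have hq := hsq s (hSN hs) hs'
    let U : Subgroup G :=
      { carrier := {x | x ∈ wOf K₁ ⊔ wOf K₂ ∨ s⁻¹ * x ∈ wOf K₁ ⊔ wOf K₂}
        one_mem' := Or.inl (one_mem _)
        mul_mem' := by
          rintro a b (ha | ha) (hb | hb)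
          · exact Or.inl (mul_mem ha hb)
          · right
            have := mul_mem (inv_conj_mem_of_mem_normalizer hn ha) hb
            rwa [show s⁻¹ * a * s * (s⁻¹ * b) = s⁻¹ * (a * b) by group] at this
          · right
            have := mul_mem ha hb
            rwa [mul_assoc] at this
          · left
            have := mul_mem (mul_mem (conj_mem_of_mem_normalizer hn ha) hq) hb
            rwa [show s * (s⁻¹ * a) * s⁻¹ * (s * s) * (s⁻¹ * b) = a * b by group] at this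
        inv_mem' := by
          rintro a (ha | ha)
          · exact Or.inl (inv_mem ha)
          · right
            have := mul_mem (inv_conj_mem_of_mem_normalizer hn (inv_mem ha)) (inv_mem hq)
            rwa [show s⁻¹ * (s⁻¹ * a)⁻¹ * s * (s * s)⁻¹ = s⁻¹ * a⁻¹ by group] at this }
    have hUS : U ≤ S := by
      rintro x (hx | hx)
      · exact hTS (h.D_le hx)
      · have := mul_mem hs (hTS (h.D_le hx))
        rwa [mul_inv_cancel_left] at this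
    have hzU : z ∉ U := by
      rintro (hx | hx)
      · exact hzD hx
      · have := mul_mem hzT (inv_mem (h.D_le hx))
        rw [show z * (s⁻¹ * z)⁻¹ = s by group] at this
        exact hs' this
    have hDU : wOf K₁ ⊔ wOf K₂ ≤ U := fun x hx => Or.inl hx
    have h1 := card_mul_relIndex_of_le hDU
    have h2 := card_mul_relIndex_of_le hUS
    have h3 : (wOf K₁ ⊔ wOf K₂).relIndex U ≠ 0 := FiniteIndex.index_ne_zero
    have h4 : (wOf K₁ ⊔ wOf K₂).relIndex U ≠ 1 := fun e => hs' (h.D_le (relIndex_eq_one.1 e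
      (show s ∈ U from Or.inr (by rw [inv_mul_cancel]; exact one_mem _))))
    have h5 : U.relIndex S ≠ 0 := FiniteIndex.index_ne_zero
    have h6 : U.relIndex S ≠ 1 := fun e => hzU (relIndex_eq_one.1 e (hTS hzT))
    rw [h.card_D] at h1
    have h7 : 16 ≤ Nat.card U := by omega
    have h8 : U.relIndex S = 2 := by
      by_contra hc
      have : Nat.card U * 3 ≤ Nat.card U * U.relIndex S := Nat.mul_le_mul_left _ (by omega)
      omega
    obtain ⟨g, hg⟩ := thompson_transfer hS hUS h8 hz2 (hTS hzT) hzU (hH hzT)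
    refine ⟨_, hg.resolve_left (hnc g), ?_⟩
    calc s * (s⁻¹ * (g * z * g⁻¹)) * (s * (s⁻¹ * (g * z * g⁻¹))) = g * (z * z) * g⁻¹ := by group
      _ = 1 := by rw [hz2]; group
  obtain ⟨d₀, hd₀, hs2⟩ := htr s₀ hs₀ hs₀'
  set s := s₀ * d₀ with hsd
  have hsS : s ∈ S := mul_mem hs₀ (hTS (h.D_le hd₀))
  have hs' : s ∉ T := fun h' => hs₀' (by
    have := mul_mem h' (inv_mem (h.D_le hd₀))
    rwa [hsd, mul_inv_cancel_right] at this)
  have hs := hSN hsS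
  obtain ⟨d, hd, hd2⟩ := htr (s * z) (mul_mem hsS (hTS hzT)) fun h' => hs' (by
    have := mul_mem h' (inv_mem hzT)
    rwa [mul_inv_cancel_right] at this)
  have hdT := h.D_le hd
  have h1 : s * d * s⁻¹ * d = w := by
    have e1 := hzC _ (conj_mem_of_mem_normalizer hs hdT)
    calc s * d * s⁻¹ * d = z⁻¹ * (z * (s * d * s⁻¹)) * d := by group
      _ = z⁻¹ * (s * z * s⁻¹)⁻¹ * (s * z * d * (s * s)⁻¹ * (s * z * d)) := by rw [← e1]; group
      _ = z⁻¹ * (z * w)⁻¹ := by rw [hs2, inv_one, mul_one, hd2, mul_one, hsz s hs hs']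
      _ = w := by
        rw [hAC hwW z hzT, inv_eq_of_mul_eq_one_right hz2, mul_inv_rev,
          inv_eq_of_mul_eq_one_right hz2, inv_eq_of_mul_eq_one_right hw2, ← mul_assoc, hz2, one_mul]
  have h2 : s * d * s⁻¹ = w * d⁻¹ := eq_mul_inv_of_mul_eq h1
  rcases h.cases_D hs hs' hd (fun e => h2 ▸ mul_mem hwW.1 (inv_mem e))
    (fun e => h2 ▸ mul_mem hwW.2 (inv_mem e)) with e | ⟨a, ha, -, hb, -, c, hc, e⟩
  · rw [hfix s hs hs' d e, wOf_sq K₁ d e.1] at h1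
    exact hw1 h1.symm
  · refine hw1 (h1.symm.trans ?_)
    set b := s * a * s⁻¹ with hbd
    have e2 : s * b * s⁻¹ = a := by
      calc s * b * s⁻¹ = s * s * a * (s * s)⁻¹ := by rw [hbd]; group
        _ = a := by rw [hs2]; group
    calc s * d * s⁻¹ * d = b * (s * b * s⁻¹) * (s * c * s⁻¹) * (a * b * c) := by rw [e, hbd]; group
      _ = b * (a * c) * a * (b * c) := by rw [e2, hfix s hs hs' c hc]; group
      _ = b * (c * a) * a * (c * b) := by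
        rw [hAC hc a (h.W_le_T ha), hAC hc b (h.symm.W_le_T hb)]
      _ = b * c * (a * a) * (c * b) := by group
      _ = b * (c * c) * b := by rw [wOf_sq K₁ a ha]; group
      _ = 1 := by rw [wOf_sq K₁ c hc.1, mul_one, wOf_sq K₂ b hb]

theorem K_le_res : K₁ ≤ 𝐎[2, (⊤ : Subgroup G)] := h.p₁.jc.res.ge.trans (pRes_mono le_top)

theorem D_le_res : wOf K₁ ⊔ wOf K₂ ≤ 𝐎[2, (⊤ : Subgroup G)] :=
  sup_le ((wOf_le K₁).trans h.K_le_res) ((wOf_le K₂).trans h.symm.K_le_res)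

theorem T_inf_res : T ⊓ 𝐎[2, (⊤ : Subgroup G)] = wOf K₁ ⊔ wOf K₂ := by
  have h1 := le_inf h.D_le h.D_le_res
  rcases h.s4.card with h8 | h16
  · exact (eq_of_le_of_card_le h1 ((card_le_card_of_le inf_le_left).trans
      (h8.trans h.card_D.symm).le)).symm
  · exact (Amal.eq_or_eq_of_relIndex_prime (by
      rw [Sym4Rec.relIndex_eq_of_card h.D_le h.card_D (n := 2) h16]; exact Nat.prime_two) h1
      inf_le_left).resolve_right fun e => h.not_le_res h16 (e.ge.trans inf_le_right)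

theorem V_inf_res : 𝐐[K₁ ⊔ T] ⊓ 𝐎[2, (⊤ : Subgroup G)] = wOf K₁ := by
  rw [← h.D_inf_V, ← h.T_inf_res, inf_right_comm, inf_of_le_right h.p₁.V_le]

theorem normalizer_W : 𝐍[wOf K₁] = K₁ ⊔ T := by
  rw [← h.eq₁]
  exact h.p₁.top.isMax.2 _ h.p₁.jc.isTwoLocal (h.eq₁.le.trans (sup_le (le_normalizer_wOf _) h.T_norm_W))

theorem centralizer_inf_res : 𝐂[wOf K₁] ⊓ 𝐎[2, (⊤ : Subgroup G)] ≤ wOf K₁ := by
  conv_rhs => rw [← h.V_inf_res, ← h.p₁.jc.sup_inf_centralizer h.p₁.syl.pgrp h.p₁.Q_le h.p₁.norm]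
  exact inf_le_inf_right _ (le_inf ((centralizer_le_normalizer' _).trans h.normalizer_W.le) le_rfl)

theorem max_res {H : Subgroup G} (hH : H = 𝐎[2, (⊤ : Subgroup G)]) :
    IsMaximalTwoLocal ((K₁ ⊔ T).subgroupOf H) ∧
      Nonempty ((K₁ ⊔ T).subgroupOf H ≃* Equiv.Perm (Fin 4)) := by
  have k := h.p₁.jc
  have hKH : K₁ ≤ H := hH ▸ h.K_le_res
  have hWH : wOf K₁ ≤ H := (wOf_le K₁).trans hKH
  have hC : 𝐂[wOf K₁] ⊓ H ≤ wOf K₁ := hH ▸ h.centralizer_inf_res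
  have e : 𝐍[(wOf K₁).subgroupOf H] = (K₁ ⊔ T).subgroupOf H := by
    rw [normalizer_eq_subgroupOf, map_subgroupOf_of_le hWH, h.normalizer_W]
  refine ⟨⟨⟨_, isPGroup_subgroupOf (wOf_two K₁) H, fun e' => k.W_ne_bot (by
    rw [← map_subgroupOf_of_le hWH, e', Subgroup.map_bot]), e.symm⟩, ?_⟩, ?_⟩
  · rintro _ ⟨R, hR, hR1, rfl⟩ hle
    have h1 : K₁ ≤ 𝐍[R.map H.subtype] := fun g hg => by
      have := hle (show (⟨g, hKH hg⟩ : H) ∈ (K₁ ⊔ T).subgroupOf H from mem_sup_left hg)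
      rwa [normalizer_eq_subgroupOf] at this
    have hR' : IsPGroup 2 (R.map H.subtype) := hR.map _
    have hRH : R.map H.subtype ≤ H := map_subtype_le _
    have h2 : wOf K₁ ≤ R.map H.subtype := by
      refine k.le_of_inf_ne_bot (fun e' => inf_centralizer_ne_bot (wOf_two K₁) hR'
        ((wOf_le K₁).trans h1) (fun e'' => hR1
          ((map_eq_bot_iff_of_injective _ H.subtype_injective).1 e'')) (le_bot_iff.1 ?_)) h1
      exact e' ▸ le_inf ((le_inf inf_le_right (inf_le_left.trans hRH)).trans hC) inf_le_left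
    have h3 : wOf K₁ = R.map H.subtype := eq_of_inf_normalizer_le hR' h2
      ((le_inf (k.le_centralizer_W (hR'.to_le inf_le_left) inf_le_right
        (le_normalizer_inf h1 (le_normalizer_normalizer (le_normalizer_wOf K₁))))
        (inf_le_left.trans hRH)).trans hC)
    rw [← e, h3, map_subtype_subgroupOf]
  · set M := (K₁ ⊔ T) ⊓ H with hM
    have hWM : wOf K₁ ≤ M := le_inf ((wOf_le K₁).trans le_sup_left) hWH
    have h1 : M = K₁ ⊔ (wOf K₁ ⊔ wOf K₂) := by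
      rw [hM, sup_inf_of_le_normalizer' hKH h.p₁.norm, hH, h.T_inf_res]
    have h2 : 𝐐[K₁] ≤ wOf K₁ := (le_inf (Q_le_centralizer_wOf K₁) ((pCoreOf_le 2 K₁).trans hKH)).trans hC
    have h3 : Nat.card M = 24 := by
      have e1 := card_mul_relIndex_of_le (le_sup_right : wOf K₁ ⊔ wOf K₂ ≤ K₁ ⊔ (wOf K₁ ⊔ wOf K₂))
      rw [k.relIndex_sup (h.p₁.syl.pgrp.to_le h.D_le) (h2.trans le_sup_left) (h.D_le.trans h.p₁.norm),
        h.card_D] at e1
      rw [h1, ← e1]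
    have := normal_subgroupOf' (A := wOf K₁) (L := M) (inf_le_left.trans h.normalizer_W.ge)
    obtain ⟨f⟩ := Sym4Rec.sym4 ((wOf K₁).subgroupOf M) (isEA_subgroupOf (wOf_isEA K₁) M) (by
      rw [centralizer_subgroupOf hWM]
      exact fun x hx => hC ⟨hx, x.2.2⟩) h3 (by rw [card_subgroupOf_of_le hWM, k.card])
    rw [← inf_subgroupOf_right]
    exact ⟨(subgroupOfEquivOfLe inf_le_right).trans f⟩

end Pair

end Cfsg.Agent.PLocal.JC
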