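import Mathlib
import Cfsg.Agent.PLocal.AmalgamS3Act

/-!
Trivalent amalgams in which one vertex group centralizes its `Z`: lines in the coset graph,
transitivity on arcs, local structure.
-/

set_option autoImplicit false

namespace Cfsg.Agent.PLocal.Amal

open Cfsg Cfsg.Agent.PLocal.Amb MulAction
open scoped commutatorElement

variable {X : Type*} [Group X] {M₁ M₂ : Subgroup X}

local notation "Γ" => cosetGraph M₁ M₂
local notation "𝐛" => criticalDistance 2 M₁ M₂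
local notation "𝒱" => CosetVertex M₁ M₂

/-- a non-backtracking walk indexed by `ℕ` -/
def IsRay (r : ℕ → CosetVertex M₁ M₂) : Prop :=
  (∀ n, (cosetGraph M₁ M₂).Adj (r n) (r (n + 1))) ∧ ∀ n, r n ≠ r (n + 2)

/-- a non-backtracking walk indexed by `ℤ` -/
def IsLine (v : ℤ → CosetVertex M₁ M₂) : Prop :=
  (∀ i, (cosetGraph M₁ M₂).Adj (v i) (v (i + 1))) ∧ ∀ i, v i ≠ v (i + 2)

namespace IsLine

variable {v : ℤ → CosetVertex M₁ M₂} (hv : IsLine v)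
include hv

theorem adj {i j : ℤ} (h : j = i + 1) : (Γ).Adj (v i) (v j) := h ▸ hv.1 i

theorem adj' {i j : ℤ} (h : i = j + 1) : (Γ).Adj (v i) (v j) := (hv.adj h).symm

theorem ne {i j : ℤ} (h : j = i + 2) : v i ≠ v j := h ▸ hv.2 i

theorem ne' {i j : ℤ} (h : i = j + 2) : v i ≠ v j := (hv.ne h).symm

theorem shift (k : ℤ) : IsLine fun i => v (i + k) :=
  ⟨fun _ => hv.adj (by ring), fun _ => hv.ne (by ring)⟩

theorem rev (k : ℤ) : IsLine fun i => v (k - i) :=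
  ⟨fun _ => hv.adj' (by ring), fun _ => hv.ne' (by ring)⟩

theorem smul (g : X) : IsLine fun i => g • v i :=
  ⟨fun i => adj_smul (hv.1 i) g, fun i h => hv.2 i (smul_left_cancel g h)⟩

theorem ray (k : ℤ) : IsRay fun n : ℕ => v (k - n) :=
  ⟨fun _ => hv.adj' (by push_cast; ring), fun _ => hv.ne' (by push_cast; ring)⟩

theorem dist_le (i : ℤ) (n : ℕ) : (Γ).dist (v i) (v (i + n)) ≤ n := by
  induction n with
  | zero => simp
  | succ n ih =>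
    have := dist_le_succ_of_adj (hv.adj' (i := i + (n + 1 : ℕ)) (j := i + n) (by push_cast; ring))
      (v i)
    rw [SimpleGraph.dist_comm] at ih ⊢
    omega

theorem dist_le' (i j : ℤ) : ((Γ).dist (v i) (v j) : ℤ) ≤ |i - j| := by
  rcases le_total i j with h | h
  · obtain ⟨n, rfl⟩ := Int.le.dest h
    have := hv.dist_le i n
    rw [show i - (i + n) = -(n : ℤ) by ring, abs_neg, Nat.abs_cast]
    exact_mod_cast this
  · obtain ⟨n, rfl⟩ := Int.le.dest h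
    have := hv.dist_le j n
    rw [show j + n - j = (n : ℤ) by ring, Nat.abs_cast, SimpleGraph.dist_comm]
    exact_mod_cast this

end IsLine

theorem IsRay.smul {r : ℕ → 𝒱} (hr : IsRay r) (g : X) : IsRay fun i => g • r i :=
  ⟨fun i => adj_smul (hr.1 i) g, fun i h => hr.2 i (smul_left_cancel g h)⟩

theorem IsRay.glue {r r' : ℕ → 𝒱} (hr : IsRay r) (hr' : IsRay r') (h0 : r 0 = r' 0)
    (h1 : r 1 ≠ r' 1) (k : ℤ) :
    ∃ w : ℤ → 𝒱, IsLine w ∧ (∀ n : ℕ, w (k + n) = r n) ∧ ∀ n : ℕ, w (k - n) = r' n := by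
  let w : ℤ → 𝒱 := fun i => if k ≤ i then r (i - k).toNat else r' (k - i).toNat
  have e1 : ∀ n : ℕ, w (k + n) = r n := fun n => by simp [w]
  have e2 : ∀ n : ℕ, w (k - n) = r' n := fun n => by
    rcases n with _ | n
    · simp [w, h0]
    · have : ¬ k ≤ k - (n + 1 : ℕ) := by push_cast; omega
      simp only [w, this, if_false]
      congr 1
      omega
  refine ⟨w, ⟨fun i => ?_, fun i => ?_⟩, e1, e2⟩
  · rcases le_or_gt k i with h | h
    · obtain ⟨n, rfl⟩ := Int.le.dest h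
      rw [e1, show k + n + 1 = k + (n + 1 : ℕ) by push_cast; ring, e1]
      exact hr.1 n
    · obtain ⟨n, hn⟩ := Int.le.dest (show i + 1 ≤ k by omega)
      rw [show i = k - (n + 1 : ℕ) by push_cast; omega, e2,
        show k - (n + 1 : ℕ) + 1 = k - n by push_cast; ring, e2]
      exact (hr'.1 n).symm
  · rcases le_or_gt k i with h | h
    · obtain ⟨n, rfl⟩ := Int.le.dest h
      rw [e1, show k + n + 2 = k + (n + 2 : ℕ) by push_cast; ring, e1]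
      exact hr.2 n
    · rcases eq_or_lt_of_le (show i + 1 ≤ k by omega) with h' | h'
      · rw [show i = k - (1 : ℕ) by push_cast; omega, e2,
          show k - (1 : ℕ) + 2 = k + (1 : ℕ) by push_cast; ring, e1]
        exact h1.symm
      · obtain ⟨n, hn⟩ := Int.le.dest (show i + 2 ≤ k by omega)
        rw [show i = k - (n + 2 : ℕ) by push_cast; omega, e2,
          show k - (n + 2 : ℕ) + 2 = k - n by push_cast; ring, e2]
        exact (hr'.2 n).symm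

namespace DAmal

variable (h : DAmal M₁ M₂) {α β γ δ μ ν : CosetVertex M₁ M₂} {v : ℤ → CosetVertex M₁ M₂}
include h

theorem exists_ray (hμ : (Γ).Adj δ μ) : ∃ r : ℕ → 𝒱, IsRay r ∧ r 0 = δ ∧ r 1 = μ := by
  choose nx h1 h2 using fun a b : 𝒱 => h.exists_adj_ne₂ b a a
  let s : ℕ → 𝒱 × 𝒱 := fun n => (fun p : 𝒱 × 𝒱 => (p.2, nx p.1 p.2))^[n] (δ, μ)
  have hs : ∀ n, s (n + 1) = ((s n).2, nx (s n).1 (s n).2) := fun n =>
    Function.iterate_succ_apply' _ _ _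
  refine ⟨fun n => (s n).1, ⟨fun n => ?_, fun n => ?_⟩, rfl, rfl⟩
  · rcases n with _ | n
    · exact hμ
    · simp only [hs]
      exact h1 _ _
  · simp only [hs]
    exact (h2 _ _).1.symm

theorem exists_line (hμ : (Γ).Adj δ μ) : ∃ w : ℤ → 𝒱, IsLine w ∧ w 0 = δ ∧ w 1 = μ := by
  obtain ⟨κ, hκ, hne, -⟩ := h.exists_adj_ne₂ δ μ μ
  obtain ⟨r, hr, r0, r1⟩ := h.exists_ray hμ
  obtain ⟨r', hr', r0', r1'⟩ := h.exists_ray hκ
  obtain ⟨w, hw, e1, -⟩ := hr.glue hr' (r0.trans r0'.symm) (by rw [r1, r1']; exact hne.symm) 0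
  exact ⟨w, hw, by simpa [r0] using e1 0, by simpa [r1] using e1 1⟩

theorem splice (hv : IsLine v) (k : ℤ) (hδ : (Γ).Adj (v k) δ) (hne : δ ≠ v (k - 1)) :
    ∃ w : ℤ → 𝒱, IsLine w ∧ (∀ i ≤ k, w i = v i) ∧ w (k + 1) = δ := by
  obtain ⟨r, hr, r0, r1⟩ := h.exists_ray hδ
  obtain ⟨w, hw, e1, e2⟩ := hr.glue (hv.ray k) (by simp [r0]) (by simpa [r1] using hne) k
  refine ⟨w, hw, fun i hi => ?_, by simpa [r1] using e1 1⟩
  obtain ⟨n, rfl⟩ := Int.le.dest hi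
  simpa using e2 n

theorem splice' (hv : IsLine v) (k : ℤ) (hδ : (Γ).Adj (v k) δ) (hne : δ ≠ v (k + 1)) :
    ∃ w : ℤ → 𝒱, IsLine w ∧ (∀ i, k ≤ i → w i = v i) ∧ w (k - 1) = δ := by
  obtain ⟨w, hw, e1, e2⟩ := h.splice (hv.rev 0) (-k) (by simpa using hδ)
    (by rw [show 0 - (-k - 1) = k + 1 by ring]; exact hne)
  refine ⟨fun i => w (0 - i), hw.rev 0, fun i hi => ?_, ?_⟩
  · simpa using e1 (0 - i) (by omega)
  · rw [← e2]
    exact congrArg w (by ring)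

theorem exists_line_dist (δ μ : 𝒱) :
    ∃ w : ℤ → 𝒱, IsLine w ∧ w 0 = δ ∧ w ((Γ).dist δ μ) = μ := by
  have hc := connected h.char.1.1
  have key : ∀ k : ℕ, k + 1 ≤ (Γ).dist δ μ → ∃ w : ℤ → 𝒱, IsLine w ∧ w 0 = δ ∧
      (Γ).dist (w k) μ + k = (Γ).dist δ μ ∧ (Γ).dist (w (k + 1)) μ + (k + 1) = (Γ).dist δ μ := by
    intro k
    induction k with
    | zero =>
      intro hk
      obtain ⟨ν, hν, hd⟩ := exists_adj_dist_add_one (δ := δ) (μ := μ) (by omega)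
      obtain ⟨w, hw, w0, w1⟩ := h.exists_line hν
      exact ⟨w, hw, w0, by simp [w0], by simpa [w1] using hd⟩
    | succ k ih =>
      intro hk
      obtain ⟨w, hw, w0, d1, d2⟩ := ih (by omega)
      obtain ⟨ν, hν, hd⟩ := exists_adj_dist_add_one (δ := w (k + 1)) (μ := μ) (by omega)
      obtain ⟨u, hu, e1, e2⟩ := h.splice hw (k + 1) hν (by
        rw [add_sub_cancel_right]
        rintro rfl
        omega)
      refine ⟨u, hu, (e1 0 (by omega)).trans w0, ?_, ?_⟩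
      · push_cast
        rw [e1 _ le_rfl]; omega
      · push_cast
        rw [e2]; omega
  rcases Nat.eq_zero_or_pos ((Γ).dist δ μ) with h0 | h0
  · obtain ⟨ν, hν⟩ := exists_adj δ
    obtain ⟨w, hw, w0, -⟩ := h.exists_line hν
    refine ⟨w, hw, w0, ?_⟩
    rw [h0, Nat.cast_zero, w0]
    exact (hc.dist_eq_zero_iff).1 h0
  · obtain ⟨k, hk⟩ : ∃ k, (Γ).dist δ μ = k + 1 := ⟨_, (Nat.succ_pred_eq_of_pos h0).symm⟩
    obtain ⟨w, hw, w0, -, d2⟩ := key k hk.ge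
    refine ⟨w, hw, w0, ?_⟩
    rw [hk] at d2 ⊢
    push_cast
    exact (hc.dist_eq_zero_iff).1 (by omega)

theorem Z_le_Q_line (hv : IsLine v) {i j : ℤ} (hd : |i - j| < 𝐛) :
    vertexZ 2 (v i) ≤ vertexQ 2 (v j) :=
  h.Z_le_Q_of_lt (by have := hv.dist_le' i j; omega)

theorem Z_le_Q_adj (hv : IsLine v) {i j : ℤ} (hδ : (Γ).Adj (v i) δ) (hd : |i - j| + 1 < 𝐛) :
    vertexZ 2 δ ≤ vertexQ 2 (v j) :=
  h.Z_le_Q_of_lt (by
    have := hv.dist_le' i j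
    have := dist_le_succ_of_adj hδ.symm (v j)
    omega)

theorem Q_le_stab (hμ : (Γ).Adj δ μ) : vertexQ 2 δ ≤ stabilizer X μ :=
  (h.Q_le hμ).trans inf_le_right

theorem mul_mem_Q (hμ : (Γ).Adj δ μ) {x y : X} (hx : x ∈ stabilizer X δ) (hx' : x ∈ stabilizer X μ)
    (hy : y ∈ stabilizer X δ) (hy' : y ∈ stabilizer X μ) (h1 : x ∉ vertexQ 2 δ)
    (h2 : y ∉ vertexQ 2 δ) : x * y ∈ vertexQ 2 δ :=
  mul_mem_of_relIndex_two (h.qidx δ μ hμ) ⟨hx, hx'⟩ ⟨hy, hy'⟩ h1 h2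

/-- an element fixing `δ`, `μ` outside `Q_δ` moves every other neighbour -/
theorem smul_ne (hμ : (Γ).Adj δ μ) (hν : (Γ).Adj δ ν) (hne : μ ≠ ν) {g : X}
    (h0 : g ∈ stabilizer X δ) (h1 : g ∈ stabilizer X μ) (h2 : g ∉ vertexQ 2 δ) : g • ν ≠ ν :=
  fun e => h2 (h.mem_Q_of_fix hμ hν hne h0 h1 e)

theorem comm_of_mem_Q {z q : X} (hz : z ∈ vertexZ 2 δ) (hq : q ∈ vertexQ 2 δ) : q * z = z * q :=
  have _ := h
  vertexZ_le_centralizer δ hz q hq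

theorem Z_inv {z : X} (hz : z ∈ vertexZ 2 δ) : z⁻¹ = z :=
  inv_eq_of_mul_eq_one_right (h.Z_mul_self hz)

/-- a subgroup of an edge stabilizer normalized by `G_δ`, and by an element of `G_μ` moving `δ` -/
theorem eq_bot' (hμ : (Γ).Adj δ μ) {N : Subgroup X} (hN : N ≤ stabilizer X δ ⊓ stabilizer X μ)
    (h1 : stabilizer X δ ≤ 𝐍[N]) {s : X} (hs : s ∈ stabilizer X μ) (hs' : s ∉ stabilizer X δ)
    (h2 : s ∈ 𝐍[N]) : N = ⊥ :=
  h.eq_bot hμ hN h1 (h.le_of_sup_T hμ.symm (A := Subgroup.zpowers s) (Subgroup.zpowers_le.2 hs)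
    (fun hle => hs' (hle (Subgroup.mem_zpowers s))) (Subgroup.zpowers_le.2 h2)
    (inf_le_right.trans h1))

end DAmal

theorem conj_mem_Z {δ : 𝒱} {z : X} (hz : z ∈ vertexZ 2 δ) (g : X) :
    g * z * g⁻¹ ∈ vertexZ 2 (g • δ) := by
  rw [vertexZ_smul]; exact conj_mem_cj g hz

theorem conj_mem_Z_iff {δ : 𝒱} {z g : X} : g * z * g⁻¹ ∈ vertexZ 2 (g • δ) ↔ z ∈ vertexZ 2 δ := by
  rw [vertexZ_smul]; exact conj_mem_cj_iff

theorem conj_mem_Q_iff {δ : 𝒱} {z g : X} : g * z * g⁻¹ ∈ vertexQ 2 (g • δ) ↔ z ∈ vertexQ 2 δ := by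
  rw [vertexQ_smul]; exact conj_mem_cj_iff

theorem conj_mem_stab_iff {δ : 𝒱} {z g : X} :
    g * z * g⁻¹ ∈ stabilizer X (g • δ) ↔ z ∈ stabilizer X δ := by
  rw [stabilizer_smul]; exact conj_mem_cj_iff

/-- `G_δ` centralizes `Z_δ` -/
def Cen (δ : CosetVertex M₁ M₂) : Prop := stabilizer X δ ≤ 𝐂[vertexZ 2 δ]

theorem cen_smul (g : X) (δ : 𝒱) : Cen (g • δ) ↔ Cen δ := by
  unfold Cen
  rw [stabilizer_smul, vertexZ_smul, centralizer_cj, cj_le_cj_iff]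

/-- `V_β`, generated by the `Z_δ` of the neighbours -/
def VV (β : CosetVertex M₁ M₂) : Subgroup X :=
  ⨆ δ : {δ : CosetVertex M₁ M₂ // (cosetGraph M₁ M₂).Adj β δ}, vertexZ 2 (δ : CosetVertex M₁ M₂)

theorem VV_le_iff {β : 𝒱} {K : Subgroup X} : VV β ≤ K ↔ ∀ δ, (Γ).Adj β δ → vertexZ 2 δ ≤ K := by
  simp [VV]

theorem Z_le_VV {β δ : 𝒱} (h : (Γ).Adj β δ) : vertexZ 2 δ ≤ VV β := VV_le_iff.1 le_rfl δ h

theorem VV_smul (g : X) (β : 𝒱) : VV (g • β) = cj(g, VV β) := by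
  have key : ∀ (g : X) (β : 𝒱), cj(g, VV β) ≤ VV (g • β) := fun g β => by
    rw [cj_le_iff, VV_le_iff]
    intro δ hδ
    rw [← cj_le_iff, ← vertexZ_smul]
    exact Z_le_VV (adj_smul hδ g)
  refine le_antisymm ?_ (key g β)
  have := key g⁻¹ (g • β)
  rwa [inv_smul_smul, ← le_cj_iff] at this

theorem conj_mem_VV {β : 𝒱} {z : X} (hz : z ∈ VV β) (g : X) : g * z * g⁻¹ ∈ VV (g • β) := by
  rw [VV_smul]; exact conj_mem_cj g hz

theorem le_normalizer_VV (β : 𝒱) : stabilizer X β ≤ 𝐍[VV β] := fun g hg => by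
  rw [← cj_eq_iff, ← VV_smul, mem_stabilizer_iff.1 hg]

/-- for every arc of length `m` the stabilizer moves the neighbours of the end -/
def Long (M₁ M₂ : Subgroup X) (m : ℤ) : Prop :=
  ∀ v : ℤ → CosetVertex M₁ M₂, IsLine v → ∀ j : ℤ,
    ∃ g : X, (∀ k, j - m ≤ k → k ≤ j → g ∈ stabilizer X (v k)) ∧ g ∉ vertexQ 2 (v j)

/-- transitivity on the arcs of length `m` of each type -/
def Trans (M₁ M₂ : Subgroup X) (m : ℤ) : Prop :=
  ∀ v w : ℤ → CosetVertex M₁ M₂, IsLine v → IsLine w → ∀ i j : ℤ, (Cen (v i) ↔ Cen (w j)) →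
    ∃ g : X, ∀ k, 0 ≤ k → k ≤ m → g • v (i + k) = w (j + k)

/-- trivalent amalgam in which exactly one of the vertex groups centralizes its `Z` -/
structure GAmal (M₁ M₂ : Subgroup X) : Prop extends DAmal M₁ M₂ where
  three : ∀ δ μ : CosetVertex M₁ M₂, (cosetGraph M₁ M₂).Adj δ μ →
    (stabilizer X δ ⊓ stabilizer X μ).relIndex (stabilizer X δ) = 3
  alt : ∀ δ μ : CosetVertex M₁ M₂, (cosetGraph M₁ M₂).Adj δ μ → (Cen δ ↔ ¬ Cen μ)

namespace GAmal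

variable (h : GAmal M₁ M₂) {α β γ δ μ ν κ : CosetVertex M₁ M₂} {v w : ℤ → CosetVertex M₁ M₂}
include h

theorem third (hμ : (Γ).Adj δ μ) (hν : (Γ).Adj δ ν) (hκ : (Γ).Adj δ κ) (h1 : μ ≠ ν) (h2 : μ ≠ κ)
    (h4 : ν ≠ κ) {ε : 𝒱} (hε : (Γ).Adj δ ε) : ε = μ ∨ ε = ν ∨ ε = κ :=
  h.eq_third (h.three δ μ hμ) hμ hν hκ hε h1 h2 h4

/-- an element fixing `δ`, `μ` outside `Q_δ` swaps the other two neighbours -/
theorem smul_eq (hμ : (Γ).Adj δ μ) (hν : (Γ).Adj δ ν) (hκ : (Γ).Adj δ κ) (h1 : μ ≠ ν) (h2 : μ ≠ κ)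
    (h4 : ν ≠ κ) {g : X} (h0 : g ∈ stabilizer X δ) (hg : g ∈ stabilizer X μ)
    (hg' : g ∉ vertexQ 2 δ) : g • ν = κ := by
  rcases h.third hμ hν hκ h1 h2 h4 (adj_smul_of_mem hν h0) with e | e | e
  · exact absurd (smul_left_cancel g (e.trans (mem_stabilizer_iff.1 hg).symm)) h1.symm
  · exact absurd e (h.smul_ne hμ hν h1 h0 hg hg')
  · exact e

theorem cen_of_adj (hμ : (Γ).Adj δ μ) (hn : ¬ Cen δ) : Cen μ := by
  have := h.alt δ μ hμ; tauto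

theorem not_cen_of_adj (hμ : (Γ).Adj δ μ) (hn : Cen δ) : ¬ Cen μ := (h.alt δ μ hμ).1 hn

theorem cen_succ (hv : IsLine v) {i j : ℤ} (e : j = i + 1) : Cen (v j) ↔ ¬ Cen (v i) :=
  h.alt _ _ (hv.adj' e)

theorem cen_add (hv : IsLine v) (hw : IsLine w) {i j : ℤ} (e : Cen (v i) ↔ Cen (w j)) (k : ℤ) :
    Cen (v (i + k)) ↔ Cen (w (j + k)) := by
  induction k using Int.induction_on with
  | zero => simpa using e
  | succ k ih =>
    rw [h.cen_succ hv (i := i + k) (by ring), h.cen_succ hw (i := j + k) (by ring), ih]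
  | pred k ih =>
    rw [h.cen_succ hv (i := i + (-k - 1)) (by ring), h.cen_succ hw (i := j + (-k - 1)) (by ring)]
      at ih
    tauto

theorem edge_trans {δ' μ' : 𝒱} (hμ : (Γ).Adj δ μ) (hμ' : (Γ).Adj δ' μ') (e : Cen δ ↔ Cen δ') :
    ∃ g : X, g • δ = δ' ∧ g • μ = μ' := by
  have k := h.alt _ _ (adj_inl_inr (M₁ := M₁) (M₂ := M₂) 1)
  have k1 : ∀ x : X, Cen (Sum.inl (x : X ⧸ M₁) : 𝒱) ↔ Cen (Sum.inl ((1 : X) : X ⧸ M₁) : 𝒱) :=
    fun x => by rw [← cen_smul x (Sum.inl ((1 : X) : X ⧸ M₁)), smul_inl, mul_one]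
  have k2 : ∀ x : X, Cen (Sum.inr (x : X ⧸ M₂) : 𝒱) ↔ Cen (Sum.inr ((1 : X) : X ⧸ M₂) : 𝒱) :=
    fun x => by rw [← cen_smul x (Sum.inr ((1 : X) : X ⧸ M₂)), smul_inr, mul_one]
  obtain ⟨x, ⟨rfl, rfl⟩ | ⟨rfl, rfl⟩⟩ := adj_iff.1 hμ
  all_goals obtain ⟨y, ⟨rfl, rfl⟩ | ⟨rfl, rfl⟩⟩ := adj_iff.1 hμ'
  · exact ⟨y * x⁻¹, by simp [smul_inl], by simp [smul_inr]⟩
  · rw [k1, k2] at e; tauto
  · rw [k1, k2] at e; tauto
  · exact ⟨y * x⁻¹, by simp [smul_inr], by simp [smul_inl]⟩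

theorem trans_one : Trans M₁ M₂ 1 := by
  intro v w hv hw i j e
  obtain ⟨g, e1, e2⟩ := h.edge_trans (hv.1 i) (hw.1 j) e
  refine ⟨g, fun k k0 k1 => ?_⟩
  obtain rfl | rfl : k = 0 ∨ k = 1 := by omega
  · simpa using e1
  · exact e2

theorem trans_succ {m : ℤ} (hm : 1 ≤ m) (ht : Trans M₁ M₂ m) (hl : Long M₁ M₂ m) :
    Trans M₁ M₂ (m + 1) := by
  intro v w hv hw i j e
  obtain ⟨g, hg⟩ := ht v w hv hw i j e
  by_cases h1 : g • v (i + (m + 1)) = w (j + (m + 1))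
  · refine ⟨g, fun k k0 k1 => ?_⟩
    rcases eq_or_lt_of_le k1 with rfl | k2
    · exact h1
    · exact hg k k0 (by omega)
  obtain ⟨x, hx, hx'⟩ := hl w hw (j + m)
  refine ⟨x * g, fun k k0 k1 => ?_⟩
  rcases eq_or_lt_of_le k1 with rfl | k2
  · rw [mul_smul]
    have a1 : (Γ).Adj (w (j + m)) (g • v (i + (m + 1))) := by
      rw [← hg m (by omega) le_rfl]
      exact adj_smul (hv.adj (by ring)) g
    refine h.smul_eq (hw.adj' (j := j + (m - 1)) (by ring)) a1 (hw.adj (by ring)) ?_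
      (hw.ne (by ring)) h1 (hx _ (by omega) le_rfl) (hx _ (by omega) (by omega)) hx'
    rw [← hg (m - 1) (by omega) (by omega)]
    exact fun e => hv.ne (by ring) (smul_left_cancel g e)
  · rw [mul_smul, hg k k0 (by omega)]
    exact hx _ (by omega) (by omega)

theorem long_of_trans {m n : ℤ} (h0 : 0 ≤ m) (hmn : m ≤ n) (ht : Trans M₁ M₂ m)
    {u u' : ℤ → 𝒱} (hu : IsLine u) (hu' : IsLine u') {j j' : ℤ} (c : ¬ Cen (u j))
    (c' : Cen (u' j')) {x x' : X} (hx : ∀ k, j - n ≤ k → k ≤ j → x ∈ stabilizer X (u k))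
    (hy : x ∉ vertexQ 2 (u j)) (hx' : ∀ k, j' - n ≤ k → k ≤ j' → x' ∈ stabilizer X (u' k))
    (hy' : x' ∉ vertexQ 2 (u' j')) : Long M₁ M₂ m := by
  have key : ∀ (u : ℤ → 𝒱), IsLine u → ∀ (j : ℤ) (x : X),
      (∀ k, j - n ≤ k → k ≤ j → x ∈ stabilizer X (u k)) → x ∉ vertexQ 2 (u j) →
      ∀ v : ℤ → 𝒱, IsLine v → ∀ i : ℤ, (Cen (u j) ↔ Cen (v i)) →
      ∃ g : X, (∀ k, i - m ≤ k → k ≤ i → g ∈ stabilizer X (v k)) ∧ g ∉ vertexQ 2 (v i) := by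
    intro u hu j x hx hy v hv i e
    obtain ⟨g, hg⟩ := ht u v hu hv (j + -m) (i + -m) (h.cen_add hu hv e _)
    refine ⟨g * x * g⁻¹, fun k k0 k1 => ?_, ?_⟩
    · have := hg (k - (i + -m)) (by omega) (by omega)
      rw [show i + -m + (k - (i + -m)) = k by ring] at this
      rw [← this, conj_mem_stab_iff]
      exact hx _ (by omega) (by omega)
    · have := hg m h0 le_rfl
      rw [show i + -m + m = i by ring, show j + -m + m = j by ring] at this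
      rw [← this, conj_mem_Q_iff]
      exact hy
  intro v hv i
  by_cases e : Cen (v i)
  · exact key u' hu' j' x' hx' hy' v hv i (by tauto)
  · exact key u hu j x hx hy v hv i (by tauto)

theorem long_trans {n : ℤ} (hn : 1 ≤ n)
    {u u' : ℤ → 𝒱} (hu : IsLine u) (hu' : IsLine u') {j j' : ℤ} (c : ¬ Cen (u j))
    (c' : Cen (u' j')) {x x' : X} (hx : ∀ k, j - n ≤ k → k ≤ j → x ∈ stabilizer X (u k))
    (hy : x ∉ vertexQ 2 (u j)) (hx' : ∀ k, j' - n ≤ k → k ≤ j' → x' ∈ stabilizer X (u' k))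
    (hy' : x' ∉ vertexQ 2 (u' j')) : Long M₁ M₂ n ∧ Trans M₁ M₂ (n + 1) := by
  have key : ∀ m : ℕ, (m : ℤ) + 1 ≤ n + 1 → Trans M₁ M₂ (m + 1) := by
    intro m
    induction m with
    | zero => intro _; simpa using h.trans_one
    | succ m ih =>
      intro hm
      push_cast at hm ⊢
      have ht := ih (by omega)
      exact h.trans_succ (by omega) ht
        (h.long_of_trans (by omega) (by omega) ht hu hu' c c' hx hy hx' hy')
  obtain ⟨m, rfl⟩ := Int.eq_ofNat_of_zero_le (show 0 ≤ n by omega)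
  refine ⟨?_, key m le_rfl⟩
  obtain ⟨k, rfl⟩ : ∃ k, m = k + 1 := ⟨m - 1, by omega⟩
  exact h.long_of_trans (by omega) le_rfl (by push_cast; exact key k (by omega)) hu hu' c c' hx hy
    hx' hy'

/-! ### local structure -/

theorem mem_Z_of_cen (hc : Cen β) (hα : (Γ).Adj β α) {z : X} (h1 : z ∈ stabilizer X β)
    (h2 : z ∈ stabilizer X α) (h3 : z * z = 1)
    (h4 : ∀ t ∈ stabilizer X β, t ∈ stabilizer X α → t * z = z * t) : z ∈ vertexZ 2 β :=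
  have _ := hc
  le_sylowCenterClosure (h.sylow hα) (Subgroup.subset_closure
    ⟨⟨⟨h1, h2⟩, fun t ht => h4 t ht.1 ht.2⟩, by rw [pow_two]; exact h3⟩)

theorem comm_of_cen (hc : Cen β) {z g : X} (hz : z ∈ vertexZ 2 β) (hg : g ∈ stabilizer X β) :
    g * z = z * g :=
  have _ := h
  (hc hg z hz).symm

theorem Z_le_Z (hc : Cen β) (hα : (Γ).Adj β α) : vertexZ 2 β ≤ vertexZ 2 α := fun z hz =>
  le_sylowCenterClosure (h.sylow hα.symm) (Subgroup.subset_closure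
    ⟨⟨h.Q_le' hα.symm (h.Z_le_Q β hz), fun _ ht => h.comm_of_cen hc hz ht.2⟩,
      by rw [pow_two]; exact h.Z_mul_self hz⟩)

theorem eq_one_of_mem_Z_Z (hc : ¬ Cen α) (hβ : (Γ).Adj α β) (hγ : (Γ).Adj α γ) (hne : β ≠ γ)
    {z : X} (h1 : z ∈ vertexZ 2 β) (h2 : z ∈ vertexZ 2 γ) : z = 1 := by
  have cβ := h.cen_of_adj hβ hc
  have cγ := h.cen_of_adj hγ hc
  have k1 : stabilizer X β ≤ 𝐂[vertexZ 2 β ⊓ vertexZ 2 γ] :=
    cβ.trans (centralizer_anti inf_le_left)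
  have k2 : stabilizer X γ ≤ 𝐂[vertexZ 2 β ⊓ vertexZ 2 γ] :=
    cγ.trans (centralizer_anti inf_le_right)
  have := h.eq_bot hβ (N := vertexZ 2 β ⊓ vertexZ 2 γ)
    (inf_le_left.trans ((h.Z_le_Q β).trans (h.Q_le' hβ)))
    ((h.le_of_T_T hβ hγ hne (inf_le_right.trans k1) (inf_le_right.trans k2)).trans
      (centralizer_le_normalizer' _)) (k1.trans (centralizer_le_normalizer' _))
  exact (Subgroup.eq_bot_iff_forall _).1 this z ⟨h1, h2⟩

theorem mem_Q_of_centralizes (hc : ¬ Cen α) {g : X} (hg : g ∈ stabilizer X α)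
    (hz : ∀ z ∈ vertexZ 2 α, z * g = g * z) : g ∈ vertexQ 2 α := by
  obtain ⟨β, hβ⟩ := exists_adj α
  have cβ := h.cen_of_adj hβ hc
  refine h.centralizer_Z_le hβ (fun hle => ?_) ⟨hg, hz⟩
  have k : vertexZ 2 β ≤ omegaOne 2 ((stabilizer X α ⊓ stabilizer X β) ⊓
      𝐂[stabilizer X α ⊓ stabilizer X β]) := fun z hz => Subgroup.subset_closure
    ⟨⟨h.Q_le' hβ (h.Z_le_Q β hz), fun _ ht => h.comm_of_cen cβ hz ht.2⟩,
      by rw [pow_two]; exact h.Z_mul_self hz⟩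
  exact h.Z_ne_bot β (h.eq_bot hβ ((h.Z_le_Q β).trans (h.Q_le' hβ))
    ((hle.trans (centralizer_anti k)).trans (centralizer_le_normalizer' _))
    (le_normalizer_vertexZ β))

/-- an involution of `C(Q_α)` commuting with an element of `G_{αβ} \ Q_α` lies in `Z_β` -/
theorem mem_Z_of_comm (hc : ¬ Cen α) (hβ : (Γ).Adj α β) {z t : X} (hz : z ∈ vertexQ 2 α)
    (hz2 : z * z = 1) (hzc : ∀ q ∈ vertexQ 2 α, q * z = z * q) (ht : t ∈ stabilizer X α)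
    (ht' : t ∈ stabilizer X β) (htQ : t ∉ vertexQ 2 α) (e : t * z = z * t) :
    z ∈ vertexZ 2 β := by
  refine h.mem_Z_of_cen (h.cen_of_adj hβ hc) hβ.symm (h.Q_le_stab hβ hz) (vertexQ_le α hz) hz2 ?_
  intro s hs hs'
  by_cases hsQ : s ∈ vertexQ 2 α
  · exact hzc s hsQ
  · have := hzc _ (h.mul_mem_Q hβ hs' hs ht ht' hsQ htQ)
    calc s * z = s * t * (t⁻¹ * z * t) * t⁻¹ := by group
      _ = s * t * z * t⁻¹ := by rw [mul_assoc t⁻¹, ← e]; group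
      _ = z * s := by rw [this]; group

theorem mem_Z_of_comm' (hc : ¬ Cen α) (hβ : (Γ).Adj α β) {z t : X} (hz : z ∈ vertexZ 2 α)
    (ht : t ∈ stabilizer X α) (ht' : t ∈ stabilizer X β) (htQ : t ∉ vertexQ 2 α)
    (e : t * z = z * t) : z ∈ vertexZ 2 β :=
  h.mem_Z_of_comm hc hβ (h.Z_le_Q α hz) (h.Z_mul_self hz) (fun _ hq => h.comm_of_mem_Q hz hq) ht ht'
    htQ e

/-- `[Z_α, G_{αβ}] ≤ Z_β` -/
theorem comm_mem_Z (hc : ¬ Cen α) (hβ : (Γ).Adj α β) {z t : X} (hz : z ∈ vertexZ 2 α)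
    (ht : t ∈ stabilizer X α) (ht' : t ∈ stabilizer X β) : z * (t * z * t⁻¹) ∈ vertexZ 2 β := by
  have hm : ⁅z, t⁆ ∈ RR α β := Subgroup.commutator_mem_commutator hz ⟨ht, ht'⟩
  have e : ⁅z, t⁆ = z * (t * z * t⁻¹) := by
    rw [commutatorElement_def, h.Z_inv hz]; group
  rw [e] at hm
  have h1 := h.RR_le α β hm
  exact h.mem_Z_of_cen (h.cen_of_adj hβ hc) hβ.symm (h.Q_le_stab hβ (h.Z_le_Q α h1))
    (vertexZ_le α h1) (h.Z_mul_self h1) fun s hs hs' => h.RR_le_centralizer hβ hm s ⟨hs', hs⟩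

theorem Z_not_le (hc : Cen β) (hδ : (Γ).Adj β δ) (hγ : (Γ).Adj β γ) (hne : δ ≠ γ) :
    ¬ vertexZ 2 δ ≤ vertexZ 2 γ := by
  intro hle
  have _ := hc
  have := h.finite δ
  have := h.finite γ
  have := finite_of_le (vertexZ_le (p := 2) γ)
  obtain ⟨g, hg, rfl⟩ := exists_smul_eq_of_adj hδ hγ
  have e : vertexZ 2 δ = vertexZ 2 (g • δ) :=
    Subgroup.eq_of_le_of_card_ge hle (by rw [vertexZ_smul, card_cj])
  refine h.Z_ne_bot δ (h.eq_bot hδ ((h.Z_le_Q δ).trans (h.Q_le' hδ)) ?_ (le_normalizer_vertexZ δ))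
  exact h.le_of_T_T hδ hγ hne (inf_le_right.trans (le_normalizer_vertexZ δ))
    (inf_le_right.trans (e ▸ le_normalizer_vertexZ _))

/-- `C_{G_β}(V_β) ≤ Q_β` -/
theorem mem_Q_of_centralizes_VV (hc : Cen β) {g : X} (hg : g ∈ stabilizer X β)
    (hz : ∀ δ, (Γ).Adj β δ → g ∈ vertexQ 2 δ) : g ∈ vertexQ 2 β := by
  have _ := hc
  rw [← h.nk_eq, mem_neighbourKernel]
  exact ⟨hg, fun δ hδ => vertexQ_le δ (hz δ hδ)⟩

/-- `[V_β, Q_β] ≤ Z_β` -/
theorem comm_VV_Q (hc : Cen β) {x q : X} (hx : x ∈ VV β) (hq : q ∈ vertexQ 2 β) :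
    q * x * q⁻¹ * x⁻¹ ∈ vertexZ 2 β := by
  have hn : ∀ y ∈ VV β, y ∈ 𝐂[vertexZ 2 β] := by
    intro y hy
    refine (VV_le_iff (K := 𝐂[vertexZ 2 β])).2 (fun δ hδ => ?_) hy
    intro z hz w hw
    exact h.Z_comm (h.Z_le_Z hc hδ hw) hz
  let K : Subgroup X :=
    { carrier := {x | x ∈ VV β ∧ q * x * q⁻¹ * x⁻¹ ∈ vertexZ 2 β}
      one_mem' := ⟨one_mem _, by simp⟩
      mul_mem' := by
        rintro a b ⟨ha, ha'⟩ ⟨hb, hb'⟩
        refine ⟨mul_mem ha hb, ?_⟩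
        have := hn a ha _ hb'
        have e : q * (a * b) * q⁻¹ * (a * b)⁻¹ =
            q * a * q⁻¹ * a⁻¹ * (a * (q * b * q⁻¹ * b⁻¹)) * a⁻¹ := by group
        rw [e, ← this, mul_assoc, mul_inv_cancel_right]
        exact mul_mem ha' hb'
      inv_mem' := by
        rintro a ⟨ha, ha'⟩
        refine ⟨inv_mem ha, ?_⟩
        have := hn a ha _ (inv_mem ha')
        have e : q * a⁻¹ * q⁻¹ * a⁻¹⁻¹ = a⁻¹ * ((q * a * q⁻¹ * a⁻¹)⁻¹ * a) := by group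
        rw [e, this, inv_mul_cancel_left]
        exact inv_mem ha' }
  refine ((VV_le_iff (K := K)).2 (fun δ hδ z hz => ⟨Z_le_VV hδ hz, ?_⟩) hx).2
  have := h.comm_mem_Z (h.not_cen_of_adj hδ hc) hδ.symm hz (h.Q_le_stab hδ hq) (vertexQ_le β hq)
  have e := h.Z_comm hz (conj_mem_of_mem_normalizer (le_normalizer_vertexZ δ (h.Q_le_stab hδ hq)) hz)
  rw [h.Z_inv hz, ← e]
  exact this

/-- `Z_α = Z_β Z_γ` -/
theorem Z_le_sup (hc : ¬ Cen α) (hβ : (Γ).Adj α β) (hγ : (Γ).Adj α γ) (hne : β ≠ γ) :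
    vertexZ 2 α ≤ vertexZ 2 β ⊔ vertexZ 2 γ := by
  have := h.finite α
  have key : ∀ ε, (Γ).Adj α ε → vertexZ 2 ε ≤ vertexZ 2 β ⊔ vertexZ 2 γ := by
    intro ε hε
    by_cases e1 : ε = β
    · rw [e1]; exact le_sup_left
    by_cases e2 : ε = γ
    · rw [e2]; exact le_sup_right
    obtain ⟨t, ht, ht'⟩ := SetLike.not_le_iff_exists.1 (h.not_le_Q hβ)
    have e := h.smul_eq hβ hε hγ (Ne.symm e1) hne e2 ht.1 ht.2 ht'
    intro z hz
    have hz' := h.Z_le_Z (h.cen_of_adj hε hc) hε.symm hz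
    have k1 := h.comm_mem_Z hc hβ hz' ht.1 ht.2
    have k2 := conj_mem_Z hz t
    rw [e] at k2
    have : z = z * (t * z * t⁻¹) * (t * z * t⁻¹)⁻¹ := by group
    rw [this]
    exact mul_mem (Subgroup.mem_sup_left k1) (Subgroup.mem_sup_right (inv_mem k2))
  refine sylowCenterClosure_le_iff.2 fun T hT => ?_
  obtain ⟨ε, hε, hle⟩ := exists_adj_le h.char hT.isPGroup hT.le
  have e : stabilizer X α ⊓ stabilizer X ε = T :=
    hT.eq_of_le (h.two _ _ hε) (le_inf hT.le hle) inf_le_left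
  refine le_trans ?_ (key ε hε)
  refine (Subgroup.closure_le _).2 fun z hz => ?_
  rw [← e] at hz
  exact h.mem_Z_of_cen (h.cen_of_adj hε hc) hε.symm hz.1.1.2 hz.1.1.1
    (by rw [← pow_two]; exact hz.2) fun t ht ht' => hz.1.2 t ⟨ht', ht⟩

theorem exists_mul_of_mem_Z (hc : ¬ Cen α) (hβ : (Γ).Adj α β) (hγ : (Γ).Adj α γ) (hne : β ≠ γ)
    {z : X} (hz : z ∈ vertexZ 2 α) : ∃ a ∈ vertexZ 2 β, ∃ b ∈ vertexZ 2 γ, z = a * b := by
  refine (mem_sup_of_le_normalizer_right ?_).1 (h.Z_le_sup hc hβ hγ hne hz)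
  refine le_trans ?_ (centralizer_le_normalizer' _)
  intro a ha w hw
  exact h.Z_comm (h.Z_le_Z (h.cen_of_adj hγ hc) hγ.symm hw) (h.Z_le_Z (h.cen_of_adj hβ hc) hβ.symm ha)

/-- vertices of central type joined by a short arc have `Z ∩ Z = 1` -/
theorem eq_one_of_long {m : ℤ} (hl : Long M₁ M₂ m) (hv : IsLine v) {i j : ℤ} (ci : Cen (v i))
    (cj : Cen (v j)) (h1 : i + 2 ≤ j) (h2 : j ≤ i + m + 1) {z : X} (zi : z ∈ vertexZ 2 (v i))
    (zj : z ∈ vertexZ 2 (v j)) : z = 1 := by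
  obtain ⟨g, hg, hg'⟩ := hl v hv (j - 1)
  have a1 : (Γ).Adj (v (j - 1)) (v j) := hv.adj (by ring)
  have k := conj_mem_Z zj g
  rw [h.comm_of_cen ci zi (hg i (by omega) (by omega)), mul_inv_cancel_right] at k
  refine h.eq_one_of_mem_Z_Z (h.not_cen_of_adj a1.symm cj) a1
    (adj_smul_of_mem a1 (hg _ (by omega) le_rfl)) ?_ zj k
  exact (h.smul_ne (hv.adj' (j := j - 2) (by ring)) a1 (hv.ne (by ring))
    (hg _ (by omega) le_rfl) (hg _ (by omega) (by omega)) hg').symm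

/-- 2-transitivity on the neighbours -/
theorem exists_smul_two (hμ : (Γ).Adj δ μ) (hν : (Γ).Adj δ ν) (hne : μ ≠ ν) {μ' ν' : 𝒱}
    (hμ' : (Γ).Adj δ μ') (hν' : (Γ).Adj δ ν') (hne' : μ' ≠ ν') :
    ∃ g ∈ stabilizer X δ, g • μ = μ' ∧ g • ν = ν' := by
  obtain ⟨g, hg, rfl⟩ := exists_smul_eq_of_adj hμ hμ'
  by_cases e : g • ν = ν'
  · exact ⟨g, hg, rfl, e⟩
  obtain ⟨t, ht, ht'⟩ := SetLike.not_le_iff_exists.1 (h.not_le_Q hμ')
  refine ⟨t * g, mul_mem ht.1 hg, ?_, ?_⟩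
  · rw [mul_smul]; exact ht.2
  · rw [mul_smul]
    exact h.smul_eq hμ' (adj_smul_of_mem hν hg) hν' (fun e => hne (smul_left_cancel g e)) hne' e
      ht.1 ht.2 ht'

end GAmal

end Cfsg.Agent.PLocal.Amal
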