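import Mathlib
import Cfsg.Agent.PLocal.AmalgamLine

/-!
Goldschmidt amalgams: critical distance one, and even critical distance.
-/

set_option autoImplicit false

namespace Cfsg.Agent.PLocal.Amal

open Cfsg Cfsg.Agent.PLocal.Amb MulAction
open scoped commutatorElement

variable {X : Type*} [Group X] {M₁ M₂ : Subgroup X}

local notation "Γ" => cosetGraph M₁ M₂
local notation "𝐛" => criticalDistance 2 M₁ M₂
local notation "𝒱" => CosetVertex M₁ M₂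

theorem mem_normalizer_of_sq {N : Subgroup X} {s : X} (hs : s * s = 1)
    (h : ∀ x ∈ N, s * x * s⁻¹ ∈ N) : s ∈ 𝐍[N] := by
  rw [Subgroup.mem_normalizer_iff]
  refine fun x => ⟨h x, fun hx => ?_⟩
  have := h _ hx
  rwa [show s * (s * x * s⁻¹) * s⁻¹ = (s * s) * x * (s * s)⁻¹ by group, hs, one_mul, inv_one,
    mul_one] at this

/-- the kernel on the ball of radius two -/
def DD (β : CosetVertex M₁ M₂) : Subgroup X :=
  vertexQ 2 β ⊓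
    ⨅ δ : {δ : CosetVertex M₁ M₂ // (cosetGraph M₁ M₂).Adj β δ}, vertexQ 2 (δ : CosetVertex M₁ M₂)

theorem mem_DD {β : 𝒱} {x : X} :
    x ∈ DD β ↔ x ∈ vertexQ 2 β ∧ ∀ δ, (Γ).Adj β δ → x ∈ vertexQ 2 δ := by
  simp [DD, Subgroup.mem_iInf]

theorem conj_mem_DD {β : 𝒱} {x : X} (hx : x ∈ DD β) (g : X) : g * x * g⁻¹ ∈ DD (g • β) := by
  rw [mem_DD] at hx ⊢
  refine ⟨conj_mem_Q_iff.2 hx.1, fun δ hδ => ?_⟩
  rw [← smul_inv_smul g δ, conj_mem_Q_iff]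
  exact hx.2 _ (by simpa using adj_smul hδ g⁻¹)

theorem conj_mem_DD' {β : 𝒱} {x g : X} (hx : x ∈ DD β) (hg : g ∈ stabilizer X β) :
    g * x * g⁻¹ ∈ DD β := by
  have := conj_mem_DD hx g
  rwa [mem_stabilizer_iff.1 hg] at this

/-- the kernel on the ball of radius three -/
def NN (α : CosetVertex M₁ M₂) : Subgroup X :=
  ⨅ β : {β : CosetVertex M₁ M₂ // (cosetGraph M₁ M₂).Adj α β}, DD (β : CosetVertex M₁ M₂)

theorem mem_NN {α : 𝒱} {x : X} : x ∈ NN α ↔ ∀ β, (Γ).Adj α β → x ∈ DD β := by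
  simp [NN, Subgroup.mem_iInf]

theorem conj_mem_NN {α : 𝒱} {x g : X} (hx : x ∈ NN α) (hg : g ∈ stabilizer X α) :
    g * x * g⁻¹ ∈ NN α := by
  rw [mem_NN] at hx ⊢
  intro β hβ
  rw [← smul_inv_smul g β]
  exact conj_mem_DD (hx _ (adj_smul_of_mem hβ (inv_mem hg))) g

theorem le_normalizer_NN (α : 𝒱) : stabilizer X α ≤ 𝐍[NN α] :=
  le_normalizer_iff_cj.2 fun _ hg => cj_le_iff_forall.2 fun _ hx => conj_mem_NN hx hg

/-- the groups `Z_β` of central type have order two -/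
def One (M₁ M₂ : Subgroup X) : Prop :=
  ∀ β : CosetVertex M₁ M₂, Cen β → ∀ x ∈ vertexZ 2 β, ∀ y ∈ vertexZ 2 β, x ≠ 1 → y ≠ 1 → x = y

theorem One.Z_le (ho : One M₁ M₂) {β : 𝒱} (hc : Cen β) {r : X} (hr : r ∈ vertexZ 2 β) (h1 : r ≠ 1)
    {K : Subgroup X} (hK : r ∈ K) : vertexZ 2 β ≤ K := fun x hx => by
  by_cases e : x = 1
  · rw [e]; exact one_mem _
  · rw [ho β hc x hx r hr e h1]; exact hK

namespace DAmal

variable (h : DAmal M₁ M₂) {α β γ δ μ ν : CosetVertex M₁ M₂}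
include h

theorem card_step (hμ : (Γ).Adj δ μ) {A : Subgroup X} (h1 : A ≤ stabilizer X δ)
    (h2 : A ≤ stabilizer X μ) : Nat.card A ≤ 2 * Nat.card ↥(A ⊓ vertexQ 2 δ) := by
  have := relIndex_le_two (h.qidx δ μ hμ) (le_inf h1 h2)
  rw [← card_inf_mul_relIndex (vertexQ 2 δ) A, inf_comm, mul_comm]
  exact Nat.mul_le_mul_right _ this

theorem NN_eq_bot (hβ : (Γ).Adj α β) {s : X} (hs : s ∈ stabilizer X β) (hs' : s ∉ stabilizer X α)
    (hc : ∀ x ∈ NN α, x * s = s * x) : NN α = ⊥ :=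
  h.eq_bot' hβ (fun _ hx => h.Q_le' hβ (mem_DD.1 (mem_NN.1 hx β hβ)).1) (le_normalizer_NN α) hs hs'
    (centralizer_le_normalizer' _ hc)

theorem card_le_of_b_one
    (h3 : ∀ δ μ : 𝒱, (Γ).Adj δ μ → (stabilizer X δ ⊓ stabilizer X μ).relIndex (stabilizer X δ) = 3)
    (hb : 𝐛 = 1) : ∃ α β : 𝒱, (Γ).Adj α β ∧ Nat.card ↥(stabilizer X α ⊓ stabilizer X β) ≤ 2 ^ 7 := by
  obtain ⟨α, β, hc⟩ := exists_criticalPair h.char
  have hβ : (Γ).Adj α β := SimpleGraph.dist_eq_one_iff_adj.1 (hc.2.trans hb)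
  have k1 : ∀ β', (Γ).Adj α β' → ∀ δ, (Γ).Adj β' δ → ¬ vertexZ 2 δ ≤ vertexQ 2 β' := by
    intro β' hβ' δ hδ
    obtain ⟨g, hg, rfl⟩ := exists_smul_eq_of_adj hβ hβ'
    obtain ⟨g', hg', rfl⟩ := exists_smul_eq_of_adj hβ'.symm hδ
    have := h.crit_not_le (crit_smul (crit_smul hc g) g')
    rwa [mem_stabilizer_iff.1 hg, mem_stabilizer_iff.1 hg'] at this
  have k2 : ∀ β', (Γ).Adj α β' → ∀ δ, (Γ).Adj β' δ → δ ≠ α → ∀ x ∈ vertexQ 2 α,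
      x ∈ vertexQ 2 β' → x ∈ vertexQ 2 δ → x ∈ DD β' := by
    intro β' hβ' δ hδ hne x h1 h2 h4
    refine mem_DD.2 ⟨h2, fun ε hε => ?_⟩
    obtain ⟨a, ha, ha'⟩ := SetLike.not_le_iff_exists.1 (k1 β' hβ' α hβ'.symm)
    have haβ := h.Q_le_stab hβ' (h.Z_le_Q α ha)
    have haα := vertexZ_le α ha
    rcases h.eq_third (h3 _ _ hβ'.symm) hβ'.symm hδ (adj_smul_of_mem hδ haβ) hε hne.symm
      (fun e => hne (smul_left_cancel a (e.symm.trans (mem_stabilizer_iff.1 haα).symm)))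
      (h.smul_ne hβ'.symm hδ hne.symm haβ haα ha').symm with e | e | e
    · rw [e]; exact h1
    · rw [e]; exact h4
    · have := conj_mem_Q_iff (g := a).2 h4
      rwa [← h.comm_of_mem_Q ha h1, mul_inv_cancel_right, ← e] at this
  obtain ⟨β₂, β₃, a2, a3, n2, n3, n23⟩ := h.exists_adj_ne α β
  obtain ⟨δ₁, d1, m1, -⟩ := h.exists_adj_ne₂ β α α
  obtain ⟨δ₂, d2, m2, -⟩ := h.exists_adj_ne₂ β₂ α α
  obtain ⟨δ₃, d3, m3, -⟩ := h.exists_adj_ne₂ β₃ α α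
  obtain ⟨s, hs, hs'⟩ := SetLike.not_le_iff_exists.1 (k1 β hβ δ₁ d1)
  have hsβ := h.Q_le_stab d1.symm (h.Z_le_Q _ hs)
  have hN : NN α = ⊥ := h.NN_eq_bot hβ hsβ
    (fun hsα => hs' (h.mem_Q_of_fix d1 hβ.symm m1 hsβ (vertexZ_le _ hs) hsα))
    fun x hx => h.comm_of_mem_Q hs ((mem_DD.1 (mem_NN.1 hx β hβ)).2 _ d1)
  refine ⟨α, β, hβ, ?_⟩
  set A0 := stabilizer X α ⊓ stabilizer X β
  have c1 := h.card_step hβ (A := A0) inf_le_left inf_le_right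
  set A1 := A0 ⊓ vertexQ 2 α
  have q1 : A1 ≤ vertexQ 2 α := inf_le_right
  have c2 := h.card_step hβ.symm (q1.trans (h.Q_le_stab hβ)) (q1.trans (vertexQ_le α))
  set A2 := A1 ⊓ vertexQ 2 β
  have q2 : A2 ≤ vertexQ 2 β := inf_le_right
  have c3 := h.card_step d1.symm (q2.trans (h.Q_le_stab d1)) (q2.trans (vertexQ_le β))
  set A3 := A2 ⊓ vertexQ 2 δ₁
  have q3 : A3 ≤ vertexQ 2 α := inf_le_left.trans (inf_le_left.trans q1)
  have c4 := h.card_step a2.symm (q3.trans (h.Q_le_stab a2)) (q3.trans (vertexQ_le α))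
  set A4 := A3 ⊓ vertexQ 2 β₂
  have q4 : A4 ≤ vertexQ 2 β₂ := inf_le_right
  have c5 := h.card_step d2.symm (q4.trans (h.Q_le_stab d2)) (q4.trans (vertexQ_le β₂))
  set A5 := A4 ⊓ vertexQ 2 δ₂
  have q5 : A5 ≤ vertexQ 2 α := inf_le_left.trans (inf_le_left.trans q3)
  have c6 := h.card_step a3.symm (q5.trans (h.Q_le_stab a3)) (q5.trans (vertexQ_le α))
  set A6 := A5 ⊓ vertexQ 2 β₃
  have q6 : A6 ≤ vertexQ 2 β₃ := inf_le_right
  have c7 := h.card_step d3.symm (q6.trans (h.Q_le_stab d3)) (q6.trans (vertexQ_le β₃))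
  have e : A6 ⊓ vertexQ 2 δ₃ = ⊥ := by
    rw [eq_bot_iff, ← hN]
    rintro x ⟨⟨⟨⟨⟨⟨⟨-, x1⟩, x2⟩, x3⟩, x4⟩, x5⟩, x6⟩, x7⟩
    refine mem_NN.2 fun ε hε => ?_
    rcases h.eq_third (h3 _ _ hβ) hβ a2 a3 hε n2.symm n3.symm n23 with e | e | e
    · rw [e]; exact k2 _ hβ _ d1 m1 x x1 x2 x3
    · rw [e]; exact k2 _ a2 _ d2 m2 x x1 x4 x5
    · rw [e]; exact k2 _ a3 _ d3 m3 x x1 x6 x7
  rw [e, Subgroup.card_bot] at c7
  omega

end DAmal

namespace GAmal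

variable (h : GAmal M₁ M₂) {α β γ δ μ ν κ : CosetVertex M₁ M₂} {v w : ℤ → CosetVertex M₁ M₂}
include h

theorem one_of_base (hc : Cen β)
    (ho : ∀ x ∈ vertexZ 2 β, ∀ y ∈ vertexZ 2 β, x ≠ 1 → y ≠ 1 → x = y) : One M₁ M₂ := by
  intro β' hc' x hx y hy x1 y1
  obtain ⟨α, hα⟩ := exists_adj β
  obtain ⟨α', hα'⟩ := exists_adj β'
  obtain ⟨g, rfl, -⟩ := h.edge_trans hα' hα (by tauto)
  have := ho _ (conj_mem_Z hx g) _ (conj_mem_Z hy g) (by simpa using x1) (by simpa using y1)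
  simpa using this

theorem one_of_index (hc : ¬ Cen α) (hβ : (Γ).Adj α β)
    (hi : ∀ x ∈ vertexZ 2 α, ∀ y ∈ vertexZ 2 α, x ∉ vertexZ 2 β → y ∉ vertexZ 2 β →
      x * y ∈ vertexZ 2 β) : One M₁ M₂ := by
  obtain ⟨γ, hγ, hne, -⟩ := h.exists_adj_ne₂ α β β
  have cγ := h.cen_of_adj hγ hc
  refine h.one_of_base cγ fun x hx y hy x1 y1 => ?_
  have := hi x (h.Z_le_Z cγ hγ.symm hx) y (h.Z_le_Z cγ hγ.symm hy)
    (fun e => x1 (h.eq_one_of_mem_Z_Z hc hγ hβ hne hx e))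
    (fun e => y1 (h.eq_one_of_mem_Z_Z hc hγ hβ hne hy e))
  have e := h.eq_one_of_mem_Z_Z hc hγ hβ hne (mul_mem hx hy) this
  rw [eq_inv_of_mul_eq_one_left e, h.Z_inv hy]

section One

variable (ho : One M₁ M₂)
include ho

theorem mul_mem_Z (hc : Cen β) (hα : (Γ).Adj β α) {x y : X} (hx : x ∈ vertexZ 2 α)
    (hy : y ∈ vertexZ 2 α) (hx' : x ∉ vertexZ 2 β) (hy' : y ∉ vertexZ 2 β) :
    x * y ∈ vertexZ 2 β := by
  have nc := h.not_cen_of_adj hα hc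
  obtain ⟨γ, hγ, hne, -⟩ := h.exists_adj_ne₂ α β β
  obtain ⟨a, ha, b, hb, rfl⟩ := h.exists_mul_of_mem_Z nc hα.symm hγ hne.symm hx
  obtain ⟨a', ha', b', hb', rfl⟩ := h.exists_mul_of_mem_Z nc hα.symm hγ hne.symm hy
  have e := ho γ (h.cen_of_adj hγ nc) b hb b' hb' (by rintro rfl; exact hx' (by simpa using ha))
    (by rintro rfl; exact hy' (by simpa using ha'))
  subst e
  have e1 := h.Z_comm (h.Z_le_Z (h.cen_of_adj hγ nc) hγ.symm hb) (h.Z_le_Z hc hα ha')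
  have : a * b * (a' * b) = a * a' * (b * b) := by
    calc a * b * (a' * b) = a * (b * a') * b := by group
      _ = a * a' * (b * b) := by rw [e1]; group
  rw [this, h.Z_mul_self hb, mul_one]
  exact mul_mem ha ha'

theorem Z_le_of_mem (hc : Cen β) (hα : (Γ).Adj β α) {x : X} (hx : x ∈ vertexZ 2 α)
    (hx' : x ∉ vertexZ 2 β) {K : Subgroup X} (h1 : vertexZ 2 β ≤ K) (h2 : x ∈ K) :
    vertexZ 2 α ≤ K := fun y hy => by
  by_cases e : y ∈ vertexZ 2 β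
  · exact h1 e
  · exact (Subgroup.mul_mem_cancel_left K h2).1 (h1 (h.mul_mem_Z ho hc hα hx hy hx' e))

theorem mem_Z_of_mem_mem (hc : Cen β) (hδ : (Γ).Adj β δ) (hγ : (Γ).Adj β γ) (hne : δ ≠ γ) {x : X}
    (h1 : x ∈ vertexZ 2 δ) (h2 : x ∈ vertexZ 2 γ) : x ∈ vertexZ 2 β := by
  by_contra hn
  exact h.Z_not_le hc hδ hγ hne (h.Z_le_of_mem ho hc hδ h1 hn (h.Z_le_Z hc hγ) h2)

theorem exists_mem_Z (hc : Cen β) (hα : (Γ).Adj β α) : ∃ a ∈ vertexZ 2 α, a ∉ vertexZ 2 β := by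
  have _ := ho
  obtain ⟨γ, hγ, hne, -⟩ := h.exists_adj_ne₂ β α α
  obtain ⟨a, ha, ha'⟩ := SetLike.not_le_iff_exists.1 (h.Z_not_le hc hα hγ hne.symm)
  exact ⟨a, ha, fun e => ha' (h.Z_le_Z hc hγ e)⟩

theorem card_Z_le (hc : ¬ Cen α) : Nat.card (vertexZ 2 α) ≤ 4 := by
  obtain ⟨β, hβ⟩ := exists_adj α
  have cβ := h.cen_of_adj hβ hc
  obtain ⟨a, ha, ha'⟩ := h.exists_mem_Z ho cβ hβ.symm
  obtain ⟨⟨z, hz⟩, hz1⟩ := (Subgroup.ne_bot_iff_exists_ne_one).1 (h.Z_ne_bot β)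
  have z1 : z ≠ 1 := fun e => hz1 (Subtype.ext e)
  have k : ∀ x ∈ vertexZ 2 β, x = 1 ∨ x = z := fun x hx => by
    by_cases e : x = 1
    · exact Or.inl e
    · exact Or.inr (ho β cβ x hx z hz e z1)
  have : (vertexZ 2 α : Set X) ⊆ {1, z, a, a * z} := by
    intro x hx
    by_cases e : x ∈ vertexZ 2 β
    · rcases k x e with e | e <;> simp [e]
    · have e2 : x = a * (a * x) := by rw [← mul_assoc, h.Z_mul_self ha, one_mul]
      rcases k _ (h.mul_mem_Z ho cβ hβ.symm ha hx ha' e) with e | e <;> rw [e] at e2 <;> simp [e2]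
  have k2 := Set.ncard_le_ncard this (Set.toFinite _)
  have k3 : ({1, z, a, a * z} : Set X).ncard ≤ 4 := by
    refine (Set.ncard_insert_le _ _).trans (Nat.succ_le_succ ?_)
    refine (Set.ncard_insert_le _ _).trans (Nat.succ_le_succ ?_)
    refine (Set.ncard_insert_le _ _).trans (Nat.succ_le_succ ?_)
    simp
  exact k2.trans k3

theorem conj_eq_mul (hc : Cen β) (hδ : (Γ).Adj β δ) {a a' g : X} (ha : a ∈ vertexZ 2 δ)
    (ha1 : a ∉ vertexZ 2 β) (hg : g ∈ stabilizer X β) (ha' : a' ∈ vertexZ 2 (g • δ))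
    (ha2 : a' ∉ vertexZ 2 β) : ∃ u ∈ vertexZ 2 β, g * a * g⁻¹ = a' * u := by
  refine ⟨a' * (g * a * g⁻¹), h.mul_mem_Z ho hc (adj_smul_of_mem hδ hg) ha' (conj_mem_Z ha g) ha2
    fun e => ha1 ?_, by rw [← mul_assoc a', h.Z_mul_self ha', one_mul]⟩
  rwa [← mem_stabilizer_iff.1 hg, conj_mem_Z_iff] at e

theorem conj_mul_eq (hb : 2 ≤ 𝐛) (hc : Cen β) (hδ : (Γ).Adj β δ) (hμ : (Γ).Adj β μ)
    (hν : (Γ).Adj β ν) (n1 : δ ≠ μ) (n2 : δ ≠ ν) (n3 : μ ≠ ν) {a a' g : X} (ha : a ∈ vertexZ 2 μ)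
    (ha1 : a ∉ vertexZ 2 β) (ha' : a' ∈ vertexZ 2 ν) (ha2 : a' ∉ vertexZ 2 β)
    (hg : g ∈ stabilizer X β) (hg' : g ∈ stabilizer X δ) :
    ∃ u ∈ vertexZ 2 β, g * (a * a') * g⁻¹ = a * a' * u := by
  have aQ : ∀ {ε : 𝒱} {x : X}, (Γ).Adj β ε → x ∈ vertexZ 2 ε → x ∈ vertexQ 2 β := fun hε hx =>
    h.Z_le_Q_of_lt (by rw [SimpleGraph.dist_eq_one_iff_adj.2 hε.symm]; omega) hx
  by_cases hq : g ∈ vertexQ 2 β
  · obtain ⟨u, hu, e⟩ := h.conj_eq_mul ho hc hμ ha ha1 hg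
      (by rw [mem_stabilizer_iff.1 (h.Q_le_stab hμ hq)]; exact ha) ha1
    obtain ⟨u', hu', e'⟩ := h.conj_eq_mul ho hc hν ha' ha2 hg
      (by rw [mem_stabilizer_iff.1 (h.Q_le_stab hν hq)]; exact ha') ha2
    refine ⟨u * u', mul_mem hu hu', ?_⟩
    have := h.comm_of_cen hc hu (vertexQ_le β (aQ hν ha'))
    calc g * (a * a') * g⁻¹ = (g * a * g⁻¹) * (g * a' * g⁻¹) := by group
      _ = a * (u * a') * u' := by rw [e, e']; group
      _ = a * a' * (u * u') := by rw [← this]; group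
  · obtain ⟨u, hu, e⟩ := h.conj_eq_mul ho hc hμ ha ha1 hg
      (by rw [h.smul_eq hδ hμ hν n1 n2 n3 hg hg' hq]; exact ha') ha2
    obtain ⟨u', hu', e'⟩ := h.conj_eq_mul ho hc hν ha' ha2 hg
      (by rw [h.smul_eq hδ hν hμ n2 n1 n3.symm hg hg' hq]; exact ha) ha1
    have k := h.comm_VV_Q hc (Z_le_VV hμ (inv_mem ha)) (inv_mem (aQ hν ha'))
    refine ⟨a'⁻¹ * a⁻¹ * a'⁻¹⁻¹ * a⁻¹⁻¹ * (u * u'), mul_mem k (mul_mem hu hu'), ?_⟩
    have := h.comm_of_cen hc hu (vertexQ_le β (aQ hμ ha))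
    calc g * (a * a') * g⁻¹ = (g * a * g⁻¹) * (g * a' * g⁻¹) := by group
      _ = a' * (u * a) * u' := by rw [e, e']; group
      _ = a * a' * (a'⁻¹ * a⁻¹ * a'⁻¹⁻¹ * a⁻¹⁻¹ * (u * u')) := by rw [← this]; group

end One

/-! ### even critical distance -/

theorem even_crit (hb : 2 ≤ 𝐛) (hv : IsLine v) {i i1 j1 j : ℤ} (e1 : i1 = i + 1) (e2 : j = j1 + 1)
    (e : j = i + 𝐛) (ci : ¬ Cen (v i)) (cj : ¬ Cen (v j))
    (hn : ¬ vertexZ 2 (v i) ≤ vertexQ 2 (v j)) :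
    One M₁ M₂ ∧ (∃ r ∈ vertexZ 2 (v i1), r ∈ vertexZ 2 (v j1) ∧ r ≠ 1) ∧
      ∃ z' ∈ vertexZ 2 (v j), z' ∉ vertexQ 2 (v i) := by
  obtain ⟨z, hz, hz'⟩ := SetLike.not_le_iff_exists.1 hn
  have k1 : vertexZ 2 (v i) ≤ vertexQ 2 (v j1) :=
    h.Z_le_Q_line hv (by rw [abs_lt]; omega)
  have k2 : vertexZ 2 (v j) ≤ vertexQ 2 (v i1) :=
    h.Z_le_Q_line hv (by rw [abs_lt]; omega)
  have a1 : (Γ).Adj (v i) (v i1) := hv.adj e1
  have a2 : (Γ).Adj (v j) (v j1) := hv.adj' e2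
  obtain ⟨y, hy, hy'⟩ : ∃ y ∈ vertexZ 2 (v j), y * z ≠ z * y := by
    by_contra hcon
    push Not at hcon
    exact hz' (h.mem_Q_of_centralizes cj (h.Q_le_stab a2.symm (k1 hz)) hcon)
  have hyQ : y ∉ vertexQ 2 (v i) := fun e => hy' (h.comm_of_mem_Q hz e)
  have y1 := h.Q_le_stab a1.symm (k2 hy)
  have y2 := vertexQ_le _ (k2 hy)
  have k3 : ∀ x ∈ vertexZ 2 (v i), x ∈ vertexQ 2 (v j) → x ∈ vertexZ 2 (v i1) := fun x hx hx' =>
    h.mem_Z_of_comm' ci a1 hx y1 y2 hyQ (h.comm_of_mem_Q hy hx').symm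
  refine ⟨h.one_of_index ci a1 fun x hx x' hx' n n' => k3 _ (mul_mem hx hx') ?_,
    ⟨z * (y * z * y⁻¹), h.comm_mem_Z ci a1 hz y1 y2, ?_, fun e => hy' ?_⟩, y, hy, hyQ⟩
  · exact h.mul_mem_Q a2 (h.Q_le_stab a2.symm (k1 hx)) (vertexQ_le _ (k1 hx))
      (h.Q_le_stab a2.symm (k1 hx')) (vertexQ_le _ (k1 hx')) (fun e => n (k3 x hx e))
      fun e => n' (k3 x' hx' e)
  · have := inv_mem (h.comm_mem_Z cj a2 hy (h.Q_le_stab a2.symm (k1 hz)) (vertexQ_le _ (k1 hz)))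
    have e : (y * (z * y * z⁻¹))⁻¹ = z * (y * z * y⁻¹) := by
      simp only [mul_inv_rev, inv_inv, h.Z_inv hz, h.Z_inv hy]
      group
    rwa [e] at this
  · have := eq_inv_of_mul_eq_one_right e
    rw [h.Z_inv hz] at this
    calc y * z = y * z * y⁻¹ * y := by group
      _ = z * y := by rw [this]

theorem even_lt_four (hv : IsLine v) (c0 : ¬ Cen (v 0)) (cb : ¬ Cen (v 𝐛))
    (hn : ¬ vertexZ 2 (v 0) ≤ vertexQ 2 (v 𝐛)) : 𝐛 < 4 := by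
  by_contra hb
  push Not at hb
  obtain ⟨ho, ⟨r, r1, r2, r3⟩, y, hy, hy'⟩ := h.even_crit (by omega) hv (i := 0) (i1 := 1)
    (j1 := 𝐛 - 1) (j := 𝐛) (by ring) (by ring) (by ring) c0 cb hn
  have c1 : Cen (v 1) := h.cen_of_adj (hv.adj (by ring)) c0
  have cm : Cen (v (-1)) := h.cen_of_adj (hv.adj' (by ring)) c0
  have cb1 : Cen (v (𝐛 - 1)) := h.cen_of_adj (hv.adj' (by ring)) cb
  have cb2 : ¬ Cen (v (𝐛 - 2)) := h.not_cen_of_adj (hv.adj' (by ring)) cb1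
  have cb3 : Cen (v (𝐛 - 3)) := h.cen_of_adj (hv.adj' (by ring)) cb2
  have k1 : VV (v (-1)) ≤ vertexQ 2 (v (𝐛 - 2)) := by
    rw [VV_le_iff]
    intro γ hγ
    by_contra hγ'
    have hne : γ ≠ v (-1 + 1) := by
      rintro rfl
      exact hγ' (h.Z_le_Q_line hv (by rw [abs_lt]; omega))
    obtain ⟨w, hw, w1, w2⟩ := h.splice' hv (-1) hγ hne
    obtain ⟨-, ⟨r', s1, s2, s3⟩, -⟩ := h.even_crit (by omega) hw (i := -1 - 1) (i1 := -1)
      (j1 := 𝐛 - 3) (j := 𝐛 - 2) (by ring) (by ring) (by ring)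
      (by rw [w2]; exact h.not_cen_of_adj hγ cm) (by rw [w1 _ (by omega)]; exact cb2)
      (by rw [w2, w1 _ (by omega)]; exact hγ')
    rw [w1 _ (by omega)] at s1 s2
    refine hn ((h.Z_le_sup c0 (hv.adj' (j := -1) (by ring)) (hv.adj (j := 1) (by ring))
      (hv.ne (by ring))).trans ((sup_le ?_ ?_).trans
        (h.Z_le_Q_line hv (i := 𝐛 - 2) (by rw [abs_lt]; omega))))
    · exact ho.Z_le cm s1 s3 (h.Z_le_Z cb3 (hv.adj (by ring)) s2)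
    · exact ho.Z_le c1 r1 r3 (h.Z_le_Z cb1 (hv.adj' (by ring)) r2)
  have k2 : ∀ k : ℤ, -1 ≤ k → k ≤ 𝐛 - 2 → VV (v (-1)) ≤ vertexQ 2 (v k) := by
    intro k k0 k3
    rcases eq_or_lt_of_le k3 with rfl | k4
    · exact k1
    · exact VV_le_iff.2 fun γ hγ => h.Z_le_Q_adj hv hγ (by rw [abs_sub_comm, abs_of_nonneg] <;> omega)
  have k3 : ¬ VV (v (-1)) ≤ vertexQ 2 (v (𝐛 - 1)) := by
    intro hle
    have yQ : y ∈ vertexQ 2 (v 1) := h.Z_le_Q_line hv (by rw [abs_lt]; omega) hy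
    have a0 : (Γ).Adj (v (-1)) (v 0) := hv.adj (by ring)
    have a1 : (Γ).Adj (v 0) (v 1) := hv.adj (by ring)
    have y0 := h.Q_le_stab a1.symm yQ
    have := h.eq_bot' a0 (N := VV (v (-1))) ((k2 _ le_rfl (by omega)).trans (h.Q_le a0))
      (le_normalizer_VV _) y0 (fun e => hy' (h.mem_Q_of_fix a0.symm a1 (hv.ne (by ring)) y0 e
        (vertexQ_le _ yQ))) (mem_normalizer_of_sq (h.Z_mul_self hy) fun x hx => ?_)
    · exact h.Z_ne_bot _ (le_bot_iff.1 (this ▸ Z_le_VV a0))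
    · have k := h.comm_VV_Q cb1 (Z_le_VV (hv.adj (j := 𝐛) (by ring)) hy) (hle (inv_mem hx))
      have k' := Z_le_VV a0 (h.Z_le_Z c1 a1.symm (ho.Z_le cb1 r2 r3 r1 k))
      have e : y * x * y⁻¹ = x * (x⁻¹ * y * x⁻¹⁻¹ * y⁻¹) := by group
      rw [e]
      exact mul_mem hx k'
  obtain ⟨z, hz, hz'⟩ := SetLike.not_le_iff_exists.1 hn
  obtain ⟨x, hx, hx'⟩ := SetLike.not_le_iff_exists.1 k3
  have hl := (h.long_trans (n := 𝐛 - 1) (by omega) hv hv cb cb1 (x := z) (x' := x)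
    (fun k k0 k4 => h.Q_le_stab (hv.adj (i := k - 1) (by ring))
      (h.Z_le_Q_line hv (by rw [abs_lt]; omega) hz)) hz'
    (fun k k0 k4 => h.Q_le_stab (hv.adj (i := k - 1) (by ring))
      (k2 _ (by omega) (by omega) hx)) hx').1
  exact r3 (h.eq_one_of_long hl hv c1 cb1 (by omega) (by omega) r1 r2)

theorem card_le_of_b_two (hb : 𝐛 = 2) :
    ∃ α β : 𝒱, (Γ).Adj α β ∧ Nat.card ↥(stabilizer X α ⊓ stabilizer X β) ≤ 2 ^ 7 := by
  obtain ⟨α₀, α', hc⟩ := exists_criticalPair h.char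
  obtain ⟨v, hv, v0, v2⟩ := h.exists_line_dist α₀ α'
  rw [hc.2, hb] at v2
  have hn := h.crit_not_le hc
  rw [← v0, ← v2] at hn
  have c0 : ¬ Cen (v 0) := fun c => hn ((h.Z_le_Z c (hv.adj (j := 1) (by ring))).trans
    (h.Z_le_Q_line hv (by rw [abs_lt]; omega)))
  have c1 : Cen (v 1) := h.cen_of_adj (hv.adj (by ring)) c0
  have ho := (h.even_crit hb.ge hv (i := 0) (i1 := 1) (j1 := 1) (j := (2 : ℕ)) (by ring) (by norm_num)
    (by rw [hb]; ring) c0 (h.not_cen_of_adj (hv.adj (by norm_num)) c1) hn).1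
  have aQ : ∀ {β ε : 𝒱} {x : X}, (Γ).Adj β ε → x ∈ vertexZ 2 ε → x ∈ vertexQ 2 β := fun hε hx =>
    h.Z_le_Q_of_lt (by rw [SimpleGraph.dist_eq_one_iff_adj.2 hε.symm]; omega) hx
  -- all pairs at distance two are critical
  have k1 : ∀ {β δ δ' : 𝒱} {a : X}, Cen β → (Γ).Adj β δ → (Γ).Adj β δ' → δ ≠ δ' →
      a ∈ vertexZ 2 δ → a ∉ vertexZ 2 β → a ∉ vertexQ 2 δ' := by
    intro β δ δ' a cβ hδ hδ' hne ha ha' haQ
    have hle := h.Z_le_of_mem ho cβ hδ ha ha' ((h.Z_le_Z cβ hδ').trans (h.Z_le_Q _)) haQ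
    obtain ⟨g, g1, g2⟩ := h.edge_trans hδ (hv.adj' (i := 1) (j := 0) (by ring)) (by tauto)
    obtain ⟨g', hg', g3, g4⟩ := h.exists_smul_two (hv.adj' (i := 1) (j := 0) (by ring))
      (g1 ▸ adj_smul hδ' g) (by rw [← g2]; exact fun e => hne (smul_left_cancel g e))
      (hv.adj' (i := 1) (j := 0) (by ring)) (hv.adj (j := (2 : ℕ)) (by norm_num))
      (hv.ne (by norm_num))
    apply hn
    rw [← g3, ← g4, ← g2, vertexZ_smul, vertexZ_smul, vertexQ_smul, vertexQ_smul]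
    exact cj_mono _ (cj_mono _ hle)
  have k2 : ∀ {β δ δ' : 𝒱} {a a' z : X}, Cen β → (Γ).Adj β δ → (Γ).Adj β δ' → δ ≠ δ' →
      a ∈ vertexZ 2 δ → a ∉ vertexZ 2 β → a' ∈ vertexZ 2 δ' → a' ∉ vertexZ 2 β →
      z ∈ vertexZ 2 β → z ≠ 1 → a' * a = z * (a * a') := by
    intro β δ δ' a a' z cβ hδ hδ' hne ha ha1 ha' ha2 hz hz1
    have k := h.comm_VV_Q cβ (Z_le_VV hδ ha) (aQ hδ' ha')
    rw [← ho β cβ _ k z hz (fun e => ha1 ?_) hz1]
    · group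
    · refine h.mem_Z_of_comm' (h.not_cen_of_adj hδ cβ) hδ.symm ha (h.Q_le_stab hδ (aQ hδ' ha'))
        (vertexQ_le _ (aQ hδ' ha')) (k1 cβ hδ' hδ hne.symm ha' ha2) ?_
      calc a' * a = a' * a * a'⁻¹ * a⁻¹ * (a * a') := by group
        _ = a * a' := by rw [e, one_mul]
  set α := v 0
  set β := v 1
  have hβ : (Γ).Adj α β := hv.adj (by ring)
  obtain ⟨β₂, β₃, a2, a3, n2, n3, n23⟩ := h.exists_adj_ne α β
  have c2 := h.cen_of_adj a2 c0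
  obtain ⟨δ₁, δ₁', d1, d1', m1, m1', m11⟩ := h.exists_adj_ne β α
  obtain ⟨δ₂, δ₂', d2, d2', m2, m2', m22⟩ := h.exists_adj_ne β₂ α
  obtain ⟨x1, x1Z, x1n⟩ := h.exists_mem_Z ho c2 a2.symm
  obtain ⟨x2, x2Z, x2n⟩ := h.exists_mem_Z ho c2 d2
  obtain ⟨x3, x3Z, x3n⟩ := h.exists_mem_Z ho c2 d2'
  obtain ⟨y, yZ, yn⟩ := h.exists_mem_Z ho c1 d1
  have yQ : y ∉ vertexQ 2 α := k1 c1 d1 hβ.symm m1 yZ yn
  have yα := h.Q_le_stab hβ.symm (aQ d1 yZ)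
  have yβ := vertexQ_le _ (aQ d1 yZ)
  have ys : y • β₂ = β₃ := h.smul_eq hβ a2 a3 n2.symm n3.symm n23 yα yβ yQ
  obtain ⟨⟨z, hz⟩, hz1⟩ := (Subgroup.ne_bot_iff_exists_ne_one).1 (h.Z_ne_bot β₂)
  have z1 : z ≠ 1 := fun e => hz1 (Subtype.ext e)
  set c := x1 * (x2 * x3) with hc_def
  have cQ : c ∈ vertexQ 2 α := mul_mem (h.Z_le_Q _ x1Z) (h.mul_mem_Q a2
    (h.Q_le_stab a2.symm (aQ d2 x2Z)) (vertexQ_le _ (aQ d2 x2Z))
    (h.Q_le_stab a2.symm (aQ d2' x3Z)) (vertexQ_le _ (aQ d2' x3Z))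
    (k1 c2 d2 a2.symm m2 x2Z x2n) (k1 c2 d2' a2.symm m2' x3Z x3n))
  have cc : c * c = z := by
    have e12 := k2 c2 a2.symm d2 m2.symm x1Z x1n x2Z x2n hz z1
    have e13 := k2 c2 a2.symm d2' m2'.symm x1Z x1n x3Z x3n hz z1
    have e23 := k2 c2 d2 d2' m22 x2Z x2n x3Z x3n hz z1
    have f1 := h.comm_of_cen c2 hz (vertexQ_le _ (aQ a2.symm x1Z))
    have f2 := h.comm_of_cen c2 hz (vertexQ_le _ (aQ d2 x2Z))
    have s1 := h.Z_mul_self x1Z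
    have s2 := h.Z_mul_self x2Z
    have s3 := h.Z_mul_self x3Z
    have s4 := h.Z_mul_self hz
    calc c * c = x1 * x2 * (x3 * x1) * x2 * x3 := by rw [hc_def]; group
      _ = x1 * (x2 * z) * x1 * (x3 * x2) * x3 := by rw [e13]; group
      _ = (x1 * z) * (x2 * x1) * z * x2 * (x3 * x3) := by rw [e23, f2]; group
      _ = z * (x1 * z) * x1 * (x2 * z) * x2 := by
        conv_lhs => rw [e12, f1, s3]
        group
      _ = (z * z) * (x1 * x1) * z * (x2 * x2) := by rw [f1, f2]; group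
      _ = z := by rw [s1, s2, s4]; group
  have cn : c ∉ vertexQ 2 β := by
    intro hq
    have k := h.comm_VV_Q c1 (Z_le_VV d1 yZ) hq
    have k' := h.Z_le_Z c1 hβ.symm (inv_mem k)
    set u := (c * y * c⁻¹ * y⁻¹)⁻¹ with hu
    have e1 : y * c * y⁻¹ = u * c := by rw [hu]; group
    have e2 := h.comm_of_mem_Q k' cQ
    have e3 : y * z * y⁻¹ = z := by
      calc y * z * y⁻¹ = (y * c * y⁻¹) * (y * c * y⁻¹) := by rw [← cc]; group
        _ = u * (c * u) * c := by rw [e1]; group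
        _ = (u * u) * (c * c) := by rw [e2]; group
        _ = z := by rw [h.Z_mul_self k', cc, one_mul]
    have := conj_mem_Z hz y
    rw [e3, ys] at this
    exact z1 (h.eq_one_of_mem_Z_Z c0 a2 a3 n23 hz this)
  have cD : ∀ x ∈ DD β, x * c = c * x := by
    intro x hx
    have xQ := (mem_DD.1 hx).2 α hβ.symm
    obtain ⟨u, hu, e⟩ := h.conj_mul_eq ho hb.ge c2 a2.symm d2 d2' m2.symm m2'.symm m22 x2Z x2n x3Z
      x3n (h.Q_le_stab a2 xQ) (vertexQ_le _ xQ)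
    have e2 : x * c * x⁻¹ = c * u := by
      calc x * c * x⁻¹ = (x * x1) * x⁻¹ * (x * (x2 * x3) * x⁻¹) := by rw [hc_def]; group
        _ = c * u := by rw [e, h.comm_of_mem_Q x1Z xQ, hc_def]; group
    have uD : u ∈ DD β := by
      have : u = c⁻¹ * x * c⁻¹⁻¹ * x⁻¹ := by
        calc u = c⁻¹ * (c * u) := by group
          _ = c⁻¹ * x * c⁻¹⁻¹ * x⁻¹ := by rw [← e2]; group
      rw [this]
      exact mul_mem (conj_mem_DD' hx (inv_mem (h.Q_le_stab hβ cQ))) (inv_mem hx)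
    have u1 : u = 1 := by
      by_contra hne
      exact k1 c1 hβ.symm d1 m1.symm (h.Z_le_Z c2 a2.symm hu)
        (fun e => hne (h.eq_one_of_mem_Z_Z c0 hβ a2 n2.symm e hu)) ((mem_DD.1 uD).2 _ d1)
    rw [u1, mul_one] at e2
    calc x * c = x * c * x⁻¹ * x := by group
      _ = c * x := by rw [e2]
  have hN : NN α = ⊥ := by
    obtain ⟨g, hg, hg'⟩ := exists_smul_eq_of_adj hβ.symm d1
    have s1 : g * c * g⁻¹ ∈ stabilizer X β :=
      mul_mem (mul_mem hg (h.Q_le_stab hβ cQ)) (inv_mem hg)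
    refine h.NN_eq_bot hβ s1 (fun e => cn ?_) fun x hx => ?_
    · have := h.mem_Q_of_fix d1 hβ.symm m1 s1
        (by rw [← hg', conj_mem_stab_iff]; exact vertexQ_le _ cQ) e
      rwa [← mem_stabilizer_iff.1 hg, conj_mem_Q_iff] at this
    · have := cD _ (conj_mem_DD' (mem_NN.1 hx β hβ) (inv_mem hg))
      calc x * (g * c * g⁻¹) = g * (g⁻¹ * x * g⁻¹⁻¹ * c) * g⁻¹ := by group
        _ = g * c * g⁻¹ * x := by rw [this]; group
  refine ⟨α, β, hβ, ?_⟩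
  set A0 := stabilizer X α ⊓ stabilizer X β
  have e1 := h.card_step hβ.symm (A := A0) inf_le_right inf_le_left
  set A1 := A0 ⊓ vertexQ 2 β
  have q1 : A1 ≤ vertexQ 2 β := inf_le_right
  have e2 := h.card_step hβ (q1.trans (h.Q_le_stab hβ.symm)) (q1.trans (vertexQ_le β))
  set A2 := A1 ⊓ vertexQ 2 α
  have q2 : A2 ≤ vertexQ 2 β := inf_le_left.trans q1
  have e3 := h.card_step d1.symm (q2.trans (h.Q_le_stab d1)) (q2.trans (vertexQ_le β))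
  set A3 := A2 ⊓ vertexQ 2 δ₁
  have q3 : A3 ≤ vertexQ 2 β := inf_le_left.trans q2
  have e4 := h.card_step d1'.symm (q3.trans (h.Q_le_stab d1')) (q3.trans (vertexQ_le β))
  set A4 := A3 ⊓ vertexQ 2 δ₁'
  have q4 : A4 ≤ vertexQ 2 α := inf_le_left.trans (inf_le_left.trans inf_le_right)
  have e5 := h.card_step a2.symm (q4.trans (h.Q_le_stab a2)) (q4.trans (vertexQ_le α))
  set A5 := A4 ⊓ vertexQ 2 β₂
  have q5 : A5 ≤ vertexQ 2 β₂ := inf_le_right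
  have e6 := h.card_step d2.symm (q5.trans (h.Q_le_stab d2)) (q5.trans (vertexQ_le β₂))
  set A6 := A5 ⊓ vertexQ 2 δ₂
  have q6 : A6 ≤ vertexQ 2 β₂ := inf_le_left.trans q5
  have e7 := h.card_step d2'.symm (q6.trans (h.Q_le_stab d2')) (q6.trans (vertexQ_le β₂))
  have e : A6 ⊓ vertexQ 2 δ₂' = ⊥ := by
    rw [eq_bot_iff, ← hN]
    rintro x ⟨⟨⟨⟨⟨⟨⟨-, x1⟩, x2⟩, x3⟩, x4⟩, x5⟩, x6⟩, x7⟩
    have D1 : x ∈ DD β := mem_DD.2 ⟨x1, fun ε hε => by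
      rcases h.third hβ.symm d1 d1' m1.symm m1'.symm m11 hε with e | e | e <;> rw [e] <;>
        assumption⟩
    have D2 : x ∈ DD β₂ := mem_DD.2 ⟨x5, fun ε hε => by
      rcases h.third a2.symm d2 d2' m2.symm m2'.symm m22 hε with e | e | e <;> rw [e] <;>
        assumption⟩
    refine mem_NN.2 fun ε hε => ?_
    rcases h.third hβ a2 a3 n2.symm n3.symm n23 hε with e | e | e
    · rw [e]; exact D1
    · rw [e]; exact D2
    · have := conj_mem_DD D2 y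
      rwa [← h.comm_of_mem_Q yZ x3, mul_inv_cancel_right, ys, ← e] at this
  rw [e, Subgroup.card_bot] at e7
  omega

end GAmal

end Cfsg.Agent.PLocal.Amal
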