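import Mathlib
import Cfsg.Agent.PLocal.AmalgamGold

/-!
Goldschmidt amalgams: odd critical distance, first reductions.
-/

set_option autoImplicit false

namespace Cfsg.Agent.PLocal.Amal

open Cfsg Cfsg.Agent.PLocal.Amb MulAction
open scoped commutatorElement

variable {X : Type*} [Group X] {M₁ M₂ : Subgroup X}

local notation "Γ" => cosetGraph M₁ M₂
local notation "𝐛" => criticalDistance 2 M₁ M₂
local notation "𝒱" => CosetVertex M₁ M₂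

theorem IsLine.exists_shift {v : ℤ → 𝒱} (hv : IsLine v) (k : ℤ) :
    ∃ w : ℤ → 𝒱, IsLine w ∧ ∀ i j, j = i + k → w i = v j :=
  ⟨_, hv.shift k, fun _ _ e => e ▸ rfl⟩

theorem IsLine.exists_rev {v : ℤ → 𝒱} (hv : IsLine v) (k : ℤ) :
    ∃ w : ℤ → 𝒱, IsLine w ∧ ∀ i j, j = k - i → w i = v j :=
  ⟨_, hv.rev k, fun _ _ e => e ▸ rfl⟩

/-- `W_α`, generated by the `V_β` of the neighbours -/
def WW (α : CosetVertex M₁ M₂) : Subgroup X :=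
  ⨆ β : {β : CosetVertex M₁ M₂ // (cosetGraph M₁ M₂).Adj α β}, VV (β : CosetVertex M₁ M₂)

theorem WW_le_iff {α : 𝒱} {K : Subgroup X} : WW α ≤ K ↔ ∀ β, (Γ).Adj α β → VV β ≤ K := by
  simp [WW]

theorem VV_le_WW {α β : 𝒱} (h : (Γ).Adj α β) : VV β ≤ WW α := WW_le_iff.1 le_rfl β h

theorem le_normalizer_WW (α : 𝒱) : stabilizer X α ≤ 𝐍[WW α] := by
  refine le_normalizer_iff_cj.2 fun g hg => ?_
  rw [cj_le_iff, WW_le_iff]
  intro β hβ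
  rw [← cj_le_iff, ← VV_smul]
  exact VV_le_WW (adj_smul_of_mem hβ hg)

/-- critical line, seen from the vertex `v 0` -/
structure Cz (v : ℤ → CosetVertex M₁ M₂) : Prop where
  line : IsLine v
  c0 : ¬ Cen (v 0)
  cb : Cen (v (criticalDistance 2 M₁ M₂))
  crit : ¬ vertexZ 2 (v 0) ≤ vertexQ 2 (v (criticalDistance 2 M₁ M₂))

/-- critical line, seen from the vertex `v 1` -/
structure Cr (v : ℤ → CosetVertex M₁ M₂) : Prop where
  line : IsLine v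
  c1 : Cen (v 1)
  cb : Cen (v (criticalDistance 2 M₁ M₂))
  crit : ¬ VV (v 1) ≤ vertexQ 2 (v (criticalDistance 2 M₁ M₂))

/-- `|V_β / Z_β| = 4` -/
def Four (M₁ M₂ : Subgroup X) : Prop :=
  ∀ β δ μ ν : CosetVertex M₁ M₂, Cen β → (cosetGraph M₁ M₂).Adj β δ → (cosetGraph M₁ M₂).Adj β μ →
    (cosetGraph M₁ M₂).Adj β ν → δ ≠ μ → δ ≠ ν → μ ≠ ν → ∀ a ∈ vertexZ 2 δ, a ∉ vertexZ 2 β →
      ∀ a' ∈ vertexZ 2 μ, a' ∉ vertexZ 2 β → a * a' ∈ vertexZ 2 ν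

/-- `r ∈ V_β` is centralized by `G_{αβ}` modulo `Z_β` -/
def PF (β α : CosetVertex M₁ M₂) (r : X) : Prop :=
  r ∈ VV β ∧ ∀ g ∈ stabilizer X β, g ∈ stabilizer X α → ∃ u ∈ vertexZ 2 β, g * r * g⁻¹ = r * u

theorem PF.smul {β α : 𝒱} {r : X} (h : PF β α r) (g : X) : PF (g • β) (g • α) (g * r * g⁻¹) := by
  refine ⟨conj_mem_VV h.1 g, fun x hx hx' => ?_⟩
  obtain ⟨u, hu, e⟩ := h.2 (g⁻¹ * x * g⁻¹⁻¹)
    (by rw [← inv_smul_smul g β, conj_mem_stab_iff]; exact hx)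
    (by rw [← inv_smul_smul g α, conj_mem_stab_iff]; exact hx')
  refine ⟨_, conj_mem_Z hu g, ?_⟩
  calc x * (g * r * g⁻¹) * x⁻¹ = g * (g⁻¹ * x * g⁻¹⁻¹ * r * (g⁻¹ * x * g⁻¹⁻¹)⁻¹) * g⁻¹ := by group
    _ = g * r * g⁻¹ * (g * u * g⁻¹) := by rw [e]; group

namespace GAmal

variable (h : GAmal M₁ M₂) {α β γ δ μ ν κ : CosetVertex M₁ M₂} {v w : ℤ → CosetVertex M₁ M₂}
include h

theorem two_arc {β' μ' ν' : 𝒱} (e : Cen β ↔ Cen β') (hμ : (Γ).Adj β μ) (hν : (Γ).Adj β ν)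
    (hne : μ ≠ ν) (hμ' : (Γ).Adj β' μ') (hν' : (Γ).Adj β' ν') (hne' : μ' ≠ ν') :
    ∃ g : X, g • β = β' ∧ g • μ = μ' ∧ g • ν = ν' := by
  obtain ⟨g, rfl, rfl⟩ := h.edge_trans hμ hμ' e
  obtain ⟨g', hg', g3, g4⟩ := h.exists_smul_two hμ' (adj_smul hν g)
    (fun e => hne (smul_left_cancel g e)) hμ' hν' hne'
  exact ⟨g' * g, by rw [mul_smul]; exact hg', by rw [mul_smul]; exact g3, by
    rw [mul_smul]; exact g4⟩

theorem Z_le_stab_line (hv : IsLine v) {i j : ℤ} (hd : |i - j| ≤ 𝐛) :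
    vertexZ 2 (v i) ≤ stabilizer X (v j) :=
  vertexZ_le_stabilizer_of_dist_le h.char (by have := hv.dist_le' i j; omega)

theorem VV_le_Q_line (hv : IsLine v) {i j : ℤ} (hd : |i - j| + 1 < 𝐛) :
    VV (v i) ≤ vertexQ 2 (v j) :=
  VV_le_iff.2 fun _ hδ => h.Z_le_Q_adj hv hδ hd

theorem VV_le_stab_line (hv : IsLine v) {i j : ℤ} (hd : |i - j| + 1 ≤ 𝐛) :
    VV (v i) ≤ stabilizer X (v j) :=
  VV_le_iff.2 fun _ hδ => vertexZ_le_stabilizer_of_dist_le h.char (by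
    have := hv.dist_le' i j
    have := dist_le_succ_of_adj hδ.symm (v j)
    omega)

theorem comm_VV {x y : X} (hx : ∀ δ, (Γ).Adj β δ → x ∈ vertexQ 2 δ) (hy : y ∈ VV β) :
    x * y = y * x := by
  refine (VV_le_iff (K := Subgroup.centralizer {x})).2 (fun δ hδ z hz => ?_) hy x rfl
  rintro _ rfl
  exact h.comm_of_mem_Q hz (hx δ hδ)

theorem mem_Q_of_comm_VV (hc : Cen β) {g : X} (hg : g ∈ stabilizer X β)
    (hz : ∀ x ∈ VV β, g * x = x * g) : g ∈ vertexQ 2 β := by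
  rw [← h.nk_eq, mem_neighbourKernel]
  refine ⟨hg, fun δ hδ => ?_⟩
  by_contra hn
  refine h.Z_not_le hc hδ (adj_smul_of_mem hδ hg) (fun e => hn e.symm) fun z hz' => ?_
  have := conj_mem_Z hz' g
  rwa [hz z (Z_le_VV hδ hz'), mul_inv_cancel_right] at this

theorem Z_not_le_of_trans {m : ℤ} (ht : Trans M₁ M₂ m) (hm : 𝐛 ≤ m) (hz : Cz v) (hw : IsLine w)
    {i j : ℤ} (c : ¬ Cen (w i)) (e : j = i + 𝐛) : ¬ vertexZ 2 (w i) ≤ vertexQ 2 (w j) := by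
  have _ := h
  obtain ⟨g, hg⟩ := ht v w hz.line hw 0 i (by have := hz.c0; tauto)
  have e1 := hg 0 le_rfl (by omega)
  have e2 := hg 𝐛 (by omega) hm
  rw [add_zero, add_zero] at e1
  rw [zero_add, ← e] at e2
  rw [← e1, ← e2, vertexZ_smul, vertexQ_smul, cj_le_cj_iff]
  exact hz.crit

theorem long_of_wit (hz : Cz v) {n : ℤ} (h1 : 1 ≤ n) (hn : n ≤ 𝐛) (hw : IsLine w) {j : ℤ}
    (c : ¬ Cen (w j)) {x : X} (hx : ∀ k, j - n ≤ k → k ≤ j → x ∈ stabilizer X (w k))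
    (hx' : x ∉ vertexQ 2 (w j)) : Long M₁ M₂ n ∧ Trans M₁ M₂ (n + 1) := by
  obtain ⟨z, z1, z2⟩ := SetLike.not_le_iff_exists.1 hz.crit
  exact h.long_trans h1 hw hz.line c hz.cb hx hx'
    (fun k k0 k1 => h.Z_le_stab_line hz.line (by rw [abs_le]; omega) z1) z2

theorem long_of_wit' (hz : Cz v) {n : ℤ} (h1 : 1 ≤ n) (hn : n ≤ 𝐛) (hw : IsLine w) {j : ℤ}
    (c : ¬ Cen (w j)) {x : X} (hx : ∀ k, j ≤ k → k ≤ j + n → x ∈ stabilizer X (w k))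
    (hx' : x ∉ vertexQ 2 (w j)) : Long M₁ M₂ n ∧ Trans M₁ M₂ (n + 1) := by
  obtain ⟨u, hu, e⟩ := hw.exists_rev j
  refine h.long_of_wit hz h1 hn hu (j := 0) (by rwa [e 0 j (by ring)]) (x := x)
    (fun k k0 k1 => ?_) (by rwa [e 0 j (by ring)])
  rw [e k _ rfl]
  exact hx _ (by omega) (by omega)

theorem four_of_base (ho : One M₁ M₂) (hc : Cen β) (hδ : (Γ).Adj β δ) (hμ : (Γ).Adj β μ)
    (hν : (Γ).Adj β ν) (n1 : δ ≠ μ) (n2 : δ ≠ ν) (n3 : μ ≠ ν) {a a' : X} (ha : a ∈ vertexZ 2 δ)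
    (ha1 : a ∉ vertexZ 2 β) (ha' : a' ∈ vertexZ 2 μ) (ha2 : a' ∉ vertexZ 2 β)
    (e : a * a' ∈ vertexZ 2 ν) : Four M₁ M₂ := by
  intro β' δ' μ' ν' hc' hδ' hμ' hν' m1 m2 m3 b hb hb1 b' hb' hb2
  obtain ⟨g, g1, g2, g3⟩ := h.two_arc (β := β) (β' := β') ⟨fun _ => hc', fun _ => hc⟩ hδ hμ n1
    hδ' hμ' m1
  have e3 : ν' = g • ν := by
    rcases h.third hδ' hμ' (g1 ▸ adj_smul hν g) m1 (fun e => n2 (smul_left_cancel g (g2.trans e)))
      (fun e => n3 (smul_left_cancel g (g3.trans e))) hν' with e | e | e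
    · exact absurd e m2.symm
    · exact absurd e m3.symm
    · exact e
  have k1 := h.mul_mem_Z ho hc' hδ' hb (g2 ▸ conj_mem_Z ha g) hb1 (by rwa [← g1, conj_mem_Z_iff])
  have k2 := h.mul_mem_Z ho hc' hμ' (g3 ▸ conj_mem_Z ha' g) hb' (by rwa [← g1, conj_mem_Z_iff]) hb2
  have k3 := conj_mem_Z e g
  rw [← e3] at k3
  have : b * b' = (b * (g * a * g⁻¹)) * (g * (a * a') * g⁻¹) * (g * a' * g⁻¹ * b') := by
    calc b * b' = b * (g * (a * a) * (a' * a') * g⁻¹) * b' := by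
          rw [h.Z_mul_self ha, h.Z_mul_self ha']; group
      _ = _ := by group
  rw [this]
  exact mul_mem (mul_mem (h.Z_le_Z hc' hν' k1) k3) (h.Z_le_Z hc' hν' k2)

theorem mem_Z_of_conj (ho : One M₁ M₂) (hc : ¬ Cen α) (hβ : (Γ).Adj α β) {r t u : X}
    (hr : r ∈ vertexQ 2 α) (hr2 : r * r = 1) (hrc : ∀ q ∈ vertexQ 2 α, q * r = r * q)
    (ht : t ∈ stabilizer X α) (ht' : t ∈ stabilizer X β) (htQ : t ∉ vertexQ 2 α)
    (hu : u ∈ vertexZ 2 β) (e : t * r * t⁻¹ = r * u) : r ∈ vertexZ 2 α := by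
  have cβ := h.cen_of_adj hβ hc
  by_cases u1 : u = 1
  · refine h.Z_le_Z cβ hβ.symm (h.mem_Z_of_comm hc hβ hr hr2 hrc ht ht' htQ ?_)
    rw [u1, mul_one] at e
    calc t * r = t * r * t⁻¹ * t := by group
      _ = r * t := by rw [e]
  obtain ⟨y, hy, hy'⟩ := h.exists_mem_Z ho cβ hβ.symm
  have k := h.comm_mem_Z hc hβ hy ht ht'
  have k1 : y * (t * y * t⁻¹) = u := ho β cβ _ k u hu (fun e1 => hy' (by
    refine h.mem_Z_of_comm' hc hβ hy ht ht' htQ ?_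
    have := eq_inv_of_mul_eq_one_right e1
    rw [h.Z_inv hy] at this
    calc t * y = t * y * t⁻¹ * t := by group
      _ = y * t := by rw [this])) u1
  have uα := h.Z_le_Z cβ hβ.symm hu
  have c1 := hrc y (h.Z_le_Q α hy)
  have c2 := h.Z_comm hy uα
  have k2 : r * y ∈ vertexZ 2 β := by
    refine h.mem_Z_of_comm hc hβ (mul_mem hr (h.Z_le_Q α hy)) ?_ (fun q hq => ?_) ht ht' htQ ?_
    · calc r * y * (r * y) = r * (y * r) * y := by group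
        _ = (r * r) * (y * y) := by rw [c1]; group
        _ = 1 := by rw [hr2, h.Z_mul_self hy, one_mul]
    · calc q * (r * y) = (q * r) * y := by group
        _ = r * (q * y) := by rw [hrc q hq]; group
        _ = r * y * q := by rw [h.comm_of_mem_Q hy hq]; group
    · calc t * (r * y) = (t * r * t⁻¹) * (y * y) * (t * y * t⁻¹) * t := by
            rw [h.Z_mul_self hy]; group
        _ = r * (u * y) * (y * (t * y * t⁻¹)) * t := by rw [e]; group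
        _ = r * y * (u * u) * t := by rw [k1, ← c2]; group
        _ = r * y * t := by rw [h.Z_mul_self hu, mul_one]
  exact (Subgroup.mul_mem_cancel_right _ hy).1 (h.Z_le_Z cβ hβ.symm k2)

section three

variable (hb : 3 ≤ criticalDistance 2 M₁ M₂)
include hb

theorem VV_le_Q_adj (hδ : (Γ).Adj β δ) : VV β ≤ vertexQ 2 δ :=
  VV_le_iff.2 fun ε hε => h.Z_le_Q_of_lt (by
    have := dist_le_succ_of_adj hε.symm δ
    rw [SimpleGraph.dist_eq_one_iff_adj.2 hδ] at this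
    omega)

theorem VV_le_Q (β : 𝒱) : VV β ≤ vertexQ 2 β :=
  VV_le_iff.2 fun ε hε => h.Z_le_Q_of_lt (by
    rw [SimpleGraph.dist_eq_one_iff_adj.2 hε.symm]
    omega)

theorem VV_comm {x y : X} (hx : x ∈ VV β) (hy : y ∈ VV β) : x * y = y * x :=
  h.comm_VV (fun _ hδ => h.VV_le_Q_adj hb hδ hx) hy

theorem VV_mul_self {x : X} (hx : x ∈ VV β) : x * x = 1 := by
  let K : Subgroup X :=
    { carrier := {x | x ∈ VV β ∧ x * x = 1}
      one_mem' := ⟨one_mem _, by simp⟩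
      mul_mem' := by
        rintro a b ⟨ha, ha'⟩ ⟨hb', hb''⟩
        refine ⟨mul_mem ha hb', ?_⟩
        calc a * b * (a * b) = a * (b * a) * b := by group
          _ = (a * a) * (b * b) := by rw [← h.VV_comm hb ha hb']; group
          _ = 1 := by rw [ha', hb'', one_mul]
      inv_mem' := by
        rintro a ⟨ha, ha'⟩
        exact ⟨inv_mem ha, by rw [← mul_inv_rev, ha', inv_one]⟩ }
  exact ((VV_le_iff (K := K)).2 (fun δ hδ z hz => ⟨Z_le_VV hδ hz, h.Z_mul_self hz⟩) hx).2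

theorem mem_or_mul_mem (ho : One M₁ M₂) (hc : Cen β) (hδ : (Γ).Adj β δ) (hμ : (Γ).Adj β μ)
    (hν : (Γ).Adj β ν) (n1 : δ ≠ μ) (n2 : δ ≠ ν) (n3 : μ ≠ ν) {s s' : X} (hs : s ∈ vertexZ 2 μ)
    (hs1 : s ∉ vertexZ 2 β) (hs' : s' ∈ vertexZ 2 ν) (hs2 : s' ∉ vertexZ 2 β) {A : Subgroup X}
    (hA : vertexZ 2 δ ≤ A) (hA' : s * s' ∈ A) {y : X} (hy : y ∈ VV β) : y ∈ A ∨ s * y ∈ A := by
  have sV := Z_le_VV hμ hs
  have s2 := h.Z_mul_self hs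
  let K : Subgroup X :=
    { carrier := {y | y ∈ VV β ∧ (y ∈ A ∨ s * y ∈ A)}
      one_mem' := ⟨one_mem _, Or.inl (one_mem _)⟩
      mul_mem' := by
        rintro a b ⟨ha, ha'⟩ ⟨hb', hb''⟩
        refine ⟨mul_mem ha hb', ?_⟩
        have c := h.VV_comm hb sV ha
        rcases ha' with k | k <;> rcases hb'' with k' | k'
        · exact Or.inl (mul_mem k k')
        · right
          rw [← mul_assoc, c, mul_assoc]; exact mul_mem k k'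
        · right
          rw [← mul_assoc]; exact mul_mem k k'
        · left
          have : a * b = s * a * (s * b) := by
            rw [c, mul_assoc a, ← mul_assoc s, s2, one_mul]
          rw [this]; exact mul_mem k k'
      inv_mem' := by
        rintro a ⟨ha, ha'⟩
        rw [inv_eq_of_mul_eq_one_right (h.VV_mul_self hb ha)]
        exact ⟨ha, ha'⟩ }
  have zA := (h.Z_le_Z hc hδ).trans hA
  refine ((VV_le_iff (K := K)).2 (fun ε hε z hz => ⟨Z_le_VV hε hz, ?_⟩) hy).2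
  by_cases e0 : z ∈ vertexZ 2 β
  · exact Or.inl (zA e0)
  rcases h.third hδ hμ hν n1 n2 n3 hε with rfl | rfl | rfl
  · exact Or.inl (hA hz)
  · exact Or.inr (zA (h.mul_mem_Z ho hc hμ hs hz hs1 e0))
  · right
    have : s * z = s * s' * (s' * z) := by
      rw [mul_assoc s, ← mul_assoc s', h.Z_mul_self hs', one_mul]
    rw [this]
    exact mul_mem hA' (zA (h.mul_mem_Z ho hc hν hs' hz hs2 e0))

theorem PF_PF (ho : One M₁ M₂) (hc : ¬ Cen α) (hβ : (Γ).Adj α β) (hγ : (Γ).Adj α γ) (hne : β ≠ γ)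
    {r : X} (h1 : PF β α r) (h2 : PF γ α r) : r ∈ vertexZ 2 α := by
  obtain ⟨t, ht, ht'⟩ := SetLike.not_le_iff_exists.1 (h.not_le_Q hβ)
  obtain ⟨u, hu, e⟩ := h1.2 t ht.2 ht.1
  refine h.mem_Z_of_conj ho hc hβ (h.VV_le_Q_adj hb hβ.symm h1.1) (h.VV_mul_self hb h1.1)
    (fun q hq => ?_) ht.1 ht.2 ht' hu e
  obtain ⟨u1, k1, e1⟩ := h1.2 q (h.Q_le_stab hβ hq) (vertexQ_le _ hq)
  obtain ⟨u2, k2, e2⟩ := h2.2 q (h.Q_le_stab hγ hq) (vertexQ_le _ hq)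
  have := mul_left_cancel (e1.symm.trans e2)
  rw [h.eq_one_of_mem_Z_Z hc hβ hγ hne k1 (this ▸ k2), mul_one] at e1
  calc q * r = q * r * q⁻¹ * q := by group
    _ = r * q := by rw [e1]

theorem Cz.sym (hz : Cz v) : ¬ VV (v 𝐛) ≤ vertexQ 2 (v 1) := by
  intro hle
  have hv := hz.line
  obtain ⟨z, z1, z2⟩ := SetLike.not_le_iff_exists.1 hz.crit
  obtain ⟨x, x1, x2⟩ : ∃ x ∈ VV (v 𝐛), x ∉ vertexQ 2 (v 0) := by
    by_contra hcon
    push Not at hcon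
    exact z2 (h.mem_Q_of_comm_VV hz.cb (h.Z_le_stab_line hv (by rw [abs_le]; omega) z1)
      fun x hx => (h.comm_of_mem_Q z1 (hcon x hx)).symm)
  have ht := (h.long_of_wit' hz (n := 𝐛) (by omega) le_rfl hv hz.c0 (x := x) (fun k k0 k1 => by
    rcases eq_or_lt_of_le k0 with rfl | k2
    · exact h.Q_le_stab (hv.adj' (by ring)) (hle x1)
    · exact h.VV_le_stab_line hv (by rw [abs_of_nonneg] <;> omega) x1) x2).2
  obtain ⟨u, hu, e⟩ := hv.exists_rev (𝐛 + 1)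
  have a1 : (Γ).Adj (v 𝐛) (v (𝐛 + 1)) := hv.adj rfl
  refine h.Z_not_le_of_trans ht (by omega) hz hu (i := 0) (j := 𝐛) ?_ (by ring) ?_
  · rw [e 0 (𝐛 + 1) (by ring)]; exact h.not_cen_of_adj a1 hz.cb
  · rw [e 0 (𝐛 + 1) (by ring), e 𝐛 1 (by ring)]; exact (Z_le_VV a1).trans hle

theorem Cz.hypA (hz : Cz v) {x : X} (x1 : x ∈ VV (v 𝐛)) (x2 : x ∈ vertexQ 2 (v 1))
    (hδ : (Γ).Adj (v 1) δ) : x ∈ vertexQ 2 δ := by
  by_contra x3
  have c1 : Cen (v 1) := h.cen_of_adj (hz.line.adj (by ring)) hz.c0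
  have hne : δ ≠ v (1 + 1) := by
    rintro rfl
    exact x3 (h.VV_le_Q_line hz.line (by rw [abs_of_nonneg] <;> omega) x1)
  obtain ⟨w, hw, w1, w0⟩ := h.splice' hz.line 1 hδ hne
  rw [sub_self] at w0
  have cb := hz.cb
  rw [← w1 𝐛 (by omega)] at x1 cb
  rw [← w1 1 le_rfl] at x2 c1
  rw [← w0] at x3
  have a0 : (Γ).Adj (w 0) (w 1) := hw.adj (by ring)
  have c0 := h.not_cen_of_adj a0.symm c1
  have x0 := h.Q_le_stab a0.symm x2
  obtain ⟨hl, ht⟩ := h.long_of_wit' hz (n := 𝐛) (by omega) le_rfl hw c0 (x := x) (fun k k0 k1 => by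
    rcases eq_or_lt_of_le k0 with rfl | k2
    · exact x0
    · exact h.VV_le_stab_line hw (by rw [abs_of_nonneg] <;> omega) x1) x3
  have k1 : ∀ y ∈ vertexZ 2 (w 0), y ∈ vertexQ 2 (w 𝐛) → y ∈ vertexZ 2 (w 1) := by
    intro y y1 y2
    have f1 := h.comm_mem_Z c0 a0 y1 x0 (vertexQ_le _ x2)
    have f2 := h.comm_VV_Q cb x1 y2
    rw [h.Z_inv y1, show y * x * y * x⁻¹ = y * (x * y * x⁻¹) by group] at f2
    have := eq_inv_of_mul_eq_one_right (h.eq_one_of_long hl hw c1 cb (by omega) (by omega) f1 f2)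
    rw [h.Z_inv y1] at this
    refine h.mem_Z_of_comm' c0 a0 y1 x0 (vertexQ_le _ x2) x3 ?_
    calc x * y = x * y * x⁻¹ * x := by group
      _ = y * x := by rw [this]
  have ab : (Γ).Adj (w 𝐛) (w (𝐛 - 1)) := hw.adj' (by ring)
  have ab' : (Γ).Adj (w 𝐛) (w (𝐛 + 1)) := hw.adj rfl
  have k2 : vertexZ 2 (w 0) ≤ vertexQ 2 (w (𝐛 - 1)) := h.Z_le_Q_line hw (by rw [abs_lt]; omega)
  have ho : One M₁ M₂ := h.one_of_index c0 a0 fun y y1 y' y2 n n' => k1 _ (mul_mem y1 y2)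
    (h.mul_mem_Q ab (h.Q_le_stab ab.symm (k2 y1)) (vertexQ_le _ (k2 y1))
      (h.Q_le_stab ab.symm (k2 y2)) (vertexQ_le _ (k2 y2)) (fun e => n (k1 _ y1 e))
      fun e => n' (k1 _ y2 e))
  obtain ⟨a, a1, a2⟩ := SetLike.not_le_iff_exists.1
    (h.Z_not_le_of_trans ht (by omega) hz hw (i := 0) (j := 𝐛) c0 (by ring))
  obtain ⟨u, hu, e⟩ := hw.exists_rev (𝐛 + 1)
  have := h.Z_not_le_of_trans ht (by omega) hz hu (i := 0) (j := 𝐛)
    (by rw [e 0 (𝐛 + 1) (by ring)]; exact h.not_cen_of_adj ab' cb) (by ring)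
  rw [e 0 (𝐛 + 1) (by ring), e 𝐛 1 (by ring)] at this
  obtain ⟨s, s1, s2⟩ := SetLike.not_le_iff_exists.1 this
  have s3 : s ∉ vertexZ 2 (w 𝐛) := fun e => s2 (h.Z_le_Q_line hw (by rw [abs_lt]; omega) e)
  have aG := h.Q_le_stab ab.symm (k2 a1)
  have aG' := vertexQ_le _ (k2 a1)
  have nb : w (𝐛 - 1) ≠ w (𝐛 + 1) := hw.ne (by ring)
  have sG : s ∈ stabilizer X (w 1) := h.Z_le_stab_line hw (by rw [abs_le]; omega) s1
  have k3 : s * (a * s * a⁻¹) ∈ VV (w 1) := by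
    have : s * (a * s * a⁻¹) = s * a * s⁻¹ * a⁻¹ := by rw [h.Z_inv s1]; group
    rw [this]
    exact mul_mem (conj_mem_of_mem_normalizer (le_normalizer_VV _ sG) (Z_le_VV a0.symm a1))
      (inv_mem (Z_le_VV a0.symm a1))
  rcases h.mem_or_mul_mem hb ho cb ab ab' (adj_smul_of_mem ab' aG) nb
    (fun e => nb (smul_left_cancel a ((mem_stabilizer_iff.1 aG').trans e)))
    (h.smul_ne ab ab' nb aG aG' a2).symm s1 s3 (conj_mem_Z s1 a)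
    (by rwa [← mem_stabilizer_iff.1 aG, conj_mem_Z_iff])
    (A := vertexQ 2 (w 0) ⊓ vertexQ 2 (w 1))
    (le_inf (h.Z_le_Q_line hw (by rw [abs_lt]; omega)) (h.Z_le_Q_line hw (by rw [abs_lt]; omega)))
    ⟨h.VV_le_Q_adj hb a0.symm k3, h.VV_le_Q hb _ k3⟩ x1 with k | k
  · exact x3 k.1
  · exact s2 ((Subgroup.mul_mem_cancel_right _ x2).1 k.2)

theorem Cz.cr (hz : Cz v) : Cr v :=
  have _ := hb
  ⟨hz.line, h.cen_of_adj (hz.line.adj (by ring)) hz.c0, hz.cb,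
    fun hle => hz.crit ((Z_le_VV (hz.line.adj' (by ring))).trans hle)⟩

theorem Cr.cz (hr : Cr v) : Cz v := by
  have hv := hr.line
  have a0 : (Γ).Adj (v 1) (v 0) := hv.adj' (by ring)
  have a2 : (Γ).Adj (v 1) (v 2) := hv.adj (by ring)
  refine ⟨hv, h.not_cen_of_adj a0 hr.c1, hr.cb, fun hle => ?_⟩
  obtain ⟨δ, hδ, hn⟩ : ∃ δ, (Γ).Adj (v 1) δ ∧ ¬ vertexZ 2 δ ≤ vertexQ 2 (v 𝐛) := by
    by_contra hcon
    push Not at hcon
    exact hr.crit (VV_le_iff.2 hcon)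
  have hne : δ ≠ v 2 := by
    rintro rfl
    exact hn (h.Z_le_Q_line hv (by rw [abs_lt]; omega))
  obtain ⟨w, hw, w1, w0⟩ := h.splice' hv 1 hδ hne
  rw [sub_self] at w0
  have hz : Cz w := ⟨hw, by rw [w0]; exact h.not_cen_of_adj hδ hr.c1,
    by rw [w1 _ (by omega)]; exact hr.cb, by rw [w0, w1 _ (by omega)]; exact hn⟩
  have := Cz.sym h hb hz
  rw [w1 _ (by omega), w1 _ le_rfl] at this
  obtain ⟨s, s1, s2⟩ := SetLike.not_le_iff_exists.1 this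
  obtain ⟨a, a1, a3⟩ := SetLike.not_le_iff_exists.1 hn
  have sQ : s ∈ vertexQ 2 (v 2) := h.VV_le_Q_line hv (by rw [abs_of_nonneg] <;> omega) s1
  have e := h.smul_eq a2 hδ a0 hne.symm (hv.ne' (by ring)) (fun e => hn (e ▸ hle))
    (h.Q_le_stab a2.symm sQ) (vertexQ_le _ sQ) s2
  have k := conj_mem_Z a1 s
  rw [e] at k
  have aG : a ∈ stabilizer X (v 𝐛) :=
    h.VV_le_stab_line hv (by rw [abs_sub_comm, abs_of_nonneg] <;> omega) (Z_le_VV hδ a1)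
  have k2 : a⁻¹ * s * a * s⁻¹ ∈ VV (v 𝐛) :=
    mul_mem (inv_conj_mem_of_mem_normalizer (le_normalizer_VV _ aG) s1) (inv_mem s1)
  apply a3
  have : a = s * a * s⁻¹ * (a⁻¹ * s * a * s⁻¹)⁻¹ := by group
  rw [this]
  exact mul_mem (hle k) (inv_mem (h.VV_le_Q hb _ k2))

theorem Cr.rev (hr : Cr v) : ∃ u : ℤ → 𝒱, Cr u ∧ ∀ i j : ℤ, j = 𝐛 + 1 - i → u i = v j := by
  obtain ⟨u, hu, e⟩ := hr.line.exists_rev (𝐛 + 1)
  refine ⟨u, ⟨hu, ?_, ?_, ?_⟩, e⟩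
  · rw [e 1 𝐛 (by ring)]; exact hr.cb
  · rw [e 𝐛 1 (by ring)]; exact hr.c1
  · rw [e 1 𝐛 (by ring), e 𝐛 1 (by ring)]; exact Cz.sym h hb (Cr.cz h hb hr)

theorem Cr.crit' (hr : Cr v) : ¬ vertexZ 2 (v (𝐛 + 1)) ≤ vertexQ 2 (v 1) := by
  obtain ⟨u, hu, e⟩ := Cr.rev h hb hr
  have := (Cr.cz h hb hu).crit
  rwa [e 0 (𝐛 + 1) (by ring), e 𝐛 1 (by ring)] at this

/-- `V_{v 1} ∩ Q_{v b}` centralizes `V_{v b}` -/
theorem Cr.comm (hr : Cr v) {x s : X} (x1 : x ∈ VV (v 1)) (x2 : x ∈ vertexQ 2 (v 𝐛))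
    (hs : s ∈ VV (v 𝐛)) : x * s = s * x := by
  obtain ⟨u, hu, e⟩ := Cr.rev h hb hr
  refine h.comm_VV (fun δ hδ => Cz.hypA h hb (Cr.cz h hb hu) ?_ ?_ ?_) hs
  · rwa [e 𝐛 1 (by ring)]
  · rwa [e 1 𝐛 (by ring)]
  · rwa [e 1 𝐛 (by ring)]

theorem Cr.one (hr : Cr v) : One M₁ M₂ := by
  have hv := hr.line
  obtain ⟨s, s1, s2⟩ := SetLike.not_le_iff_exists.1 (Cr.crit' h hb hr)
  have sV : s ∈ VV (v 𝐛) := Z_le_VV (hv.adj rfl) s1
  have a0 : (Γ).Adj (v 1) (v 0) := hv.adj' (by ring)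
  have a2 : (Γ).Adj (v 1) (v 2) := hv.adj (by ring)
  have a3 : (Γ).Adj (v 2) (v 3) := hv.adj (by ring)
  have n02 : v 0 ≠ v 2 := hv.ne (by ring)
  have c2 := h.not_cen_of_adj a2 hr.c1
  have c3 := h.cen_of_adj a3 c2
  have sQ : s ∈ vertexQ 2 (v 2) := h.VV_le_Q_line hv (by rw [abs_of_nonneg] <;> omega) sV
  have sG := h.Q_le_stab a2.symm sQ
  have a0' := adj_smul_of_mem a0 sG
  have n00 := h.smul_ne a2 a0 n02.symm sG (vertexQ_le _ sQ) s2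
  have n02' : s • v 0 ≠ v 2 := fun e =>
    n02 (smul_left_cancel s (e.trans (mem_stabilizer_iff.1 (vertexQ_le _ sQ)).symm))
  have k1 : ∀ x ∈ vertexZ 2 (v 0), x ∈ vertexQ 2 (v 𝐛) → x ∈ vertexZ 2 (s • v 0) := by
    intro x x1 x2
    have := conj_mem_Z x1 s
    rwa [← Cr.comm h hb hr (Z_le_VV a0 x1) x2 sV, mul_inv_cancel_right] at this
  have ab : (Γ).Adj (v 𝐛) (v (𝐛 - 1)) := hv.adj' (by ring)
  have k2 : vertexZ 2 (v 0) ≤ vertexQ 2 (v (𝐛 - 1)) := h.Z_le_Q_line hv (by rw [abs_lt]; omega)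
  have k3 : ∀ x ∈ vertexZ 2 (v 2), ∀ y ∈ vertexZ 2 (v 2), x ∉ vertexZ 2 (v 0) →
      y ∉ vertexZ 2 (v 0) → x * y ∈ vertexZ 2 (v 0) := by
    obtain ⟨g, hg, g1, g2⟩ := h.exists_smul_two a2 a0 n02.symm a0 a0' n00.symm
    intro x x1 y y1 x2 y2
    have x3 := conj_mem_Z x1 g
    have y3 := conj_mem_Z y1 g
    rw [g1] at x3 y3
    rw [← conj_mem_Z_iff (g := g), g2] at x2 y2 ⊢
    rw [show g * (x * y) * g⁻¹ = g * x * g⁻¹ * (g * y * g⁻¹) by group]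
    exact k1 _ (mul_mem x3 y3) (h.mul_mem_Q ab (h.Q_le_stab ab.symm (k2 x3)) (vertexQ_le _ (k2 x3))
      (h.Q_le_stab ab.symm (k2 y3)) (vertexQ_le _ (k2 y3)) (fun e => x2 (k1 _ x3 e))
      fun e => y2 (k1 _ y3 e))
  let N : Subgroup X := ⨅ β : {β : 𝒱 // (Γ).Adj (v 2) β}, ⨅ δ : {δ : 𝒱 // (Γ).Adj β δ},
    vertexZ 2 (δ : 𝒱)
  have mN : ∀ {x : X}, x ∈ N ↔ ∀ β, (Γ).Adj (v 2) β → ∀ δ, (Γ).Adj β δ → x ∈ vertexZ 2 δ := by
    intro x; simp [N, Subgroup.mem_iInf]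
  have hN : N = ⊥ := by
    obtain ⟨g, hg, g1⟩ := exists_smul_eq_of_adj a2 a0
    have s3 : g * s * g⁻¹ ∈ vertexQ 2 (v 0) := by rwa [← g1, conj_mem_Q_iff]
    have s4 : g * s * g⁻¹ ∈ stabilizer X (v 1) := h.Q_le_stab a0.symm s3
    refine h.eq_bot' a2.symm (fun x hx => h.Q_le a2.symm (h.Z_le_Q _ (mN.1 hx _ a2.symm _ a2)))
      (le_normalizer_iff_cj.2 fun t ht => cj_le_iff_forall.2 fun x hx => mN.2 fun β hβ δ hδ => ?_)
      s4 (fun e => s2 ?_) (centralizer_le_normalizer' _ fun x hx => ?_)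
    · rw [← smul_inv_smul t δ, conj_mem_Z_iff]
      exact mN.1 hx _ (adj_smul_of_mem hβ (inv_mem ht)) _ (adj_smul hδ _)
    · have := h.mem_Q_of_fix a0 a2 n02 s4 (vertexQ_le _ s3) e
      rwa [← mem_stabilizer_iff.1 hg, conj_mem_Q_iff] at this
    · exact (h.comm_of_mem_Q (mN.1 hx _ a2.symm _ a0) s3).symm
  have k4 : ∀ x ∈ vertexZ 2 (v 3), x ∈ vertexZ 2 (v 0) → x = 1 := by
    intro x x3 x0
    have x2 := h.Z_le_Z c3 a3.symm x3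
    have y1 : ∀ δ, (Γ).Adj (v 1) δ → x ∈ vertexZ 2 δ := by
      intro δ hδ
      rcases h.third a0 a2 a0' n02 n00.symm n02'.symm hδ with rfl | rfl | rfl
      · exact x0
      · exact x2
      · exact k1 x x0 (h.Z_le_Q_line hv (by rw [abs_lt]; omega) x2)
    refine (Subgroup.eq_bot_iff_forall _).1 hN x (mN.2 fun β hβ δ hδ => ?_)
    by_cases e1 : β = v 1
    · exact y1 δ (e1 ▸ hδ)
    by_cases e3 : β = v 3
    · exact h.Z_le_Z c3 (e3 ▸ hδ) x3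
    obtain ⟨t, ht, ht'⟩ := SetLike.not_le_iff_exists.1 (h.not_le_Q a3)
    have e := h.smul_eq a3 hβ a2.symm (Ne.symm e3) (hv.ne' (by ring)) e1 ht.1 ht.2 ht'
    have := y1 _ (e ▸ adj_smul hδ t)
    rwa [← conj_mem_Z_iff (g := t⁻¹), inv_smul_smul, h.comm_of_cen c3 x3 (inv_mem ht.2),
      mul_inv_cancel_right] at this
  refine h.one_of_base c3 fun x x3 y y3 x1 y1 => ?_
  have := k4 _ (mul_mem x3 y3) (k3 x (h.Z_le_Z c3 a3.symm x3) y (h.Z_le_Z c3 a3.symm y3)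
    (fun e => x1 (k4 x x3 e)) fun e => y1 (k4 y y3 e))
  rw [eq_inv_of_mul_eq_one_left this, h.Z_inv y3]

/-- the basic commutator of a critical line -/
theorem Cr.data (hr : Cr v) {a s : X} (a1 : a ∈ vertexZ 2 (v 0)) (a2 : a ∉ vertexZ 2 (v 1))
    (s1 : s ∈ vertexZ 2 (v (𝐛 + 1))) (s2 : s ∉ vertexZ 2 (v 𝐛)) :
    a ∉ vertexQ 2 (v 𝐛) ∧ s ∉ vertexQ 2 (v 1) ∧ PF (v 1) (v 2) (a * (s * a * s⁻¹)) ∧
      PF (v 𝐛) (v (𝐛 - 1)) (a * (s * a * s⁻¹)) ∧ a * (s * a * s⁻¹) ∉ vertexZ 2 (v 1) ∧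
      a * (s * a * s⁻¹) ∉ vertexZ 2 (v 𝐛) ∧ a * (s * a * s⁻¹) = s * (a * s * a⁻¹) := by
  have ho := Cr.one h hb hr
  have key : ∀ {v : ℤ → 𝒱}, Cr v → ∀ {a s : X}, a ∈ vertexZ 2 (v 0) → a ∉ vertexZ 2 (v 1) →
      s ∈ vertexZ 2 (v (𝐛 + 1)) → s ∉ vertexZ 2 (v 𝐛) →
      s ∉ vertexQ 2 (v 1) ∧ PF (v 1) (v 2) (a * (s * a * s⁻¹)) ∧
        a * (s * a * s⁻¹) ∉ vertexZ 2 (v 1) := by
    intro v hr a s a1 a2 s1 s2
    have hv := hr.line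
    have d0 : (Γ).Adj (v 1) (v 0) := hv.adj' (by ring)
    have d2 : (Γ).Adj (v 1) (v 2) := hv.adj (by ring)
    have n02 : v 0 ≠ v 2 := hv.ne (by ring)
    have s3 : s ∉ vertexQ 2 (v 1) := fun e => Cr.crit' h hb hr (h.Z_le_of_mem ho hr.cb (hv.adj rfl)
      s1 s2 (h.Z_le_Q_line hv (by rw [abs_lt]; omega)) e)
    have sQ : s ∈ vertexQ 2 (v 2) := h.Z_le_Q_line hv (by rw [abs_lt]; omega) s1
    have sG := h.Q_le_stab d2.symm sQ
    have d0' := adj_smul_of_mem d0 sG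
    have n00 := h.smul_ne d2 d0 n02.symm sG (vertexQ_le _ sQ) s3
    have n02' : s • v 0 ≠ v 2 := fun e =>
      n02 (smul_left_cancel s (e.trans (mem_stabilizer_iff.1 (vertexQ_le _ sQ)).symm))
    have a3 : s * a * s⁻¹ ∉ vertexZ 2 (v 1) := by rwa [← mem_stabilizer_iff.1 sG, conj_mem_Z_iff]
    refine ⟨s3, ⟨mul_mem (Z_le_VV d0 a1) (Z_le_VV d0' (conj_mem_Z a1 s)), fun g hg hg' =>
      h.conj_mul_eq ho (by omega) hr.c1 d2 d0 d0' n02.symm n02'.symm n00.symm a1 a2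
        (conj_mem_Z a1 s) a3 hg hg'⟩, fun e => a3 (h.mem_Z_of_mem_mem ho hr.c1 d0 d0' n00.symm ?_
          (conj_mem_Z a1 s))⟩
    exact (Subgroup.mul_mem_cancel_left _ a1).1 (h.Z_le_Z hr.c1 d0 e)
  obtain ⟨k1, k2, k3⟩ := key hr a1 a2 s1 s2
  obtain ⟨u, hu, e⟩ := Cr.rev h hb hr
  have := key hu (a := s) (s := a) (by rwa [e 0 (𝐛 + 1) (by ring)]) (by rwa [e 1 𝐛 (by ring)])
    (by rwa [e (𝐛 + 1) 0 (by ring)]) (by rwa [e 𝐛 1 (by ring)])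
  rw [e 1 𝐛 (by ring), e 2 (𝐛 - 1) (by ring)] at this
  obtain ⟨k4, k5, k6⟩ := this
  have e1 : a * (s * a * s⁻¹) = s * (a * s * a⁻¹) := by
    rw [← inv_eq_of_mul_eq_one_right (h.VV_mul_self hb k2.1)]
    simp only [mul_inv_rev, inv_inv, h.Z_inv a1, h.Z_inv s1]
    group
  exact ⟨k4, k1, k2, e1 ▸ k5, k3, e1 ▸ k6, e1⟩

theorem Cr.exists_q (hr : Cr v) (hc : Cen β) (hδ : (Γ).Adj β δ) (hμ : (Γ).Adj β μ) (hne : δ ≠ μ) :
    ∃ q ∈ vertexQ 2 β, q ∈ vertexQ 2 δ ∧ q ∉ vertexQ 2 μ := by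
  by_contra hcon
  push Not at hcon
  have hv := hr.line
  have ho := Cr.one h hb hr
  have k : ∀ δ' μ', (Γ).Adj (v 1) δ' → (Γ).Adj (v 1) μ' → δ' ≠ μ' → ∀ q ∈ vertexQ 2 (v 1),
      q ∈ vertexQ 2 δ' → q ∈ vertexQ 2 μ' := by
    intro δ' μ' hδ' hμ' hne' q q1 q2
    obtain ⟨g, g1, g2, g3⟩ := h.two_arc (β := v 1) (β' := β) (by have := hr.c1; tauto) hδ' hμ' hne'
      hδ hμ hne
    rw [← conj_mem_Q_iff (g := g)] at q1 q2 ⊢
    rw [g1] at q1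
    rw [g2] at q2
    rw [g3]
    exact hcon _ q1 q2
  have d0 : (Γ).Adj (v 1) (v 0) := hv.adj' (by ring)
  have d2 : (Γ).Adj (v 1) (v 2) := hv.adj (by ring)
  have n02 : v 0 ≠ v 2 := hv.ne (by ring)
  obtain ⟨a, a1, a2⟩ := h.exists_mem_Z ho hr.c1 d0
  obtain ⟨s, s1, s2⟩ := h.exists_mem_Z ho hr.cb (hv.adj (j := 𝐛 + 1) rfl)
  obtain ⟨-, s3, p1, -, r1, -, e⟩ := Cr.data h hb hr a1 a2 s1 s2
  have sQ : s ∈ vertexQ 2 (v 2) := h.Z_le_Q_line hv (by rw [abs_lt]; omega) s1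
  have sG := h.Q_le_stab d2.symm sQ
  have d0' := adj_smul_of_mem d0 sG
  have n00 := h.smul_ne d2 d0 n02.symm sG (vertexQ_le _ sQ) s3
  have a3 : s * a * s⁻¹ ∉ vertexZ 2 (v 1) := by rwa [← mem_stabilizer_iff.1 sG, conj_mem_Z_iff]
  have a4 := conj_mem_Z a1 s
  set a' := s * a * s⁻¹ with ha'
  have k2 : ∀ q ∈ vertexQ 2 (v 1), q * (a * a') = a * a' * q := by
    intro q hq
    by_cases q0 : q ∈ vertexQ 2 (v 0)
    · rw [← mul_assoc, h.comm_of_mem_Q a1 q0, mul_assoc,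
        h.comm_of_mem_Q a4 (k _ _ d0 d0' n00.symm q hq q0), ← mul_assoc]
    have q0' : q ∉ vertexQ 2 (s • v 0) := fun e => q0 (k _ _ d0' d0 n00 q hq e)
    have k3 : ∀ {ε : 𝒱} {b : X}, (Γ).Adj (v 1) ε → b ∈ vertexZ 2 ε → b ∉ vertexZ 2 (v 1) →
        q ∉ vertexQ 2 ε → ∃ u ∈ vertexZ 2 (v 1), u ≠ 1 ∧ q * b * q⁻¹ = b * u := by
      intro ε b hε b1 b2 qε
      obtain ⟨u, hu, e⟩ := h.conj_eq_mul ho hr.c1 hε b1 b2 (vertexQ_le _ hq)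
        (by rw [mem_stabilizer_iff.1 (h.Q_le_stab hε hq)]; exact b1) b2
      refine ⟨u, hu, fun u1 => b2 (h.mem_Z_of_comm' (h.not_cen_of_adj hε hr.c1) hε.symm b1
        (h.Q_le_stab hε hq) (vertexQ_le _ hq) qε ?_), e⟩
      rw [u1, mul_one] at e
      calc q * b = q * b * q⁻¹ * q := by group
        _ = b * q := by rw [e]
    obtain ⟨u, u1, u2, e1⟩ := k3 d0 a1 a2 q0
    obtain ⟨u', u1', u2', e2⟩ := k3 d0' a4 a3 q0'
    rw [ho _ hr.c1 u' u1' u u1 u2' u2] at e2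
    have c := h.Z_comm a4 (h.Z_le_Z hr.c1 d0' u1)
    calc q * (a * a') = (q * a * q⁻¹) * (q * a' * q⁻¹) * q := by group
      _ = a * (u * a') * u * q := by rw [e1, e2]; group
      _ = a * a' * (u * u) * q := by rw [← c]; group
      _ = a * a' * q := by rw [h.Z_mul_self u1, mul_one]
  have k3 : s * (a * a') = a * a' * s := by
    conv_rhs => rw [e]
    rw [ha', h.Z_inv a1, h.Z_inv s1]
    group
  refine r1 (h.mem_Z_of_cen hr.c1 d2 (vertexQ_le _ (h.VV_le_Q hb _ p1.1))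
    (vertexQ_le _ (h.VV_le_Q_adj hb d2 p1.1)) (h.VV_mul_self hb p1.1) fun t ht ht' => ?_)
  by_cases tQ : t ∈ vertexQ 2 (v 1)
  · exact k2 t tQ
  · have := k2 _ (h.mul_mem_Q d2 ht ht' sG (vertexQ_le _ sQ) tQ s3)
    calc t * (a * a') = t * s * (s⁻¹ * (a * a' * s)) * s⁻¹ := by group
      _ = t * s * (a * a') * s⁻¹ := by rw [← k3]; group
      _ = a * a' * t := by rw [this]; group

theorem Cr.shift (hr : Cr v) :
    ∃ w : ℤ → 𝒱, IsLine w ∧ (∀ i, 0 ≤ i → w i = v i) ∧ ¬ VV (w (-1)) ≤ vertexQ 2 (w (𝐛 - 2)) := by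
  by_contra hcon
  push Not at hcon
  have hv := hr.line
  have hz := Cr.cz h hb hr
  have ho := Cr.one h hb hr
  have d1 : (Γ).Adj (v 0) (v 1) := hv.adj (by ring)
  have k0 : ∀ n : ℤ, 𝐛 ≤ n → ¬ Trans M₁ M₂ n := fun n hn ht =>
    h.Z_not_le_of_trans ht hn hz hv (i := -2) (j := 𝐛 - 2)
      (h.not_cen_of_adj (hv.adj' (i := -1) (by ring)) (h.cen_of_adj (hv.adj' (by ring)) hz.c0))
      (by ring) ((Z_le_VV (hv.adj' (by ring))).trans (hcon v hv fun _ _ => rfl))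
  have k1 : ∀ k : ℤ, 0 ≤ k → k ≤ 𝐛 - 2 → WW (v 0) ≤ vertexQ 2 (v k) := by
    intro k k2 k3
    refine WW_le_iff.2 fun β hβ => ?_
    by_cases e : β = v (0 + 1)
    · rw [e]; exact h.VV_le_Q_line hv (by rw [← lt_sub_iff_add_lt, abs_lt]; omega)
    obtain ⟨w, hw, w1, w0⟩ := h.splice' hv 0 hβ e
    rw [← w0, ← w1 k k2]
    rcases eq_or_lt_of_le k3 with rfl | k4
    · exact hcon w hw w1
    · exact h.VV_le_Q_line hw (by rw [← lt_sub_iff_add_lt, abs_lt]; omega)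
  have k2 : ∀ k : ℤ, 0 ≤ k → k ≤ 𝐛 - 1 → WW (v 0) ≤ stabilizer X (v k) := by
    intro k k2 k3
    rcases eq_or_lt_of_le k2 with rfl | k4
    · exact (k1 0 le_rfl (by omega)).trans (vertexQ_le _)
    · exact (k1 (k - 1) (by omega) (by omega)).trans (h.Q_le_stab (hv.adj (by ring)))
  have ab : (Γ).Adj (v 𝐛) (v (𝐛 - 1)) := hv.adj' (by ring)
  have k3 : WW (v 0) ≤ vertexQ 2 (v (𝐛 - 1)) := by
    intro x hx
    by_contra hn
    exact k0 _ (by omega) (h.long_of_wit hz (n := 𝐛 - 1) (by omega) (by omega) hv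
      (h.not_cen_of_adj ab hr.cb) (fun k k4 k5 => k2 k (by omega) k5 hx) hn).2
  have k4 : ∀ x ∈ WW (v 0), x ∈ vertexQ 2 (v 𝐛) → ∀ δ, (Γ).Adj (v 𝐛) δ → x ∈ vertexQ 2 δ := by
    intro x hx hx' δ hδ
    by_contra hn
    obtain ⟨w, hw, w1, w0⟩ := h.splice hv 𝐛 hδ (by rintro rfl; exact hn (k3 hx))
    refine k0 _ (by omega) (h.long_of_wit hz (n := 𝐛) (by omega) le_rfl hw (j := 𝐛 + 1)
      (by rw [w0]; exact h.not_cen_of_adj hδ hr.cb) (x := x) (fun k k4 k5 => ?_) (by rwa [w0])).2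
    rcases eq_or_lt_of_le k5 with rfl | k6
    · rw [w0]; exact h.Q_le_stab hδ hx'
    rw [w1 _ (by omega)]
    rcases eq_or_lt_of_le (show k ≤ 𝐛 by omega) with rfl | k7
    · exact vertexQ_le _ hx'
    · exact k2 k (by omega) (by omega) hx
  obtain ⟨a, a1, a2⟩ := h.exists_mem_Z ho hr.c1 d1.symm
  obtain ⟨s, s1, s2⟩ := h.exists_mem_Z ho hr.cb (hv.adj (j := 𝐛 + 1) rfl)
  obtain ⟨a3, s3, -⟩ := Cr.data h hb hr a1 a2 s1 s2
  have sV : s ∈ VV (v 𝐛) := Z_le_VV (hv.adj rfl) s1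
  have d2 : (Γ).Adj (v 1) (v 2) := hv.adj (by ring)
  have sQ : s ∈ vertexQ 2 (v 2) := h.Z_le_Q_line hv (by rw [abs_lt]; omega) s1
  have sG := h.Q_le_stab d2.symm sQ
  have aW : a ∈ WW (v 0) := VV_le_WW d1 (Z_le_VV d1.symm a1)
  have := h.eq_bot' d1 (N := WW (v 0)) ((k1 0 le_rfl (by omega)).trans (h.Q_le d1))
    (le_normalizer_WW _) sG (fun e => s3 (h.mem_Q_of_fix d1.symm d2 (hv.ne (by ring)) sG e
      (vertexQ_le _ sQ))) (mem_normalizer_of_sq (h.Z_mul_self s1) fun x hx => ?_)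
  · exact a2 (by rw [(Subgroup.eq_bot_iff_forall _).1 this a aW]; exact one_mem _)
  by_cases xQ : x ∈ vertexQ 2 (v 𝐛)
  · rwa [← h.comm_VV (k4 x hx xQ) sV, mul_inv_cancel_right]
  · have := h.comm_VV (k4 _ (mul_mem aW hx) (h.mul_mem_Q ab (h.Q_le_stab ab.symm (k3 aW))
      (vertexQ_le _ (k3 aW)) (h.Q_le_stab ab.symm (k3 hx)) (vertexQ_le _ (k3 hx)) a3 xQ)) sV
    have e : s * x * s⁻¹ = (s * a * s⁻¹)⁻¹ * (a * x) := by
      calc s * x * s⁻¹ = (s * a * s⁻¹)⁻¹ * (s * (a * x)) * s⁻¹ := by group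
        _ = (s * a * s⁻¹)⁻¹ * (a * x) := by rw [← this]; group
    rw [e]
    exact mul_mem (inv_mem (VV_le_WW d1 (conj_mem_of_mem_normalizer (le_normalizer_VV _ sG)
      (Z_le_VV d1.symm a1)))) (mul_mem aW hx)

end three

end GAmal

end Cfsg.Agent.PLocal.Amal
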