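import Mathlib
import Cfsg.Agent.PLocal.AmalgamGoldOdd
import Cfsg.Agent.PLocal.AmalgamS4

/-!
Goldschmidt amalgams: odd critical distance, conclusion; the bound `|B| ≤ 2 ^ 7`.
-/

set_option autoImplicit false

namespace Cfsg.Agent.PLocal.Amal

open Cfsg Cfsg.Agent.PLocal.Amb MulAction
open scoped commutatorElement

variable {X : Type*} [Group X] {M₁ M₂ : Subgroup X}

local notation "Γ" => cosetGraph M₁ M₂
local notation "𝐛" => criticalDistance 2 M₁ M₂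
local notation "𝒱" => CosetVertex M₁ M₂

namespace GAmal

variable (h : GAmal M₁ M₂) {α β γ δ μ ν κ : CosetVertex M₁ M₂} {v w : ℤ → CosetVertex M₁ M₂}
include h

section three

variable (hb : 3 ≤ criticalDistance 2 M₁ M₂)
include hb

theorem Cr.four_of_mem (hr : Cr v) {a s : X} (a1 : a ∈ vertexZ 2 (v 0)) (a2 : a ∉ vertexZ 2 (v 1))
    (s1 : s ∈ vertexZ 2 (v (𝐛 + 1))) (s2 : s ∉ vertexZ 2 (v 𝐛))
    (e : a * (s * a * s⁻¹) ∈ vertexZ 2 (v 2)) : Four M₁ M₂ := by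
  have hv := hr.line
  have d0 : (Γ).Adj (v 1) (v 0) := hv.adj' (by ring)
  have d2 : (Γ).Adj (v 1) (v 2) := hv.adj (by ring)
  have n02 : v 0 ≠ v 2 := hv.ne (by ring)
  obtain ⟨-, s3, -⟩ := Cr.data h hb hr a1 a2 s1 s2
  have sQ : s ∈ vertexQ 2 (v 2) := h.Z_le_Q_line hv (by rw [abs_lt]; omega) s1
  have sG := h.Q_le_stab d2.symm sQ
  exact h.four_of_base (Cr.one h hb hr) hr.c1 d0 (adj_smul_of_mem d0 sG) d2
    (h.smul_ne d2 d0 n02.symm sG (vertexQ_le _ sQ) s3).symm n02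
    (fun e => n02 (smul_left_cancel s (e.trans (mem_stabilizer_iff.1 (vertexQ_le _ sQ)).symm)))
    a1 a2 (conj_mem_Z a1 s) (by rwa [← mem_stabilizer_iff.1 sG, conj_mem_Z_iff]) e

theorem Cr.mem_of_four (hr : Cr v) (hf : Four M₁ M₂) {a s : X} (a1 : a ∈ vertexZ 2 (v 0))
    (a2 : a ∉ vertexZ 2 (v 1)) (s1 : s ∈ vertexZ 2 (v (𝐛 + 1))) (s2 : s ∉ vertexZ 2 (v 𝐛)) :
    a * (s * a * s⁻¹) ∈ vertexZ 2 (v 2) ∧ a * (s * a * s⁻¹) ∈ vertexZ 2 (v (𝐛 - 1)) := by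
  have key : ∀ {v : ℤ → 𝒱}, Cr v → ∀ {a s : X}, a ∈ vertexZ 2 (v 0) → a ∉ vertexZ 2 (v 1) →
      s ∈ vertexZ 2 (v (𝐛 + 1)) → s ∉ vertexZ 2 (v 𝐛) → a * (s * a * s⁻¹) ∈ vertexZ 2 (v 2) := by
    intro v hr a s a1 a2 s1 s2
    have hv := hr.line
    have d0 : (Γ).Adj (v 1) (v 0) := hv.adj' (by ring)
    have d2 : (Γ).Adj (v 1) (v 2) := hv.adj (by ring)
    have n02 : v 0 ≠ v 2 := hv.ne (by ring)
    obtain ⟨-, s3, -⟩ := Cr.data h hb hr a1 a2 s1 s2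
    have sQ : s ∈ vertexQ 2 (v 2) := h.Z_le_Q_line hv (by rw [abs_lt]; omega) s1
    have sG := h.Q_le_stab d2.symm sQ
    exact hf _ _ _ _ hr.c1 d0 (adj_smul_of_mem d0 sG) d2
      (h.smul_ne d2 d0 n02.symm sG (vertexQ_le _ sQ) s3).symm n02
      (fun e => n02 (smul_left_cancel s (e.trans (mem_stabilizer_iff.1 (vertexQ_le _ sQ)).symm)))
      _ a1 a2 _ (conj_mem_Z a1 s) (by rwa [← mem_stabilizer_iff.1 sG, conj_mem_Z_iff])
  refine ⟨key hr a1 a2 s1 s2, ?_⟩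
  obtain ⟨u, hu, e⟩ := Cr.rev h hb hr
  have := key hu (a := s) (s := a) (by rwa [e 0 (𝐛 + 1) (by ring)]) (by rwa [e 1 𝐛 (by ring)])
    (by rwa [e (𝐛 + 1) 0 (by ring)]) (by rwa [e 𝐛 1 (by ring)])
  rwa [e 2 (𝐛 - 1) (by ring), ← (Cr.data h hb hr a1 a2 s1 s2).2.2.2.2.2.2] at this

theorem Cr.shift' (hr : Cr v) : ∃ w u : ℤ → 𝒱, IsLine w ∧ (∀ i, 0 ≤ i → w i = v i) ∧ Cr u ∧
    ∀ i j, j = i + -2 → u i = w j := by
  obtain ⟨w, hw, w1, hn⟩ := Cr.shift h hb hr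
  obtain ⟨u, hu, e⟩ := hw.exists_shift (-2)
  refine ⟨w, u, hw, w1, ⟨hu, ?_, ?_, ?_⟩, e⟩
  · rw [e 1 (-1) (by ring)]
    exact h.cen_of_adj (hw.adj' (i := 0) (by ring)) (by rw [w1 0 le_rfl]; exact (Cr.cz h hb hr).c0)
  · rw [e 𝐛 (𝐛 - 2) (by ring), w1 _ (by omega)]
    exact h.cen_of_adj (hr.line.adj' (i := 𝐛 - 1) (by ring))
      (h.not_cen_of_adj (hr.line.adj' (by ring)) hr.cb)
  · rwa [e 1 (-1) (by ring), e 𝐛 (𝐛 - 2) (by ring)]

theorem Cr.ne_four (hr : Cr v) : 𝐛 ≠ 4 := by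
  intro e
  have := hr.cb
  rw [e] at this
  have hv := hr.line
  exact h.not_cen_of_adj (hv.adj (i := 3) (by norm_num)) (h.cen_of_adj (hv.adj (i := 2) (by ring))
    (h.not_cen_of_adj (hv.adj (i := 1) (by ring)) hr.c1)) this

theorem Cr.ne_six (hr : Cr v) : 𝐛 ≠ 6 := by
  intro e
  have := hr.cb
  rw [e] at this
  have hv := hr.line
  exact h.not_cen_of_adj (hv.adj (i := 5) (by norm_num)) (h.cen_of_adj (hv.adj (i := 4) (by ring))
    (h.not_cen_of_adj (hv.adj (i := 3) (by ring)) (h.cen_of_adj (hv.adj (i := 2) (by ring))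
      (h.not_cen_of_adj (hv.adj (i := 1) (by ring)) hr.c1)))) this

theorem Cr.four (hr : Cr v) : Four M₁ M₂ := by
  have ho := Cr.one h hb hr
  have hv := hr.line
  have c0 := (Cr.cz h hb hr).c0
  have d0 : (Γ).Adj (v 1) (v 0) := hv.adj' (by ring)
  have d2 : (Γ).Adj (v 1) (v 2) := hv.adj (by ring)
  have n02 : v 0 ≠ v 2 := hv.ne (by ring)
  obtain ⟨a, a1, a2⟩ := h.exists_mem_Z ho hr.c1 d0
  obtain ⟨s, s1, s2⟩ := h.exists_mem_Z ho hr.cb (hv.adj (j := 𝐛 + 1) rfl)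
  obtain ⟨-, s3, p1, p2, -⟩ := Cr.data h hb hr a1 a2 s1 s2
  rcases eq_or_lt_of_le hb with b3 | b4
  · refine Cr.four_of_mem h hb hr a1 a2 s1 s2 ?_
    rw [← b3] at p2
    exact h.PF_PF hb ho (h.not_cen_of_adj d2 hr.c1) d2.symm (hv.adj (j := (3 : ℕ)) (by norm_num))
      (hv.ne (by norm_num)) p1 (by simpa using p2)
  have b5 := Cr.ne_four h hb hr
  obtain ⟨w, u, hw, w1, hu, e⟩ := Cr.shift' h hb hr
  obtain ⟨a', a1', a2'⟩ := h.exists_mem_Z ho hu.c1 (hu.line.adj' (j := 0) (by ring))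
  obtain ⟨s', s1', s2'⟩ := h.exists_mem_Z ho hu.cb (hu.line.adj (j := 𝐛 + 1) rfl)
  obtain ⟨-, -, q1, q2, -⟩ := Cr.data h hb hu a1' a2' s1' s2'
  by_cases r0 : a' * (s' * a' * s'⁻¹) ∈ vertexZ 2 (u 2)
  · exact Cr.four_of_mem h hb hu a1' a2' s1' s2' r0
  set r := a' * (s' * a' * s'⁻¹)
  rw [e 2 0 (by ring), w1 0 le_rfl] at r0 q1
  rw [e 1 (-1) (by ring)] at q1
  rw [e 𝐛 (𝐛 - 2) (by ring), w1 _ (by omega)] at q2
  have dm : (Γ).Adj (v 0) (w (-1)) := by rw [← w1 0 le_rfl]; exact hw.adj' (by ring)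
  have nm : v 1 ≠ w (-1) := by rw [← w1 1 (by omega)]; exact hw.ne' (by ring)
  have sQ : s ∈ vertexQ 2 (v 2) := h.Z_le_Q_line hv (by rw [abs_lt]; omega) s1
  have sG := h.Q_le_stab d2.symm sQ
  have d0' := adj_smul_of_mem d0 sG
  have n00 := h.smul_ne d2 d0 n02.symm sG (vertexQ_le _ sQ) s3
  have n02' : s • v 0 ≠ v 2 := fun e =>
    n02 (smul_left_cancel s (e.trans (mem_stabilizer_iff.1 (vertexQ_le _ sQ)).symm))
  have rs := h.comm_of_mem_Q s1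
    (h.VV_le_Q_line hv (i := 𝐛 - 2) (by rw [← lt_sub_iff_add_lt, abs_lt]; omega) q2.1)
  have q3 := q1.smul s
  rw [← rs, mul_inv_cancel_right] at q3
  obtain ⟨q, qa, qb, qc⟩ := Cr.exists_q h hb hr hr.c1 d0' d0 n00
  have q0 := h.Q_le_stab d0 qa
  have q4 := q1.smul q
  rw [mem_stabilizer_iff.1 q0] at q4
  obtain ⟨y, y1, y2⟩ := q3.2 q (h.Q_le_stab (adj_smul dm s) qb) (vertexQ_le _ qb)
  have dq := adj_smul_of_mem dm q0
  have nq := h.smul_ne d0.symm dm nm q0 (vertexQ_le _ qa) qc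
  rw [y2] at q4
  by_cases y0 : y = 1
  · rw [y0, mul_one] at q4
    exact absurd (h.PF_PF hb ho c0 dm dq nq.symm q1 q4) r0
  have cs := h.not_cen_of_adj d0' hr.c1
  have y3 := h.Z_le_Z (h.cen_of_adj (adj_smul dm s) cs) (adj_smul dm s).symm y1
  have y4 : y ∉ vertexZ 2 (v 1) := fun e => y0 (h.eq_one_of_mem_Z_Z cs d0'.symm (adj_smul dm s)
    (fun e => nm (smul_left_cancel s ((mem_stabilizer_iff.1 sG).trans e))) e y1)
  obtain ⟨p, p3, p4⟩ := SetLike.not_le_iff_exists.1 (h.Q_not_le_Q d0.symm)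
  obtain ⟨u1, f1, g1⟩ := q1.2 p (h.Q_le_stab dm p3) (vertexQ_le _ p3)
  obtain ⟨u2, f2, g2⟩ := q4.2 p (h.Q_le_stab dq p3) (vertexQ_le _ p3)
  have f3 := h.Z_le_Z (h.cen_of_adj dm c0) dm.symm f1
  have f4 := h.Z_le_Z (h.cen_of_adj dq c0) dq.symm f2
  have y5 := conj_mem_Z y3 p
  rw [h.smul_eq d0 d0' d2 n00.symm n02 n02' (h.Q_le_stab d0.symm p3) (vertexQ_le _ p3) p4] at y5
  refine h.four_of_base ho hr.c1 d0' d2 d0 n02' n00 n02.symm y3 y4 y5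
    (by rwa [← mem_stabilizer_iff.1 (h.Q_le_stab d0.symm p3), conj_mem_Z_iff]) ?_
  have c := h.VV_comm hb (Z_le_VV d0' y3) (Z_le_VV d0 (inv_mem f3))
  have : y * (p * y * p⁻¹) = u1⁻¹ * u2 := by
    calc y * (p * y * p⁻¹) = y * (p * r * p⁻¹)⁻¹ * (p * (r * y) * p⁻¹) := by group
      _ = (y * u1⁻¹) * y * u2 := by rw [g1, g2]; group
      _ = u1⁻¹ * (y * y) * u2 := by rw [c]; group
      _ = u1⁻¹ * u2 := by rw [h.Z_mul_self y3, mul_one]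
  rw [this]
  exact mul_mem (inv_mem f3) f4

theorem Cr.Z_le (hb5 : 5 ≤ 𝐛) (hr : Cr v) : vertexZ 2 (v 2) ≤ vertexZ 2 (v (𝐛 - 3)) := by
  have ho := Cr.one h hb hr
  have hf := Cr.four h hb hr
  have hv := hr.line
  have d0 : (Γ).Adj (v 1) (v 0) := hv.adj' (by ring)
  have d2 : (Γ).Adj (v 1) (v 2) := hv.adj (by ring)
  have n02 : v 0 ≠ v 2 := hv.ne (by ring)
  obtain ⟨a, a1, a2⟩ := h.exists_mem_Z ho hr.c1 d0
  obtain ⟨s, s1, s2⟩ := h.exists_mem_Z ho hr.cb (hv.adj (j := 𝐛 + 1) rfl)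
  obtain ⟨-, s3, -, -, r3, -⟩ := Cr.data h hb hr a1 a2 s1 s2
  obtain ⟨r1, r2⟩ := Cr.mem_of_four h hb hr hf a1 a2 s1 s2
  set r := a * (s * a * s⁻¹)
  obtain ⟨w, u, hw, w1, hu, e⟩ := Cr.shift' h hb hr
  obtain ⟨a', a1', a2'⟩ := h.exists_mem_Z ho hu.c1 (hu.line.adj' (j := 0) (by ring))
  obtain ⟨s', s1', s2'⟩ := h.exists_mem_Z ho hu.cb (hu.line.adj (j := 𝐛 + 1) rfl)
  obtain ⟨a3', -, -, -, t3, -⟩ := Cr.data h hb hu a1' a2' s1' s2'
  obtain ⟨t1, t2⟩ := Cr.mem_of_four h hb hu hf a1' a2' s1' s2'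
  set t := a' * (s' * a' * s'⁻¹)
  have t0 : t ≠ 1 := fun e => t3 (e ▸ one_mem _)
  rw [e 2 0 (by ring), w1 0 le_rfl] at t1
  rw [e (𝐛 - 1) (𝐛 - 3) (by ring), w1 _ (by omega)] at t2
  have cb := hu.cb
  rw [e 𝐛 (𝐛 - 2) (by ring), w1 _ (by omega)] at a3' cb
  rw [e 0 (-2) (by ring)] at a1'
  have sQ : s ∈ vertexQ 2 (v 2) := h.Z_le_Q_line hv (by rw [abs_lt]; omega) s1
  have sG := h.Q_le_stab d2.symm sQ
  have t4 := conj_mem_Z t1 s
  rw [h.comm_of_mem_Q t2 (h.Z_le_Q_line hv (by rw [abs_lt]; omega) s1), mul_inv_cancel_right] at t4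
  have t5 := h.mem_Z_of_mem_mem ho hr.c1 d0 (adj_smul_of_mem d0 sG)
    (h.smul_ne d2 d0 n02.symm sG (vertexQ_le _ sQ) s3).symm t1 t4
  have b1 : (Γ).Adj (v (𝐛 - 2)) (v (𝐛 - 3)) := hv.adj' (by ring)
  have b2 : (Γ).Adj (v (𝐛 - 2)) (v (𝐛 - 1)) := hv.adj (by ring)
  refine h.Z_le_of_mem ho hr.c1 d2 r1 r3 (ho.Z_le hr.c1 t5 t0 t2) (h.Z_le_Z cb b1 ?_)
  have aQ : a' ∈ vertexQ 2 (v (𝐛 - 3)) := by
    rw [← w1 _ (by omega)]; exact h.Z_le_Q_line hw (by rw [abs_lt]; omega) a1'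
  have aQ2 : a' ∈ vertexQ 2 (v 2) := by
    rw [← w1 _ (by omega)]; exact h.Z_le_Q_line hw (by rw [abs_lt]; omega) a1'
  have aG := h.Q_le_stab b1.symm aQ
  have r4 := conj_mem_Z r2 a'
  rw [h.comm_of_mem_Q r1 aQ2, mul_inv_cancel_right] at r4
  exact h.mem_Z_of_mem_mem ho cb b2 (adj_smul_of_mem b2 aG)
    (h.smul_ne b1 b2 (hv.ne (by ring)) aG (vertexQ_le _ aQ) a3').symm r2 r4

theorem Cr.lt_seven (hr : Cr v) : 𝐛 < 7 := by
  by_contra hn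
  obtain ⟨w, u, hw, w1, hu, e⟩ := Cr.shift' h hb hr
  have := Cr.Z_le h hb (by omega) hu
  rw [e 2 0 (by ring), e (𝐛 - 3) (𝐛 - 5) (by ring), w1 0 le_rfl, w1 _ (by omega)] at this
  exact (Cr.cz h hb hr).crit (this.trans (h.Z_le_Q_line hr.line (by rw [abs_lt]; omega)))

theorem Cr.ne_five (hr : Cr v) : 𝐛 ≠ 5 := by
  intro b5
  have ho := Cr.one h hb hr
  have hf := Cr.four h hb hr
  have hv := hr.line
  have d0 : (Γ).Adj (v 1) (v 0) := hv.adj' (by ring)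
  have d2 : (Γ).Adj (v 1) (v 2) := hv.adj (by ring)
  obtain ⟨q, q1, q0, q2⟩ := Cr.exists_q h hb hr hr.c1 d0 d2 (hv.ne (by ring))
  have ht := (h.long_of_wit (Cr.cz h hb hr) (n := 3) (by omega) (by omega) hv (j := 2)
    (h.not_cen_of_adj d2 hr.c1) (x := q) (fun k k0 k1 => by
      obtain rfl | rfl | rfl | rfl : k = -1 ∨ k = 0 ∨ k = 1 ∨ k = 2 := by omega
      · exact h.Q_le_stab (hv.adj' (by ring)) q0
      · exact vertexQ_le _ q0
      · exact vertexQ_le _ q1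
      · exact h.Q_le_stab d2 q1) q2).2
  have b5' : (𝐛 : ℤ) = 5 := by omega
  have all : ∀ w : ℤ → 𝒱, IsLine w → Cen (w 1) → Cr w := by
    intro w hw c
    obtain ⟨g, hg⟩ := ht v w hv hw 1 1 ⟨fun _ => c, fun _ => hr.c1⟩
    have e1 := hg 0 le_rfl (by omega)
    have e2 := hg 4 (by omega) (by omega)
    rw [add_zero] at e1
    rw [show (1 : ℤ) + 4 = 𝐛 by omega] at e2
    refine ⟨hw, c, by rw [← e2, cen_smul]; exact hr.cb, ?_⟩
    rw [← e1, ← e2, VV_smul, vertexQ_smul, cj_le_cj_iff]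
    exact hr.crit
  have aux : ∀ v : ℤ → 𝒱, IsLine v → Cen (v 1) → ∀ a s : X, a ∈ vertexZ 2 (v (-2)) →
      a ∉ vertexZ 2 (v (-1)) → s ∈ stabilizer X (v 1) → s ∈ stabilizer X (v 2) →
      s ∉ vertexQ 2 (v 1) → a * (s * a * s⁻¹ * a * (s * a * s⁻¹)⁻¹) ∈ vertexZ 2 (v 1) ∧
        a * (s * a * s⁻¹ * a * (s * a * s⁻¹)⁻¹) ≠ 1 := by
    intro v hv c1 a s a1 a2 s1 s2 s3
    have d0 : (Γ).Adj (v 1) (v 0) := hv.adj' (by ring)
    have n00 := h.smul_ne (hv.adj (j := 2) (by ring)) d0 (hv.ne' (by ring)) s1 s2 s3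
    obtain ⟨u, hu, e1, e2⟩ := ((hv.ray 1).smul s).glue (hv.ray 1)
      (by simpa using mem_stabilizer_iff.1 s1) (by simpa using n00) 3
    have u0 : u 0 = v (-2) := by simpa using e2 3
    have u1 : u 1 = v (-1) := by simpa using e2 2
    have u2 : u 2 = v 0 := by simpa using e2 1
    have u4 : u (𝐛 - 1) = s • v 0 := by rw [b5']; simpa using e1 1
    have u5 : u 𝐛 = s • v (-1) := by rw [b5']; simpa using e1 2
    have u6 : u (𝐛 + 1) = s • v (-2) := by rw [b5']; simpa using e1 3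
    have cu := all u hu (by
      rw [u1]; exact h.cen_of_adj (hv.adj' (i := 0) (by ring)) (h.not_cen_of_adj d0 c1))
    have a3 : s * a * s⁻¹ ∈ vertexZ 2 (u (𝐛 + 1)) := by rwa [u6, conj_mem_Z_iff]
    have a4 : s * a * s⁻¹ ∉ vertexZ 2 (u 𝐛) := by rwa [u5, conj_mem_Z_iff]
    rw [← u0] at a1
    rw [← u1] at a2
    obtain ⟨r1, r2⟩ := Cr.mem_of_four h hb cu hf a1 a2 a3 a4
    obtain ⟨-, -, -, -, r3, -⟩ := Cr.data h hb cu a1 a2 a3 a4
    rw [u2] at r1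
    rw [u4] at r2
    exact ⟨h.mem_Z_of_mem_mem ho c1 d0 (adj_smul_of_mem d0 s1) n00.symm r1 r2,
      fun e => r3 (e ▸ one_mem _)⟩
  have c2 := h.not_cen_of_adj d2 hr.c1
  have d3 : (Γ).Adj (v 2) (v 3) := hv.adj (by ring)
  have c3 := h.cen_of_adj d3 c2
  have cm := h.cen_of_adj (hv.adj' (i := 0) (j := -1) (by ring)) (h.not_cen_of_adj d0 hr.c1)
  obtain ⟨a, a1, a2⟩ := h.exists_mem_Z ho cm (hv.adj' (j := -2) (by ring))
  obtain ⟨s, s1, s2⟩ := h.exists_mem_Z ho hr.cb (hv.adj (j := 𝐛 + 1) rfl)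
  obtain ⟨a0, a01, a02⟩ := h.exists_mem_Z ho hr.c1 d0
  obtain ⟨-, s3, -⟩ := Cr.data h hb hr a01 a02 s1 s2
  have a3 : a ∉ vertexQ 2 (v 3) := by
    obtain ⟨u, hu, e⟩ := hv.exists_shift (-2)
    have cu := all u hu (by rwa [e 1 (-1) (by ring)])
    obtain ⟨s', s1', s2'⟩ := h.exists_mem_Z ho cu.cb (hu.adj (j := 𝐛 + 1) rfl)
    have := (Cr.data h hb cu (a := a) (by rwa [e 0 (-2) (by ring)]) (by rwa [e 1 (-1) (by ring)])
      s1' s2').1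
    rwa [e 𝐛 3 (by omega)] at this
  have sQ : s ∈ vertexQ 2 (v 2) := h.Z_le_Q_line hv (by rw [abs_lt]; omega) s1
  have aQ : a ∈ vertexQ 2 (v 2) := h.Z_le_Q_line hv (by rw [abs_lt]; omega) a1
  obtain ⟨k1, k2⟩ := aux v hv hr.c1 a s a1 a2 (h.Q_le_stab d2.symm sQ) (vertexQ_le _ sQ) s3
  obtain ⟨u, hu, e⟩ := hv.exists_rev 4
  obtain ⟨k3, -⟩ := aux u hu (by rwa [e 1 3 (by ring)]) s a (by rwa [e (-2) (𝐛 + 1) (by omega)])
    (by rwa [e (-1) 𝐛 (by omega)]) (by rw [e 1 3 (by ring)]; exact h.Q_le_stab d3 aQ)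
    (by rw [e 2 2 (by ring)]; exact vertexQ_le _ aQ) (by rwa [e 1 3 (by ring)])
  rw [e 1 3 (by ring)] at k3
  refine k2 (h.eq_one_of_mem_Z_Z c2 d2.symm d3 (hv.ne (by ring)) k1 ?_)
  have : a * (s * a * s⁻¹ * a * (s * a * s⁻¹)⁻¹) = (s * (a * s * a⁻¹ * s * (a * s * a⁻¹)⁻¹))⁻¹ := by
    simp only [mul_inv_rev, inv_inv, h.Z_inv a1, h.Z_inv s1]
    group
  rw [this]
  exact inv_mem k3

theorem Cr.card_le (hr : Cr v) (b3 : 𝐛 = 3) :
    ∃ α β : 𝒱, (Γ).Adj α β ∧ Nat.card ↥(stabilizer X α ⊓ stabilizer X β) ≤ 2 ^ 7 := by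
  have ho := Cr.one h hb hr
  have hf := Cr.four h hb hr
  have hv := hr.line
  have b3' : (𝐛 : ℤ) = 3 := by omega
  -- the commutator of `V_β` and `V_β'`
  have pair : ∀ {α β β' δ δ' : 𝒱} {a s : X}, ¬ Cen α → (Γ).Adj α β → (Γ).Adj α β' → β ≠ β' →
      (Γ).Adj β δ → δ ≠ α → (Γ).Adj β' δ' → δ' ≠ α → a ∈ vertexZ 2 δ → a ∉ vertexZ 2 β →
      s ∈ vertexZ 2 δ' → s ∉ vertexZ 2 β' → s ∉ vertexQ 2 β ∧ a * (s * a * s⁻¹) ∈ vertexZ 2 α ∧
        a * (s * a * s⁻¹) ∉ vertexZ 2 β ∧ a * (s * a * s⁻¹) ∉ vertexZ 2 β' := by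
    intro α β β' δ δ' a s c hβ hβ' hne hδ n hδ' n' a1 a2 s1 s2
    obtain ⟨w₁, hw₁, x0, x1⟩ := h.exists_line hδ.symm
    obtain ⟨w₂, hw₂, y, y2⟩ := h.splice hw₁ 1 (δ := α) (by rw [x1]; exact hβ.symm)
      (by rw [sub_self, x0]; exact n.symm)
    obtain ⟨w₃, hw₃, z, z3⟩ := h.splice hw₂ (1 + 1) (δ := β') (by rw [y2]; exact hβ')
      (by rw [add_sub_cancel_right, y 1 le_rfl, x1]; exact hne.symm)
    obtain ⟨w, hw, t, t4⟩ := h.splice hw₃ (1 + 1 + 1) (δ := δ') (by rw [z3]; exact hδ')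
      (by rw [add_sub_cancel_right, z _ le_rfl, y2]; exact n')
    have w0 : w 0 = δ := by rw [t 0 (by omega), z 0 (by omega), y 0 (by omega), x0]
    have w1 : w 1 = β := by rw [t 1 (by omega), z 1 (by omega), y 1 (by omega), x1]
    have w2 : w 2 = α := by rw [← y2, ← z _ le_rfl, ← t _ (by omega)]; rfl
    have w3 : w 𝐛 = β' := by rw [b3', ← z3, ← t _ le_rfl]; rfl
    have w4 : w (𝐛 + 1) = δ' := by rw [b3', ← t4]; rfl
    have cw : Cr w := by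
      refine ⟨hw, by rw [w1]; exact h.cen_of_adj hβ c, by rw [w3]; exact h.cen_of_adj hβ' c, ?_⟩
      have d2 : (Γ).Adj (v 2) (v 1) := hv.adj' (by ring)
      obtain ⟨g, -, g1, g2⟩ := h.two_arc (β := v 2) (β' := α)
        ⟨fun e => absurd e (h.not_cen_of_adj d2.symm hr.c1), fun e => absurd e c⟩ d2
        (hv.adj (j := 𝐛) (by omega)) (hv.ne (by omega)) hβ hβ' hne
      rw [w1, w3, ← g1, ← g2, VV_smul, vertexQ_smul, cj_le_cj_iff]
      exact hr.crit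
    rw [← w0] at a1
    rw [← w4] at s1
    rw [← w1] at a2 ⊢
    rw [← w3] at s2 ⊢
    rw [← w2]
    obtain ⟨-, k1, -, -, k2, k3, -⟩ := Cr.data h hb cw a1 a2 s1 s2
    exact ⟨k1, (Cr.mem_of_four h hb cw hf a1 a2 s1 s2).1, k2, k3⟩
  have Vmem : ∀ {α β δ : 𝒱} {a y : X}, Cen β → (Γ).Adj β α → (Γ).Adj β δ → δ ≠ α →
      a ∈ vertexZ 2 δ → a ∉ vertexZ 2 β → y ∈ VV β → y ∈ vertexZ 2 α ∨ a * y ∈ vertexZ 2 α := by
    intro α β δ a y c hα hδ n a1 a2 hy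
    obtain ⟨ε, hε, n1, n2⟩ := h.exists_adj_ne₂ β α δ
    obtain ⟨a', a1', a2'⟩ := h.exists_mem_Z ho c hε
    exact h.mem_or_mul_mem hb ho c hα hδ hε n.symm n1.symm n2.symm a1 a2 a1' a2' le_rfl
      (hf _ _ _ _ c hδ hε hα n2.symm n n1 _ a1 a2 _ a1' a2') hy
  have DD4 : ∀ {α β δ : 𝒱} {a x : X}, Cen β → (Γ).Adj β α → (Γ).Adj β δ → δ ≠ α →
      a ∈ vertexZ 2 δ → a ∉ vertexZ 2 β → x ∈ vertexQ 2 α → x * a = a * x → x ∈ DD β := by
    intro α β δ a x c hα hδ n a1 a2 x1 e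
    have k : ∀ y ∈ VV β, x * y = y * x := by
      intro y hy
      rcases Vmem c hα hδ n a1 a2 hy with k | k
      · exact h.comm_of_mem_Q k x1
      · have := h.comm_of_mem_Q k x1
        calc x * y = a⁻¹ * (a * x) * y := by group
          _ = a⁻¹ * (x * (a * y)) := by rw [← e]; group
          _ = y * x := by rw [this]; group
    have xQ := h.mem_Q_of_comm_VV c (h.Q_le_stab hα.symm x1) k
    exact mem_DD.2 ⟨xQ, fun ε hε => h.mem_Q_of_centralizes (h.not_cen_of_adj hε c)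
      (h.Q_le_stab hε xQ) fun z hz => (k z (Z_le_VV hε hz)).symm⟩
  have comm2 : ∀ {α β δ : 𝒱} {a x : X}, Cen β → (Γ).Adj β α → (Γ).Adj β δ → δ ≠ α →
      a ∈ vertexZ 2 δ → a ∉ vertexZ 2 β → x ∈ vertexQ 2 α → a * (x * a * x⁻¹) ∈ vertexZ 2 α := by
    intro α β δ a x c hα hδ n a1 a2 x1
    have xβ := h.Q_le_stab hα.symm x1
    have a3 : x * a * x⁻¹ ∉ vertexZ 2 β := by rwa [← mem_stabilizer_iff.1 xβ, conj_mem_Z_iff]
    by_cases e : x • δ = δ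
    · exact h.Z_le_Z c hα (h.mul_mem_Z ho c hδ a1 (e ▸ conj_mem_Z a1 x) a2 a3)
    · exact hf _ _ _ _ c hδ (adj_smul_of_mem hδ xβ) hα (Ne.symm e) n
        (fun e => n (smul_left_cancel x (e.trans (mem_stabilizer_iff.1 (vertexQ_le _ x1)).symm)))
        _ a1 a2 _ (conj_mem_Z a1 x) a3
  have exK : ∀ {α β : 𝒱}, ¬ Cen α → (Γ).Adj α β →
      (∃ q ∈ vertexQ 2 β, q ∉ vertexQ 2 α ∧ ∀ x ∈ DD β, q * x * q⁻¹ * x⁻¹ ∈ VV β) ∧
      ∃ k ∈ stabilizer X β, k ∉ stabilizer X α ∧ ∀ x ∈ DD β, k * x * k⁻¹ * x⁻¹ ∈ VV β := by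
    intro α β c hβ
    have cβ := h.cen_of_adj hβ c
    let K : Subgroup X :=
      { carrier := {k | k ∈ stabilizer X β ∧ ∀ x ∈ DD β, k * x * k⁻¹ * x⁻¹ ∈ VV β}
        one_mem' := ⟨one_mem _, fun x _ => by simp⟩
        mul_mem' := by
          rintro a b ⟨ha, ha'⟩ ⟨hb', hb''⟩
          refine ⟨mul_mem ha hb', fun x hx => ?_⟩
          have : a * b * x * (a * b)⁻¹ * x⁻¹ =
              a * (b * x * b⁻¹ * x⁻¹) * a⁻¹ * (a * x * a⁻¹ * x⁻¹) := by group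
          rw [this]
          exact mul_mem (conj_mem_of_mem_normalizer (le_normalizer_VV _ ha) (hb'' x hx)) (ha' x hx)
        inv_mem' := by
          rintro a ⟨ha, ha'⟩
          refine ⟨inv_mem ha, fun x hx => ?_⟩
          have : a⁻¹ * x * a⁻¹⁻¹ * x⁻¹ = a⁻¹ * (a * x * a⁻¹ * x⁻¹)⁻¹ * a := by group
          rw [this]
          exact inv_conj_mem_of_mem_normalizer (le_normalizer_VV _ ha) (inv_mem (ha' x hx)) }
    have Kc : ∀ k ∈ K, ∀ g ∈ stabilizer X β, g * k * g⁻¹ ∈ K := by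
      intro k hk g hg
      refine ⟨mul_mem (mul_mem hg hk.1) (inv_mem hg), fun x hx => ?_⟩
      have : g * k * g⁻¹ * x * (g * k * g⁻¹)⁻¹ * x⁻¹ =
          g * (k * (g⁻¹ * x * g⁻¹⁻¹) * k⁻¹ * (g⁻¹ * x * g⁻¹⁻¹)⁻¹) * g⁻¹ := by group
      rw [this]
      exact conj_mem_of_mem_normalizer (le_normalizer_VV _ hg)
        (hk.2 _ (conj_mem_DD' hx (inv_mem hg)))
    obtain ⟨β', hβ', n, -⟩ := h.exists_adj_ne₂ α β β
    have cβ' := h.cen_of_adj hβ' c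
    obtain ⟨δ, δ', d, d', m, m', mm⟩ := h.exists_adj_ne β α
    obtain ⟨ε, hε, n', -⟩ := h.exists_adj_ne₂ β' α α
    obtain ⟨a, a1, a2⟩ := h.exists_mem_Z ho cβ d
    obtain ⟨s, s1, s2⟩ := h.exists_mem_Z ho cβ' hε
    have s3 := (pair c hβ hβ' n.symm d m hε n' a1 a2 s1 s2).1
    have sQ := h.VV_le_Q_adj hb hβ'.symm (Z_le_VV hε s1)
    have sβ := h.Q_le_stab hβ sQ
    have sK : s ∈ K := ⟨sβ, fun x hx => by
      have := comm2 cβ' hβ'.symm hε n' s1 s2 ((mem_DD.1 hx).2 α hβ.symm)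
      rw [h.Z_inv s1, show s * x * s * x⁻¹ = s * (x * s * x⁻¹) by group]
      exact Z_le_VV hβ.symm this⟩
    obtain ⟨g, hg, hg'⟩ := exists_smul_eq_of_adj d hβ.symm
    refine ⟨?_, ?_⟩
    · obtain ⟨p, p1, p2, p3⟩ := Cr.exists_q h hb hr cβ d d' mm
      have e := h.smul_eq hβ.symm d' d m'.symm m.symm mm.symm sβ (vertexQ_le _ sQ) s3
      have k1 : p * s * p⁻¹ * s⁻¹ ∈ K := mul_mem (Kc s sK p (vertexQ_le _ p1)) (inv_mem sK)
      have k2 : p * s * p⁻¹ * s⁻¹ ∈ vertexQ 2 β := by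
        rw [show p * s * p⁻¹ * s⁻¹ = p * (s * p⁻¹ * s⁻¹) by group]
        exact mul_mem p1 (conj_mem_of_mem_normalizer (le_normalizer_vertexQ β sβ) (inv_mem p1))
      have k3 : p * s * p⁻¹ * s⁻¹ ∉ vertexQ 2 δ := by
        intro k
        rw [show p * s * p⁻¹ * s⁻¹ = p * (s * p⁻¹ * s⁻¹) by group,
          Subgroup.mul_mem_cancel_left _ p2, ← e, conj_mem_Q_iff] at k
        exact p3 (inv_mem_iff.1 k)
      refine ⟨_, conj_mem_of_mem_normalizer (le_normalizer_vertexQ β hg) k2, ?_, (Kc _ k1 g hg).2⟩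
      rwa [← hg', conj_mem_Q_iff]
    · refine ⟨_, (Kc s sK _ (inv_mem hg)).1, fun e => s3 ?_, (Kc s sK _ (inv_mem hg)).2⟩
      have := h.mem_Q_of_fix d hβ.symm m (Kc s sK _ (inv_mem hg)).1
        (by rw [← inv_smul_smul g δ, conj_mem_stab_iff, hg']; exact vertexQ_le _ sQ) e
      rwa [← mem_stabilizer_iff.1 (inv_mem hg), conj_mem_Q_iff] at this
  set α := v 2
  set β := v 1
  have hβ : (Γ).Adj α β := hv.adj' (by ring)
  have c1 : Cen β := hr.c1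
  have c0 := h.not_cen_of_adj hβ.symm c1
  obtain ⟨β₂, β₃, a2, a3, n2, n3, n23⟩ := h.exists_adj_ne α β
  have c2 := h.cen_of_adj a2 c0
  have c3 := h.cen_of_adj a3 c0
  obtain ⟨δ₁, d1, m1, -⟩ := h.exists_adj_ne₂ β α α
  obtain ⟨δ₂, d2, m2, -⟩ := h.exists_adj_ne₂ β₂ α α
  obtain ⟨δ₃, d3, m3, -⟩ := h.exists_adj_ne₂ β₃ α α
  obtain ⟨w1, w1Z, w1n⟩ := h.exists_mem_Z ho c1 d1
  obtain ⟨w2, w2Z, w2n⟩ := h.exists_mem_Z ho c2 d2
  obtain ⟨w3, w3Z, w3n⟩ := h.exists_mem_Z ho c3 d3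
  have w2Q := h.VV_le_Q_adj hb a2.symm (Z_le_VV d2 w2Z)
  have w3Q := h.VV_le_Q_adj hb a3.symm (Z_le_VV d3 w3Z)
  have D13 : ∀ {β β₂ δ₁ : 𝒱} {w1 x : X}, (Γ).Adj α β → (Γ).Adj α β₂ → β₂ ≠ β → β₃ ≠ β →
      β₂ ≠ β₃ → (Γ).Adj β δ₁ → δ₁ ≠ α → w1 ∈ vertexZ 2 δ₁ → w1 ∉ vertexZ 2 β → x ∈ DD β →
      x ∈ DD β₂ → w3 * (x * w3 * x⁻¹) = 1 ∨ w3 * (x * w3 * x⁻¹) = w3 * (w1 * w3 * w1⁻¹) := by
    intro β β₂ δ₁ w1 x hβ a2 n2 n3 n23 d1 m1 w1Z w1n x1 x2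
    obtain ⟨⟨q, q1, q2, q3⟩, -⟩ := exK c0 hβ
    have e := h.smul_eq hβ a2 a3 n2.symm n3.symm n23 (h.Q_le_stab hβ.symm q1) (vertexQ_le _ q1) q2
    have x3 := conj_mem_DD x2 q
    rw [e] at x3
    have k := h.comm_of_mem_Q w3Z ((mem_DD.1 x3).2 _ d3)
    have y1 := q3 x x1
    set y := q * x * q⁻¹ * x⁻¹ with hy
    have e2 : x * w3 * x⁻¹ = y⁻¹ * w3 * y := by
      calc x * w3 * x⁻¹ = y⁻¹ * (q * x * q⁻¹ * w3) * x⁻¹ := by rw [hy]; group
        _ = y⁻¹ * w3 * y := by rw [k, hy]; group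
    rw [e2]
    rcases Vmem (h.cen_of_adj hβ c0) hβ.symm d1 m1 w1Z w1n y1 with k | k
    · left
      rw [mul_assoc y⁻¹, h.comm_of_mem_Q k w3Q, inv_mul_cancel_left, h.Z_mul_self w3Z]
    · right
      have k2 := h.comm_of_mem_Q k w3Q
      have k3 := h.VV_comm hb (Z_le_VV d1 w1Z) y1
      rw [k3] at k2
      congr 1
      calc y⁻¹ * w3 * y = y⁻¹ * (w3 * (y * w1)) * w1⁻¹ := by group
        _ = w1 * w3 * w1⁻¹ := by rw [k2]; group
  have D123 : ∀ x ∈ DD β, x ∈ DD β₂ → x ∈ NN α := by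
    intro x x1 x2
    have k : w3 * (x * w3 * x⁻¹) = 1 := by
      rcases D13 hβ a2 n2 n3 n23 d1 m1 w1Z w1n x1 x2 with k | k
      · exact k
      rcases D13 a2 hβ n2.symm n23.symm n3.symm d2 m2 w2Z w2n x2 x1 with k' | k'
      · exact k'
      obtain ⟨-, r1, r2, r3⟩ := pair c0 a3 hβ n3 d3 m3 d1 m1 w3Z w3n w1Z w1n
      obtain ⟨-, -, -, r4⟩ := pair c0 a3 a2 n23.symm d3 m3 d2 m2 w3Z w3n w2Z w2n
      rw [← k] at r1 r2 r3
      rw [← k'] at r4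
      obtain ⟨a, ha, b, hb', e⟩ := h.exists_mul_of_mem_Z c0 hβ a2 n2.symm r1
      exfalso
      rw [e] at r2 r3 r4
      have b1 : b ≠ 1 := by rintro rfl; exact r3 (by simpa using ha)
      have a1 : a ≠ 1 := by rintro rfl; exact r4 (by simpa using hb')
      exact r2 (h.mul_mem_Z ho c3 a3.symm (h.Z_le_Z c1 hβ.symm ha) (h.Z_le_Z c2 a2.symm hb')
        (fun e => a1 (h.eq_one_of_mem_Z_Z c0 hβ a3 n3.symm ha e))
        fun e => b1 (h.eq_one_of_mem_Z_Z c0 a2 a3 n23 hb' e))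
    have k2 := eq_inv_of_mul_eq_one_right k
    rw [h.Z_inv w3Z] at k2
    have x3 := DD4 c3 a3.symm d3 m3 w3Z w3n ((mem_DD.1 x1).2 _ hβ.symm) (by
      calc x * w3 = x * w3 * x⁻¹ * x := by group
        _ = w3 * x := by rw [k2])
    refine mem_NN.2 fun ε hε => ?_
    rcases h.third hβ a2 a3 n2.symm n3.symm n23 hε with e | e | e <;> rw [e] <;> assumption
  have Dcomm : ∀ {β : 𝒱} {x y : X}, x ∈ DD β → y ∈ VV β → x * y = y * x := fun hx hy =>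
    h.comm_VV (mem_DD.1 hx).2 hy
  have Qgen : ∀ p ∈ vertexQ 2 α, ∃ y, (∀ x ∈ NN α, x * y = y * x) ∧ y * p ∈ DD β := by
    intro p hp
    have fin : ∀ y ∈ vertexQ 2 α, w1 * (y * p * w1 * (y * p)⁻¹) = 1 → y * p ∈ DD β := by
      intro y hy e
      have k2 := eq_inv_of_mul_eq_one_right e
      rw [h.Z_inv w1Z] at k2
      refine DD4 c1 hβ.symm d1 m1 w1Z w1n (mul_mem hy hp) ?_
      calc y * p * w1 = y * p * w1 * (y * p)⁻¹ * (y * p) := by group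
        _ = w1 * (y * p) := by rw [k2]
    have mul : ∀ y ∈ vertexQ 2 α, ∀ p ∈ vertexQ 2 α, w1 * (y * p * w1 * (y * p)⁻¹) =
        w1 * (y * w1 * y⁻¹) * (w1 * (p * w1 * p⁻¹)) := by
      intro y hy p hp
      have k := h.comm_of_mem_Q (comm2 c1 hβ.symm d1 m1 w1Z w1n hp) hy
      calc w1 * (y * p * w1 * (y * p)⁻¹)
          = w1 * y * (w1 * w1) * (p * w1 * p⁻¹) * y⁻¹ := by rw [h.Z_mul_self w1Z]; group
        _ = w1 * (y * w1 * y⁻¹) * (y * (w1 * (p * w1 * p⁻¹))) * y⁻¹ := by group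
        _ = _ := by rw [k]; group
    obtain ⟨-, r1, r2, r3⟩ := pair c0 hβ a2 n2.symm d1 m1 d2 m2 w1Z w1n w2Z w2n
    obtain ⟨-, t1, t2, t3⟩ := pair c0 hβ a3 n3.symm d1 m1 d3 m3 w1Z w1n w3Z w3n
    have u1 := comm2 c1 hβ.symm d1 m1 w1Z w1n hp
    have N2 : ∀ x ∈ NN α, x * w2 = w2 * x := fun x hx =>
      Dcomm (mem_NN.1 hx _ a2) (Z_le_VV d2 w2Z)
    have N3 : ∀ x ∈ NN α, x * w3 = w3 * x := fun x hx =>
      Dcomm (mem_NN.1 hx _ a3) (Z_le_VV d3 w3Z)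
    set r := w1 * (w2 * w1 * w2⁻¹)
    set t := w1 * (w3 * w1 * w3⁻¹)
    set u := w1 * (p * w1 * p⁻¹)
    have rt : r * t ≠ 1 := by
      intro e
      have e2 : t = r := by rw [eq_inv_of_mul_eq_one_right e, h.Z_inv r1]
      rw [e2] at t3
      obtain ⟨a, ha, b, hb', e⟩ := h.exists_mul_of_mem_Z c0 hβ a2 n2.symm r1
      rw [e] at r2 r3 t3
      have b1 : b ≠ 1 := by rintro rfl; exact r2 (by simpa using ha)
      have a1 : a ≠ 1 := by rintro rfl; exact r3 (by simpa using hb')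
      exact t3 (h.mul_mem_Z ho c3 a3.symm (h.Z_le_Z c1 hβ.symm ha) (h.Z_le_Z c2 a2.symm hb')
        (fun e => a1 (h.eq_one_of_mem_Z_Z c0 hβ a3 n3.symm ha e))
        fun e => b1 (h.eq_one_of_mem_Z_Z c0 a2 a3 n23 hb' e))
    have rt1 := h.mul_mem_Z ho c1 hβ.symm r1 t1 r2 t2
    by_cases u2 : u ∈ vertexZ 2 β
    · by_cases u3 : u = 1
      · exact ⟨1, fun x _ => by simp, fin 1 (one_mem _) (by simpa using u3)⟩
      · refine ⟨w2 * w3, fun x hx => by rw [← mul_assoc, N2 x hx, mul_assoc, N3 x hx, mul_assoc],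
          fin _ (mul_mem w2Q w3Q) ?_⟩
        rw [mul _ (mul_mem w2Q w3Q) p hp, mul _ w2Q _ w3Q, ho β c1 _ rt1 u u2 rt u3]
        exact h.Z_mul_self u1
    · have ru := h.mul_mem_Z ho c1 hβ.symm r1 u1 r2 u2
      by_cases u3 : r * u = 1
      · exact ⟨w2, N2, fin _ w2Q (by rw [mul _ w2Q p hp]; exact u3)⟩
      · refine ⟨w3, N3, fin _ w3Q ?_⟩
        rw [mul _ w3Q p hp]
        have := mul_left_cancel (ho β c1 _ rt1 _ ru rt u3)
        change t * u = 1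
        rw [this]
        exact h.Z_mul_self u1
  obtain ⟨⟨q, q1, q2, q3⟩, k, k1, k2, k3⟩ := exK c0 hβ
  have Nle : NN α ≤ vertexQ 2 α := fun x hx => (mem_DD.1 (mem_NN.1 hx _ hβ)).2 _ hβ.symm
  have Ncen : ∀ x ∈ NN α, ∀ p ∈ vertexQ 2 α, p * x = x * p := by
    have : ⁅NN α, vertexQ 2 α⁆ = ⊥ := by
      refine h.eq_bot' hβ ?_ (le_normalizer_commutator (le_normalizer_NN α)
        (le_normalizer_vertexQ α)) k1 k2 (centralizer_le_normalizer' _ ?_)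
      · refine le_trans ?_ (h.Q_le hβ)
        rw [Subgroup.commutator_le]
        intro x hx p hp
        exact mul_mem (mul_mem (mul_mem (Nle hx) hp) (inv_mem (Nle hx))) (inv_mem hp)
      · have : ⁅NN α, vertexQ 2 α⁆ ≤ Subgroup.centralizer {k} := by
          rw [Subgroup.commutator_le]
          intro x hx p hp g hg
          rw [Set.mem_singleton_iff.1 hg]
          obtain ⟨y, y1, y2⟩ := Qgen p hp
          set d := y * p with hd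
          have x1 := mem_NN.1 hx _ hβ
          have xd : x * d * x⁻¹ * d⁻¹ ∈ NN α := by
            rw [show x * d * x⁻¹ * d⁻¹ = x * (d * x⁻¹ * d⁻¹) by group]
            exact mul_mem hx (conj_mem_NN (inv_mem hx) (vertexQ_le _ ((mem_DD.1 y2).2 _ hβ.symm)))
          have e1 : ⁅x, p⁆ = x * d * x⁻¹ * d⁻¹ := by
            have c1 := y1 x hx
            have c2 := y1 _ xd
            calc ⁅x, p⁆ = y⁻¹ * (y * x) * p * x⁻¹ * d⁻¹ * y := by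
                  rw [commutatorElement_def, hd]; group
              _ = y⁻¹ * (x * d * x⁻¹ * d⁻¹ * y) := by rw [← c1, hd]; group
              _ = x * d * x⁻¹ * d⁻¹ := by rw [c2]; group
          have v1 := k3 x x1
          have v2 := k3 d y2
          set a := k * x * k⁻¹ * x⁻¹ with ha
          set b := k * d * k⁻¹ * d⁻¹ with hb'
          have c1 := Dcomm x1 v2
          have c2 := Dcomm (mul_mem (mul_mem (mul_mem x1 y2) (inv_mem x1)) (inv_mem y2)) v2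
          have c3 := Dcomm (mul_mem (mul_mem x1 y2) (inv_mem x1)) v1
          have c4 := Dcomm (inv_mem y2) (inv_mem v1)
          have c5 := h.VV_comm hb v1 v2
          rw [e1]
          calc k * (x * d * x⁻¹ * d⁻¹) = a * (x * b) * d * x⁻¹ * (a⁻¹ * d⁻¹) * b⁻¹ * k := by
                rw [ha, hb']; group
            _ = (a * b) * (x * d * x⁻¹) * d⁻¹ * a⁻¹ * b⁻¹ * k := by rw [c1, ← c4]; group
            _ = b * (a * (x * d * x⁻¹)) * (d⁻¹ * a⁻¹) * b⁻¹ * k := by rw [c5]; group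
            _ = b * (x * d * x⁻¹ * d⁻¹) * b⁻¹ * k := by rw [← c3, c4]; group
            _ = x * d * x⁻¹ * d⁻¹ * k := by rw [← c2]; group
        exact fun g hg => (this hg k rfl).symm
    intro x hx p hp
    have := (Subgroup.eq_bot_iff_forall _).1 this _ (Subgroup.commutator_mem_commutator hx hp)
    exact (commutatorElement_eq_one_iff_mul_comm.1 this).symm
  have Nsq : ∀ x ∈ NN α, x * x = 1 := by
    have : sqs (NN α) = ⊥ := by
      refine h.eq_bot' hβ ((sqs_le _).trans (Nle.trans (h.Q_le hβ)))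
        (le_normalizer_sqs (le_normalizer_NN α)) k1 k2 (centralizer_le_normalizer' _ ?_)
      have : sqs (NN α) ≤ Subgroup.centralizer {k} := by
        rw [sqs, Subgroup.closure_le]
        rintro _ ⟨x, hx, rfl⟩ g hg
        rw [Set.mem_singleton_iff.1 hg]
        have x1 := mem_NN.1 hx _ hβ
        have v1 := k3 x x1
        set a := k * x * k⁻¹ * x⁻¹ with ha
        have c1 := Dcomm x1 v1
        calc k * (x * x) = a * (x * a) * x * k := by rw [ha]; group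
          _ = (a * a) * (x * x) * k := by rw [c1]; group
          _ = x * x * k := by rw [h.VV_mul_self hb v1, one_mul]
      exact fun g hg => (this hg k rfl).symm
    exact fun x hx => mul_self_eq_one_of_sqs this hx
  have NZ : NN α ≤ vertexZ 2 α := by
    intro x hx
    have qα := h.Q_le_stab hβ.symm q1
    have x1 := conj_mem_NN hx qα
    have y1 := q3 x (mem_NN.1 hx _ hβ)
    have y2 : q * x * q⁻¹ * x⁻¹ ∈ NN α := mul_mem x1 (inv_mem hx)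
    have xi := inv_eq_of_mul_eq_one_right (Nsq x hx)
    have y3 : q * x * q⁻¹ * x⁻¹ ∈ vertexZ 2 α := by
      rcases Vmem c1 hβ.symm d1 m1 w1Z w1n y1 with e | e
      · exact e
      · have := (pair c0 a2 hβ n2 d2 m2 d1 m1 w2Z w2n w1Z w1n).1
        exact absurd ((Subgroup.mul_mem_cancel_right _ (mem_DD.1 (mem_NN.1 y2 _ a2)).1).1
          (h.VV_le_Q hb _ (Z_le_VV a2.symm e))) this
    have c := Ncen x hx _ (Nle x1)
    refine h.mem_Z_of_conj ho c0 hβ (Nle hx) (Nsq x hx) (Ncen x hx) qα (vertexQ_le _ q1) q2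
      (u := q * x * q⁻¹ * x⁻¹) (h.mem_Z_of_comm' c0 hβ y3 qα (vertexQ_le _ q1) q2 ?_) ?_
    · have c2 := Ncen x hx _ (h.mul_mem_Q hβ qα (vertexQ_le _ q1) qα (vertexQ_le _ q1) q2 q2)
      rw [xi]
      calc q * (q * x * q⁻¹ * x) = (q * q * x) * q⁻¹ * q⁻¹ * (q * x * q⁻¹) * q := by group
        _ = x * (q * x * q⁻¹) * q := by rw [c2]; group
        _ = q * x * q⁻¹ * x * q := by rw [← c]
    · calc q * x * q⁻¹ = (q * x * q⁻¹ * x) * x⁻¹ := by group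
        _ = x * (q * x * q⁻¹ * x⁻¹) := by rw [c]; group
  refine ⟨α, β, hβ, ?_⟩
  set A0 := stabilizer X α ⊓ stabilizer X β
  have e1 := h.card_step hβ (A := A0) inf_le_left inf_le_right
  set A1 := A0 ⊓ vertexQ 2 α
  have f1 : A1 ≤ vertexQ 2 α := inf_le_right
  have e2 := h.card_step hβ.symm (f1.trans (h.Q_le_stab hβ)) (f1.trans (vertexQ_le α))
  set A2 := A1 ⊓ vertexQ 2 β
  have f2 : A2 ≤ vertexQ 2 β := inf_le_right
  have e3 := h.card_step d1.symm (f2.trans (h.Q_le_stab d1)) (f2.trans (vertexQ_le β))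
  set A3 := A2 ⊓ vertexQ 2 δ₁
  have f3 : A3 ≤ vertexQ 2 α := inf_le_left.trans (inf_le_left.trans f1)
  have e4 := h.card_step a2.symm (f3.trans (h.Q_le_stab a2)) (f3.trans (vertexQ_le α))
  set A4 := A3 ⊓ vertexQ 2 β₂
  have f4 : A4 ≤ vertexQ 2 β₂ := inf_le_right
  have e5 := h.card_step d2.symm (f4.trans (h.Q_le_stab d2)) (f4.trans (vertexQ_le β₂))
  have e : A4 ⊓ vertexQ 2 δ₂ ≤ vertexZ 2 α := by
    rintro x ⟨⟨⟨⟨⟨-, x1⟩, -⟩, x3⟩, -⟩, x5⟩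
    exact NZ (D123 x (DD4 c1 hβ.symm d1 m1 w1Z w1n x1 (h.comm_of_mem_Q w1Z x3))
      (DD4 c2 a2.symm d2 m2 w2Z w2n x1 (h.comm_of_mem_Q w2Z x5)))
  have := h.finite α
  have := finite_of_le (vertexZ_le (p := 2) α)
  have e6 := (Subgroup.card_le_of_le e).trans (h.card_Z_le ho c0)
  omega

end three

theorem card_le :
    ∃ α β : 𝒱, (Γ).Adj α β ∧ Nat.card ↥(stabilizer X α ⊓ stabilizer X β) ≤ 2 ^ 7 := by
  have b0 := h.b_pos
  by_cases b1 : 𝐛 = 1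
  · exact h.card_le_of_b_one h.three b1
  by_cases b2 : 𝐛 = 2
  · exact h.card_le_of_b_two b2
  have hb : 3 ≤ 𝐛 := by omega
  obtain ⟨α₀, α', hc⟩ := exists_criticalPair h.char
  obtain ⟨v, hv, v0, vb⟩ := h.exists_line_dist α₀ α'
  rw [hc.2] at vb
  have hn := h.crit_not_le hc
  rw [← v0, ← vb] at hn
  have c0 : ¬ Cen (v 0) := fun c => hn ((h.Z_le_Z c (hv.adj (j := 1) (by ring))).trans
    (h.Z_le_Q_line hv (by rw [abs_lt]; omega)))
  by_cases cb : Cen (v 𝐛)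
  · have hr := Cz.cr h hb ⟨hv, c0, cb, hn⟩
    have := Cr.lt_seven h hb hr
    have := Cr.ne_four h hb hr
    have := Cr.ne_five h hb hr
    have := Cr.ne_six h hb hr
    exact Cr.card_le h hb hr (by omega)
  · have := h.even_lt_four hv c0 cb hn
    have b3 : (𝐛 : ℤ) = 3 := by omega
    rw [b3] at cb
    exact absurd (h.cen_of_adj (hv.adj (i := 2) (by ring)) (h.not_cen_of_adj
      (hv.adj (i := 1) (by ring)) (h.cen_of_adj (hv.adj (by ring)) c0))) cb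

end GAmal

theorem DAmal.card_le_of_three (h : DAmal M₁ M₂)
    (h3 : ∀ δ μ : 𝒱, (Γ).Adj δ μ → (stabilizer X δ ⊓ stabilizer X μ).relIndex (stabilizer X δ) = 3) :
    Nat.card ↥(M₁ ⊓ M₂) ≤ 2 ^ 7 := by
  have key : ∃ α β : 𝒱, (Γ).Adj α β ∧ Nat.card ↥(stabilizer X α ⊓ stabilizer X β) ≤ 2 ^ 7 := by
    have nc : ∀ δ μ : 𝒱, (Γ).Adj δ μ → Cen δ → ¬ Cen μ := by
      intro δ μ hμ c c'
      have k : ∀ {δ μ : 𝒱}, (Γ).Adj δ μ → Cen δ → stabilizer X δ ≤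
          𝐂[omegaOne 2 ((stabilizer X δ ⊓ stabilizer X μ) ⊓ 𝐂[stabilizer X δ ⊓ stabilizer X μ])] :=
        fun hμ c => c.trans (centralizer_anti (le_sylowCenterClosure (h.sylow hμ)))
      have k2 := k hμ.symm c'
      rw [inf_comm (stabilizer X μ)] at k2
      have := h.finite δ
      have := finite_of_le (inf_le_left : stabilizer X δ ⊓ stabilizer X μ ≤ _)
      exact omegaOne_center_ne_bot (h.two δ μ hμ) (fun e => h.not_le_Q hμ (e ▸ bot_le))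
        (h.eq_bot hμ ((omegaOne_le _).trans inf_le_left)
          ((k hμ c).trans (centralizer_le_normalizer' _)) (k2.trans (centralizer_le_normalizer' _)))
    by_cases hc : ∃ δ : 𝒱, Cen δ
    · refine GAmal.card_le ⟨h, h3, fun δ μ hμ => ⟨nc δ μ hμ, fun hn => ?_⟩⟩
      obtain ⟨ε, hε⟩ := hc
      obtain ⟨x, ⟨rfl, rfl⟩ | ⟨rfl, rfl⟩⟩ := adj_iff.1 hμ
      all_goals
        rcases ε with a | a
        all_goals
          obtain ⟨y, rfl⟩ := QuotientGroup.mk_surjective a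
          have := (cen_smul (x * y⁻¹) _).2 hε
          first
            | (rw [smul_inl, inv_mul_cancel_right] at this; tauto)
            | (rw [smul_inr, inv_mul_cancel_right] at this; tauto)
    · push Not at hc
      have ha : AAmal M₁ M₂ := ⟨h, fun δ => by
        obtain ⟨μ, hμ⟩ := exists_adj δ
        refine h.centralizer_Z_le hμ fun hle => hc δ ?_
        have := h.finite δ
        refine Subgroup.le_centralizer_iff.1 (sylowCenterClosure_le_iff.2 fun T hT => ?_)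
        obtain ⟨g, hg, rfl⟩ := (h.sylow hμ).exists_conj_eq hT
        rw [omegaOne_center_cj, cj_le_iff, ← centralizer_cj, cj_of_mem (inv_mem hg)]
        exact Subgroup.le_centralizer_iff.1 hle⟩
      exact h.card_le_of_b_one h3 (ha.b_eq_one h3)
  obtain ⟨α, β, hβ, hc⟩ := key
  obtain ⟨x, ⟨e1, e2⟩ | ⟨e1, e2⟩⟩ := exists_stabilizer_eq_of_adj hβ
  · rwa [e1, e2, ← cj_inf, card_cj] at hc
  · rwa [e1, e2, ← cj_inf, card_cj, inf_comm] at hc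

/-- the case that `P₁` is not of characteristic 2 -/
theorem card_le_of_not_char {P₁ P₂ T : Subgroup X} [Finite P₁] [Finite P₂] (s₁ : IsSylowIn 2 T P₁)
    (s₂ : IsSylowIn 2 T P₂) (i₁ : T.relIndex P₁ = 3) (i₂ : T.relIndex P₂ = 3)
    (q₁ : (pCoreOf 2 P₁).relIndex T = 2) (q₂ : (pCoreOf 2 P₂).relIndex T = 2)
    (hcore : ∀ N : Subgroup X, N ≤ T → P₁ ≤ 𝐍[N] → P₂ ≤ 𝐍[N] → N = ⊥)
    (hn : ¬ P₁ ⊓ 𝐂[pCoreOf 2 P₁] ≤ pCoreOf 2 P₁) : Nat.card T ≤ 2 ^ 7 := by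
  have := finite_of_le s₁.le
  have Q1 := pCoreOf_le_of_isSylowIn s₁
  have Q2 := pCoreOf_le_of_isSylowIn s₂
  have n1 : P₁ ≤ 𝐍[pCoreOf 2 P₁] := CP.le_normalizer_pCoreOf _ _
  have n2 : P₂ ≤ 𝐍[pCoreOf 2 P₂] := CP.le_normalizer_pCoreOf _ _
  have hC : ¬ P₁ ⊓ 𝐂[pCoreOf 2 P₁] ≤ T := fun hle => hn (CP.le_pCoreOf inf_le_left
    (le_normalizer_inf Subgroup.le_normalizer (le_normalizer_centralizer n1))
    (s₁.isPGroup.to_le hle))
  let f : (P₂ ⧸ T.subgroupOf P₂) → Subgroup X := fun c => cj(((c.out : P₂) : X), pCoreOf 2 P₁)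
  have mf : ∀ g ∈ P₂, ∃ c, f c = cj(g, pCoreOf 2 P₁) := by
    intro g hg
    obtain ⟨t, ht⟩ := QuotientGroup.mk_out_eq_mul (T.subgroupOf P₂) ⟨g, hg⟩
    refine ⟨((⟨g, hg⟩ : P₂) : P₂ ⧸ T.subgroupOf P₂), ?_⟩
    simp only [f, ht, Subgroup.coe_mul, cj_mul]
    rw [cj_of_mem_normalizer (g := ((t : P₂) : X)) (n1 (s₁.le t.2))]
  have hN : pCoreOf 2 P₂ ⊓ ⨅ c, f c = ⊥ := by
    have k2 : P₂ ≤ 𝐍[pCoreOf 2 P₂ ⊓ ⨅ c, f c] := by
      refine le_normalizer_inf n2 (le_normalizer_iff_cj.2 fun g hg => le_iInf fun c => ?_)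
      obtain ⟨c', hc'⟩ := mf (g⁻¹ * (c.out : P₂)) (mul_mem (inv_mem hg) (c.out).2)
      rw [cj_le_iff]
      refine (iInf_le _ c').trans ?_
      rw [hc', cj_mul]
    refine hcore _ (inf_le_left.trans Q2) ?_ k2
    rcases eq_or_eq_of_relIndex_prime (H := (P₁ ⊓ 𝐂[pCoreOf 2 P₁]) ⊔ T) (i₁ ▸ Nat.prime_three)
      le_sup_right (sup_le inf_le_left s₁.le) with e | e
    · exact absurd (le_sup_left.trans e.le) hC
    refine e.ge.trans (sup_le (inf_le_right.trans ((centralizer_anti ?_).trans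
      (centralizer_le_normalizer' _))) (s₂.le.trans k2))
    obtain ⟨c, hc⟩ := mf 1 (one_mem _)
    rw [cj_one] at hc
    exact inf_le_right.trans (hc ▸ iInf_le _ c)
  have := Fintype.ofFinite (P₂ ⧸ T.subgroupOf P₂)
  have k1 := Subgroup.relIndex_iInf_le f (L := pCoreOf 2 P₂)
  have k2 : ∏ c, (f c).relIndex (pCoreOf 2 P₂) ≤ 2 ^ 3 := by
    have := Finset.prod_le_pow_card Finset.univ (fun c => (f c).relIndex (pCoreOf 2 P₂)) 2
      fun c _ => by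
        have e := relIndex_cj ((c.out : P₂) : X) (pCoreOf 2 P₁) (pCoreOf 2 P₂)
        rw [cj_of_mem_normalizer (n2 (c.out).2)] at e
        simp only [f]
        rw [e]
        exact relIndex_le_two q₁ Q2
    rwa [Finset.card_univ, ← Nat.card_eq_fintype_card, show Nat.card (P₂ ⧸ T.subgroupOf P₂) = 3
      from i₂] at this
  have k3 := card_inf_mul_relIndex (⨅ c, f c) (pCoreOf 2 P₂)
  rw [inf_comm, hN, Subgroup.card_bot] at k3
  have k4 := card_mul_relIndex_of_le Q2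
  rw [q₂] at k4
  omega

theorem goldschmidt_bound {P₁ P₂ : Subgroup X} [Finite P₁] [Finite P₂]
    (s₁ : IsSylowIn 2 (P₁ ⊓ P₂) P₁) (s₂ : IsSylowIn 2 (P₁ ⊓ P₂) P₂)
    (i₁ : (P₁ ⊓ P₂).relIndex P₁ = 3) (i₂ : (P₁ ⊓ P₂).relIndex P₂ = 3)
    (q₁ : (pCoreOf 2 P₁).relIndex (P₁ ⊓ P₂) = 2) (q₂ : (pCoreOf 2 P₂).relIndex (P₁ ⊓ P₂) = 2)
    (hcore : ∀ N : Subgroup X, N ≤ P₁ ⊓ P₂ → P₁ ≤ 𝐍[N] → P₂ ≤ 𝐍[N] → N = ⊥) :
    Nat.card ↥(P₁ ⊓ P₂) ≤ 2 ^ 7 := by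
  by_cases c₁ : P₁ ⊓ 𝐂[pCoreOf 2 P₁] ≤ pCoreOf 2 P₁
  swap
  · exact card_le_of_not_char s₁ s₂ i₁ i₂ q₁ q₂ hcore c₁
  by_cases c₂ : P₂ ⊓ 𝐂[pCoreOf 2 P₂] ≤ pCoreOf 2 P₂
  swap
  · exact card_le_of_not_char s₂ s₁ i₂ i₁ q₂ q₁ (fun N hN a b => hcore N hN b a) c₂
  set L := P₁ ⊔ P₂
  have e1 : (P₁.subgroupOf L).map L.subtype = P₁ := map_subgroupOf_of_le le_sup_left
  have e2 : (P₂.subgroupOf L).map L.subtype = P₂ := map_subgroupOf_of_le le_sup_right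
  have hf := L.subtype_injective
  set R₁ := P₁.subgroupOf L
  set R₂ := P₂.subgroupOf L
  have e3 : (R₁ ⊓ R₂).map L.subtype = P₁ ⊓ P₂ := by rw [Subgroup.map_inf _ _ _ hf, e1, e2]
  have f1 : Finite R₁ :=
    Finite.of_equiv _ (Subgroup.subgroupOfEquivOfLe (le_sup_left : P₁ ≤ L)).symm.toEquiv
  have f2 : Finite R₂ :=
    Finite.of_equiv _ (Subgroup.subgroupOfEquivOfLe (le_sup_right : P₂ ≤ L)).symm.toEquiv
  have two : IsPGroup 2 ↥(R₁ ⊓ R₂) :=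
    (e3 ▸ s₁.isPGroup).of_equiv ((R₁ ⊓ R₂).equivMapOfInjective _ hf).symm
  have j1 : (R₁ ⊓ R₂).relIndex R₁ = 3 := by
    rw [← Subgroup.relIndex_map_map_of_injective _ _ hf, e1, e3, i₁]
  have j2 : (R₁ ⊓ R₂).relIndex R₂ = 3 := by
    rw [← Subgroup.relIndex_map_map_of_injective _ _ hf, e2, e3, i₂]
  have p1 : (pCoreOf 2 R₁).relIndex (R₁ ⊓ R₂) = 2 := by
    rw [← Subgroup.relIndex_map_map_of_injective _ _ hf, CP.pCoreOf_map_of_injective _ hf, e1, e3,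
      q₁]
  have p2 : (pCoreOf 2 R₂).relIndex (R₁ ⊓ R₂) = 2 := by
    rw [← Subgroup.relIndex_map_map_of_injective _ _ hf, CP.pCoreOf_map_of_injective _ hf, e2, e3,
      q₂]
  have t1 : IsSylowIn 2 (R₁ ⊓ R₂) R₁ :=
    isSylowIn_of_not_dvd_relIndex inf_le_left two (by rw [j1]; decide)
  have t2 : IsSylowIn 2 (R₁ ⊓ R₂) R₂ :=
    isSylowIn_of_not_dvd_relIndex inf_le_right two (by rw [j2]; decide)
  have := finite_of_le t1.le
  have dv : 2 ∣ Nat.card ↥(R₁ ⊓ R₂) := by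
    rw [← card_inf_mul_relIndex (pCoreOf 2 R₁), p1]
    exact Dvd.intro_left _ rfl
  have hd : DAmal R₁ R₂ := by
    refine DAmal.of_base ⟨⟨?_, ?_, ?_, fun N hN hn => ?_⟩, f1, f2,
      dv.trans (Subgroup.card_dvd_of_le t1.le), dv.trans (Subgroup.card_dvd_of_le t2.le),
      fun S S₁ S₂ => ?_, charP_iff.2 ?_, charP_iff.2 ?_⟩ two (j1 ▸ Nat.prime_three)
      (j2 ▸ Nat.prime_three) p1 p2
    · rw [← Subgroup.subgroupOf_sup le_sup_left le_sup_right, Subgroup.subgroupOf_self]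
    · intro e
      rw [e, top_inf_eq, Subgroup.relIndex_self] at j2
      omega
    · intro e
      rw [e, inf_top_eq, Subgroup.relIndex_self] at j1
      omega
    · rw [← Subgroup.map_eq_bot_iff_of_injective _ hf]
      exact hcore _ (e3 ▸ Subgroup.map_mono hN) (le_sup_left.trans (le_normalizer_map_subtype N))
        (le_sup_right.trans (le_normalizer_map_subtype N))
    · have e0 := (isSylowIn_map S).card_eq_card
        (⟨le_rfl, two, fun _ _ _ h => h⟩ : IsSylowIn 2 (R₁ ⊓ R₂) (R₁ ⊓ R₂))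
      have e1 := (isSylowIn_map S₁).card_eq_card t1
      have e2 := (isSylowIn_map S₂).card_eq_card t2
      rw [Subgroup.card_subtype] at e0 e1 e2
      exact ⟨e0.trans e1.symm, e0.trans e2.symm⟩
    · rw [← Subgroup.map_le_map_iff_of_injective hf, map_inf_centralizer_of_injective hf,
        CP.pCoreOf_map_of_injective _ hf, e1]
      exact c₁
    · rw [← Subgroup.map_le_map_iff_of_injective hf, map_inf_centralizer_of_injective hf,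
        CP.pCoreOf_map_of_injective _ hf, e2]
      exact c₂
  have := hd.card_le_of_three fun δ μ hμ => by
    obtain ⟨x, ⟨e1, e2⟩ | ⟨e1, e2⟩⟩ := exists_stabilizer_eq_of_adj hμ
    · rw [e1, e2, ← cj_inf, relIndex_cj, j1]
    · rw [e1, e2, ← cj_inf, relIndex_cj, inf_comm R₂, j2]
  rwa [← e3, Subgroup.card_subtype]

end Cfsg.Agent.PLocal.Amal
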