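import Cfsg.Agent.PLocal.PushCL
import Cfsg.Agent.PLocal.CommMod

/-! Baumann's argument in the rank one pushing-up situation. -/

set_option autoImplicit false

namespace Cfsg.Agent.PLocal.Push

open Subgroup Cfsg Cfsg.Agent.PLocal.Amb Cfsg.Agent.PLocal.CommMod
open scoped commutatorElement

variable {G : Type*} [Group G] [Finite G] {p : ℕ} [hp : Fact p.Prime] {S T M : Subgroup G}

omit [Finite G] in
theorem maxAb_comm {A : Subgroup G} (hA : A ∈ maxAb S) : ∀ a ∈ A, ∀ b ∈ A, a * b = b * a :=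
  fun a ha b hb => congrArg Subtype.val (hA.2.1.is_comm.comm ⟨a, ha⟩ ⟨b, hb⟩)

omit [Finite G] in
theorem inf_sup_center_comm {A : Subgroup G} (hA : A ∈ maxAb S) (T : Subgroup G) :
    IsMulCommutative ↥((A ⊓ T) ⊔ (T ⊓ 𝐂[T])) := by
  have hAc := maxAb_comm hA
  have h1 : (A ⊓ T) ⊔ (T ⊓ 𝐂[T]) ≤ 𝐂[(A ⊓ T) ⊔ (T ⊓ 𝐂[T])] := by
    rw [Amb.centralizer_sup]
    refine sup_le (le_inf (fun a ha b hb => hAc b hb.1 a ha.1)
      (fun a ha b hb => (hb.2 a ha.2).symm)) (le_inf (fun a ha b hb => ha.2 b hb.2)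
      (fun a ha b hb => ha.2 b hb.1))
  exact ⟨⟨fun a b => Subtype.ext (h1 b.2 a a.2)⟩⟩

omit [Finite G] hp in
theorem PushE.center_le (h : PushE p S T M) (hc : 𝐂[T] ≤ T) : S ⊓ 𝐂[S] ≤ T ⊓ 𝐂[T] := by
  have h1 : S ⊓ 𝐂[S] ≤ 𝐂[T] := inf_le_right.trans (Amb.centralizer_anti h.core_le)
  exact le_inf (h1.trans hc) h1

theorem PushE.off_of_maxAb (h : PushE p S T M) (hc : 𝐂[T] ≤ T) (hZ : ¬ S ⊓ 𝐂[S] ≤ center G)
    {A : Subgroup G} (hA : A ∈ maxAb S) (hAT : ¬ A ≤ T) : Off p S T (T ⊓ 𝐂[T]) := by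
  have := h.normal
  refine ⟨inferInstance, inf_centralizer_self_comm T, (h.syl.pgrp.to_le h.core_le).to_le inf_le_left,
    le_centralizer_iff.1 inf_le_right, fun e => hZ (le_trans ?_ e), A, hA.1, hAT, ?_⟩
  · exact le_inf (h.center_le hc) inf_le_right
  · have h2 := hA.2.2 ((A ⊓ T) ⊔ (T ⊓ 𝐂[T])) (sup_le (inf_le_right.trans h.core_le)
      (inf_le_left.trans h.core_le)) (inf_sup_center_comm hA T)
    rw [Grp.card_mul_card_eq_of_normal, mul_comm]
    refine Nat.mul_le_mul h2 (card_le_card_of_le (le_inf inf_le_right ?_))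
    exact fun a ha b hb => maxAb_comm hA b hb a ha.1.1

/-- If `J(S) ≤ O_p(G)` then `C_S(ZJ(S))` is normal. -/
theorem PushE.normal_of_thompson_le (h : PushE p S T M) (hZ : ¬ S ⊓ 𝐂[S] ≤ center G)
    (hJ : thompsonSubgroupAOf S ≤ T) : (S ⊓ 𝐂[centerThompsonAOf S]).Normal := by
  have := h.normal
  have h1 := centerThompsonAOf_eq_of_le hJ h.core_le
  have h2 : (centerThompsonAOf S).Normal := by
    rw [← h1, ← normalizer_eq_top_iff, eq_top_iff]
    exact (normalizer_eq_top T).ge.trans (normalizer_le_normalizer_centerThompsonAOf T)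
  have h3 := h.inf_centralizer_le h2 fun e =>
    hZ (le_trans (le_inf (center_le_centerThompsonAOf S) inf_le_right) e)
  have h4 : S ⊓ 𝐂[centerThompsonAOf S] = T ⊓ 𝐂[centerThompsonAOf S] :=
    le_antisymm (le_inf (by rw [inf_comm]; exact h3) inf_le_right) (inf_le_inf_right _ h.core_le)
  rw [h4]
  infer_instance

theorem PushE.pow_mem_center {Z : Subgroup G} (h : PushE p S T M) (o : Off p S T Z) {z : G}
    (hz : z ∈ Z) : z ^ p ∈ center G := by
  have := o.normal
  have := omegaOne_normal (p := p) Z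
  have := centMod_normal Z (omegaOne p Z)
  have h1 := h.eq_top_of_normal (centMod Z (omegaOne p Z)) (le_centMod_of_normal.2 (by
    rw [Subgroup.commutator_comm]; exact h.commutator_le_omegaOne o))
  refine mem_center_iff.2 fun g => ?_
  have h2 := (mem_omegaOne_iff_of_comm o.comm).1
    (mem_centMod_of_normal.1 (h1 ▸ mem_top g : g ∈ centMod Z (omegaOne p Z)) z hz)
  have h3 : g * z * g⁻¹ = ⁅g, z⁆ * z := by simp [commutatorElement_def]
  have h4 : g * z ^ p * g⁻¹ = z ^ p := by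
    rw [← conj_pow, h3, (show Commute ⁅g, z⁆ z from o.comm _ h2.1 _ hz).mul_pow, h2.2, one_mul]
  exact mul_inv_eq_iff_eq_mul.1 h4

theorem PushE.sup_eq_and_mem (h : PushE p S T M) (hc : 𝐂[T] ≤ T) (hZ : ¬ S ⊓ 𝐂[S] ≤ center G)
    {A : Subgroup G} (hA : A ∈ maxAb S) (hAT : ¬ A ≤ T) :
    S = A ⊔ T ∧ (A ⊓ T) ⊔ (T ⊓ 𝐂[T]) ∈ maxAb S := by
  have := h.normal
  have o := h.off_of_maxAb hc hZ hA hAT
  have hle : (A ⊓ T) ⊔ (T ⊓ 𝐂[T]) ≤ S :=
    sup_le (inf_le_right.trans h.core_le) (inf_le_left.trans h.core_le)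
  have h1 := h.card_centralizer_mul_le o (commutator_le_left _ _) hA.1 hAT
  have h2 := Grp.card_mul_card_eq_of_normal (A ⊓ T) (T ⊓ 𝐂[T])
  have h3 : Nat.card ↥(A ⊓ T ⊓ (T ⊓ 𝐂[T])) ≤ Nat.card ↥(T ⊓ 𝐂[T] ⊓ 𝐂[A]) :=
    card_le_card_of_le (le_inf inf_le_right fun a ha b hb => maxAb_comm hA b hb a ha.1.1)
  have h4 := hA.2.2 _ hle (inf_sup_center_comm hA T)
  have h5 := Grp.card_mul_card_le_of_le hA.1 h.core_le
  have hz : 0 < Nat.card ↥(T ⊓ 𝐂[T]) := Nat.card_pos
  have ht : 0 < Nat.card T := Nat.card_pos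
  have h6 : Nat.card ↥(A ⊓ T) * Nat.card S ≤ Nat.card ↥((A ⊓ T) ⊔ (T ⊓ 𝐂[T])) * Nat.card T := by
    refine Nat.le_of_mul_le_mul_left ?_ hz
    calc _ = Nat.card ↥(A ⊓ T) * Nat.card ↥(T ⊓ 𝐂[T]) * Nat.card S := by ring
      _ = Nat.card ↥(A ⊓ T ⊓ (T ⊓ 𝐂[T])) * Nat.card S * Nat.card ↥((A ⊓ T) ⊔ (T ⊓ 𝐂[T])) := by
        rw [h2]; ring
      _ ≤ Nat.card ↥(T ⊓ 𝐂[T]) * Nat.card T * Nat.card ↥((A ⊓ T) ⊔ (T ⊓ 𝐂[T])) :=
        Nat.mul_le_mul_right _ ((Nat.mul_le_mul_right _ h3).trans h1)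
      _ = _ := by ring
  refine ⟨Grp.eq_sup_of_card_le hA.1 h.core_le (h6.trans (Nat.mul_le_mul_right _ h4)),
    mem_maxAb_of_card_le hA hle (inf_sup_center_comm hA T) ?_⟩
  exact Nat.le_of_mul_le_mul_right (h5.trans h6) ht

theorem PushE.normal_center_sup (h : PushE p S T M) (hc : 𝐂[T] ≤ T) (hZ : ¬ S ⊓ 𝐂[S] ≤ center G)
    {A : Subgroup G} (hA : A ∈ maxAb S) (hAT : ¬ A ≤ T) :
    (centerThompsonAOf S ⊔ (T ⊓ 𝐂[T])).Normal := by
  have := h.normal
  obtain ⟨-, hB⟩ := h.sup_eq_and_mem hc hZ hA hAT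
  have hBT : (A ⊓ T) ⊔ (T ⊓ 𝐂[T]) ≤ T := sup_le inf_le_right inf_le_left
  have hY : (centerThompsonAOf T).Normal := by
    rw [← normalizer_eq_top_iff, eq_top_iff]
    exact (normalizer_eq_top T).ge.trans (normalizer_le_normalizer_centerThompsonAOf T)
  have h1 : centerThompsonAOf S ≤ centerThompsonAOf T := by
    rw [centerThompsonAOf_eq_sInf, centerThompsonAOf_eq_sInf]
    exact sInf_le_sInf (maxAb_subset_of_mem hB hBT h.core_le)
  have h2 : centerThompsonAOf T ≤ (A ⊓ T) ⊔ (T ⊓ 𝐂[T]) :=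
    centerThompsonAOf_le_of_mem (mem_maxAb_of_le hB hBT h.core_le)
  have := centMod_normal (centerThompsonAOf T) (T ⊓ 𝐂[T])
  have h3 : A ≤ centMod (centerThompsonAOf T) (T ⊓ 𝐂[T]) := by
    refine le_centMod_of_normal.2 ((commutator_mono le_rfl h2).trans ?_)
    refine commutator_sup_le' le_normalizer_of_normal le_normalizer_of_normal ?_
      (commutator_le_right _ _)
    rw [(commutator_eq_bot_iff_le_centralizer (H₂ := A ⊓ T)).2
      fun a ha b hb => maxAb_comm hA b hb.1 a ha]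
    exact bot_le
  have h4 := h.sup_eq_top (centMod (centerThompsonAOf T) (T ⊓ 𝐂[T]))
    fun e => hAT (le_trans (le_inf h3 hA.1) e)
  rw [← normalizer_eq_top_iff, eq_top_iff, ← h4]
  refine sup_le ?_ (le_normalizer_sup (le_normalizer_centerThompsonAOf S) le_normalizer_of_normal)
  rw [le_normalizer_iff_commutator_le_right]
  refine le_trans (commutator_mono le_rfl (sup_le h1 (center_le_centerThompsonAOf T))) ?_
  exact (commutator_centMod_le _ _).trans le_sup_right

/-- Baumann's argument. -/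
theorem PushE.baumann (h : PushE p S T M) (hc : 𝐂[T] ≤ T) (hZ : ¬ S ⊓ 𝐂[S] ≤ center G)
    {A : Subgroup G} (hA : A ∈ maxAb S) (hAT : ¬ A ≤ T) :
    IsSyl p (S ⊓ 𝐂[centerThompsonAOf S]) (normalClosure (S ⊓ 𝐂[centerThompsonAOf S] : Subgroup G)) ∧
      ⁅centerThompsonAOf S, S⁆ ⊓ (S ⊓ 𝐂[S]) ≤ center G := by
  have := h.normal
  have o := h.off_of_maxAb hc hZ hA hAT
  obtain ⟨hS, -⟩ := h.sup_eq_and_mem hc hZ hA hAT
  have hW := h.normal_center_sup hc hZ hA hAT
  set Z := T ⊓ 𝐂[T] with hZdef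
  set Y := centerThompsonAOf S with hY
  set J := S ⊓ 𝐂[Y] with hJ
  set W := Y ⊔ Z with hWdef
  have hAJ : A ≤ J := le_inf hA.1 fun a ha b hb =>
    maxAb_comm hA b (centerThompsonAOf_le_of_mem hA hb) a ha
  have hSJ : S ≤ 𝐍[J] := le_normalizer_inf le_normalizer
    (le_normalizer_centralizer (le_normalizer_centerThompsonAOf S))
  have hJT : S = J ⊔ T := le_antisymm (hS.le.trans (sup_le_sup_right hAJ _))
    (sup_le inf_le_left h.core_le)
  obtain ⟨x, hx⟩ := h.exists_not_mem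
  obtain ⟨s, hs, hsT⟩ := h.exists_mem_not_mem
  set L := J ⊔ cj(x, J) with hL
  have hLT : L ⊔ T = ⊤ := by
    rw [eq_top_iff, ← h.gen x hx s hs hsT]
    refine sup_le ?_ ((zpowers_le_of_mem hs).trans (hJT.le.trans (sup_le_sup_right le_sup_left _)))
    rw [hJT, cj_sup, cj_of_normal x T]
    exact sup_le_sup_right le_sup_right _
  have hLn : L.Normal := by
    rw [← normalizer_eq_top_iff, eq_top_iff, ← hLT]
    refine sup_le le_normalizer (le_normalizer_sup (h.core_le.trans hSJ) ?_)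
    rw [normalizer_cj, ← cj_of_normal x T]
    exact cj_mono x (h.core_le.trans hSJ)
  have hncl : normalClosure (J : Set G) = L := by
    refine le_antisymm (normalClosure_le_normal (le_sup_left : J ≤ L)) (sup_le le_normalClosure ?_)
    exact cj_le_of_mem_normalizer le_normalClosure (le_normalizer_of_normal (mem_top x))
  set U := W ⊓ 𝐂[L] with hU
  have hUZ : U ⊓ Z ≤ Z ⊓ center G := by
    refine le_inf inf_le_right fun z hz => mem_center_iff.2 fun g => ?_
    have h1 : L ⊔ T ≤ centralizer {z} := sup_le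
      (fun y hy => mem_centralizer_singleton_iff.2 (hz.1.2 y hy))
      (fun y hy => mem_centralizer_singleton_iff.2 (hz.2.2 y hy))
    exact mem_centralizer_singleton_iff.1 (h1 (hLT ▸ mem_top g))
  have hYJ : Y ≤ 𝐂[J] := le_centralizer_iff.1 inf_le_right
  have hW1 : W = U ⊔ Z := by
    refine Grp.eq_sup_of_card_le inf_le_left le_sup_right ?_
    have c1 := h.card_centralizer_mul_eq o
    have c2 := h.card_center_mul_le o (commutator_le_left Z S)
    have c3 := Grp.card_mul_card_eq_of_normal Y Z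
    have c4 : Nat.card ↥(Z ⊓ 𝐂[S]) ≤ Nat.card ↥(Y ⊓ Z) := card_le_card_of_le (le_inf
      (le_trans (inf_le_inf_right _ (inf_le_left.trans h.core_le)) (center_le_centerThompsonAOf S))
      inf_le_left)
    have c5 := Grp.card_mul_card_le_of_le (H := Y) (K := cj(x, Y)) (L := W) le_sup_left
      (cj_le_of_mem_normalizer le_sup_left (le_normalizer_of_normal (mem_top x)))
    rw [card_cj] at c5
    have c6 : Nat.card ↥(Y ⊓ cj(x, Y)) ≤ Nat.card U := card_le_card_of_le (by
      refine le_inf (inf_le_left.trans le_sup_left) ?_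
      rw [Amb.centralizer_sup, centralizer_cj]
      exact inf_le_inf hYJ (cj_mono x hYJ))
    have c7 := card_le_card_of_le hUZ
    rw [← hWdef] at c3
    generalize Nat.card ↥(U ⊓ Z) = a at *
    generalize Nat.card ↥(Z ⊓ center G) = b at *
    generalize Nat.card ↥(Y ⊓ cj(x, Y)) = c at *
    generalize Nat.card ↥(Y ⊓ Z) = d at *
    have hw : 0 < Nat.card W := Nat.card_pos
    have hz : 0 < Nat.card Z := Nat.card_pos
    have ht : 0 < Nat.card T := Nat.card_pos
    have hs : 0 < Nat.card S := Nat.card_pos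
    generalize Nat.card ↥(Z ⊓ 𝐂[S]) = e at *
    generalize Nat.card W = w at *
    generalize Nat.card Z = z at *
    generalize Nat.card T = t at *
    generalize Nat.card S = s at *
    generalize Nat.card Y = y at *
    generalize Nat.card U = u at *
    have d1 : w * t ≤ y * s := by
      refine Nat.le_of_mul_le_mul_left ?_ hz
      calc z * (w * t) = e * w * s := by rw [mul_comm w t, ← mul_assoc, ← c1]; ring
        _ ≤ d * w * s := by gcongr
        _ = z * (y * s) := by rw [← c3]; ring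
    have d2 : w * (t * t) ≤ u * (s * s) := by
      refine Nat.le_of_mul_le_mul_left ?_ hw
      calc w * (w * (t * t)) = (w * t) * (w * t) := by ring
        _ ≤ (y * s) * (y * s) := Nat.mul_le_mul d1 d1
        _ = (y * y) * (s * s) := by ring
        _ ≤ (u * w) * (s * s) := Nat.mul_le_mul_right _ (c5.trans (by gcongr))
        _ = _ := by ring
    have d3 : b * (s * s) ≤ z * (t * t) := by
      calc b * (s * s) = b * s * s := by ring
        _ ≤ e * t * s := by gcongr
        _ = z * (t * t) := by rw [mul_right_comm, c1]; ring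
    refine Nat.le_of_mul_le_mul_right ?_ (Nat.mul_pos (Nat.mul_pos hs hs) (Nat.mul_pos ht ht))
    calc a * w * (s * s * (t * t)) = (a * (s * s)) * (w * (t * t)) := by ring
      _ ≤ (z * (t * t)) * (u * (s * s)) := Nat.mul_le_mul (le_trans (by gcongr) d3) d2
      _ = _ := by ring
  constructor
  · rw [hncl]
    have h1 : S ⊓ L = J := by
      refine le_antisymm ?_ (le_inf inf_le_left le_sup_left)
      rw [hJT, sup_inf_of_le_normalizer (le_sup_left : J ≤ L) le_normalizer_of_normal]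
      refine sup_le le_rfl (le_inf (inf_le_left.trans h.core_le) ?_)
      refine le_trans ?_ (Amb.centralizer_anti ((le_sup_left : Y ≤ W).trans hW1.le))
      rw [Amb.centralizer_sup]
      exact le_inf (inf_le_right.trans (le_centralizer_iff.1 inf_le_right))
        (inf_le_left.trans o.cent)
    rw [← h1]
    exact h.syl.inf_of_le le_top le_normalizer_of_normal
  · have h1 : Y ≤ U ⊔ (Z ⊓ 𝐂[S]) := by
      rw [← h.inf_centralizer_eq o hA.1 hAT, ← sup_inf_of_le_normalizer _ le_normalizer_of_normal,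
        ← hW1]
      · exact le_inf le_sup_left (hYJ.trans (Amb.centralizer_anti hAJ))
      · exact inf_le_right.trans (Amb.centralizer_anti (hAJ.trans le_sup_left))
    have h2 : ⁅Y, S⁆ ≤ U := by
      refine (commutator_mono h1 le_rfl).trans (commutator_sup_le_of_normal (commutator_le_left _ _) ?_)
      rw [commutator_eq_bot_iff_le_centralizer.2 inf_le_right]
      exact bot_le
    intro z hz
    refine mem_center_iff.2 fun g => ?_
    have h3 : L ⊔ T ≤ centralizer {z} := sup_le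
      (fun y hy => mem_centralizer_singleton_iff.2 ((h2 hz.1).2 y hy))
      (fun y hy => mem_centralizer_singleton_iff.2 (hz.2.2 y (h.core_le hy)))
    exact mem_centralizer_singleton_iff.1 (h3 (hLT ▸ mem_top g))

end Cfsg.Agent.PLocal.Push
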