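import Cfsg.Agent.PLocal.GNEmb
import Cfsg.Agent.PLocal.PushBaumann

/-! The Glauberman–Niles pair of characteristic subgroups. -/

set_option autoImplicit false

namespace Cfsg.Agent.PLocal.GN

open Subgroup Cfsg Cfsg.Agent.PLocal.Amb Cfsg.Agent.PLocal.Stell Cfsg.Agent.PLocal.CommMod
open Cfsg.Agent.PLocal.Push
open scoped commutatorElement Pointwise

universe u

section Transport

variable {S S' : Type*} [Group S] [Group S'] [Finite S] [Finite S'] {p : ℕ}

omit [Finite S] [Finite S'] in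
theorem map_map_symm (e : S ≃* S') (Q : Subgroup S') :
    (Q.map e.symm.toMonoidHom).map e.toMonoidHom = Q := by
  ext x; simp [mem_map_equiv]

theorem cl_map (e : S ≃* S') {Q : Subgroup S} (hQ : IsCentrallyLarge Q) :
    IsCentrallyLarge (Q.map e.toMonoidHom) := by
  obtain ⟨h2, h3⟩ := isCentrallyLarge_iff.1 hQ
  refine isCentrallyLarge_iff.2 ⟨cd_map e h2, ?_⟩
  rw [centralizer_map_equiv]
  exact map_mono h3

theorem mcl_map (e : S ≃* S') {Q : Subgroup S} (hQ : IsMinimalCentrallyLarge Q) :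
    IsMinimalCentrallyLarge (Q.map e.toMonoidHom) := by
  refine ⟨cl_map e hQ.1, fun R hR hR' => ?_⟩
  rw [← hQ.2 _ ((map_mono hR).trans (map_map_symm e.symm Q).le) (cl_map e.symm hR'), map_map_symm]

theorem mclJoin_map_le (e : S ≃* S') :
    (minimalCentrallyLargeJoin S).map e.toMonoidHom ≤ minimalCentrallyLargeJoin S' :=
  map_le_iff_le_comap.2 (sSup_le fun _ hQ => map_le_iff_le_comap.1 (le_sSup (mcl_map e hQ)))

theorem mclJoin_map (e : S ≃* S') :
    (minimalCentrallyLargeJoin S).map e.toMonoidHom = minimalCentrallyLargeJoin S' :=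
  le_antisymm (mclJoin_map_le e) ((map_map_symm e _).ge.trans (map_mono (mclJoin_map_le e.symm)))

omit [Finite S] [Finite S'] in
theorem card_omegaOneCenter_map (e : S ≃* S') (Q : Subgroup S) :
    Nat.card (omegaOneCenter p (Q.map e.toMonoidHom)) = Nat.card (omegaOneCenter p Q) := by
  unfold omegaOneCenter
  rw [← map_omegaOne_center _ e.injective, Subgroup.card_map_of_injective e.injective]

theorem maxOmega_eq (e : S ≃* S') :
    maxOmegaCenterOfMinimalCL p S = maxOmegaCenterOfMinimalCL p S' := by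
  unfold maxOmegaCenterOfMinimalCL
  congr 1
  ext k
  exact ⟨fun ⟨Q, hQ, h⟩ => ⟨_, mcl_map e hQ, (card_omegaOneCenter_map e Q).trans h⟩,
    fun ⟨Q, hQ, h⟩ => ⟨_, mcl_map e.symm hQ, (card_omegaOneCenter_map e.symm Q).trans h⟩⟩

theorem phiJoin_map_le [Fact p.Prime] (hS : IsPGroup p S) (e : S ≃* S') :
    (frattiniOfMinimalCLJoin p S).map e.toMonoidHom ≤ frattiniOfMinimalCLJoin p S' := by
  refine map_le_iff_le_comap.2 (iSup_le fun Q => map_le_iff_le_comap.1 ?_)
  rw [phi_map (hS.to_subgroup _)]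
  exact le_iSup_of_le (f := fun Q : {Q : Subgroup S' // IsMinimalCentrallyLarge Q ∧
      Nat.card ↥(omegaOneCenter p Q) = maxOmegaCenterOfMinimalCL p S'} =>
      (frattini ↥(Q : Subgroup S')).map (Q : Subgroup S').subtype)
    ⟨_, mcl_map e Q.2.1, by rw [card_omegaOneCenter_map, Q.2.2, maxOmega_eq e]⟩ le_rfl

theorem phiJoin_map [Fact p.Prime] (hS : IsPGroup p S) (e : S ≃* S') :
    (frattiniOfMinimalCLJoin p S).map e.toMonoidHom = frattiniOfMinimalCLJoin p S' :=
  le_antisymm (phiJoin_map_le hS e) ((map_map_symm e _).ge.trans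
    (map_mono (phiJoin_map_le (hS.of_equiv e) e.symm)))

theorem maxCentralProduct_eq_of_le {K Q : Subgroup S} (hQ : IsCentrallyLarge Q) (h : Q ≤ K) :
    maxCentralProduct K = maxCentralProduct S := by
  have key : ∀ R : Subgroup K, Nat.card (R.map K.subtype) * Nat.card (center (R.map K.subtype)) =
      Nat.card R * Nat.card (center R) := fun R => by
    rw [Grp.card_center_eq, Grp.card_center_eq, ← map_inf_centralizer_of_injective K.subtype_injective,
      Subgroup.card_map_of_injective K.subtype_injective,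
      Subgroup.card_map_of_injective K.subtype_injective]
  refine le_antisymm ?_ ?_
  · obtain ⟨R, hR⟩ := exists_isCentrallyLarge (G := K)
    rw [← hR, ← key]
    exact cl_le_max _
  · rw [← hQ, ← map_subgroupOf_of_le h, key]
    exact cl_le_max _

omit [Finite S] in
theorem char_subgroupOf {K R : Subgroup S} (hK : K = ⊤) (h : R.Characteristic) :
    (R.subgroupOf K).Characteristic := by
  subst hK
  refine characteristic_iff_le_comap.2 fun φ x hx => ?_
  exact characteristic_iff_le_comap.1 h (topEquiv.symm.trans (φ.trans topEquiv)) hx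

omit [Finite S] [Finite S'] in
theorem map_range_subtype {σ : S →* S'} (hσ : Function.Injective σ) (Q : Subgroup S) :
    (Q.map (MonoidHom.ofInjective hσ).toMonoidHom).map σ.range.subtype = Q.map σ := by
  rw [Subgroup.map_map]; rfl

end Transport

/-- `Z(J(S))` -/
abbrev ZJ (S : Type*) [Group S] : Subgroup S :=
  thompsonSubgroupA S ⊓ centralizer (thompsonSubgroupA S : Set S)

/-- `C_S(Z(J(S)))` -/
abbrev JT (S : Type*) [Group S] : Subgroup S := centralizer (ZJ S : Set S)

structure IsPair (p : ℕ) (S : Type u) [Group S] (S₁ S₂ : Subgroup S) : Prop where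
  ne₁ : S₁ ≠ ⊥
  ne₂ : S₂ ≠ ⊥
  ch₁ : S₁.Characteristic
  ch₂ : S₂.Characteristic
  le₁ : S₁ ≤ center S
  le₂ : S₂ ≤ JT S
  ch : (S₂.subgroupOf (JT S)).Characteristic
  good : ∀ (G : Type u) [Group G] [Finite G] (τ : S →* G), Function.Injective τ →
    IsPushingUpSituation p τ.range → (S₁.map τ).Normal ∨ (S₂.map τ).Normal

structure Exc (p : ℕ) (S : Type*) [Group S] : Prop where
  nc : ¬ IsMulCommutative S
  jt : JT S = ⊤
  j : thompsonSubgroupA S = ⊤
  el : ∀ z ∈ center S, z ^ p = 1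
  small : Small p (⊤ : Subgroup S) ⊥
  cl : ∀ A ∈ maxAbelianSubgroups S, IsCentrallyLarge A
  top : IsCentralizerLarge (⊤ : Subgroup S)

variable {p : ℕ} [hp : Fact p.Prime] {S : Type u} [Group S] [Finite S]

omit [Finite S] in
theorem zj_eq : centerThompsonAOf (⊤ : Subgroup S) = ZJ S := by
  rw [centerThompsonAOf, thompsonSubgroupAOf_top]

omit [Finite S] in
theorem map_zj {G : Type*} [Group G] {τ : S →* G} (hτ : Function.Injective τ) :
    (ZJ S).map τ = centerThompsonAOf τ.range := by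
  rw [← zj_eq, map_centerThompsonAOf _ hτ, ← MonoidHom.range_eq_map]

omit [Finite S] in
theorem map_jt {G : Type*} [Group G] {τ : S →* G} (hτ : Function.Injective τ) :
    (JT S).map τ = τ.range ⊓ 𝐂[centerThompsonAOf τ.range] := by
  rw [← map_zj hτ, MonoidHom.range_eq_map, ← map_inf_centralizer_of_injective hτ, top_inf_eq]

omit [Finite S] in
theorem zj_char : (ZJ S).Characteristic := characteristic_iff_map_eq.2 fun φ => by
  rw [map_zj φ.injective, MonoidHom.range_eq_top.2 φ.surjective, zj_eq]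

theorem inf_center_ne_bot (hS : IsPGroup p S) {N : Subgroup S} [N.Normal] (h : N ≠ ⊥) :
    N ⊓ center S ≠ ⊥ := by
  have := inf_centralizer_ne_bot (hS.to_subgroup ⊤) (hS.to_subgroup N) le_normalizer_of_normal h
  rwa [coe_top, centralizer_univ] at this

theorem center_ne_bot' [Nontrivial S] (hS : IsPGroup p S) : center S ≠ ⊥ := fun e =>
  inf_center_ne_bot hS (N := ⊤) top_ne_bot (by rw [e, inf_bot_eq])

theorem isPair_jt [Nontrivial S] (hS : IsPGroup p S) {S₁ : Subgroup S} (ne : S₁ ≠ ⊥)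
    (ch : S₁.Characteristic) (le : S₁ ≤ center S)
    (h : ∀ (G : Type u) [Group G] [Finite G] (τ : S →* G) (M A : Subgroup G), Function.Injective τ →
      PushE p τ.range (pCore p G) M → 𝐂[pCore p G] ≤ pCore p G →
      ¬ τ.range ⊓ 𝐂[τ.range] ≤ center G → A ∈ maxAb τ.range → ¬ A ≤ pCore p G →
      S₁.map τ ≤ center G) : IsPair p S S₁ (JT S) := by
  have := zj_char (S := S)
  refine ⟨ne, fun e => center_ne_bot' hS (eq_bot_iff.2 ((center_le_centralizer _).trans e.le)), ch,
    inferInstance, le, le_rfl, by rw [subgroupOf_self]; infer_instance, fun G _ _ τ hτ hE => ?_⟩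
  obtain ⟨M, hP⟩ := pushE_of_situation hE
  by_cases hZ : τ.range ⊓ 𝐂[τ.range] ≤ center G
  · exact Or.inl (normal_of_le_center ((map_mono le).trans ((map_center_eq hτ).le.trans hZ)))
  by_cases hJ : thompsonSubgroupAOf τ.range ≤ pCore p G
  · exact Or.inr (map_jt hτ ▸ hP.normal_of_thompson_le hZ hJ)
  · rw [thompsonSubgroupAOf_le_iff] at hJ
    push Not at hJ
    obtain ⟨A, hA, hAT⟩ := hJ
    exact Or.inl (normal_of_le_center (h G τ M A hτ hP hE.2.2.1 hZ hA hAT))

omit hp [Finite S] in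
theorem range_le_of_jt (hJ : JT S = ⊤) {G : Type*} [Group G] {τ : S →* G}
    (hτ : Function.Injective τ) : τ.range ≤ 𝐂[centerThompsonAOf τ.range] := by
  have := map_jt hτ
  rw [hJ, ← MonoidHom.range_eq_map] at this
  exact this.le.trans inf_le_right

omit hp [Finite S] in
theorem small_sInf : Small p (⊤ : Subgroup S) (sInf {N | Small p ⊤ N}) :=
  ⟨le_sInf fun _ h => h.c3, le_sInf fun _ h => h.c1, fun x hx => mem_sInf.2 fun _ h => h.pw x hx,
    fun h3 => le_sInf fun _ h => h.c2 h3, fun h3 x hx => mem_sInf.2 fun _ h => h.ex h3 x hx⟩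

theorem sInf_small_char (hS : IsPGroup p S) :
    (sInf {N : Subgroup S | Small p ⊤ N}).Characteristic :=
  characteristic_iff_le_comap.2 fun φ => sInf_le (Small.comap (hS.to_subgroup ⊤) φ.toMonoidHom (by
    rw [← MonoidHom.range_eq_map, MonoidHom.range_eq_top.2 φ.surjective]; exact small_sInf))

theorem Main.exists_pair [Nontrivial S] (m : Main p S) (hJ : JT S = ⊤) {S₀ : Subgroup S}
    (h0 : ∀ N, Small p ⊤ N → S₀ ≤ N) (ch : S₀.Characteristic) (ne : S₀ ≠ ⊥) :
    ∃ S₂, IsPair p S (S₀ ⊓ center S) S₂ ∧ IsCentrallyLarge S₂ := by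
  let 𝒢 : Set (Subgroup S) := {R | ∃ (G : Type u) (_ : Group G) (_ : Finite G) (τ : S →* G),
    Function.Injective τ ∧ IsPushingUpSituation p τ.range ∧ ¬ (S₀ ⊓ center S).map τ ≤ center G ∧
      R = (pCoreOf p ⊤).comap τ}
  have h1 : ∀ (G : Type u) [Group G] [Finite G] (τ : S →* G), Function.Injective τ →
      IsPushingUpSituation p τ.range → ¬ (S₀ ⊓ center S).map τ ≤ center G →
      (Zv p ⊤ ⊔ ⁅pCoreOf p (⊤ : Subgroup G), 𝐎[p, (⊤ : Subgroup G)]⁆).comap τ ≤ sInf 𝒢 := by
    intro G _ _ τ hτ hE hn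
    refine le_sInf ?_
    rintro _ ⟨H, _, _, σ, hσ, hE', hn', rfl⟩
    exact m.pair hτ hE (fun e => hn ((map_mono inf_le_right).trans e)) hσ hE' h0 hn'
  have h2 : ∀ R ∈ 𝒢, IsCentralizerLarge R ∧ 𝐂[R] ≤ sInf 𝒢 := by
    rintro _ ⟨G, _, _, τ, hτ, hE, hn, rfl⟩
    obtain ⟨q, M, v, -⟩ := m.vert hτ hE fun e => hn ((map_mono inf_le_right).trans e)
    have e : ((pCoreOf p ⊤).comap τ).map τ = pCoreOf p ⊤ := map_comap_eq_self v.core_le
    constructor
    · have h3 := cd_map (MonoidHom.ofInjective hτ).symm v.cdT.large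
      rw [← e, ← map_range_subtype hτ, map_subtype_subgroupOf] at h3
      rwa [← map_map_symm (MonoidHom.ofInjective hτ).symm ((pCoreOf p ⊤).comap τ)]
    · refine le_trans (map_le_iff_le_comap.1 ?_) ((comap_mono le_sup_left).trans (h1 G τ hτ hE hn))
      rw [← v.perp_core, ← top_inf_eq 𝐂[(pCoreOf p ⊤).comap τ], map_inf_centralizer_of_injective hτ,
        e, MonoidHom.range_eq_map]
  have h3 : IsCentrallyLarge (sInf 𝒢) := by
    rcases 𝒢.eq_empty_or_nonempty with e | e
    · rw [e, sInf_empty]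
      refine isCentrallyLarge_iff.2 ⟨?_, le_top⟩
      have h4 := cd_map topEquiv m.cd.large
      rwa [subgroupOf_self, ← MonoidHom.range_eq_map, MonoidHom.range_eq_top.2 topEquiv.surjective]
        at h4
    refine isCentrallyLarge_iff.2 ⟨cd_sInf e fun R hR => (h2 R hR).1, ?_⟩
    have h4 : IsCentralizerLarge (sSup ((fun R : Subgroup S => 𝐂[R]) '' 𝒢)) :=
      cd_sSup (e.image _) (by rintro _ ⟨R, hR, rfl⟩; exact cd_centralizer (h2 R hR).1)
    have h5 : 𝐂[sSup ((fun R : Subgroup S => 𝐂[R]) '' 𝒢)] ≤ sInf 𝒢 := le_sInf fun R hR => by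
      rw [← cd_centralizer_centralizer (h2 R hR).1]
      exact Amb.centralizer_anti (le_sSup ⟨R, hR, rfl⟩)
    refine (Amb.centralizer_anti h5).trans ((cd_centralizer_centralizer h4).le.trans (sSup_le ?_))
    rintro _ ⟨R, hR, rfl⟩
    exact (h2 R hR).2
  have ch₁ : (S₀ ⊓ center S).Characteristic := inferInstance
  have ch₂ : (sInf 𝒢).Characteristic := by
    refine characteristic_iff_le_comap.2 fun φ x hx => mem_sInf.2 ?_
    rintro _ ⟨G, _, _, τ, hτ, hE, hn, rfl⟩
    refine mem_sInf.1 hx ((pCoreOf p ⊤).comap (τ.comp φ.toMonoidHom))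
      ⟨G, _, inferInstance, τ.comp φ.toMonoidHom, hτ.comp φ.injective, ?_, ?_, rfl⟩
    · rwa [MonoidHom.range_comp, MonoidHom.range_eq_top.2 φ.surjective, ← MonoidHom.range_eq_map]
    · rwa [← Subgroup.map_map, characteristic_iff_map_eq.1 ch₁ φ]
  refine ⟨sInf 𝒢, ⟨inf_center_ne_bot m.pgrp ne, fun e => center_ne_bot' m.pgrp (eq_bot_iff.2
    (((center_le_centralizer _).trans (isCentrallyLarge_iff.1 h3).2).trans e.le)), ch₁, ch₂,
    inf_le_right, hJ ▸ le_top, char_subgroupOf hJ ch₂, fun G _ _ τ hτ hE => ?_⟩, h3⟩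
  by_cases hn : (S₀ ⊓ center S).map τ ≤ center G
  · exact Or.inl (normal_of_le_center hn)
  obtain ⟨q, M, v, -⟩ := m.vert hτ hE fun e => hn ((map_mono inf_le_right).trans e)
  refine Or.inr (normalizer_eq_top_iff.1 (eq_top_iff.2 (v.syl.pRes_sup.ge.trans (sup_le
    (le_normalizer_iff_commutator_le_left.2 ?_) ?_))))
  · have h4 : (sInf 𝒢).map τ ≤ pCoreOf p ⊤ :=
      map_le_iff_le_comap.2 (sInf_le ⟨G, _, inferInstance, τ, hτ, hE, hn, rfl⟩)
    refine (commutator_mono h4 le_rfl).trans (le_trans ?_ (map_mono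
      ((comap_mono le_sup_right).trans (h1 G τ hτ hE hn))))
    exact (map_comap_eq_self ((le_normalizer_iff_commutator_le_left.1
      (le_top.trans (le_normalizer_pCoreOf p ⊤))).trans v.core_le)).ge
  · rw [MonoidHom.range_eq_map]
    exact (map_mono le_normalizer_of_normal).trans (le_normalizer_map τ)

theorem main [Nontrivial S] (hS : IsPGroup p S) :
    (∃ S₁ S₂, IsPair p S S₁ S₂ ∧ maxCentralProduct S₂ = maxCentralProduct (JT S)) ∨ Exc p S := by
  have := zj_char (S := S)
  by_cases h1 : ⁅ZJ S, (⊤ : Subgroup S)⁆ = ⊥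
  swap
  · refine Or.inl ⟨_, _, isPair_jt hS (inf_center_ne_bot hS h1) inferInstance inf_le_right
      fun G _ _ τ M A hτ hP hc hZ hA hAT => ?_, rfl⟩
    rw [map_inf _ _ _ hτ, map_commutator, map_zj hτ, map_center_eq hτ, ← MonoidHom.range_eq_map]
    exact (hP.baumann hc hZ hA hAT).2
  have hJ : JT S = ⊤ :=
    eq_top_iff.2 (le_centralizer_iff.1 (commutator_eq_bot_iff_le_centralizer.1 h1))
  have hZJ : ZJ S ≤ center S := by
    have := commutator_eq_bot_iff_le_centralizer.1 h1
    rwa [coe_top, centralizer_univ] at this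
  by_cases h2 : ∀ z ∈ center S, z ^ p = 1
  swap
  · have hle : closure {y | ∃ x ∈ center S, y = x ^ p} ≤ center S := by
      rw [closure_le]; rintro _ ⟨x, hx, rfl⟩; exact pow_mem hx p
    refine Or.inl ⟨closure {y | ∃ x ∈ center S, y = x ^ p}, _, isPair_jt hS
      (fun e => h2 fun z hz => e.le (Subgroup.subset_closure ⟨z, hz, rfl⟩))
      (characteristic_iff_map_le.2 fun φ => ?_) hle fun G _ _ τ M A hτ hP hc hZ hA hAT => ?_, rfl⟩
    · rw [MonoidHom.map_closure]
      refine closure_mono ?_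
      rintro _ ⟨_, ⟨x, hx, rfl⟩, rfl⟩
      exact ⟨φ x, characteristic_iff_le_comap.1 centerCharacteristic φ hx, map_pow _ _ _⟩
    · rw [MonoidHom.map_closure, closure_le]
      rintro _ ⟨_, ⟨x, hx, rfl⟩, rfl⟩
      rw [map_pow]
      exact hP.pow_mem_center (hP.off_of_maxAb hc hZ hA hAT)
        (hP.center_le hc (map_center_eq hτ ▸ mem_map_of_mem τ hx))
  obtain ⟨Q, hQ⟩ := exists_isMinimalCentrallyLarge (G := S)
  have hf : ∀ {K R : Subgroup S}, IsCentrallyLarge R → R ≤ K →
      maxCentralProduct K = maxCentralProduct (JT S) := fun hR h =>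
    (maxCentralProduct_eq_of_le hR h).trans (maxCentralProduct_eq_of_le hR (hJ ▸ le_top)).symm
  by_cases h3 : ⁅Q, Q⁆ = ⊥
  swap
  · have ch : (⁅Q, Q⁆).Characteristic := characteristic_iff_map_eq.2 fun φ => by
      rw [map_commutator, mcl_commutator_eq hQ (mcl_map φ hQ)]
    have ch₂ : (minimalCentrallyLargeJoin S).Characteristic :=
      characteristic_iff_map_eq.2 fun φ => mclJoin_map φ
    have hle : Q ≤ minimalCentrallyLargeJoin S := le_sSup hQ
    refine Or.inl ⟨_, _, ⟨inf_center_ne_bot hS h3, fun e => h3 (eq_bot_iff.2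
      ((commutator_le_self Q).trans (hle.trans e.le))), inferInstance, ch₂, inf_le_right, hJ ▸ le_top,
      char_subgroupOf hJ ch₂, fun G _ _ τ hτ hE => ?_⟩, hf hQ.1 hle⟩
    obtain ⟨M, hP⟩ := pushE_of_situation hE
    have h4 := hP.commutator_or_mclJoin hE.2.2.1 (range_le_of_jt hJ hτ)
      (mcl_map (MonoidHom.ofInjective hτ) hQ)
    rwa [← map_commutator, map_range_subtype, ← mclJoin_map (MonoidHom.ofInjective hτ),
      map_range_subtype, ← map_center_eq hτ, ← map_inf _ _ _ hτ, inf_comm] at h4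
  have hcl : ∀ A ∈ maxAbelianSubgroups S, IsCentrallyLarge A := fun A hA =>
    ((mcl_iff_maxAb hQ ⟨⟨fun a b => Subtype.ext (commutatorElement_eq_one_iff_mul_comm.1
      (h3.le (commutator_mem_commutator a.2 b.2)))⟩⟩ A).2 hA).1
  have hcdJ : IsCentralizerLarge (thompsonSubgroupA S) :=
    cd_sSup exists_maxAb fun A hA => (isCentrallyLarge_iff.1 (hcl A hA)).1
  have hj : thompsonSubgroupA S = ⊤ := by
    obtain ⟨A, hA⟩ := exists_maxAb (G := S)
    have h4 : 𝐂[thompsonSubgroupA S] ≤ thompsonSubgroupA S :=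
      (Amb.centralizer_anti (le_sSup hA)).trans ((maxAb_centralizer hA).le.trans (le_sSup hA))
    rw [← cd_centralizer_centralizer hcdJ, eq_top_iff, ← hJ]
    exact Amb.centralizer_anti (le_inf h4 le_rfl)
  have key : ∀ A : Subgroup S, IsCentralizerLarge A → CD ⊤ A := fun A hA => by
    rw [cd_iff le_top]
    have h4 := cd_map (topEquiv (G := S)).symm hA
    rwa [← comap_equiv_eq_map_symm'] at h4
  by_cases h4 : IsMulCommutative S
  · have h5 : center S = ⊤ := eq_top_iff.2 fun x _ => mem_center_iff.2 fun y => h4.is_comm.comm y x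
    refine Or.inl ⟨⊤, ⊤, ⟨top_ne_bot, top_ne_bot, inferInstance, inferInstance, h5.ge, hJ.ge,
      char_subgroupOf hJ inferInstance, fun G _ _ τ hτ hE => ?_⟩, hf hQ.1 le_top⟩
    obtain ⟨M, hP⟩ := pushE_of_situation hE
    refine absurd (le_antisymm (le_trans ?_ (hP.center_le hE.2.2.1 |>.trans inf_le_left))
      hP.core_le) hP.ne
    rw [← map_center_eq hτ, h5, MonoidHom.range_eq_map]
  by_cases h5 : sInf {N : Subgroup S | Small p ⊤ N} = ⊥
  · exact Or.inr ⟨h4, hJ, hj, h2, h5 ▸ small_sInf, hcl, hj ▸ hcdJ⟩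
  have m : Main p S := ⟨hS, h2, key _ (hj ▸ hcdJ), zj_eq.le.trans hZJ, fun R hR => by
    by_contra! e
    refine hR (eq_top_iff.2 (hj.ge.trans (sSup_le fun A hA => e A
      ⟨key A (isCentrallyLarge_iff.1 (hcl A hA)).1, ?_⟩)))
    rw [top_inf_eq, maxAb_centralizer hA]⟩
  obtain ⟨S₂, h6, h7⟩ := m.exists_pair hJ (fun N hN => sInf_le hN) (sInf_small_char hS) h5
  exact Or.inl ⟨_, _, h6, hf h7 le_rfl⟩

end Cfsg.Agent.PLocal.GN
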