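import Mathlib
import Cfsg.Agent.Inv.CoreSig2
import Cfsg.Agent.PLocal.CharP
import Cfsg.Agent.Grp.NormalRankOne
import Cfsg.Agent.Grp.MaxClass
import Cfsg.Agent.S3224
import Cfsg.Agent.S0111

/-! Kurzweil-Stellmacher 12.1: groups with solvable involution centralizers in which the centralizer
of a `2`-central involution is `2`-closed (the part without signalizer functors). -/

set_option autoImplicit false

namespace Cfsg.Agent.PLocal.ZC

open Cfsg Cfsg.Agent.PLocal.Amb Cfsg.Agent.Inv Cfsg.Agent.Inv.CoreSig Subgroup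

variable {G : Type*} [Group G] [Finite G]

omit [Finite G] in
theorem pResidual_normal (p : ℕ) : (pResidual p G).Normal := by
  rw [← normalizer_eq_top_iff, eq_top_iff, ← pRes_top]
  exact le_normalizer_pRes p ⊤

omit [Finite G] in
theorem pResidual_le_of_index_two {M : Subgroup G} (hM : M.index = 2) : pResidual 2 G ≤ M := by
  rw [pResidual, closure_le]
  intro g hg
  exact mem_of_pow_mem_of_coprime (sq_mem_of_index_two hM g) hg

theorem pResidual_sup {S : Subgroup G} (hS : IsSyl 2 S ⊤) : pResidual 2 G ⊔ S = ⊤ := by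
  rw [← pRes_top]; exact hS.pRes_sup

omit [Finite G] in
theorem eq_bot_of_odd_normal (hO' : pPrimeCore 2 G = ⊥) {W : Subgroup G} (hW : W.Normal)
    (h : ¬ 2 ∣ Nat.card W) : W = ⊥ :=
  eq_bot_iff.2 (hO' ▸ le_pPrimeCore_two hW (Nat.not_even_iff_odd.1 fun h' => h h'.two_dvd))

theorem syl_inf_pResidual_ne_bot (heven : Even (Nat.card G)) (hO' : pPrimeCore 2 G = ⊥)
    (hO : pCore 2 G = ⊥) {S : Subgroup G} (hS : IsSyl 2 S ⊤) : S ⊓ pResidual 2 G ≠ ⊥ := by
  have hn := pResidual_normal (G := G) 2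
  intro h
  have h1 := (hS.inf_of_le (N := pResidual 2 G) le_top
    (by rw [normalizer_eq_top])).eq_bot_iff.1 h
  have h2 := pResidual_sup hS
  rw [eq_bot_of_odd_normal hO' hn h1, bot_sup_eq] at h2
  have h3 : (⊤ : Subgroup G) ≤ pCore 2 G := le_pCore' (h2 ▸ hS.pgrp)
  rw [hO] at h3
  have h4 : Nat.card (⊤ : Subgroup G) = 1 := card_eq_one.2 (eq_bot_iff.2 h3)
  rw [card_top] at h4
  rw [h4] at heven
  exact absurd heven (by decide)

/-- a strongly embedded subgroup of `O^2(G)` from a nontrivial subgroup of odd order -/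
theorem exists_strEmb (heven : Even (Nat.card G)) (hO' : pPrimeCore 2 G = ⊥)
    (hO : pCore 2 G = ⊥) {S W : Subgroup G} (hS : IsSyl 2 S ⊤) (hW : ¬ 2 ∣ Nat.card W)
    (hW1 : W ≠ ⊥) (hSW : S ≤ 𝐍[W])
    (h : ∀ t ∈ pResidual 2 G, t ∈ 𝐍[W] → orderOf t = 2 → ∀ g ∈ pResidual 2 G,
      g * t * g⁻¹ ∈ 𝐍[W] → g ∈ 𝐍[W]) :
    ∃ M : Subgroup ↥(pResidual 2 G), IsStronglyEmbedded M := by
  refine ⟨(𝐍[W]).subgroupOf _, isStronglyEmbedded_iff.2 ⟨fun htop => hW1 ?_, ?_, ?_⟩⟩
  · rw [subgroupOf_eq_top] at htop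
    refine eq_bot_of_odd_normal hO' ?_ hW
    rw [← normalizer_eq_top_iff, eq_top_iff, ← pResidual_sup hS]
    exact sup_le htop hSW
  · obtain ⟨t, ht, ht2⟩ := exists_involution_of_isPGroup (hS.pgrp.to_le inf_le_left)
      (syl_inf_pResidual_ne_bot heven hO' hO hS)
    exact even_card_of_involution (t := ⟨t, ht.2⟩) (hSW ht.1) (by rw [← orderOf_coe]; exact ht2)
  · intro t ht ht2 g hg
    exact h t t.2 ht (by rw [orderOf_coe]; exact ht2) g g.2 hg

/-- local characteristic two from trivial cores of involution centralizers -/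
theorem charTwoType_of_core_bot
    (hc : ∀ t : G, orderOf t = 2 → IsPConstrained 2 (centralizer ({t} : Set G)))
    {K : Subgroup G} (hK : K.Normal) (he : Even (Nat.card K))
    (h : ∀ t ∈ K, orderOf t = 2 → centralizerPPrimeCore 2 t = ⊥) : IsCharacteristicTwoType K := by
  refine ⟨he, fun T hT hT1 => ?_⟩
  have hT' : IsPGroup 2 (T.map K.subtype) := hT.map _
  have hT1' : T.map K.subtype ≠ ⊥ := by rwa [Ne, map_eq_bot_iff_of_injective _ K.subtype_injective]
  obtain ⟨t, ht, ht2, htc⟩ := exists_central_involution_of_isPGroup hT' hT1'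
  have h1 : CP.IsCharP 2 (centralizer ({t} : Set G)) := by
    rw [CP.isCharP_iff]
    refine PCA.charP_of_isPConstrained (hc t ht2) ?_
    have := h t (map_subtype_le _ ht) ht2
    rwa [centralizerPPrimeCore, map_eq_bot_iff_of_injective _ (subtype_injective _)] at this
  have hTt : T.map K.subtype ≤ centralizer ({t} : Set G) :=
    fun s hs => mem_centralizer_singleton_iff.2 (htc s hs)
  have h2 : CP.IsCharP 2 (K ⊓ centralizer ({t} : Set G)) := h1.of_normal inf_le_right
    (le_normalizer_inf (by rw [normalizer_eq_top]; exact le_top) le_normalizer)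
  have h3 := h2.inf_centralizer hT' ((le_inf (map_subtype_le _) hTt).trans le_normalizer)
  have h4 : CP.IsCharP 2 (K ⊓ 𝐍[T.map K.subtype]) := by
    refine CP.isCharP_of_inf_centralizer (B := T.map K.subtype)
      (le_pCoreOf hT' (le_inf (map_subtype_le _) le_normalizer) inf_le_right) inf_le_right ?_
    convert h3 using 1
    refine le_antisymm (le_inf (le_inf (inf_le_left.trans inf_le_left) (inf_le_right.trans ?_))
      inf_le_right) (le_inf (le_inf (inf_le_left.trans inf_le_left)
      (inf_le_right.trans (centralizer_le_normalizer' _))) inf_le_right)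
    rw [← centralizer_zpowers]
    exact centralizer_anti (zpowers_le.2 ht)
  unfold IsOfCharacteristicTwo
  rw [← CP.isCharP_iff, normalizer_eq_subgroupOf, ← inf_subgroupOf_left,
    CP.isCharP_subgroupOf_iff inf_le_left]
  exact h4

/-- `z` is the unique involution in the centre of the Sylow subgroup `S`, and `S ⊴ C(z)`. -/
structure Zs (z : G) (S : Subgroup G) : Prop where
  syl : IsSyl 2 S ⊤
  ord : orderOf z = 2
  mem : z ∈ S
  cent : S ≤ centralizer {z}
  norm : centralizer {z} ≤ 𝐍[S]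
  uniq : ∀ y ∈ S, y ∈ 𝐂[S] → orderOf y = 2 → y = z

namespace Zs

variable {z : G} {S : Subgroup G}

omit [Finite G] in
theorem conj (h : Zs z S) (g : G) : Zs (g * z * g⁻¹) cj(g, S) := by
  refine ⟨by simpa [cj_top] using h.syl.cj g, by rw [orderOf_conj, h.ord], conj_mem_cj g h.mem,
    ?_, ?_, fun y hy hc h2 => ?_⟩
  · rw [centralizer_singleton_conj]; exact cj_mono g h.cent
  · rw [centralizer_singleton_conj, normalizer_cj]; exact cj_mono g h.norm
  · rw [centralizer_cj] at hc
    rw [← h.uniq _ (mem_cj.1 hy) (mem_cj.1 hc) (by rw [Inv.orderOf_conj', h2])]; group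

omit [Finite G] in
theorem le_of_cent (h : Zs z S) {R : Subgroup G} (hR : IsPGroup 2 R) (hc : R ≤ centralizer {z}) :
    R ≤ S := h.syl.le_of_normalizes hR le_top (hc.trans h.norm)

omit [Finite G] in
theorem mem_of_comm (h : Zs z S) {u : G} {k : ℕ} (hu : u ^ 2 ^ k = 1) (hc : u * z = z * u) :
    u ∈ S :=
  zpowers_le.1 (h.le_of_cent (isPGroup_zpowers ⟨k, hu⟩)
    (zpowers_le.2 (mem_centralizer_singleton_iff.2 hc)))

omit [Finite G] in
theorem comm (h : Zs z S) {s : G} (hs : s ∈ S) : s * z = z * s :=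
  mem_centralizer_singleton_iff.1 (h.cent hs)

theorem mem_of_normal (h : Zs z S) {N : Subgroup G} (hN : N ≤ S) (hn : S ≤ 𝐍[N]) (h1 : N ≠ ⊥) :
    z ∈ N := by
  obtain ⟨y, hy, hy2⟩ := exists_involution_of_isPGroup ((h.syl.pgrp.to_le hN).to_le inf_le_left)
    (inf_centralizer_ne_bot h.syl.pgrp (h.syl.pgrp.to_le hN) hn h1)
  exact h.uniq y (hN hy.1) hy.2 hy2 ▸ hy.1

variable {θ : G → Subgroup G} (hθ : EqFun θ)
include hθ

theorem core_le_cent (h : Zs z S) : θ z ≤ 𝐂[S] := by
  rw [← commutator_eq_bot_iff_le_centralizer, eq_bot_iff,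
    ← PLocal.Sig.inf_eq_bot_of_not_dvd h.syl.pgrp (hθ.odd z h.ord)]
  exact le_inf (FT.comm_le_right ((hθ.le z h.ord).trans h.norm))
    (FT.comm_le_left (h.cent.trans (hθ.centralizer_le_normalizer z)))

theorem core_le (h : Zs z S) {u : G} (hu : orderOf u = 2) (hc : u * z = z * u) : θ z ≤ θ u := by
  refine le_trans (le_inf le_rfl ?_) (hθ.bal z u h.ord hu hc.symm)
  refine (h.core_le_cent hθ).trans ?_
  rw [← centralizer_zpowers]
  exact centralizer_anti (zpowers_le.2 (h.mem_of_comm (k := 1) (sq_of_orderOf_two hu) hc))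

theorem core_conj_eq (h : Zs z S) {g : G} (hg : g * z * g⁻¹ ∈ S) : θ (g * z * g⁻¹) = θ z :=
  le_antisymm ((h.conj g).core_le hθ h.ord (h.comm hg).symm)
    (h.core_le hθ (h.conj g).ord (h.comm hg))

theorem core_eq_of_card (h : Zs z S) {u : G} (hu : orderOf u = 2) (huS : u ∈ S)
    (hc : Nat.card (θ u) ≤ Nat.card (θ z)) : θ u = θ z :=
  (eq_of_le_of_card_ge (h.core_le hθ hu (h.comm huS)) hc).symm

omit hθ in
theorem good_of_cyclic (h : Zs z S) (A : Subgroup S) (hA : IsCyclic A) (hi : A.index ≤ 2) :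
    ∃ S₀ ≤ S, S₀.relIndex S ≤ 2 ∧ ∀ u ∈ S₀, orderOf u = 2 → θ u ≤ θ z := by
  have hn : A.Normal := by
    have h0 : A.index ≠ 0 := index_ne_zero_of_finite
    by_cases h1 : A.index = 1
    · rw [index_eq_one] at h1; rw [h1]; infer_instance
    · exact normal_of_index_eq_two (by omega)
  refine ⟨A.map S.subtype, map_subtype_le _, ?_, ?_⟩
  · rwa [relIndex, map_subtype_subgroupOf]
  · rintro _ ⟨u, hu, rfl⟩ hu2
    have hu2' : orderOf u = 2 := by rw [← orderOf_coe]; exact hu2
    refine le_of_eq (congrArg θ (h.uniq _ u.2 (fun s hs => ?_) hu2))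
    have := eq_of_orderOf_two_of_mem_cyclic hA (hn.conj_mem u hu ⟨s, hs⟩) hu
      (by rw [orderOf_conj, hu2']) hu2'
    exact mul_inv_eq_iff_eq_mul.1 (congrArg Subtype.val this)

/-- If `x` lies in a normal four-subgroup and has a larger core than `z`, then `x` inverts
`z' z` for every other conjugate `z'` of `z` in `S`. -/
theorem conj_eq_of_bad (h : Zs z S) {U : Subgroup G} (hU : IsKleinFour U) (hUS : U ≤ S)
    (hn : S ≤ 𝐍[U]) {x : G} (hx : x ∈ U) (hx1 : x ≠ 1) (hbad : ¬ θ x ≤ θ z) {g : G}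
    (hg : g * z * g⁻¹ ∈ S) (hne : g * z * g⁻¹ ≠ z) :
    x * (g * z * g⁻¹) ≠ (g * z * g⁻¹) * x := by
  set t := g * z * g⁻¹ with ht
  have ht2 : orderOf t = 2 := (h.conj g).ord
  have hzU : z ∈ U := h.mem_of_normal hUS hn (by
    rintro rfl; exact hx1 (mem_bot.1 hx))
  have hxz : x ≠ z := fun e => hbad (e ▸ le_rfl)
  have hx2 := Klein.orderOf_eq hU hx hx1
  intro hc
  have hN : S ⊓ 𝐂[signalizerClosure U θ] = ⊥ := by
    by_contra hN
    have hz := h.mem_of_normal inf_le_left (le_normalizer_inf le_normalizer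
      (le_normalizer_centralizer (hn.trans (normalizer_le_normalizer_closure hθ.conj U)))) hN
    refine hbad (le_trans (le_inf le_rfl fun y hy => ?_)
      (hθ.bal x z hx2 h.ord (h.comm (hUS hx))))
    exact mem_centralizer_singleton_iff.2 (hz.2 y (le_sc hx hx1 hy))
  have htz := h.comm hg
  have hV := Klein.of_commute h.ord ht2 hne.symm htz.symm
  have hzV : z ∈ closure ({z, t} : Set G) := subset_closure (by simp)
  have htV : t ∈ closure ({z, t} : Set G) := subset_closure (by simp)
  have hD : θ z ≤ centralizer {z * t} := by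
    refine (h.core_le_cent hθ).trans ?_
    rw [← centralizer_zpowers]
    exact centralizer_anti (zpowers_le.2 (mul_mem h.mem hg))
  have hW : signalizerClosure U θ ≤ centralizer {z * t} := by
    refine sc_le fun v hv hv1 => ?_
    have hv2 := Klein.orderOf_eq hU hv hv1
    have hvz := h.comm (hUS hv)
    have hvt : v * t = t * v := by
      rcases Klein.cases hU hx hzU hv hx1 (ne_one_of_orderOf_two h.ord) hxz with e | e | e | e
      · exact absurd e hv1
      · rw [e]; exact hc
      · rw [e]; exact htz.symm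
      · rw [e, mul_assoc, ← htz, ← mul_assoc, hc, mul_assoc]
    refine PLocal.Sig.le_of_cent1_le (p := 2) (ea_of_klein hV) (by rw [hV.card_four]; norm_num)
      ?_ (hθ.odd v hv2) fun a ha ha1 => ?_
    · refine le_trans ?_ (hθ.centralizer_le_normalizer v)
      rw [closure_le]
      rintro _ (rfl | rfl)
      · exact mem_centralizer_singleton_iff.2 hvz.symm
      · exact mem_centralizer_singleton_iff.2 hvt.symm
    · rcases Klein.cases hV hzV htV ha (ne_one_of_orderOf_two h.ord) (ne_one_of_orderOf_two ht2)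
        hne.symm with e | e | e | e
      · exact absurd e ha1
      · rw [e]; exact (hθ.bal v z hv2 h.ord hvz).trans hD
      · rw [e]; exact (hθ.bal v t hv2 ht2 hvt).trans ((h.core_conj_eq hθ hg).le.trans hD)
      · rw [e]; exact inf_le_right
  have : z * t ∈ S ⊓ 𝐂[signalizerClosure U θ] :=
    ⟨mul_mem h.mem hg, fun y hy => mem_centralizer_singleton_iff.1 (hW hy)⟩
  rw [hN, mem_bot] at this
  exact Klein.mul_ne_one hV htV hne.symm this

omit hθ in
/-- An element of `S` not commuting with `x ∈ U` maps `x` to `x z`. -/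
theorem conj_eq_mul (h : Zs z S) {U : Subgroup G} (hU : IsKleinFour U) (hUS : U ≤ S)
    (hn : S ≤ 𝐍[U]) {x : G} (hx : x ∈ U) (hx1 : x ≠ 1) (hxz : x ≠ z) {s : G} (hs : s ∈ S)
    (hc : x * s ≠ s * x) : s * x * s⁻¹ = x * z := by
  have hzU : z ∈ U := h.mem_of_normal hUS hn (by rintro rfl; exact hx1 (mem_bot.1 hx))
  refine Klein.eq_mul hU hx hzU (conj_mem_of_mem_normalizer (hn hs) hx) hx1
    (ne_one_of_orderOf_two h.ord) hxz (fun e => hx1 ?_) (fun e => hc ?_) (fun e => hxz ?_)
  · calc x = s⁻¹ * (s * x * s⁻¹) * s := by group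
      _ = 1 := by rw [e]; group
  · exact (mul_inv_eq_iff_eq_mul.1 e).symm
  · calc x = s⁻¹ * (s * x * s⁻¹) * s := by group
      _ = s⁻¹ * (s * z) := by rw [e, h.comm hs, mul_assoc]
      _ = z := by group

theorem card_cent_le_of_bad (h : Zs z S) {U : Subgroup G} (hU : IsKleinFour U) (hUS : U ≤ S)
    (hn : S ≤ 𝐍[U]) {x : G} (hx : x ∈ U) (hx1 : x ≠ 1) (hbad : ¬ θ x ≤ θ z) {g : G}
    (hg : g * z * g⁻¹ ∈ S) (hne : g * z * g⁻¹ ≠ z) :
    S ⊓ centralizer {g * z * g⁻¹} ≤ closure {z, g * z * g⁻¹} := by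
  have hxz : x ≠ z := fun e => hbad (e ▸ le_rfl)
  have hx2 := Klein.orderOf_eq hU hx hx1
  have hxx := mul_self_of_orderOf_two hx2
  have hzz := mul_self_of_orderOf_two h.ord
  have hxS := hUS hx
  have key : ∀ g : G, g * z * g⁻¹ ∈ S → g * z * g⁻¹ ≠ z →
      x * (g * z * g⁻¹) * x⁻¹ = g * z * g⁻¹ * z := by
    intro g hg hne
    have h1 := h.conj_eq_mul hU hUS hn hx hx1 hxz hg
      (h.conj_eq_of_bad hθ hU hUS hn hx hx1 hbad hg hne)
    have h2 := mul_self_of_orderOf_two (h.conj g).ord
    have h3 := h.comm hg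
    generalize g * z * g⁻¹ = t at *
    rw [inv_eq_of_mul_eq_one_right h2] at h1
    rw [inv_eq_of_mul_eq_one_right hxx]
    calc x * t * x = x * (t * x * t) * t * (t * t)⁻¹ := by group
      _ = (x * x) * (z * t) := by rw [h1, h2]; group
      _ = t * z := by rw [hxx, one_mul, h3]
  have hxt := key g hg hne
  have hxt' := h.conj_eq_of_bad hθ hU hUS hn hx hx1 hbad hg hne
  have ht := h.conj g
  have htz := h.comm hg
  have hθt := h.core_conj_eq hθ hg
  have hθtz : θ (g * z * g⁻¹ * z) = θ z := by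
    have e : g * z * g⁻¹ * z = (x * g) * z * (x * g)⁻¹ := by rw [← hxt]; group
    rw [e]
    exact h.core_conj_eq hθ (e ▸ mul_mem hg h.mem)
  -- the mirror image of `x`
  have hzt : z ∈ cj(g, S) := ht.mem_of_comm (k := 1) (sq_of_orderOf_two h.ord) htz.symm
  have hr : (g * x * g⁻¹) * z * (g * x * g⁻¹)⁻¹ = z * (g * z * g⁻¹) := by
    have h1 := key g⁻¹ (by simpa using mem_cj.1 hzt) (fun e => hne (by
      calc g * z * g⁻¹ = g * (g⁻¹ * z * g⁻¹⁻¹) * g⁻¹ := by rw [e]
        _ = z := by group))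
    calc (g * x * g⁻¹) * z * (g * x * g⁻¹)⁻¹ = g * (x * (g⁻¹ * z * g⁻¹⁻¹) * x⁻¹) * g⁻¹ := by group
      _ = z * (g * z * g⁻¹) := by rw [h1]; group
  have hrt : (g * x * g⁻¹) * (g * z * g⁻¹) = (g * z * g⁻¹) * (g * x * g⁻¹) :=
    ht.comm (conj_mem_cj g hxS)
  have hr2 : orderOf (g * x * g⁻¹) = 2 := by rw [orderOf_conj, hx2]
  have hrr := mul_self_of_orderOf_two hr2
  have ht2 := ht.ord
  clear ht hzt
  generalize g * x * g⁻¹ = r at *
  generalize g * z * g⁻¹ = t at *
  have htt := mul_self_of_orderOf_two ht2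
  have hV := Klein.of_commute h.ord ht2 hne.symm htz.symm
  have hzV : z ∈ closure ({z, t} : Set G) := subset_closure (by simp)
  have htV : t ∈ closure ({z, t} : Set G) := subset_closure (by simp)
  have hWV : signalizerClosure (closure ({z, t} : Set G)) θ ≤ θ z := by
    refine sc_le fun a ha ha1 => ?_
    rcases Klein.cases hV hzV htV ha (ne_one_of_orderOf_two h.ord) (ne_one_of_orderOf_two ht2)
      hne.symm with e | e | e | e
    · exact absurd e ha1
    · rw [e]
    · rw [e, hθt]
    · rw [e, ← htz, hθtz]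
  have hgood : ∀ k : G, orderOf k = 2 → k * z = z * k → k * t = t * k → θ k ≤ θ z := by
    intro k hk h1 h2
    refine (hθ.le_closure_of_commute_klein hk hV fun v hv => ?_).trans hWV
    have : closure ({z, t} : Set G) ≤ centralizer {k} := by
      rw [closure_le]
      rintro _ (rfl | rfl)
      · exact mem_centralizer_singleton_iff.2 h1.symm
      · exact mem_centralizer_singleton_iff.2 h2.symm
    exact mem_centralizer_singleton_iff.1 (this hv)
  have claim2 : ∀ k ∈ S, orderOf k = 2 → k * x = x * k → k * t = t * k → k = z := by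
    intro k hkS hk h1 h2
    by_contra hkz
    have h3 := h.comm hkS
    have hK := Klein.of_commute hk h.ord hkz h3
    have hkK : k ∈ closure ({k, z} : Set G) := subset_closure (by simp)
    have hzK : z ∈ closure ({k, z} : Set G) := subset_closure (by simp)
    refine hbad ((hθ.le_closure_of_commute_klein hx2 hK fun v hv => ?_).trans
      (sc_le fun a ha ha1 => ?_))
    · have : closure ({k, z} : Set G) ≤ centralizer {x} := by
        rw [closure_le]
        rintro _ (rfl | rfl)
        · exact mem_centralizer_singleton_iff.2 h1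
        · exact mem_centralizer_singleton_iff.2 (h.comm hxS).symm
      exact mem_centralizer_singleton_iff.1 (this hv)
    · rcases Klein.cases hK hkK hzK ha (ne_one_of_orderOf_two hk) (ne_one_of_orderOf_two h.ord)
        hkz with e | e | e | e
      · exact absurd e ha1
      · rw [e]; exact hgood k hk h3 h2
      · rw [e]
      · refine hgood a (Klein.orderOf_eq hK ha ha1) (Klein.comm hK ha hzK) ?_
        rw [e, mul_assoc, ← htz, ← mul_assoc, h2, mul_assoc]
  have hsq : ∀ s ∈ S, (s * s) * x = x * (s * s) := by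
    intro s hs
    by_cases hc : x * s = s * x
    · rw [mul_assoc, ← hc, ← mul_assoc, ← hc, mul_assoc]
    · have h1 := h.conj_eq_mul hU hUS hn hx hx1 hxz hs hc
      have h2 := h.comm hs
      calc s * s * x = s * (s * x * s⁻¹) * s := by group
        _ = s * (x * z) * s := by rw [h1]
        _ = (s * x * s⁻¹) * (s * z) * s := by group
        _ = x * (z * z) * (s * s) := by rw [h1, h2]; group
        _ = x * (s * s) := by rw [hzz, mul_one]
  have claim3 : ∀ y ∈ S, y * x = x * y → y * t = t * y → y = 1 ∨ y = z := by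
    intro y hy h1 h2
    obtain ⟨k, hk⟩ := IsPGroup.iff_orderOf.1 h.syl.pgrp ⟨y, hy⟩
    rw [← orderOf_coe] at hk
    rcases k with _ | _ | k
    · exact Or.inl (orderOf_eq_one_iff.1 (by simpa using hk))
    · exact Or.inr (claim2 y hy (by simpa using hk) h1 h2)
    exfalso
    set w := y ^ 2 ^ k with hw
    have hwS : w ∈ S := pow_mem hy _
    have hwx : w * x = x * w := ((show Commute y x from h1).pow_left _).eq
    have hwt : w * t = t * w := ((show Commute y t from h2).pow_left _).eq
    have hwz := h.comm hwS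
    have hww : w * w = z := by
      refine claim2 _ (mul_mem hwS hwS) ?_ (hsq w hwS)
        ((show Commute w t from hwt).mul_left hwt).eq
      rw [hw, ← pow_add, ← two_mul, ← pow_succ', orderOf_pow_of_dvd (by positivity)
        (by rw [hk]; exact pow_dvd_pow 2 (by omega)), hk, pow_succ 2 (k + 1),
        Nat.mul_div_cancel_left _ (by positivity)]
    have hri : r⁻¹ = r := inv_eq_of_mul_eq_one_right hrr
    have hw' : r * w * r⁻¹ ∈ S := by
      refine h.mem_of_comm (k := 2) ?_ ?_
      · rw [conj_pow, show w ^ 2 ^ 2 = (w * w) * (w * w) by simp [pow_succ, mul_assoc], hww, hzz]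
        group
      · have e1 : r⁻¹ * z * r = z * t := by rw [hri, ← hr, hri]
        calc r * w * r⁻¹ * z = r * (w * (r⁻¹ * z * r)) * r⁻¹ := by group
          _ = r * ((r⁻¹ * z * r) * w) * r⁻¹ := by
            rw [e1, ← mul_assoc w, hwz, mul_assoc z, hwt, mul_assoc z]
          _ = z * (r * w * r⁻¹) := by group
    have h3 := hsq _ hw'
    rw [show r * w * r⁻¹ * (r * w * r⁻¹) = r * (w * w) * r⁻¹ by group, hww, hr, ← mul_assoc,
      h.comm hxS, mul_assoc, mul_assoc] at h3
    exact hxt' (mul_left_cancel h3).symm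
  rintro y ⟨hy, hyt⟩
  have hyt' : y * t = t * y := mem_centralizer_singleton_iff.1 hyt
  by_cases hc : x * y = y * x
  · rcases claim3 y hy hc.symm hyt' with e | e <;> rw [e]
    · exact one_mem _
    · exact hzV
  · have h1 := h.conj_eq_mul hU hUS hn hx hx1 hxz hy hc
    have h2 := h.conj_eq_mul hU hUS hn hx hx1 hxz hg hxt'
    have h3 : y * t * x = x * (y * t) := by
      calc y * t * x = y * (t * x * t⁻¹) * t := by group
        _ = (y * x * y⁻¹) * (y * z) * t := by rw [h2]; group
        _ = x * (z * z) * (y * t) := by rw [h1, h.comm hy]; group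
        _ = x * (y * t) := by rw [hzz, mul_one]
    have h4 : y * t ∈ closure ({z, t} : Set G) := by
      rcases claim3 _ (mul_mem hy hg) h3 (by rw [← mul_assoc, ← hyt']) with e | e <;> rw [e]
      · exact one_mem _
      · exact hzV
    exact (mul_mem_cancel_right htV).1 h4

/-- There is a subgroup of index at most two in `S` all of whose involutions have the same core
as `z`. -/
theorem exists_good (h : Zs z S) {g : G} (hg : g * z * g⁻¹ ∈ S) (hne : g * z * g⁻¹ ≠ z) :
    ∃ S₀ ≤ S, S₀.relIndex S ≤ 2 ∧ ∀ u ∈ S₀, orderOf u = 2 → θ u ≤ θ z := by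
  by_cases hU : ∀ U : Subgroup S, U.Normal → ¬ IsKleinFour U
  · obtain ⟨A, -, hA, -, hi⟩ := Grp.NR1.exists_cyclic_index_le_two h.syl.pgrp hU
    exact h.good_of_cyclic A hA hi
  push Not at hU
  obtain ⟨U', hn', hU'⟩ := hU
  have hU := klein_map hU' _ S.subtype_injective
  have hUS := map_subtype_le U'
  have hn := le_normalizer_map_subtype U'
  by_cases hbad : ∀ x ∈ U'.map S.subtype, x ≠ 1 → θ x ≤ θ z
  · refine ⟨(𝐂[U']).map S.subtype, map_subtype_le _, ?_, ?_⟩
    · rw [relIndex, map_subtype_subgroupOf]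
      exact Grp.PChain.index_centralizer_le_of_card_sq h.syl.pgrp U' hU'.card_four
    · rintro _ ⟨u, hu, rfl⟩ hu2
      refine (hθ.le_closure_of_commute_klein hu2 hU ?_).trans (sc_le hbad)
      rintro _ ⟨v, hv, rfl⟩
      exact congrArg Subtype.val (hu v hv)
  push Not at hbad
  obtain ⟨x, hx, hx1, hbad⟩ := hbad
  have hle := h.card_cent_le_of_bad hθ hU hUS hn hx hx1 hbad hg hne
  have hxt := h.conj_eq_of_bad hθ hU hUS hn hx hx1 hbad hg hne
  have hV := Klein.of_commute h.ord (h.conj g).ord hne.symm (h.comm hg).symm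
  have h4 : (commutator S).index ≤ 4 := by
    refine (S3224.card_abelianization_le (⟨_, hg⟩ : S)).trans ?_
    rw [← hV.card_four, ← Subgroup.card_map_of_injective (f := S.subtype) S.subtype_injective]
    refine card_le_of_le (le_trans ?_ hle)
    rintro _ ⟨y, hy, rfl⟩
    exact ⟨y.2, mem_centralizer_singleton_iff.2
      (congrArg Subtype.val (mem_centralizer_singleton_iff.1 hy))⟩
  obtain ⟨n, hcard⟩ := h.syl.pgrp.exists_card_eq
  have h3 : 3 ≤ n := by
    have hlt : U'.map S.subtype < S := lt_of_le_of_ne hUS fun e =>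
      hxt (Klein.comm hU hx (e.ge hg))
    have h5 : Nat.card ↥(U'.map S.subtype) < Nat.card S :=
      lt_of_le_of_ne (card_le_of_le hlt.le) fun e => hlt.ne (eq_of_le_of_card_ge hlt.le e.ge)
    rw [hU.card_four, hcard] at h5
    exact (Nat.pow_lt_pow_iff_right (a := 2) (n := 2) (by norm_num)).1 h5
  obtain ⟨c, hc⟩ := Grp.MaxClass.exists_orderOf_of_index_commutator_le h3 hcard h4
  exact h.good_of_cyclic (zpowers c) inferInstance
    (Grp.MaxClass.index_zpowers_of_orderOf two_pos (by omega) hcard hc).le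

/-- If `z` is not weakly closed, all involutions of `O^2(G)` in `S` have the same core. -/
theorem core_eq (h : Zs z S) {g : G} (hg : g * z * g⁻¹ ∈ S) (hne : g * z * g⁻¹ ≠ z) {u : G}
    (huS : u ∈ S) (huH : u ∈ pResidual 2 G) (hu : orderOf u = 2) : θ u = θ z := by
  obtain ⟨S₀, hS₀, hi, hgood⟩ := h.exists_good hθ hg hne
  refine h.core_eq_of_card hθ hu huS ?_
  by_cases hu0 : u ∈ S₀
  · exact card_le_of_le (hgood u hu0 hu)
  obtain ⟨P, rfl⟩ := h.syl.exists_sylow_top
  have hi2 : S₀.relIndex P = 2 := by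
    have h0 : S₀.relIndex P ≠ 0 := index_ne_zero_of_finite
    have h1 : S₀.relIndex P ≠ 1 := fun e => hu0 (relIndex_eq_one.1 e huS)
    omega
  rcases S0111.result P S₀ hS₀ hi2 u hu huS hu0 with ⟨M, -, hM, huM⟩ | ⟨k, hk⟩
  · exact absurd (pResidual_le_of_index_two hM huH) huM
  · have := card_le_of_le (hgood _ hk (by rw [orderOf_conj, hu]))
    rwa [hθ.conj, card_cj] at this

end Zs

end Cfsg.Agent.PLocal.ZC
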