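import Mathlib
import Cfsg.Prelude.Def_SubgroupEmbedding
import Cfsg.Agent.PLocal.IsolatedP
import Cfsg.Agent.S3021

/-!
# Extremely closed subgroups
-/

set_option autoImplicit false

namespace Cfsg.Agent.PLocal

open Cfsg Subgroup Cfsg.Agent.PLocal.Amb
open scoped commutatorElement

variable {G : Type*} [Group G] {p : ℕ}

/-- Transfer into `M / H` when `M ∩ M^g ≤ H` for all `g ∉ M`. -/
theorem exists_normal_inf_eq_of_ti [Finite G] {H M : Subgroup G} (hHM : H ≤ M) (hn : M ≤ 𝐍[H])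
    (hc : ⁅M, M⁆ ≤ H) (hTI : ∀ g : G, g ∉ M → ∀ y ∈ M, g⁻¹ * y * g ∈ M → g⁻¹ * y * g ∈ H) :
    ∃ N : Subgroup G, N.Normal ∧ _root_.commutator G ≤ N ∧ N ⊓ M = H := by
  classical
  have hN : (H.subgroupOf M).Normal := normal_subgroupOf' hn
  have hcomm : ∀ a b : M ⧸ H.subgroupOf M, a * b = b * a := by
    intro a b
    obtain ⟨a, rfl⟩ := QuotientGroup.mk_surjective a
    obtain ⟨b, rfl⟩ := QuotientGroup.mk_surjective b
    rw [← QuotientGroup.mk_mul, ← QuotientGroup.mk_mul, QuotientGroup.eq, mem_subgroupOf]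
    have := hc (commutator_mem_commutator (M.inv_mem b.2) (M.inv_mem a.2))
    simpa [commutatorElement_def, mul_assoc] using this
  let _ : CommGroup (M ⧸ H.subgroupOf M) := { (inferInstance : Group _) with mul_comm := hcomm }
  set φ := QuotientGroup.mk' (H.subgroupOf M) with hφ
  have key : ∀ m : M, MonoidHom.transfer φ (m : G) = φ m := by
    intro m
    have := Fintype.ofFinite (Quotient (MulAction.orbitRel (zpowers (m : G)) (G ⧸ M)))
    rw [MonoidHom.transfer_eq_prod_quotient_orbitRel_zpowers_quot]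
    have hfix : (m : G) • ((1 : G) : G ⧸ M) = ((1 : G) : G ⧸ M) := by
      rw [MulAction.Quotient.smul_mk, smul_eq_mul, mul_one, QuotientGroup.eq]
      simp
    have horb : ∀ q : G ⧸ M, (MulAction.orbitRel (zpowers (m : G)) (G ⧸ M)) q ((1 : G) : G ⧸ M) →
        q = ((1 : G) : G ⧸ M) := by
      rintro q ⟨⟨a, ha⟩, rfl⟩
      change a • ((1 : G) : G ⧸ M) = _
      rw [MulAction.Quotient.smul_mk, smul_eq_mul, mul_one, QuotientGroup.eq]
      simpa using (zpowers_le).2 m.2 ha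
    rw [Finset.prod_eq_single (Quotient.mk _ ((1 : G) : G ⧸ M))]
    · have h1 := horb _ (Quotient.mk_out (s := MulAction.orbitRel (zpowers (m : G)) (G ⧸ M))
        ((1 : G) : G ⧸ M))
      have h0 : Function.minimalPeriod (fun x => (m : G) • x) ((1 : G) : G ⧸ M) = 1 :=
        Function.minimalPeriod_eq_one_iff_isFixedPt.2 hfix
      generalize_proofs _ h2
      revert h2
      rw [h1, h0]
      intro h2
      have h3 : (((1 : G) : G ⧸ M).out) ∈ M := by
        have := QuotientGroup.eq.1 (QuotientGroup.out_eq' ((1 : G) : G ⧸ M))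
        simpa using this
      have h4 : (⟨_, h2⟩ : M) = (⟨_, h3⟩ : M)⁻¹ * m * ⟨_, h3⟩ := Subtype.ext (by simp)
      rw [h4, map_mul, map_mul, mul_right_comm, ← map_mul, inv_mul_cancel, map_one, one_mul]
    · intro q _ hq
      rw [hφ, QuotientGroup.mk'_apply, QuotientGroup.eq_one_iff, mem_subgroupOf]
      refine hTI _ (fun h => hq ?_) _ (pow_mem m.2 _)
        (QuotientGroup.out_conj_pow_minimalPeriod_mem M _ q.out)
      rw [← Quotient.out_eq q]
      congr 1
      rw [← QuotientGroup.out_eq' q.out, QuotientGroup.eq]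
      simpa using h
    · intro h
      exact absurd (Finset.mem_univ _) h
  refine ⟨(MonoidHom.transfer φ).ker, inferInstance, Abelianization.commutator_subset_ker _, ?_⟩
  ext x
  constructor
  · intro h0
    obtain ⟨h1, h2⟩ := mem_inf.1 h0
    have h3 : MonoidHom.transfer φ x = φ ⟨x, h2⟩ := key ⟨x, h2⟩
    rw [MonoidHom.mem_ker, h3, hφ, QuotientGroup.mk'_apply,
      QuotientGroup.eq_one_iff, mem_subgroupOf] at h1
    exact h1
  · intro h
    refine mem_inf.2 ⟨?_, hHM h⟩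
    have h3 : MonoidHom.transfer φ x = φ ⟨x, hHM h⟩ := key ⟨x, hHM h⟩
    rw [MonoidHom.mem_ker, h3, hφ, QuotientGroup.mk'_apply, QuotientGroup.eq_one_iff,
      mem_subgroupOf]
    exact h

/-- ambient form of maximality of `H` in `M` -/
theorem eq_of_isCoatom_subgroupOf {H M K : Subgroup G} (h : IsCoatom (H.subgroupOf M))
    (hHK : H ≤ K) (hKM : K ≤ M) (hne : K ≠ H) : K = M := by
  refine le_antisymm hKM (subgroupOf_eq_top.1 (h.2 _ (lt_of_le_of_ne
    (subgroupOf_mono M hHK) fun h0 => hne ?_)))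
  rw [← map_subgroupOf_of_le hKM, ← h0, map_subgroupOf_of_le (hHK.trans hKM)]

theorem commutator_le_of_isCoatom {H M : Subgroup G} (hHM : H ≤ M) (hn : M ≤ 𝐍[H])
    (h : IsCoatom (H.subgroupOf M)) : ⁅M, M⁆ ≤ H := by
  obtain ⟨x, hxM, hxH⟩ : ∃ x ∈ M, x ∉ H := by
    by_contra h0
    push Not at h0
    exact h.1 (subgroupOf_eq_top.2 h0)
  have hx : zpowers x ≤ M := (zpowers_le).2 hxM
  have h1 : H ⊔ zpowers x = M := eq_of_isCoatom_subgroupOf h le_sup_left (sup_le hHM hx)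
    fun h0 => hxH (h0 ▸ mem_sup_right (mem_zpowers x))
  rw [Subgroup.commutator_le]
  intro a ha b hb
  have ha' := ha
  rw [← h1] at ha hb
  obtain ⟨n, hn1, a, ⟨i, rfl⟩, rfl⟩ := (mem_sup_of_le_normalizer_left (hx.trans hn)).1 ha
  obtain ⟨m, hm1, b, ⟨j, rfl⟩, rfl⟩ := (mem_sup_of_le_normalizer_left (hx.trans hn)).1 hb
  have h2 : ⁅n * x ^ i, m * x ^ j⁆ = (n * x ^ i * m * (n * x ^ i)⁻¹) *
      (n * (x ^ j * n⁻¹ * (x ^ j)⁻¹)) * m⁻¹ := by
    simp only [commutatorElement_def]; group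
  simp only [] at ha' ⊢
  rw [h2]
  exact mul_mem (mul_mem (conj_mem_of_mem_normalizer (hn ha') hm1) (mul_mem hn1
    (conj_mem_of_mem_normalizer (hn (zpow_mem hxM j)) (inv_mem hn1)))) (inv_mem hm1)

/-- S3014 in library form -/
theorem normalClosure_inf_eq_of_closed [Finite G] {H M : Subgroup G} (hHM : H ≤ M)
    (hcl : ∀ g : G, (H ⊔ cj(g, H)) ⊓ M = H) (hmaxH : IsCoatom (H.subgroupOf M))
    (hmaxM : IsCoatom M) : normalClosure (H : Set G) ⊓ M = H := by
  have hn : M ≤ 𝐍[H] := le_normalizer_iff_cj.2 fun g hg =>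
    (le_inf le_sup_right (cj_le_of_mem hHM hg)).trans (hcl g).le
  suffices h : ∃ N : Subgroup G, N.Normal ∧ N ⊓ M = H by
    obtain ⟨N, hN, h⟩ := h
    refine le_antisymm ((inf_le_inf_right M ?_).trans h.le) (le_inf le_normalClosure hHM)
    exact normalClosure_le_normal (h.ge.trans inf_le_left)
  by_cases hTI : ∀ g : G, g ∉ M → ∀ y ∈ M, g⁻¹ * y * g ∈ M → g⁻¹ * y * g ∈ H
  · obtain ⟨N, h1, -, h2⟩ := exists_normal_inf_eq_of_ti hHM hn
      (commutator_le_of_isCoatom hHM hn hmaxH) hTI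
    exact ⟨N, h1, h2⟩
  push Not at hTI
  obtain ⟨g, hg, y, hy, h1, h2⟩ := hTI
  set x := g⁻¹ * y * g with hx
  by_cases h3 : cj(g⁻¹, H) ≤ M
  · have h4 : g⁻¹ ∈ 𝐍[H] :=
      mem_normalizer_of_cj_le ((le_inf le_sup_right h3).trans (hcl g⁻¹).le)
    have h5 : 𝐍[H] = ⊤ := hmaxM.2 _ (lt_of_le_of_ne hn fun h => hg (inv_mem_iff.1 (h ▸ h4)))
    exact ⟨H, normalizer_eq_top_iff.1 h5, inf_eq_left.2 hHM⟩
  refine ⟨H ⊔ cj(g⁻¹, H), normalizer_eq_top_iff.1 (hmaxM.2 _ (lt_of_le_of_ne ?_ fun h => ?_)),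
    hcl _⟩
  · have h4 : H ⊔ zpowers x = M := eq_of_isCoatom_subgroupOf hmaxH le_sup_left
      (sup_le hHM ((zpowers_le).2 h1)) fun h0 => h2 (h0 ▸ mem_sup_right (mem_zpowers x))
    rw [← h4]
    refine sup_le (le_sup_left.trans le_normalizer) (le_normalizer_sup
      ((zpowers_le).2 (hn h1)) ((zpowers_le).2 ?_))
    rw [normalizer_cj, mem_cj]
    simpa [hx, mul_assoc] using hn hy
  · exact h3 (le_sup_right.trans (le_normalizer.trans h.ge))

section Ext

variable [Finite G] [hp : Fact p.Prime] {H : Subgroup G}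

theorem ext_isSyl (hHp : IsPGroup p H) (hcl : IsExtremelyClosed H) (g : G) :
    IsSyl p H (H ⊔ cj(g, H)) := by
  apply isSyl_of_isSyl_normalizer
  rw [hcl g]
  exact ⟨le_rfl, hHp, fun _ _ _ h => h⟩

/-- a self-normalizing abelian Sylow subgroup has a normal complement -/
theorem hasNormalPComplement_of_self_normalizing {T : Subgroup G} (hT : IsSyl p H T)
    (hHab : IsMulCommutative H) (h : T ⊓ 𝐍[H] = H) : HasNormalPComplement p T := by
  obtain ⟨P, hP⟩ := hT.exists_sylow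
  refine (Transfer.hasNormalPComplement_iff_sylow P).2
    ⟨_, inferInstance, MonoidHom.ker_transferSylow_isComplement' P ?_⟩
  change 𝐍[(P : Subgroup T)] ≤ 𝐂[(P : Subgroup T)]
  rw [hP, ← subgroupOf_normalizer_eq hT.le, centralizer_subgroupOf hT.le]
  intro x hx
  rw [mem_subgroupOf] at hx ⊢
  have h1 : (x : G) ∈ H := h ▸ mem_inf.2 ⟨x.2, hx⟩
  intro y hy
  exact congrArg Subtype.val (mul_comm' (⟨y, hy⟩ : H) ⟨x, h1⟩)

theorem ext_hasNormalPComplement (hHp : IsPGroup p H) (hHab : IsMulCommutative H)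
    (hcl : IsExtremelyClosed H) (g : G) : HasNormalPComplement p ↥(H ⊔ cj(g, H)) :=
  hasNormalPComplement_of_self_normalizing (ext_isSyl hHp hcl g) hHab (hcl g)

theorem coprime_card_pRes {T : Subgroup G} (h : HasNormalPComplement p T) :
    (Nat.card 𝐎[p, T]).Coprime p := by
  rw [Subgroup.card_map_of_injective T.subtype_injective]
  exact Transfer.hasNormalPComplement_iff_coprime.1 h

theorem pRes_eq_map_pPrimeCore {T : Subgroup G} (h : HasNormalPComplement p T) :
    𝐎[p, T] = (pPrimeCore p T).map T.subtype := by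
  refine le_antisymm (Grp.le_map_pPrimeCore (pRes_le p T) (le_normalizer_pRes p T)
    (coprime_card_pRes h)) fun x hx => mem_pRes (map_subtype_le _ hx) ?_
  exact Transfer.coprime_orderOf_of_mem (Grp.map_pPrimeCore_coprime p _) hx

omit [Finite G] hp in
theorem ext_subgroupOf (hcl : IsExtremelyClosed H) {L : Subgroup G} (hL : H ≤ L) :
    IsExtremelyClosed (H.subgroupOf L) := by
  intro g
  apply map_injective L.subtype_injective
  rw [map_inf _ _ _ L.subtype_injective, Subgroup.map_sup, map_subtype_cj, map_subgroupOf_of_le hL,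
    ← subgroupOf_normalizer_eq hL, subgroupOf_map_subtype, ← inf_assoc, hcl g, inf_eq_left.2 hL]

/-- the normalizer of the image of a Sylow subgroup is the image of the normalizer -/
theorem IsSyl.map_inf_normalizer {T : Subgroup G} (hT : IsSyl p H T) {K : Type*} [Group K]
    (f : G →* K) : T.map f ⊓ 𝐍[H.map f] = (T ⊓ 𝐍[H]).map f := by
  refine le_antisymm ?_ (map_inf_le _ _ _ |>.trans (inf_le_inf_left _ (le_normalizer_map f)))
  rintro _ ⟨⟨t, ht, rfl⟩, h2⟩
  have hk : ∀ L : Subgroup G, L ≤ 𝐍[f.ker] := fun L => le_top.trans (normalizer_eq_top _).ge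
  have h3 : t ∈ 𝐍[T ⊓ (H ⊔ f.ker)] := by
    refine le_normalizer_inf (L := zpowers t) ((zpowers_le).2 (le_normalizer ht))
      ((zpowers_le).2 ?_) (mem_zpowers t)
    apply mem_normalizer_of_cj_le
    rw [cj_le_iff_forall, ← comap_map_eq]
    intro y hy
    rw [mem_comap] at hy ⊢
    simpa using conj_mem_of_mem_normalizer h2 hy
  obtain ⟨n, hn, x, hx, rfl⟩ :=
    (hT.mono (le_inf hT.le le_sup_left) inf_le_left).frattini h3
  obtain ⟨a, ha, b, hb, rfl⟩ := (mem_sup_of_le_normalizer_right (hk H)).1 (mem_inf.1 hn).2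
  have hxT : x ∈ T := (mul_mem_cancel_left (mem_inf.1 hn).1).1 ht
  refine ⟨a * x, mem_inf.2 ⟨mul_mem (hT.le ha) hxT, mul_mem (le_normalizer ha) hx⟩, ?_⟩
  simp [(MonoidHom.mem_ker).1 hb]

theorem ext_map (hHp : IsPGroup p H) (hcl : IsExtremelyClosed H) {K : Type*} [Group K]
    (f : G →* K) (hf : Function.Surjective f) : IsExtremelyClosed (H.map f) := by
  intro g'
  obtain ⟨g, rfl⟩ := hf g'
  rw [← map_cj, ← Subgroup.map_sup, IsSyl.map_inf_normalizer (ext_isSyl hHp hcl g), hcl g]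

theorem ext_normalizer_le (hHp : IsPGroup p H) (hcl : IsExtremelyClosed H) {Q : Subgroup G}
    (hQ : IsPGroup p Q) (h : H ≤ Q) : 𝐍[Q] ≤ 𝐍[H] :=
  (S3021.result H hHp hcl).1 Q hQ h

omit [Finite G] hp in
theorem ext_conj_mem (hcl : IsExtremelyClosed H) {x g : G} (hx : x ∈ H)
    (h : g * x * g⁻¹ ∈ 𝐍[H]) : g * x * g⁻¹ ∈ H :=
  hcl g ▸ mem_inf.2 ⟨mem_sup_right (conj_mem_cj g hx), h⟩

end Ext

end Cfsg.Agent.PLocal
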