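import Mathlib
import Cfsg.Agent.PLocal.HallHigman
import Cfsg.Agent.Grp.PFrattini

/-!
A two-step reduction of a `q`-group acting on a module in characteristic `p` to the critical case of the
Hall–Higman theorem, uniform in the acting `p`-elements.
-/

namespace Cfsg.Agent.PLocal.HH

open Module Subgroup Cfsg.Agent.FT.Rep
open scoped commutatorElement

universe u v

variable {F : Type*} [Field F] {W : Type v} [AddCommGroup W] [Module F W]
  {Γ : Type u} [Group Γ] (ρ : Γ →* End F W)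

theorem wt_indep' (A : Subgroup Γ) : iSupIndep (wt ρ A) := by
  classical
  rw [iSupIndep_iff_finsetSum_eq_zero_imp_eq_zero]
  intro s
  induction s using Finset.induction_on with
  | empty => intro v _ _ i hi; exact absurd hi (Finset.notMem_empty i)
  | insert χ s hχ ih =>
    intro v hv h0
    have key : ∀ ψ ∈ s, v ψ = 0 := fun ψ hψ => by
      obtain ⟨a, ha⟩ : ∃ a, ψ a ≠ χ a := Function.ne_iff.mp fun h => hχ (h ▸ hψ)
      let T : End F W := if a ∈ A then ρ a else 0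
      have hT : ∀ μ ∈ insert χ s, T (v μ) = μ a • v μ := fun μ hμ => by
        by_cases h : a ∈ A
        · simp only [T, if_pos h]; exact (hv μ hμ).1 a h
        · simp only [T, if_neg h]; exact ((hv μ hμ).2 a h).symm
      have h1 := ih (fun μ => (μ a - χ a) • v μ)
        (fun μ hμ => Submodule.smul_mem _ _ (hv μ (Finset.mem_insert_of_mem hμ))) (by
          have h2 := congrArg (fun w => T w - χ a • w) h0
          simp only [map_sum, map_zero, smul_zero, sub_zero, Finset.smul_sum,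
            ← Finset.sum_sub_distrib] at h2
          rw [Finset.sum_insert hχ, hT χ (Finset.mem_insert_self _ _), sub_self, zero_add] at h2
          rw [← h2]
          exact Finset.sum_congr rfl fun μ hμ => by
            rw [hT μ (Finset.mem_insert_of_mem hμ), sub_smul]) ψ hψ
      exact (smul_eq_zero.mp h1).resolve_left (sub_ne_zero.mpr ha)
    intro ψ hψ
    rcases Finset.mem_insert.mp hψ with rfl | h
    · rwa [Finset.sum_insert hχ, Finset.sum_eq_zero key, add_zero] at h0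
    · exact key ψ h

theorem sum_apply_ne_zero' {A : Subgroup Γ} {x : Γ}
    (hx : x ∈ normalizer (A : Set Γ)) {μ : Wt Γ F} {m : ℕ} (hm : 0 < m)
    (hμ : ∀ i, 0 < i → i < m → x ^ i • μ ≠ μ) {w : W} (hw : w ∈ wt ρ A μ) (h0 : w ≠ 0) :
    (∑ i ∈ Finset.range m, ρ x ^ i) w ≠ 0 := by
  intro h
  obtain ⟨m, rfl⟩ : ∃ k, m = k + 1 := ⟨m - 1, by omega⟩
  rw [Finset.sum_range_succ', LinearMap.add_apply, pow_zero, End.one_apply, add_eq_zero_iff_neg_eq,
    LinearMap.sum_apply] at h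
  refine h0 (Submodule.disjoint_def.mp (wt_indep' ρ A μ) w hw ?_)
  rw [← h]
  refine Submodule.neg_mem _ (Submodule.sum_mem _ fun i hi => ?_)
  refine Submodule.mem_iSup_of_mem (x ^ (i + 1) • μ) (Submodule.mem_iSup_of_mem
    (hμ (i + 1) (Nat.succ_pos i) (Nat.succ_lt_succ (Finset.mem_range.mp hi))) ?_)
  rw [← map_pow]
  exact apply_mem_wt ρ (Subgroup.pow_mem _ hx _) hw

/-- Every `p`-element of `X` has a power in `B` whose Jordan blocks on `Y` lift to long blocks. -/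
def Lift (p : ℕ) (X B : Subgroup Γ) (Y : Submodule F W) : Prop :=
  ∀ h ∈ X, (∃ k, h ^ p ^ k = 1) → ∃ a, h ^ p ^ a ∈ B ∧ ∀ w ∈ Y, ∀ j, 0 < j →
    ((ρ (h ^ p ^ a) - 1) ^ (j - 1)) w ≠ 0 → ((ρ h - 1) ^ (p ^ a * j - 1)) w ≠ 0

theorem lift_wt (p : ℕ) [hp : Fact p.Prime] [CharP F p] {X A : Subgroup Γ}
    (hX : X ≤ normalizer (A : Set Γ)) (μ : Wt Γ F) :
    Lift ρ p X (X ⊓ MulAction.stabilizer Γ μ) (wt ρ A μ) := by
  rintro x hx ⟨k, hk⟩
  obtain ⟨a, -, ha⟩ := (Nat.dvd_prime_pow hp.out).mp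
    ((MulAction.period_dvd_orderOf x μ).trans (orderOf_dvd_of_pow_eq_one hk))
  have hfix : x ^ p ^ a • μ = μ := by rw [← ha, MulAction.pow_period_smul]
  refine ⟨a, ⟨X.pow_mem hx _, hfix⟩, fun w hw j hj h0 => ?_⟩
  have hpa : 0 < p ^ a := pow_pos hp.out.pos a
  have h1 : p ^ a * j - 1 = (p ^ a - 1) + p ^ a * (j - 1) := by
    obtain ⟨j, rfl⟩ : ∃ k, j = k + 1 := ⟨j - 1, by omega⟩
    rw [Nat.add_sub_cancel, mul_add, mul_one]
    omega
  rw [h1, pow_add, pow_mul, sub_one_pow_char_pow (F := F) p, sub_one_pow_eq_sum (F := F) p,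
    ← map_pow, End.mul_apply]
  refine sum_apply_ne_zero' ρ (hX hx) hpa
    (fun i hi hi' => MulAction.pow_smul_ne_of_lt_period hi (ha ▸ hi')) (sub_one_pow_mem ?_ _ hw) h0
  intro v hv
  have := apply_mem_wt ρ (Subgroup.pow_mem _ (hX hx) (p ^ a)) hv
  rwa [hfix] at this

variable {ρ}

theorem Lift.trans {p : ℕ} [hp : Fact p.Prime] {X B C : Subgroup Γ} {Y Y' : Submodule F W}
    (h1 : Lift ρ p X B Y) (h2 : Lift ρ p B C Y') (hY : Y' ≤ Y) : Lift ρ p X C Y' := by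
  rintro x hx ⟨k, hk⟩
  obtain ⟨a, ha, ha'⟩ := h1 x hx ⟨k, hk⟩
  obtain ⟨b, hb, hb'⟩ := h2 _ ha ⟨k, by rw [← pow_mul, mul_comm, pow_mul, hk, one_pow]⟩
  rw [← pow_mul, ← pow_add] at hb hb'
  refine ⟨a + b, hb, fun w hw j hj h0 => ?_⟩
  have := ha' w (hY hw) _ (Nat.mul_pos (pow_pos hp.out.pos b) hj) (hb' w hw j hj h0)
  rwa [← mul_assoc, ← pow_add] at this

theorem Lift.level {p : ℕ} [hp : Fact p.Prime] {X B : Subgroup Γ} {Y : Submodule F W}
    (h : Lift ρ p X B Y) (hY : Y ≠ ⊥) {x : Γ} (hx : x ∈ X) {e : ℕ} (hxe : x ^ p ^ e = 1)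
    (hT : (ρ x - 1) ^ (p ^ e - 1) = 0) : ∃ a n, a + n + 1 = e ∧ x ^ p ^ a ∈ B ∧
      ∀ w ∈ Y, ((ρ (x ^ p ^ a) - 1) ^ (p ^ (n + 1) - 1)) w = 0 := by
  obtain ⟨a, ha, ha'⟩ := h x hx ⟨e, hxe⟩
  have hae : a < e := by
    by_contra hcon
    obtain ⟨w, hw, hw0⟩ := (Submodule.ne_bot_iff Y).mp hY
    refine ha' w hw 1 Nat.one_pos (by simpa using hw0) ?_
    have h1 : p ^ e ≤ p ^ a := Nat.pow_le_pow_right hp.out.pos (not_lt.mp hcon)
    rw [mul_one, show p ^ a - 1 = (p ^ a - p ^ e) + (p ^ e - 1) by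
      have := pow_pos hp.out.pos e; omega, pow_add, hT, mul_zero, LinearMap.zero_apply]
  obtain ⟨n, rfl⟩ : ∃ n, e = a + n + 1 := ⟨e - a - 1, by omega⟩
  refine ⟨a, n, rfl, ha, fun w hw => ?_⟩
  by_contra h0
  refine ha' w hw _ (pow_pos hp.out.pos _) h0 ?_
  rw [← pow_add, ← add_assoc, hT, LinearMap.zero_apply]

variable (ρ)

/-- The critical configuration: `Q / Z` is an elementary abelian `q`-group with a nondegenerate commutator
form, `Z` acts on `Y` by scalars. -/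
structure Red (q : ℕ) (B Q Z : Subgroup Γ) (Y : Submodule F W) : Prop where
  ne_bot : Y ≠ ⊥
  qQ : IsPGroup q Q
  le : Z ≤ Q
  nQ : B ≤ normalizer (Q : Set Γ)
  nZ : B ≤ normalizer (Z : Set Γ)
  comm : ⁅Q, Q⁆ ≤ Z
  pow : ∀ t ∈ Q, t ^ q ∈ Z
  invQ : ∀ g ∈ Q, ∀ w ∈ Y, ρ g w ∈ Y
  invB : ∀ g ∈ B, ∀ w ∈ Y, ρ g w ∈ Y
  scal : ∀ z ∈ Z, ∃ c : F, ∀ w ∈ Y, ρ z w = c • w
  nondeg : ∀ t ∈ Q, (∀ g ∈ Q, ∀ w ∈ Y, ρ (g * t) w = ρ (t * g) w) → t ∈ Z

/-- The elements of `Q` acting on `U` as elements of the centre. -/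
def centMod (Q : Subgroup Γ) (U : Submodule F W) (hU : ∀ g ∈ Q, ∀ w ∈ U, ρ g w ∈ U) : Subgroup Γ where
  carrier := {t | t ∈ Q ∧ ∀ g ∈ Q, ∀ w ∈ U, ρ (g * t) w = ρ (t * g) w}
  one_mem' := ⟨one_mem _, fun g _ w _ => by rw [mul_one, one_mul]⟩
  mul_mem' := fun {a b} ha hb => ⟨mul_mem ha.1 hb.1, fun g hg w hw => by
    rw [← mul_assoc, apply_mul, ha.2 g hg _ (hU b hb.1 w hw), apply_mul, ← apply_mul ρ g,
      hb.2 g hg w hw, ← apply_mul, mul_assoc]⟩
  inv_mem' := fun {a} ha => ⟨inv_mem ha.1, fun g hg w hw => by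
    have := congrArg (ρ a⁻¹) (ha.2 g hg _ (hU _ (inv_mem ha.1) w hw))
    simp only [← apply_mul] at this
    rw [show a⁻¹ * (g * a * a⁻¹) = a⁻¹ * g by group, show a⁻¹ * (a * g * a⁻¹) = g * a⁻¹ by group] at this
    exact this.symm⟩

theorem exists_wt_inf_ne_bot [FiniteDimensional F W] [IsAlgClosed F] {A : Subgroup Γ}
    {U : Submodule F W} (hU : ∀ g ∈ A, ∀ w ∈ U, ρ g w ∈ U) (h0 : U ≠ ⊥)
    (hc : ∀ a ∈ A, ∀ b ∈ A, ∀ w ∈ U, ρ (a * b) w = ρ (b * a) w) (hn : (Nat.card A : F) ≠ 0) :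
    ∃ ν, ∃ w ∈ U, w ≠ 0 ∧ w ∈ wt ρ A ν := by
  classical
  obtain ⟨σ, hσ⟩ := exists_restrict ρ A U hU
  have h1 := wt_span σ ⊤ (fun a _ b _ => LinearMap.ext fun w => Subtype.ext (by
    rw [← map_mul, ← map_mul, hσ, hσ]; exact hc a a.2 b b.2 w w.2)) (by rwa [card_top])
  obtain ⟨ν, hν⟩ : ∃ ν, wt σ ⊤ ν ≠ ⊥ := by
    by_contra h
    push Not at h
    have : Nontrivial U := Submodule.nontrivial_iff_ne_bot.mpr h0
    exact top_ne_bot (h1.symm.trans (iSup_eq_bot.mpr h))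
  obtain ⟨w, hw, hw0⟩ := (Submodule.ne_bot_iff _).mp hν
  refine ⟨fun a => if h : a ∈ A then ν ⟨a, h⟩ else 0, w, w.2, fun h => hw0 (Subtype.ext h),
    fun a ha => ?_, fun a ha => ?_⟩
  · beta_reduce
    rw [dif_pos ha]
    exact (hσ ⟨a, ha⟩ w).symm.trans (congrArg Subtype.val (hw.1 ⟨a, ha⟩ trivial))
  · beta_reduce
    rw [dif_neg ha, zero_smul]

theorem two_step [FiniteDimensional F W] [IsAlgClosed F] [Finite Γ] (hρ : Function.Injective ρ)
    {p q : ℕ} [hp : Fact p.Prime] [hq : Fact q.Prime] [CharP F p] (hpq : p ≠ q) {X D Q : Subgroup Γ}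
    (hQ : IsPGroup q Q) (hXQ : X ≤ normalizer (Q : Set Γ)) (hDX : D ≤ X)
    (hXD : X ≤ normalizer (D : Set Γ)) (hD : (Nat.card D).Coprime q) (hnt : ⁅Q, D⁆ ≠ ⊥) :
    ∃ (B Q₀ Z : Subgroup Γ) (Y : Submodule F W), B ≤ X ∧ Q₀ ≤ Q ∧ X ≤ normalizer (Q₀ : Set Γ) ∧
      ⁅Q₀, D⁆ = Q₀ ∧ Red ρ q B Q₀ Z Y ∧ Lift ρ p X B Y ∧ (D ≤ B → ¬ Q₀ ≤ Z) := by
  obtain ⟨Q₀, hQ₀, hX₀, hnt₀, hmin⟩ := exists_minimal_not_centralized hXQ hnt
  have hq₀ := hQ.to_le hQ₀
  obtain ⟨h1, hst, -, -⟩ := S3736.result X D Q₀ hq₀ hX₀ hDX hXD hD hnt₀ hmin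
  set Z₀ := Q₀ ⊓ centralizer (Q₀ : Set Γ) with hZ₀
  have hcomm : ⁅Q₀, Q₀⁆ ≤ Z₀ := commutator_le.mpr fun a ha b hb =>
    ⟨Q₀.mul_mem (Q₀.mul_mem (Q₀.mul_mem ha hb) (Q₀.inv_mem ha)) (Q₀.inv_mem hb), fun c hc =>
      congrArg Subtype.val (commute_commutator_of_isEA_or_isSpecial hst ⟨a, ha⟩ ⟨b, hb⟩ ⟨c, hc⟩).symm.eq⟩
  have hpow : ∀ t ∈ Q₀, t ^ q ∈ Z₀ := fun t ht => by
    rcases hst with h | h
    · rw [h.2 t ht]; exact one_mem _
    · have h2 : (⟨t, ht⟩ : Q₀) ^ q ∈ center Q₀ := h.2.1 ▸ Grp.PFrattini.pow_mem_frattini hq₀ _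
      exact ⟨Q₀.pow_mem ht _, fun g hg => congrArg Subtype.val (mem_center_iff.mp h2 ⟨g, hg⟩)⟩
  have hQF : (Nat.card Q₀ : F) ≠ 0 := natCast_card_ne_zero hpq hq₀
  have hZ0 : Z₀ ≠ ⊥ := by
    have : Nontrivial Q₀ := (nontrivial_iff_ne_bot Q₀).mpr fun h => hnt₀ (by rw [h, commutator_bot_left])
    have := hq₀.center_nontrivial
    obtain ⟨z, hz⟩ := exists_ne (1 : center Q₀)
    exact fun h => hz (Subtype.ext (Subtype.ext (mem_bot.mp (h.le ⟨z.1.2, fun g hg =>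
      congrArg Subtype.val (mem_center_iff.mp z.2 ⟨g, hg⟩)⟩))))
  have hZc : ∀ a ∈ Z₀, ∀ b ∈ Z₀, Commute (ρ a) (ρ b) := fun a ha b hb =>
    (show Commute a b from hb.2 a ha.1).map ρ
  obtain ⟨μ, hμ⟩ : ∃ μ, ¬ wt ρ Z₀ μ ≤ fix ρ Z₀ := by
    by_contra h
    push Not at h
    refine hZ0 ((eq_bot_iff_forall _).mpr fun g hg => hρ ?_)
    rw [map_one]
    refine fix_eq_top_iff.mp (top_le_iff.mp ?_) g hg
    rw [← wt_span ρ Z₀ hZc (natCast_ne_zero_of_dvd (card_dvd_of_le inf_le_left) hQF)]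
    exact iSup_le h
  have hμ0 : wt ρ Z₀ μ ≠ ⊥ := fun h => hμ (h ▸ bot_le)
  have hμQ : ∀ g ∈ Q₀, ∀ w ∈ wt ρ Z₀ μ, ρ g w ∈ wt ρ Z₀ μ := fun g hg w hw =>
    ⟨fun a ha => by rw [← apply_mul, ← ha.2 g hg, apply_mul, hw.1 a ha, map_smul],
      fun a ha => by rw [← map_smul, hw.2 a ha, map_zero]⟩
  have hXZ₀ : X ≤ normalizer (Z₀ : Set Γ) :=
    Solv.le_normalizer_inf hX₀ (Solv.le_normalizer_centralizer hX₀)
  set X₁ := X ⊓ MulAction.stabilizer Γ μ with hX₁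
  have hμX : ∀ g ∈ X₁, ∀ w ∈ wt ρ Z₀ μ, ρ g w ∈ wt ρ Z₀ μ := fun g hg w hw => by
    have := apply_mem_wt ρ (hXZ₀ hg.1) hw
    rwa [hg.2] at this
  set Z := centMod ρ Q₀ _ hμQ with hZ
  have hZ₀Z : Z₀ ≤ Z := fun z hz => ⟨hz.1, fun g hg w _ => by rw [hz.2 g hg]⟩
  have hXZ : X₁ ≤ normalizer (Z : Set Γ) := fun x hx => mem_normalizer_fintype fun t ht =>
    ⟨(mem_normalizer_iff.mp (hX₀ hx.1) t).mp ht.1, fun g hg w hw => by
      have := congrArg (ρ x) (ht.2 _ ((mem_normalizer_iff''.mp (hX₀ hx.1) g).mp hg) _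
        (hμX _ (inv_mem hx) w hw))
      simp only [← apply_mul] at this
      rw [show g * (x * t * x⁻¹) = x * (x⁻¹ * g * x * t * x⁻¹) by group, this]
      congr 2
      group⟩
  obtain ⟨ν, w₀, hw₀, hw₀0, hw₀ν⟩ := exists_wt_inf_ne_bot ρ (A := Z) (fun g hg => hμQ g hg.1) hμ0
    (fun a ha b hb => hb.2 a ha.1) (natCast_ne_zero_of_dvd (card_dvd_of_le fun _ h => h.1) hQF)
  have hνμ : ∀ z ∈ Z₀, ν z = μ z := fun z hz =>
    smul_left_injective F hw₀0 ((hw₀ν.1 z (hZ₀Z hz)).symm.trans (hw₀.1 z hz))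
  have hY : wt ρ Z ν ≤ wt ρ Z₀ μ := fun w hw =>
    ⟨fun a ha => by rw [hw.1 a (hZ₀Z ha), hνμ a ha], fun a ha => by rw [wt_not_mem hμ0 ha, zero_smul]⟩
  have hν0 : wt ρ Z ν ≠ ⊥ := (Submodule.ne_bot_iff _).mpr ⟨w₀, hw₀ν, hw₀0⟩
  refine ⟨X₁ ⊓ MulAction.stabilizer Γ ν, Q₀, Z, wt ρ Z ν, inf_le_left.trans inf_le_left, hQ₀, hX₀, h1,
    { ne_bot := hν0
      qQ := hq₀
      le := fun _ h => h.1
      nQ := (inf_le_left.trans inf_le_left).trans hX₀
      nZ := inf_le_left.trans hXZ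
      comm := hcomm.trans hZ₀Z
      pow := fun t ht => hZ₀Z (hpow t ht)
      invQ := fun g hg w hw => ⟨fun a ha => by
          rw [← apply_mul, ← ha.2 g hg w (hY hw), apply_mul, hw.1 a ha, map_smul],
        fun a ha => by rw [← map_smul, hw.2 a ha, map_zero]⟩
      invB := fun g hg w hw => by
        have := apply_mem_wt ρ (hXZ hg.1) hw
        rwa [hg.2] at this
      scal := fun z hz => ⟨ν z, fun w hw => hw.1 z hz⟩
      nondeg := fun t ht h => ⟨ht, fun g hg w hw => ?_⟩ },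
    (lift_wt ρ p hXZ₀ μ).trans (lift_wt ρ p hXZ ν) hY, fun hDB hle => hμ fun w hw z hz => ?_⟩
  · have hc : ⁅g, t⁆ ∈ Z₀ := hcomm (commutator_mem_commutator hg ht)
    have e : g * t = ⁅g, t⁆ * (t * g) := by rw [commutatorElement_def]; group
    have h2 : μ ⁅g, t⁆ = 1 := by
      have h3 := h g hg w₀ hw₀ν
      rw [e, apply_mul, (hμQ _ (Q₀.mul_mem ht hg) w₀ hw₀).1 _ hc] at h3
      exact smul_left_injective F (apply_ne_zero ρ (t * g) hw₀0) (h3.trans (one_smul F _).symm)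
    rw [e, apply_mul, (hμQ _ (Q₀.mul_mem ht hg) w hw).1 _ hc, h2, one_smul]
  · have h2 := wt_eq_one_of_fixed hν0 ((hDB.trans inf_le_left).trans hXZ) (hDB.trans inf_le_right) z
      (commutator_mono hle le_rfl (h1.ge hz.1))
    rw [hw.1 z hz, ← hνμ z hz, h2, one_smul]

theorem crit_card [FiniteDimensional F W] [Nontrivial W] [IsAlgClosed F] [Finite Γ]
    (hρ : Function.Injective ρ) {p q : ℕ} [hp : Fact p.Prime] [hq : Fact q.Prime] [CharP F p]
    (hpq : p ≠ q) {Q Z : Subgroup Γ} (hQ : IsPGroup q Q) (hle : Z ≤ Q) (hc : ⁅Q, Q⁆ ≤ Z)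
    (scal : ∀ z ∈ Z, ∃ c : F, ρ z = c • 1) (nondeg : Q ⊓ centralizer (Q : Set Γ) ≤ Z) {x : Γ}
    (hx : x ∈ normalizer (Q : Set Γ)) {n : ℕ} (hT : (ρ x - 1) ^ (p ^ (n + 1) - 1) = 0) :
    ⁅Q, zpowers (x ^ p ^ n)⁆ ≤ Z ∨
      Z.relIndex (⁅Q, zpowers (x ^ p ^ n)⁆ ⊔ Z) = (p ^ (n + 1) - 1) ^ 2 := by
  have hxn : x ^ p ^ (n + 1) = 1 := hρ (by
    rw [map_pow, map_one, ← sub_eq_zero, ← sub_one_pow_char_pow (F := F) p,
      ← Nat.sub_add_cancel (pow_pos hp.out.pos (n + 1)), pow_succ, hT, zero_mul])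
  set y := x ^ p ^ n with hy
  rw [or_iff_not_imp_left]
  intro hnt
  have hy1 : y ≠ 1 := fun h => hnt (by rw [h, zpowers_one_eq_bot, commutator_bot_right]; exact bot_le)
  have ho : orderOf x = p ^ (n + 1) := orderOf_eq_prime_pow hy1 hxn
  have hyp : y ^ p = 1 := by rw [hy, ← pow_mul, ← pow_succ, hxn]
  have hyo : orderOf y = p := orderOf_eq_prime hyp hy1
  have hyx : zpowers y ≤ zpowers x := zpowers_le.mpr (npow_mem_zpowers x _)
  have hZc : Z ≤ center Γ := fun z hz => mem_center_iff.mpr fun g => hρ (by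
    obtain ⟨c, hc⟩ := scal z hz
    rw [map_mul, map_mul, hc, mul_smul_comm, smul_mul_assoc, mul_one, one_mul])
  have hZn : ∀ g, g ∈ normalizer (Z : Set Γ) := fun g => mem_normalizer_fintype fun z hz => by
    rwa [mem_center_iff.mp (hZc hz) g, mul_inv_cancel_right]
  have hyQ : zpowers y ≤ normalizer (Q : Set Γ) := hyx.trans (zpowers_le.mpr hx)
  set C := Q ⊓ centralizer (zpowers y : Set Γ) with hC
  set R := ⁅Q, zpowers y⁆ with hR
  have hRQ : R ≤ Q := Solv.commutator_le_of_le_normalizer hyQ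
  have hcop : (Nat.card (zpowers y)).Coprime (Nat.card Q) := by
    rw [Nat.card_zpowers, hyo]
    exact Solv.coprime_card_of_isPGroup hQ ((Nat.coprime_primes hp.out hq.out).mpr hpq)
  have hRC : R ≤ centralizer (C : Set Γ) := by
    rw [← commutator_eq_bot_iff_le_centralizer]
    refine commutator_commutator_eq_bot_of_rotate ?_ ?_
    · rw [commutator_comm (zpowers y), commutator_eq_bot_iff_le_centralizer.mpr inf_le_right,
        commutator_bot_left]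
    · exact commutator_eq_bot_iff_le_centralizer.mpr (((commutator_mono inf_le_left le_rfl).trans
        (hc.trans hZc)).trans (center_le_centralizer _))
  have key : ∀ t ∈ R ⊔ Z, t ∈ centralizer (R : Set Γ) → t ∈ Z := fun t ht htR => by
    refine nondeg ⟨sup_le hRQ hle ht, ?_⟩
    have h1 : t ∈ centralizer (C : Set Γ) := sup_le hRC (hZc.trans (center_le_centralizer _)) ht
    have h2 : R ⊔ C ≤ centralizer {t} := sup_le
      (fun g hg => mem_centralizer_singleton_iff.mpr (htR g hg))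
      (fun g hg => mem_centralizer_singleton_iff.mpr (h1 g hg))
    rw [Solv.coprime_commutator_sup_centralizer _ Q hyQ hcop (Or.inr (Solv.isSolvable_of_isPGroup hQ))] at h2
    exact fun g hg => mem_centralizer_singleton_iff.mp (h2 hg)
  have hxR : x ∈ normalizer (R : Set Γ) := Solv.le_normalizer_commutator (zpowers_le.mpr hx)
    ((zpowers x).le_centralizer.trans ((centralizer_le hyx).trans (centralizer_le_normalizer _)))
    (mem_zpowers x)
  have hRZ : R ⊔ Z ≤ Q := sup_le hRQ hle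
  have := (crit_of_scalar ρ (Q := R ⊔ Z) (Z := Z) (x := x) le_sup_right
    (fun h => hnt (le_sup_left.trans h.ge))
    (Solv.le_normalizer_sup (zpowers_le.mpr hxR) (zpowers_le.mpr (hZn x)) (mem_zpowers x)) (hZn x) scal
    (fun t ht htZ => by
      by_contra hcon
      push Not at hcon
      refine htZ (key t ht fun g hg => commutatorElement_eq_one_iff_mul_comm.mp (hρ ?_))
      rw [map_one]
      exact hcon g (mem_sup_left hg) (hc (commutator_mem_commutator (hRQ hg) (hRZ ht))))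
    (fun y' hy' hy'1 t ht htZ => by
      have h2 : y ∈ zpowers y' := by
        refine Char.BS.mem_zpowers_of_mem_zpowers_of_dvd (hyx (mem_zpowers y)) hy' ?_
        obtain ⟨j, -, hj⟩ := (Nat.dvd_prime_pow hp.out).mp (ho ▸ orderOf_dvd_of_mem_zpowers hy')
        rw [hyo, hj]
        refine dvd_pow_self p fun h0 => hy'1 ?_
        rwa [h0, pow_zero, orderOf_eq_one_iff] at hj
      have h3 : zpowers y ≤ cosetStab Z t :=
        (zpowers_le.mpr h2).trans (zpowers_le.mpr ⟨hZn y', htZ⟩)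
      obtain ⟨c, hc1, hc2⟩ := Solv.coprime_fixed_coset (zpowers y) Q hyQ hcop
        (Or.inr (Solv.isSolvable_of_isPGroup hQ)) Z hle (fun g _ => hZn g) t (hRZ ht)
        (fun a ha => (h3 ha).2)
      refine key t ht fun g hg => ?_
      have e : t = c * (t⁻¹ * c)⁻¹ := by group
      rw [e, ← mul_assoc, ← hRC hg c hc1, mul_assoc, mem_center_iff.mp (hZc (Z.inv_mem hc2)) g,
        mul_assoc])
    (natCast_card_ne_zero hpq (hQ.to_le hRZ)) (ho ▸ hT)).1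
  rwa [ho] at this

theorem Red.card [FiniteDimensional F W] [IsAlgClosed F] [Finite Γ]
    {p q : ℕ} [hp : Fact p.Prime] [hq : Fact q.Prime] [CharP F p] (hpq : p ≠ q) {B Q Z : Subgroup Γ}
    {Y : Submodule F W} (h : Red ρ q B Q Z Y) {x : Γ} (hx : x ∈ B) {n : ℕ}
    (hT : ∀ w ∈ Y, ((ρ x - 1) ^ (p ^ (n + 1) - 1)) w = 0) :
    ⁅Q, zpowers (x ^ p ^ n)⁆ ≤ Z ∨
      Z.relIndex (⁅Q, zpowers (x ^ p ^ n)⁆ ⊔ Z) = (p ^ (n + 1) - 1) ^ 2 := by
  set L := Q ⊔ zpowers x with hL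
  have hQL : Q ≤ L := le_sup_left
  obtain ⟨Γ', _, _, f, σ, hσ, hf⟩ := exists_faithful ρ L Y (invariant_sup_zpowers ρ h.invQ (h.invB x hx))
  have : Nontrivial Y := Submodule.nontrivial_iff_ne_bot.mpr h.ne_bot
  set x' : L := ⟨x, mem_sup_right (mem_zpowers x)⟩ with hx'
  have hker : ∀ t : L, (t : Γ) ∈ Q → (∀ g : L, (g : Γ) ∈ Q → f g * f t = f t * f g) → (t : Γ) ∈ Z :=
    fun t ht h1 => h.nondeg t ht fun g hg w hw => by
      have h2 := h1 ⟨g, hQL hg⟩ hg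
      rw [← map_mul, ← map_mul] at h2
      have h3 := hf ((⟨g, hQL hg⟩ : L) * t) ⟨w, hw⟩
      rw [h2] at h3
      exact h3.symm.trans (hf (t * (⟨g, hQL hg⟩ : L)) ⟨w, hw⟩)
  have hinf : ((Z.subgroupOf L).map f).comap f ⊓ Q.subgroupOf L = Z.subgroupOf L := by
    refine le_antisymm ?_ (le_inf (le_comap_map f _) fun _ hz => h.le hz)
    rintro t ⟨⟨z, hz, hzt⟩, ht⟩
    have h1 := hker (z⁻¹ * t) (Q.mul_mem (Q.inv_mem (h.le hz)) ht) fun g _ => by
      rw [map_mul, map_inv, hzt, inv_mul_cancel, mul_one, one_mul]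
    exact (Z.mul_mem_cancel_left (Z.inv_mem hz)).mp h1
  set R := ⁅Q.subgroupOf L, zpowers (x' ^ p ^ n)⁆ with hR
  have h1 : ⁅Q, zpowers (x ^ p ^ n)⁆ = R.map L.subtype := by
    rw [map_commutator, map_subgroupOf_eq_of_le hQL, MonoidHom.map_zpowers]
    rfl
  have hRQ : R ≤ Q.subgroupOf L := Solv.commutator_le_of_le_normalizer
    (zpowers_le.mpr (Subgroup.pow_mem _ (mem_normalizer_subgroupOf (h.nQ hx)) _))
  have h2 := crit_card σ hσ hpq (h.qQ.comap_subtype.map f) (Z := (Z.subgroupOf L).map f)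
    (map_mono fun _ hz => h.le hz)
    (by rw [← map_commutator]; exact map_mono (commutator_le.mpr fun a ha b hb =>
      h.comm (commutator_mem_commutator ha hb)))
    (by
      rintro _ ⟨z, hz, rfl⟩
      obtain ⟨c, hc⟩ := h.scal z hz
      exact ⟨c, LinearMap.ext fun w => Subtype.ext ((hf z w).trans (hc w w.2))⟩)
    (by
      rintro _ ⟨⟨t, ht, rfl⟩, h2⟩
      exact ⟨t, hker t ht fun g hg => h2 _ ⟨g, hg, rfl⟩, rfl⟩)
    (le_normalizer_map f (mem_map_of_mem f (mem_normalizer_subgroupOf (x := x') (h.nQ hx))))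
    (n := n) (LinearMap.ext fun w => Subtype.ext ((coe_sub_one_pow (hf x') _ w).trans (hT w w.2)))
  rw [← map_pow, ← MonoidHom.map_zpowers, ← map_commutator, ← Subgroup.map_sup, ← relIndex_comap,
    map_le_iff_le_comap] at h2
  refine h2.imp (fun h3 => ?_) fun h3 => ?_
  · rw [h1, map_le_iff_le_comap]
    exact (le_inf h3 hRQ).trans hinf.le
  · have h4 : R ⊔ Z.subgroupOf L ≤ Q.subgroupOf L := sup_le hRQ fun _ hz => h.le hz
    have h5 : ((Z.subgroupOf L).map f).comap f ⊓ (R ⊔ Z.subgroupOf L) = Z.subgroupOf L :=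
      le_antisymm ((inf_le_inf_left _ h4).trans hinf.le) (le_inf (le_comap_map f _) le_sup_right)
    change (((Z.subgroupOf L).map f).comap f).relIndex (R ⊔ Z.subgroupOf L) = _ at h3
    rw [← inf_relIndex_right, h5] at h3
    rw [← h3, h1, ← relIndex_map_map_of_injective _ _ L.subtype_injective, Subgroup.map_sup,
      map_subgroupOf_eq_of_le (h.le.trans hQL)]

/-- The reduction in a form which only remembers the action on the abelian group `Q / Z`. -/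
theorem reduce [FiniteDimensional F W] [Finite Γ] (hρ : Function.Injective ρ)
    {p q : ℕ} [hp : Fact p.Prime] [hq : Fact q.Prime] [CharP F p] (hpq : p ≠ q) {X D Q : Subgroup Γ}
    (hQ : IsPGroup q Q) (hXQ : X ≤ normalizer (Q : Set Γ)) (hDX : D ≤ X)
    (hXD : X ≤ normalizer (D : Set Γ)) (hD : (Nat.card D).Coprime q) (hnt : ⁅Q, D⁆ ≠ ⊥) :
    ∃ (B : Subgroup Γ) (Γ' : Type u) (_ : Group Γ') (_ : Finite Γ') (f : B →* Γ') (A : Subgroup Γ'),
      B ≤ X ∧ IsElementaryAbelian q A ∧ A.Normal ∧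
      (D ≤ B → A ≠ ⊥ ∧ ⁅A, (D.subgroupOf B).map f⁆ = A) ∧
      (∀ g ∈ X, (∃ k, g ^ p ^ k = 1) → g ∉ B → ∀ c : B, ⁅A, zpowers (f c)⁆ ≠ ⊥ →
        (ρ g - 1) ^ (p - 1) * (ρ c - 1) ≠ 0) ∧
      ∀ x ∈ X, ∀ e, (ρ x - 1) ^ (p ^ e - 1) = 0 → ∃ (a n : ℕ) (hb : x ^ p ^ a ∈ B), a + n + 1 = e ∧
        (Nat.card (⁅A, zpowers (f ⟨_, hb⟩ ^ p ^ n)⁆ : Subgroup Γ') = 1 ∨
          Nat.card (⁅A, zpowers (f ⟨_, hb⟩ ^ p ^ n)⁆ : Subgroup Γ') = (p ^ (n + 1) - 1) ^ 2) := by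
  obtain ⟨Ψ, hΨ⟩ := exists_end_ringHom_injective F (AlgebraicClosure F) W
  set ρ' := Ψ.toMonoidHom.comp ρ with hρ'
  obtain ⟨B, Q₀, Z, Y, hBX, -, -, hQD, h, hl, hne⟩ :=
    two_step ρ' (hΨ.comp hρ) hpq hQ hXQ hDX hXD hD hnt
  set L := B ⊔ Q₀ with hL
  have hQL : Q₀ ≤ L := le_sup_right
  have hZL : Z ≤ L := h.le.trans hQL
  have hQZ : Q₀ ≤ normalizer (Z : Set Γ) := fun g hg => mem_normalizer_fintype fun z hz => by
    have := Z.mul_mem (h.comm (commutator_mem_commutator hg (h.le hz))) hz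
    rwa [commutatorElement_def, inv_mul_cancel_right] at this
  have hZn : (Z.subgroupOf L).Normal :=
    (normal_subgroupOf_iff_le_normalizer hZL).mpr (sup_le h.nZ hQZ)
  have hQn : (Q₀.subgroupOf L).Normal :=
    (normal_subgroupOf_iff_le_normalizer hQL).mpr (sup_le h.nQ le_normalizer)
  let π := QuotientGroup.mk' (Z.subgroupOf L)
  have hπ : ∀ E : Subgroup Γ, (hE : E ≤ B) → (E.subgroupOf B).map (π.comp (inclusion le_sup_left)) =
      (E.subgroupOf L).map π := fun E hE => by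
    rw [← map_map]
    congr 1
    ext t
    constructor
    · rintro ⟨s, hs, rfl⟩; exact hs
    · exact fun ht => ⟨⟨t, hE ht⟩, ht, rfl⟩
  have hcomm : ∀ E : Subgroup Γ, E ≤ B → ⁅Q₀.subgroupOf L, E.subgroupOf L⁆ = ⁅Q₀, E⁆.subgroupOf L :=
    fun E hE => by
      apply map_injective L.subtype_injective
      rw [map_commutator, map_subgroupOf_eq_of_le hQL, map_subgroupOf_eq_of_le (hE.trans le_sup_left),
        map_subgroupOf_eq_of_le ((Solv.commutator_le_of_le_normalizer (hE.trans h.nQ)).trans hQL)]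
  refine ⟨B, L ⧸ Z.subgroupOf L, inferInstance, inferInstance, π.comp (inclusion le_sup_left),
    (Q₀.subgroupOf L).map π, hBX, ⟨⟨⟨?_⟩⟩, ?_⟩, hQn.map π (QuotientGroup.mk'_surjective _),
    fun hDB => ⟨fun h0 => hne hDB ?_, ?_⟩, fun g hg hgp hgB c hc h0 => hc ?_, fun x hx e hT => ?_⟩
  · rintro ⟨_, a, ha, rfl⟩ ⟨_, b, hb, rfl⟩
    refine Subtype.ext (commutatorElement_eq_one_iff_mul_comm.mp ?_)
    exact (map_commutatorElement π a b).symm.trans
      ((QuotientGroup.eq_one_iff _).mpr (h.comm (commutator_mem_commutator ha hb)))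
  · rintro _ ⟨a, ha, rfl⟩
    exact (map_pow π a q).symm.trans ((QuotientGroup.eq_one_iff _).mpr (h.pow a ha))
  · rw [Subgroup.map_eq_bot_iff, QuotientGroup.ker_mk'] at h0
    exact fun t ht => h0 (show (⟨t, hQL ht⟩ : L) ∈ Q₀.subgroupOf L from ht)
  · rw [hπ D hDB, ← map_commutator, hcomm D hDB, hQD]
  · have h0' : (ρ' g - 1) ^ (p - 1) * (ρ' c - 1) = 0 := by
      have : (ρ' g - 1) ^ (p - 1) * (ρ' c - 1) = Ψ ((ρ g - 1) ^ (p - 1) * (ρ c - 1)) := by
        rw [map_mul, map_pow, map_sub, map_sub, map_one]; rfl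
      rw [this, h0, map_zero]
    obtain ⟨a, ha, ha'⟩ := hl g hg hgp
    have hc1 : zpowers (c : Γ) ≤ fixer ρ' Y := zpowers_le.mpr fun w hw => by
      by_contra h1
      refine ha' (ρ' c w - w) (Y.sub_mem (h.invB c c.2 w hw) hw) 1 Nat.one_pos
        (by simpa using sub_ne_zero.mpr h1) ?_
      have h2 : p ≤ p ^ a := Nat.le_self_pow (fun h0 => hgB (by simpa [h0] using ha)) p
      rw [mul_one, show p ^ a - 1 = (p ^ a - p) + (p - 1) by have := hp.out.pos; omega, pow_add,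
        End.mul_apply, show ((ρ' g - 1) ^ (p - 1)) (ρ' c w - w) = 0 from LinearMap.congr_fun h0' w,
        map_zero]
    have hE : zpowers (c : Γ) ≤ B := zpowers_le.mpr c.2
    have h1 : zpowers ((π.comp (inclusion le_sup_left)) c) = ((zpowers (c : Γ)).subgroupOf L).map π := by
      rw [← hπ _ hE, ← MonoidHom.map_zpowers]
      congr 1
      apply map_injective B.subtype_injective
      rw [MonoidHom.map_zpowers, map_subgroupOf_eq_of_le hE]
      rfl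
    rw [h1, ← map_commutator, hcomm _ hE, Subgroup.map_eq_bot_iff, QuotientGroup.ker_mk']
    refine comap_mono (commutator_le.mpr fun t ht y hy => ?_)
    have hm : ⁅t, y⁆ ∈ Q₀ := Solv.commutator_le_of_le_normalizer (hE.trans h.nQ)
      (commutator_mem_commutator ht hy)
    have hfix : ∀ w ∈ Y, ρ' ⁅t, y⁆ w = w := fun w hw => by
      rw [commutatorElement_def, apply_mul, apply_mul, apply_mul, hc1 (inv_mem hy) w hw,
        hc1 hy _ (h.invQ _ (inv_mem ht) w hw), apply_apply_inv]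
    exact h.nondeg _ hm fun s hs w hw => by
      rw [apply_mul, apply_mul, hfix w hw, hfix _ (h.invQ s hs w hw)]
  · have hT' : (ρ' x - 1) ^ (p ^ e - 1) = 0 := by
      have : (ρ' x - 1) ^ (p ^ e - 1) = Ψ ((ρ x - 1) ^ (p ^ e - 1)) := by
        rw [map_pow, map_sub, map_one]; rfl
      rw [this, hT, map_zero]
    have hxe : x ^ p ^ e = 1 := hρ (by
      rw [map_pow, map_one, ← sub_eq_zero, ← sub_one_pow_char_pow (F := F) p,
        ← Nat.sub_add_cancel (pow_pos hp.out.pos e), pow_succ, hT, zero_mul])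
    obtain ⟨a, n, hae, hb, hw⟩ := hl.level h.ne_bot hx hxe hT'
    refine ⟨a, n, hb, hae, ?_⟩
    have hE : zpowers ((x ^ p ^ a) ^ p ^ n) ≤ B := zpowers_le.mpr (B.pow_mem hb _)
    have h1 : zpowers ((π.comp (inclusion le_sup_left)) ⟨_, hb⟩ ^ p ^ n) =
        ((zpowers ((x ^ p ^ a) ^ p ^ n)).subgroupOf L).map π := by
      rw [← hπ _ hE, ← map_pow, ← MonoidHom.map_zpowers]
      congr 1
      apply map_injective B.subtype_injective
      rw [MonoidHom.map_zpowers, map_subgroupOf_eq_of_le hE]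
      rfl
    have h2 : Nat.card (⁅(Q₀.subgroupOf L).map π, zpowers ((π.comp (inclusion le_sup_left)) ⟨_, hb⟩ ^ p ^ n)⁆ :
        Subgroup _) = Z.relIndex (⁅Q₀, zpowers ((x ^ p ^ a) ^ p ^ n)⁆ ⊔ Z) := by
      rw [h1, ← map_commutator, hcomm _ hE, ← relIndex_ker, QuotientGroup.ker_mk',
        ← relIndex_sup_right, ← subgroupOf_sup ((Solv.commutator_le_of_le_normalizer
          (hE.trans h.nQ)).trans hQL) hZL, relIndex_subgroupOf (sup_le
          ((Solv.commutator_le_of_le_normalizer (hE.trans h.nQ)).trans hQL) hZL)]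
    rw [h2]
    exact (h.card ρ' hpq hb hw).imp_left fun h3 => relIndex_eq_one.mpr (sup_le h3 le_rfl)

end Cfsg.Agent.PLocal.HH
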