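import Mathlib
import Cfsg.Agent.PLocal.HallHigman
import Cfsg.Agent.PLocal.PSolvRed

/-!
The faithful module `O_{p',p}(G) / Φ` for `G / O_{p',p}(G)` and the exponent part of Hall–Higman
Theorem A in the non-exceptional case.
-/

namespace Cfsg.Agent.PLocal.HH

open Module Subgroup
open scoped commutatorElement

universe u

variable {G : Type u} [Group G] {p : ℕ}

theorem pCore_quotient_pPrimePCore : pCore p (G ⧸ pPrimePCore p G) = ⊥ :=
  pCore_quotient_eq_bot_iff.mpr (relCore_relCore (pPrimeCore p G))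

theorem exists_hh_rep [Finite G] [Fact p.Prime] (hG : IsPConstrained p G) :
    ∃ (X : Type u) (_ : Group X) (_ : Finite X) (f : G →* X) (hEA : IsElementaryAbelian p (pCore p X))
      (σ : G ⧸ pPrimePCore p G →* End (ZMod p) (EA hEA)), Function.Surjective f ∧
      (pCore p X).comap f = pPrimePCore p G ∧ centralizer (pCore p X : Set X) ≤ pCore p X ∧
      Function.Injective σ ∧
      ∀ (g : G) (v : EA hEA), (σ (QuotientGroup.mk g) v).val = f g * v.val * (f g)⁻¹ := by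
  obtain ⟨X, _, _, f, hf, hcomap, hEA, hC⟩ := exists_frattini_reduction hG
  let ρ : G →* End (ZMod p) (EA hEA) :=
    (EA.rep hEA ⊤ le_normalizer_of_normal).comp (f.codRestrict ⊤ fun _ => mem_top _)
  have hρ : ∀ g, ρ g = 1 ↔ g ∈ pPrimePCore p G := fun g => by
    rw [← hcomap, mem_comap]
    exact (EA.rep_eq_one_iff le_normalizer_of_normal _).trans ⟨fun h => hC h, fun h => isEA_le_centralizer hEA h⟩
  refine ⟨X, inferInstance, inferInstance, f, hEA,
    QuotientGroup.lift _ ρ fun g hg => (hρ g).mpr hg, hf, hcomap, hC, ?_, fun g v => rfl⟩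
  rw [injective_iff_map_eq_one]
  intro a ha
  obtain ⟨a, rfl⟩ := QuotientGroup.mk_surjective a
  exact (QuotientGroup.eq_one_iff a).mpr ((hρ a).mp ha)

theorem val_mul_pow {X : Type*} [Group X] {V : Subgroup X} {hV : IsElementaryAbelian p V}
    {T : End (ZMod p) (EA hV)} {a : X} (hT : ∀ v, (T v).val = a * v.val * a⁻¹) (v : EA hV) (m : ℕ) :
    (v.val * a) ^ m = ((∑ i ∈ Finset.range m, T ^ i) v).val * a ^ m := by
  have h1 : ∀ i, ((T ^ i) v).val = a ^ i * v.val * (a ^ i)⁻¹ := by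
    intro i
    induction i with
    | zero => simp
    | succ i ih => rw [pow_succ', End.mul_apply, hT, ih, pow_succ']; group
  induction m with
  | zero => simp
  | succ m ih =>
    rw [pow_succ, ih, Finset.sum_range_succ, LinearMap.add_apply, EA.val_add, h1, pow_succ]
    group

theorem theoremB_succ {F : Type*} [Field F] [hp : Fact p.Prime] [CharP F p] {Γ : Type*} [Group Γ]
    [Finite Γ] {W : Type*} [AddCommGroup W] [Module F W] [FiniteDimensional F W]
    (ρ : Γ →* End F W) (hρ : Function.Injective ρ) (hsol : IsPSolvable p Γ) (hO : pCore p Γ = ⊥)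
    {x : Γ} {n : ℕ} (hx : orderOf x = p ^ (n + 1)) :
    (ρ x - 1) ^ (p ^ (n + 1) - 1) ≠ 0 ∨ ∃ n₀ q m : ℕ, 1 ≤ n₀ ∧ n₀ ≤ n + 1 ∧ q.Prime ∧ 1 ≤ m ∧
      p ^ n₀ - 1 = q ^ m ∧ (∀ S : Sylow q Γ, ¬ IsMulCommutative S) ∧
      (ρ x - 1) ^ (p ^ (n + 1 - n₀) * (p ^ n₀ - 1) - 1) ≠ 0 := by
  have : Nontrivial W := by
    by_contra h
    rw [not_nontrivial_iff_subsingleton] at h
    rw [show x = 1 from hρ (Subsingleton.elim _ _), orderOf_one] at hx
    exact (Nat.one_lt_pow (Nat.succ_ne_zero n) hp.out.one_lt).ne hx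
  exact theoremB ρ hρ hsol hO hx

/-- For odd `p` the minimal polynomial of an element of order `p ^ (n + 1)` has degree at least
`p ^ n * (p - 1)`. -/
theorem theoremB_weak {F : Type*} [Field F] [hp : Fact p.Prime] [CharP F p] {Γ : Type*} [Group Γ]
    [Finite Γ] {W : Type*} [AddCommGroup W] [Module F W] [FiniteDimensional F W]
    (ρ : Γ →* End F W) (hρ : Function.Injective ρ) (hsol : IsPSolvable p Γ) (hO : pCore p Γ = ⊥)
    {x : Γ} {n : ℕ} (hx : orderOf x = p ^ (n + 1)) : (ρ x - 1) ^ (p ^ n * (p - 1) - 1) ≠ 0 := by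
  have key : ∀ n₀, 1 ≤ n₀ → n₀ ≤ n + 1 → p ^ n * (p - 1) ≤ p ^ (n + 1 - n₀) * (p ^ n₀ - 1) := by
    intro n₀ h1 h2
    rw [Nat.mul_sub, Nat.mul_sub, ← pow_add, ← pow_succ, Nat.sub_add_cancel h2, mul_one, mul_one]
    exact Nat.sub_le_sub_left (Nat.pow_le_pow_right hp.out.pos (by omega)) _
  intro h0
  rcases theoremB_succ ρ hρ hsol hO hx with h | ⟨n₀, q, m, h1, h2, -, -, -, -, h⟩
  · refine h (pow_eq_zero_of_le (Nat.sub_le_sub_right ?_ 1) h0)
    rw [pow_succ]
    exact Nat.mul_le_mul_left _ (Nat.sub_le p 1)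
  · exact h (pow_eq_zero_of_le (Nat.sub_le_sub_right (key n₀ h1 h2) 1) h0)

/-- All `p`-elements have order dividing `p ^ e`. -/
def ExpLE (p e : ℕ) (G : Type*) [Group G] : Prop := ∀ g : G, (∃ j, g ^ p ^ j = 1) → g ^ p ^ e = 1

theorem exists_lift_pElement [Finite G] [Fact p.Prime] {H : Type*} [Group H] (f : G →* H)
    (hf : Function.Surjective f) {y : H} (hy : ∃ j, y ^ p ^ j = 1) :
    ∃ x : G, (∃ j, x ^ p ^ j = 1) ∧ f x = y := by
  obtain ⟨j, hj⟩ := hy
  obtain ⟨Q, hQ, hQf⟩ := exists_isPGroup_map_eq f hf (isPGroup_zpowers_of_pow_eq_one hj)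
  obtain ⟨x, hx, rfl⟩ : y ∈ Q.map f := hQf ▸ mem_zpowers y
  exact ⟨x, isPGroup_subgroup_iff.mp hQ x hx, rfl⟩

theorem ExpLE.of_surjective [Finite G] [Fact p.Prime] {e : ℕ} (h : ExpLE p e G) {H : Type*} [Group H]
    (f : G →* H) (hf : Function.Surjective f) : ExpLE p e H := fun y hy => by
  obtain ⟨x, hx, rfl⟩ := exists_lift_pElement f hf hy
  rw [← map_pow, h x hx, map_one]

theorem expLE_of_sylow {e : ℕ} (h : ∀ P : Sylow p G, ∀ x ∈ (P : Subgroup G), x ^ p ^ e = 1) :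
    ExpLE p e G := fun g ⟨_, hj⟩ => by
  obtain ⟨P, hP⟩ := (isPGroup_zpowers_of_pow_eq_one hj).exists_le_sylow
  exact h P g (hP (mem_zpowers g))

theorem pLengthLE_zero_of_expLE [Finite G] [hp : Fact p.Prime] (h : ExpLE p 0 G) : PLengthLE p 0 G := by
  rw [pLengthLE_zero_iff, Nat.coprime_comm, Nat.Prime.coprime_iff_not_dvd hp.out]
  intro hd
  obtain ⟨g, hg⟩ := exists_prime_orderOf_dvd_card' p hd
  have := h g ⟨1, by rw [pow_one, ← hg, pow_orderOf_eq_one]⟩
  rw [pow_zero, pow_one] at this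
  rw [this, orderOf_one] at hg
  exact hp.out.one_lt.ne hg

theorem pElement_mul_of_normal [Fact p.Prime] {V : Subgroup G} [V.Normal] (hV : IsPGroup p V) {v a : G}
    (hv : v ∈ V) (ha : ∃ j, a ^ p ^ j = 1) : ∃ j, (v * a) ^ p ^ j = 1 := by
  obtain ⟨j, hj⟩ := ha
  exact isPGroup_subgroup_iff.mp
    (IsPGroup.to_sup_of_normal_left hV (isPGroup_zpowers_of_pow_eq_one hj)) _
    (mul_mem (mem_sup_left hv) (mem_sup_right (mem_zpowers a)))

/-- If all `p`-elements have order dividing `p ^ e` then `(a - 1) ^ (p ^ e - 1)` vanishes on a normal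
elementary abelian subgroup for every `p`-element `a`. -/
theorem ExpLE.sub_one_pow_eq_zero [Fact p.Prime] {e : ℕ} (h : ExpLE p e G) {V : Subgroup G} [V.Normal]
    {hV : IsElementaryAbelian p V} {T : End (ZMod p) (EA hV)} {a : G}
    (hT : ∀ v, (T v).val = a * v.val * a⁻¹) (ha : ∃ j, a ^ p ^ j = 1) : (T - 1) ^ (p ^ e - 1) = 0 := by
  ext v
  have h1 := val_mul_pow hT v (p ^ e)
  rw [h _ (pElement_mul_of_normal (isEA_isPGroup hV) v.val_mem ha), h a ha, mul_one,
    ← sub_one_pow_eq_sum (F := ZMod p) p] at h1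
  exact h1.symm

/-- No exceptional case of the Hall–Higman theorem can occur. -/
def NoExc (p : ℕ) (G : Type*) [Group G] : Prop :=
  ∀ n₀ q m : ℕ, 1 ≤ n₀ → q.Prime → 1 ≤ m → p ^ n₀ - 1 = q ^ m → ∃ S : Sylow q G, IsMulCommutative S

theorem NoExc.of_surjective [Finite G] (h : NoExc p G) {H : Type*} [Group H] (f : G →* H)
    (hf : Function.Surjective f) : NoExc p H := fun n₀ q m h1 h2 h3 h4 => by
  have := Fact.mk h2
  obtain ⟨S, hS⟩ := h n₀ q m h1 h2 h3 h4
  exact ⟨S.mapSurjective hf, sylow_isMulCommutative_of_surjective S hS f hf _⟩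

theorem eq_two_of_pow_sub_one {n₀ q m : ℕ} (hp : Odd p) (h1 : 1 ≤ n₀) (hq : q.Prime) (hm : 1 ≤ m)
    (h : p ^ n₀ - 1 = q ^ m) : q = 2 ∧ ∃ k, p = 2 ^ k + 1 := by
  have hpos : 1 ≤ p := hp.pos
  have h2 : 2 ∣ q ^ m := h ▸ (Nat.Odd.sub_odd hp.pow odd_one).two_dvd
  have h3 : q = 2 := ((Nat.prime_dvd_prime_iff_eq Nat.prime_two hq).mp
    (Nat.prime_two.dvd_of_dvd_pow h2)).symm
  subst h3
  have h4 : p - 1 ∣ 2 ^ m := by
    have := Nat.sub_one_dvd_pow_sub_one p n₀
    rwa [h] at this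
  obtain ⟨k, -, hk⟩ := (Nat.dvd_prime_pow Nat.prime_two).mp h4
  exact ⟨rfl, k, by omega⟩

theorem noExc_of_not_fermat (hp : Odd p) (h : ¬ ∃ k, p = 2 ^ k + 1) : NoExc p G :=
  fun _ _ _ h1 h2 h3 h4 => absurd (eq_two_of_pow_sub_one hp h1 h2 h3 h4).2 h

theorem noExc_of_sylow_two (hp : Odd p) (h : ∀ S : Sylow 2 G, IsMulCommutative S) : NoExc p G :=
  fun _ _ _ h1 h2 h3 h4 => by
    obtain ⟨rfl, -⟩ := eq_two_of_pow_sub_one hp h1 h2 h3 h4
    exact ⟨default, h _⟩

theorem ExpLE.quotient_of_noExc [Finite G] [hp : Fact p.Prime] (hG : IsPSolvable p G) (hn : NoExc p G)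
    {e : ℕ} (h : ExpLE p (e + 1) G) : ExpLE p e (G ⧸ pPrimePCore p G) := by
  obtain ⟨X, _, _, f, hEA, σ, hf, -, -, hσ, hval⟩ := exists_hh_rep (isPConstrained_of_isPSolvable hG)
  intro y hy
  obtain ⟨x, ⟨j, hj⟩, rfl⟩ := exists_lift_pElement _ (QuotientGroup.mk'_surjective _) hy
  by_contra hne
  have h1 : orderOf (QuotientGroup.mk' (pPrimePCore p G) x) = p ^ (e + 1) :=
    orderOf_eq_prime_pow hne (by rw [← map_pow, h x ⟨j, hj⟩, map_one])
  rcases theoremB_succ σ hσ (IsPSolvable.quotient hG _) pCore_quotient_pPrimePCore h1 with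
    h2 | ⟨n₀, q, m, h2, -, h3, h4, h5, h6, -⟩
  · exact h2 ((h.of_surjective f hf).sub_one_pow_eq_zero (hval x)
      ⟨j, by rw [← map_pow, hj, map_one]⟩)
  · obtain ⟨S, hS⟩ := hn.of_surjective _ (QuotientGroup.mk'_surjective (pPrimePCore p G))
      n₀ q m h2 h3 h4 h5
    exact h6 S hS

/-- Hall–Higman Theorem A, exponent part, non-exceptional case. -/
theorem pLengthLE_of_expLE_of_noExc [Fact p.Prime] (e : ℕ) : ∀ {G : Type u} [Group G] [Finite G],
    IsPSolvable p G → NoExc p G → ExpLE p e G → PLengthLE p e G := by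
  induction e with
  | zero => exact fun _ _ h => pLengthLE_zero_of_expLE h
  | succ e ih =>
    intro G _ _ hG hn h
    exact pLengthLE_succ_iff.mpr (ih (IsPSolvable.quotient hG _)
      (hn.of_surjective _ (QuotientGroup.mk'_surjective _)) (h.quotient_of_noExc hG hn))

end Cfsg.Agent.PLocal.HH
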