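import Mathlib
import Cfsg.Agent.PLocal.HHRed
import Cfsg.Agent.PLocal.HHExp
import Cfsg.Agent.Solv.Coprime3
import Cfsg.Agent.Grp.CardProduct
import Cfsg.Agent.Block.FixCount
import Cfsg.Agent.S0126

/-!
Elements of a `p`-group (`p` odd) with small commutator subgroup on an abelian `p'`-group commute.
-/

namespace Cfsg.Agent.PLocal.HH

open Subgroup
open scoped commutatorElement

universe u

variable {Γ : Type u} [Group Γ] {p : ℕ}

/-- `y` is a `p ^ n`-th power in `B` with `|[A, y]| < p ^ (2 * (n + 1))`. -/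
def Small (p : ℕ) (B A : Subgroup Γ) (y : Γ) : Prop :=
  ∃ h ∈ B, ∃ n, y = h ^ p ^ n ∧ Nat.card (⁅A, zpowers y⁆ : Subgroup Γ) < p ^ (2 * (n + 1))

theorem Small.mem {B A : Subgroup Γ} {y : Γ} (h : Small p B A y) : y ∈ B := by
  obtain ⟨h, hh, n, rfl, -⟩ := h
  exact B.pow_mem hh _

theorem Small.mono [Finite Γ] {B A A' : Subgroup Γ} {y : Γ} (h : Small p B A y) (hA : A' ≤ A) :
    Small p B A' y := by
  obtain ⟨h, hh, n, h1, h2⟩ := h
  exact ⟨h, hh, n, h1, (card_le_of_le (commutator_mono hA le_rfl)).trans_lt h2⟩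

theorem commutator_mem_center_of_card_sq [Finite Γ] [hp : Fact p.Prime] {B E : Subgroup Γ}
    (hB : IsPGroup p B) (hEB : E ≤ B) (hn : B ≤ normalizer (E : Set Γ)) (hE : Nat.card E = p ^ 2) :
    ⁅E, B⁆ ≤ centralizer (B : Set Γ) := by
  have hEp := hB.to_le hEB
  have h1 := Solv.commutator_lt_of_isPGroup hEp hB hn (fun h => by
    rw [h, card_bot] at hE; exact (Nat.one_lt_pow two_ne_zero hp.out.one_lt).ne hE)
  rw [← commutator_eq_bot_iff_le_centralizer]
  by_cases h0 : ⁅E, B⁆ = ⊥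
  · rw [h0, commutator_bot_left]
  have h2 := Solv.commutator_lt_of_isPGroup (hEp.to_le h1.le) hB
    (Solv.le_normalizer_commutator_right E B) h0
  obtain ⟨i, hi⟩ := IsPGroup.iff_card.mp (hEp.to_le h1.le)
  obtain ⟨j, hj⟩ := IsPGroup.iff_card.mp (hEp.to_le (h2.le.trans h1.le))
  have h3 := Grp.card_lt_of_lt h1
  have h4 := Grp.card_lt_of_lt h2
  rw [hi, hE, Nat.pow_lt_pow_iff_right hp.out.one_lt] at h3
  rw [hi, hj, Nat.pow_lt_pow_iff_right hp.out.one_lt] at h4
  obtain rfl : j = 0 := by omega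
  exact card_eq_one.mp hj

section Step

variable [Finite Γ] [hp : Fact p.Prime] {B A : Subgroup Γ} (hB : IsPGroup p B) [IsMulCommutative A]
  (hBA : B ≤ normalizer (A : Set Γ))
  (hfpf : ∀ z ∈ B, z ∈ centralizer (B : Set Γ) → z ≠ 1 → A ⊓ centralizer {z} = ⊥)
  {f : Γ} (hf : f ∈ B) (hfp : f ^ p = 1) (hfc : ∀ h ∈ B, ⁅h, f⁆ ∈ centralizer (B : Set Γ))

include hfpf in
omit [Finite Γ] hp [IsMulCommutative A] in
theorem eq_one_of_fix_fix {g z : Γ} (hz : z ∈ B) (hzc : z ∈ centralizer (B : Set Γ)) (hz1 : z ≠ 1)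
    {a : Γ} (ha : a ∈ A) (h1 : a * g = g * a) (h2 : a * (z * g) = z * g * a) : a = 1 := by
  refine mem_bot.mp ((hfpf z hz hzc hz1).le ⟨ha, mem_centralizer_singleton_iff.mpr ?_⟩)
  rw [mul_assoc, ← h1, ← mul_assoc, ← mul_assoc] at h2
  exact mul_right_cancel h2

include hf hfp hfc in
omit [Finite Γ] hp in
theorem pow_commute_of_central {h : Γ} (hh : h ∈ B) : h ^ p * f = f * h ^ p := by
  have h1 : ∀ k, h * f ^ k = ⁅h, f⁆ ^ k * f ^ k * h := fun k => by
    have h2 : Commute ⁅h, f⁆ f := (hfc h hh f hf).symm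
    rw [← h2.mul_pow, show ⁅h, f⁆ * f = h * f * h⁻¹ by rw [commutatorElement_def]; group, conj_pow]
    group
  have h2 : ⁅h, f⁆ ^ p = 1 := by
    have := h1 p
    rw [hfp, mul_one, mul_one] at this
    exact mul_eq_right.mp this.symm
  have h3 : ∀ k, h ^ k * f = ⁅h, f⁆ ^ k * f * h ^ k := fun k => by
    induction k with
    | zero => simp
    | succ k ih =>
      have h4 : Commute h (⁅h, f⁆ ^ k) := Commute.pow_right (hfc h hh h hh) k
      rw [pow_succ' h, mul_assoc, ih, ← mul_assoc, ← mul_assoc, h4.eq, pow_succ, commutatorElement_def]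
      group
  rw [h3, h2, one_mul]

include hB hBA hfpf hf hfp hfc in
theorem Small.step (hp2 : p ≠ 2) {y : Γ} (h : Small p B A y) (h0 : A ⊓ centralizer {f} ≠ ⊥) :
    Small p (B ⊓ centralizer {f}) (A ⊓ centralizer {f}) y := by
  obtain ⟨h, hh, n, hy, hcard⟩ := h
  set A' := A ⊓ centralizer {f} with hA'
  by_cases hhf : h ∈ centralizer {f}
  · exact ⟨h, ⟨hh, hhf⟩, n, hy, (card_le_of_le (commutator_mono inf_le_left le_rfl)).trans_lt hcard⟩
  set z := ⁅h, f⁆ with hz
  have hzB : z ∈ B := B.mul_mem (B.mul_mem (B.mul_mem hh hf) (B.inv_mem hh)) (B.inv_mem hf)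
  have hz1 : z ≠ 1 := fun h1 =>
    hhf (mem_centralizer_singleton_iff.mpr (commutatorElement_eq_one_iff_mul_comm.mp h1))
  have hzc := hfc h hh
  have e1 : h * f * h⁻¹ = z * f := by rw [hz, commutatorElement_def]; group
  have hconj : ∀ g a : Γ, a * g = g * a → h * a * h⁻¹ * (h * g * h⁻¹) = h * g * h⁻¹ * (h * a * h⁻¹) :=
    fun g a ha => by
      rw [show h * a * h⁻¹ * (h * g * h⁻¹) = h * (a * g) * h⁻¹ by group, ha]; group
  set A₁ := A'.map (MulAut.conj h).toMonoidHom with hA₁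
  have hA₁A : A₁ ≤ A := by
    rintro _ ⟨a, ha, rfl⟩
    exact (mem_normalizer_iff.mp (hBA hh) a).mp ha.1
  have hA₁f : ∀ a ∈ A₁, a * (z * f) = z * f * a := by
    rintro _ ⟨a, ha, rfl⟩
    exact e1 ▸ hconj f a (mem_centralizer_singleton_iff.mp ha.2)
  have hdis : A' ⊓ A₁ = ⊥ := (eq_bot_iff_forall _).mpr fun a ha =>
    eq_one_of_fix_fix hfpf hzB hzc hz1 ha.1.1 (mem_centralizer_singleton_iff.mp ha.1.2) (hA₁f a ha.2)
  have hcA₁ : Nat.card A₁ = Nat.card A' := Subgroup.card_map_of_injective (MulAut.conj h).injective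
  have hAc : ∀ g ∈ B, ∀ a ∈ A, g * a * g⁻¹ ∈ A := fun g hg a ha => (mem_normalizer_iff.mp (hBA hg) a).mp ha
  rcases n with _ | n
  · exfalso
    rw [pow_zero, pow_one] at hy
    subst hy
    have hc : ∀ a ∈ A, ∀ b ∈ A, a * b = b * a := fun a ha b hb => setLike_mul_comm ha hb
    have hzf : Commute f z := hzc f hf
    have hz2 : z * z ≠ 1 := fun h1 => by
      obtain ⟨k, hk⟩ := isPGroup_subgroup_iff.mp hB z hzB
      have h2 : orderOf z ∣ 2 := orderOf_dvd_of_pow_eq_one (by rwa [sq])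
      exact hz1 (orderOf_eq_one_iff.mp (Nat.eq_one_of_dvd_coprimes
        (((Nat.coprime_primes hp.out Nat.prime_two).mpr hp2).pow_left k) (orderOf_dvd_of_pow_eq_one hk) h2))
    have hfconj : ∀ g a : Γ, Commute f g → Commute a g → Commute (f * a * f⁻¹) g := fun g a h1 h2 =>
      (h1.mul_left h2).mul_left h1.inv_left
    have hfix : ∀ s ∈ A' ⊔ A₁, s * y = y * s → s = 1 := fun s hs hsy => by
      obtain ⟨a, ha, b, hb, rfl⟩ := exists_mul_of_mem_sup
        (show A₁ ≤ normalizer (A' : Set Γ) from fun b hb => centralizer_le_normalizer _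
          fun a ha => hc a ha.1 b (hA₁A hb)) hs
      have hbA := hA₁A hb
      have haf : Commute a f := mem_centralizer_singleton_iff.mp ha.2
      set u := y * a * y⁻¹ * b⁻¹ with hu
      set v := y * b * y⁻¹ with hv
      have huA : u ∈ A := A.mul_mem (hAc y hh a ha.1) (A.inv_mem hbA)
      have hvA : v ∈ A := hAc y hh b hbA
      have hu1 : Commute u (z * f) :=
        Commute.mul_left (hA₁f _ ⟨a, ha, rfl⟩) (Commute.inv_left (hA₁f b hb))
      have hv1 : Commute v (z * (z * f)) := by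
        have := hconj _ b (hA₁f b hb)
        rwa [show y * (z * f) * y⁻¹ = z * (z * f) by
          rw [← mul_assoc, (hzc y hh : y * z = z * y), mul_assoc z, mul_assoc z, e1]] at this
      have huv : a = u * v := by
        rw [hu, mul_assoc, hc _ (A.inv_mem hbA) v hvA, hv, ← mul_assoc, eq_mul_inv_iff_mul_eq]
        calc a * b = y * (a * b) * y⁻¹ := by rw [← hsy, mul_inv_cancel_right]
          _ = _ := by group
      have hf1 : Commute f (z * f) := hzf.mul_right (Commute.refl f)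
      have e2 : (f * u * f⁻¹)⁻¹ * u = f * v * f⁻¹ * v⁻¹ := by
        have : u * v = f * (u * v) * f⁻¹ := by rw [← huv, ← haf.eq, mul_inv_cancel_right]
        rw [inv_mul_eq_iff_eq_mul, ← mul_assoc, eq_mul_inv_iff_mul_eq, this]
        group
      have hw : (f * u * f⁻¹)⁻¹ * u = 1 := eq_one_of_fix_fix hfpf hzB hzc hz1
        (A.mul_mem (A.inv_mem (hAc f hf u huA)) huA) (g := z * f)
        ((hfconj _ u hf1 hu1).inv_left.mul_left hu1)
        (e2 ▸ (hfconj _ v (hzf.mul_right hf1) hv1).mul_left hv1.inv_left)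
      have hu0 : u = 1 := eq_one_of_fix_fix hfpf hzB hzc hz1 huA (g := f)
        (mul_inv_eq_iff_eq_mul.mp (inv_mul_eq_one.mp hw)).symm hu1
      have hv0 : v = 1 := eq_one_of_fix_fix hfpf (B.mul_mem hzB hzB) (mul_mem hzc hzc) hz2 hvA (g := f)
        (mul_inv_eq_iff_eq_mul.mp (mul_inv_eq_one.mp (e2 ▸ hw))).symm (by rw [mul_assoc z z]; exact hv1)
      rw [huv, hu0, hv0, conj_eq_one_iff.mp hv0, one_mul, one_mul]
    have h1 : Nat.card ↥(A' ⊔ A₁) ≤ Nat.card (⁅A, zpowers y⁆ : Subgroup Γ) :=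
      Nat.card_le_card_of_injective (fun s => ⟨⁅(s : Γ), y⁆, commutator_mem_commutator
        (sup_le inf_le_left hA₁A s.2) (mem_zpowers y)⟩) fun s t hst => by
        have h2 : ⁅(s : Γ), y⁆ = ⁅(t : Γ), y⁆ := congrArg Subtype.val hst
        refine Subtype.ext (inv_mul_eq_one.mp (hfix _ (mul_mem (inv_mem t.2) s.2) ?_)).symm
        calc (t : Γ)⁻¹ * s * y = (t : Γ)⁻¹ * ⁅(s : Γ), y⁆ * y * s := by rw [commutatorElement_def]; group
          _ = _ := by rw [h2, commutatorElement_def]; group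
    have h2 := Grp.card_mul_card_le A' A₁
    rw [hdis, card_bot, one_mul, hcA₁] at h2
    have h3 := Block.card_modEq_card_centralizer (hB.to_le (zpowers_le.mpr hzB)) (fun x => x ∈ A')
      (fun u hu x hx => ⟨hAc u (zpowers_le.mpr hzB hu) x hx.1, mem_centralizer_singleton_iff.mpr (by
        have h4 : Commute u f := (zpowers_le.mpr hzc hu f hf).symm
        exact ((h4.mul_left (mem_centralizer_singleton_iff.mp hx.2)).mul_left h4.inv_left).eq)⟩)
    have h4 : Nat.card {x // x ∈ A' ∧ x ∈ centralizer (zpowers z : Set Γ)} = 1 := by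
      rw [Nat.card_eq_one_iff_exists]
      refine ⟨⟨1, one_mem _, one_mem _⟩, fun x => Subtype.ext (mem_bot.mp ((hfpf z hzB hzc hz1).le
        ⟨x.2.1.1, mem_centralizer_singleton_iff.mpr (x.2.2 z (mem_zpowers z)).symm⟩))⟩
    rw [h4] at h3
    have h5 : 1 < Nat.card A' := (one_lt_card_iff_ne_bot _).mpr h0
    have h6 : p ≤ Nat.card A' - 1 :=
      Nat.le_of_dvd (by omega) ((Nat.modEq_iff_dvd' h5.le).mp h3.symm)
    have h7 : p * p ≤ Nat.card A' * Nat.card A' := Nat.mul_le_mul (by omega) (by omega)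
    rw [zero_add, mul_one, sq] at hcard
    omega
  · refine ⟨h ^ p, ⟨B.pow_mem hh _, mem_centralizer_singleton_iff.mpr
      (pow_commute_of_central hf hfp hfc hh)⟩, n, by rw [hy, ← pow_mul, ← pow_succ'], ?_⟩
    have hyB : y ∈ B := hy ▸ B.pow_mem hh _
    have hyf : Commute y f := by
      rw [hy, pow_succ', pow_mul]
      exact Commute.pow_left (pow_commute_of_central hf hfp hfc hh) _
    have hU : ⁅A', zpowers y⁆ ≤ A' := Solv.commutator_le_of_le_normalizer (zpowers_le.mpr
      (mem_normalizer_fintype fun a ha => ⟨hAc y hyB a ha.1, mem_centralizer_singleton_iff.mpr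
        ((hyf.mul_left (mem_centralizer_singleton_iff.mp ha.2)).mul_left hyf.inv_left).eq⟩))
    have e2 : (⁅A', zpowers y⁆).map (MulAut.conj h).toMonoidHom = ⁅A₁, zpowers y⁆ := by
      rw [map_commutator, MonoidHom.map_zpowers]
      congr 2
      exact mul_inv_eq_iff_eq_mul.mpr (hy ▸ ((Commute.refl h).pow_right _).eq)
    have h2 := Grp.card_mul_card_le_of_le (commutator_mono (show A' ≤ A from inf_le_left) (le_refl (zpowers y)))
      (commutator_mono hA₁A (le_refl (zpowers y)))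
    rw [le_bot_iff.mp ((inf_le_inf hU (e2 ▸ map_mono hU)).trans hdis.le), card_bot, one_mul, ← e2,
      Subgroup.card_map_of_injective (f := (MulAut.conj h).toMonoidHom) (MulAut.conj h).injective] at h2
    have h3 := h2.trans_lt hcard
    rw [mul_comm 2, pow_mul, sq] at h3
    exact (Nat.mul_self_lt_mul_self_iff.mp h3).trans_le (Nat.pow_le_pow_right hp.out.pos (by omega))

end Step

/-- The statement proved by induction. -/
def SmallGen (p k : ℕ) : Prop :=
  ∀ (Γ : Type u) [Group Γ] [Finite Γ] (B A : Subgroup Γ), Nat.card B + Nat.card A < k → IsPGroup p B →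
    IsMulCommutative A → (Nat.card A).Coprime p → B ≤ normalizer (A : Set Γ) →
    ∀ y₁ y₂, Small p B A y₁ → Small p B A y₂ → A ≤ centralizer {⁅y₁, y₂⁆}

theorem small_faithful [Finite Γ] [hp : Fact p.Prime] (hp2 : p ≠ 2) {k : ℕ} (ih : SmallGen.{u} p k)
    {B A : Subgroup Γ} (hk : Nat.card B + Nat.card A ≤ k) (hB : IsPGroup p B) [IsMulCommutative A]
    (hA : (Nat.card A).Coprime p) (hBA : B ≤ normalizer (A : Set Γ))
    (hC : B ⊓ centralizer (A : Set Γ) = ⊥) {y₁ y₂ : Γ} (h₁ : Small p B A y₁) (h₂ : Small p B A y₂) :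
    A ≤ centralizer {⁅y₁, y₂⁆} := by
  have hsub : ∀ B' A' : Subgroup Γ, B' ≤ B → A' < A → B' ≤ normalizer (A' : Set Γ) → Small p B' A' y₁ →
      Small p B' A' y₂ → A' ≤ centralizer {⁅y₁, y₂⁆} := fun B' A' h1 h2 h3 h4 h5 =>
    ih Γ B' A' (by have := card_le_of_le h1; have := Grp.card_lt_of_lt h2; omega) (hB.to_le h1)
      (le_centralizer_iff_isMulCommutative.mp (h2.le.trans (A.le_centralizer.trans (centralizer_le h2.le))))
      (hA.coprime_dvd_left (card_dvd_of_le h2.le)) h3 y₁ y₂ h4 h5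
  have hlt : ∀ z ∈ B, z ≠ 1 → A ⊓ centralizer {z} < A := fun z hz hz1 =>
    lt_of_le_of_ne inf_le_left fun h => hz1 (mem_bot.mp (hC.le ⟨hz, fun a ha =>
      mem_centralizer_singleton_iff.mp (h.ge ha).2⟩))
  have hcop : ∀ E ≤ B, (Nat.card E).Coprime (Nat.card A) := fun E hE =>
    (Solv.coprime_card_of_isPGroup (hB.to_le hE) hA).symm
  by_cases hfpf : ∀ z ∈ B, z ∈ centralizer (B : Set Γ) → z ≠ 1 → A ⊓ centralizer {z} = ⊥
  swap
  · push Not at hfpf
    obtain ⟨z, hz, hzc, hz1, h0⟩ := hfpf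
    have hzA := (zpowers_le.mpr hz).trans hBA
    have hBz : B ≤ normalizer (zpowers z : Set Γ) :=
      (le_centralizer_iff.mp (zpowers_le.mpr hzc)).trans (centralizer_le_normalizer _)
    rw [← centralizer_zpowers_eq] at h0
    rw [← Solv.coprime_commutator_sup_centralizer _ A hzA (hcop _ (zpowers_le.mpr hz))
      (Or.inr (Solv.isSolvable_of_isMulCommutative A))]
    have hle := Solv.commutator_le_of_le_normalizer hzA
    refine sup_le (hsub B _ le_rfl (lt_of_le_of_ne hle fun h => h0 ?_)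
      (Solv.le_normalizer_commutator hBA hBz) (h₁.mono hle) (h₂.mono hle))
      (hsub B _ le_rfl (centralizer_zpowers_eq z ▸ hlt z hz hz1)
        (Solv.le_normalizer_inf hBA (Solv.le_normalizer_centralizer hBz)) (h₁.mono inf_le_left)
        (h₂.mono inf_le_left))
    have := Solv.coprime_centralizer_inf_commutator _ A hzA (hcop _ (zpowers_le.mpr hz))
    rwa [h, inf_eq_left.mpr inf_le_left] at this
  by_cases hcyc : IsCyclic B
  · have : ⁅y₁, y₂⁆ = 1 := commutatorElement_eq_one_iff_mul_comm.mpr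
      (congrArg Subtype.val (hcyc.isMulCommutative.is_comm.comm (⟨y₁, h₁.mem⟩ : B) ⟨y₂, h₂.mem⟩))
    exact fun a _ => mem_centralizer_singleton_iff.mpr (by rw [this, mul_one, one_mul])
  obtain ⟨E₀, hE₀n, hE₀, hE₀c⟩ := S0126.result hp2 hB hcyc
  set E := E₀.map B.subtype with hE
  have hEB : E ≤ B := map_subtype_le _
  have hBE : B ≤ normalizer (E : Set Γ) := by
    have := le_normalizer_map (H := E₀) B.subtype
    rwa [normalizer_eq_top, ← MonoidHom.range_eq_map, range_subtype] at this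
  have hEc : Nat.card E = p ^ 2 := (Subgroup.card_map_of_injective B.subtype_injective).trans hE₀c
  have hEp : ∀ f ∈ E, f ^ p = 1 := by
    rintro _ ⟨f, hf, rfl⟩
    exact congrArg Subtype.val (hE₀.2 f hf)
  have := hE₀.1
  refine Solv.le_of_centralizers_le_of_solvable E A (fun hc => ?_) (hEB.trans hBA) (hcop E hEB)
    (Solv.isSolvable_of_isMulCommutative A) _ fun f hf hf1 => ?_
  · have h1 : Monoid.exponent E ∣ p := Monoid.exponent_dvd_of_forall_pow_eq_one fun g =>
      Subtype.ext (hEp g g.2)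
    rw [hc.exponent_eq_card, hEc] at h1
    exact absurd (Nat.le_of_dvd hp.out.pos h1) (not_le.mpr (by have := hp.out.one_lt; nlinarith))
  by_cases h0 : A ⊓ centralizer {f} = ⊥
  · rw [h0]; exact bot_le
  have hfc : ∀ h ∈ B, ⁅h, f⁆ ∈ centralizer (B : Set Γ) := fun h hh =>
    commutator_mem_center_of_card_sq hB hEB hBE hEc
      (commutator_comm B E ▸ commutator_mem_commutator hh hf)
  exact hsub (B ⊓ centralizer {f}) _ inf_le_left (hlt f (hEB hf) hf1)
    (Solv.le_normalizer_inf (inf_le_left.trans hBA) (inf_le_right.trans le_normalizer))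
    (h₁.step hB hBA hfpf (hEB hf) (hEp f hf) hfc hp2 h0) (h₂.step hB hBA hfpf (hEB hf) (hEp f hf) hfc hp2 h0)

theorem smallGen [hp : Fact p.Prime] (hp2 : p ≠ 2) (k : ℕ) : SmallGen.{u} p k := by
  induction k with
  | zero => intro Γ _ _ B A h; omega
  | succ k ih =>
    intro Γ _ _ B A hk hB hAc hA hBA y₁ y₂ h₁ h₂
    set C := B ⊓ centralizer (A : Set Γ) with hC
    by_cases h0 : C = ⊥
    · exact small_faithful hp2 ih (by omega) hB hA hBA h0 h₁ h₂
    set L := B ⊔ A with hL
    have hBL : B ≤ L := le_sup_left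
    have hAL : A ≤ L := le_sup_right
    have hCn : (C.subgroupOf L).Normal := (normal_subgroupOf_iff_le_normalizer (inf_le_left.trans hBL)).mpr
      (sup_le (Solv.le_normalizer_inf le_normalizer (Solv.le_normalizer_centralizer hBA))
        ((le_centralizer_iff.mp inf_le_right).trans (centralizer_le_normalizer _)))
    let π := QuotientGroup.mk' (C.subgroupOf L)
    have hcomm : ∀ (y : Γ) (hy : y ∈ B), (⁅A.subgroupOf L, zpowers (⟨y, hBL hy⟩ : L)⁆).map L.subtype =
        ⁅A, zpowers y⁆ := fun y hy => by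
      rw [map_commutator, map_subgroupOf_eq_of_le hAL, MonoidHom.map_zpowers]
      rfl
    have hsm : ∀ (y : Γ) (hy : Small p B A y), Small p ((B.subgroupOf L).map π) ((A.subgroupOf L).map π)
        (π ⟨y, hBL hy.mem⟩) := fun y hy => by
      have hm := hy.mem
      obtain ⟨h, hh, n, h1, h2⟩ := hy
      refine ⟨π ⟨h, hBL hh⟩, mem_map_of_mem π hh, n, by rw [← map_pow]; exact congrArg π (Subtype.ext h1), ?_⟩
      rw [← MonoidHom.map_zpowers, ← map_commutator]
      rw [← hcomm y hm, Subgroup.card_map_of_injective L.subtype_injective] at h2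
      exact (Nat.le_of_dvd Nat.card_pos (card_map_dvd _ _)).trans_lt h2
    have hcardA : Nat.card ((A.subgroupOf L).map π) ∣ Nat.card A :=
      Grp.card_subgroupOf_of_le hAL ▸ card_map_dvd _ _
    have hcardB : Nat.card ((B.subgroupOf L).map π) < Nat.card B := by
      rw [← relIndex_ker, QuotientGroup.ker_mk', relIndex_subgroupOf hBL]
      have h1 := relIndex_mul_relIndex ⊥ C B bot_le inf_le_left
      rw [relIndex_bot_left, relIndex_bot_left] at h1
      have h2 : 1 < Nat.card C := (one_lt_card_iff_ne_bot _).mpr h0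
      have h3 : 0 < C.relIndex B := Nat.pos_of_ne_zero index_ne_zero_of_finite
      nlinarith
    have := ih _ ((B.subgroupOf L).map π) ((A.subgroupOf L).map π)
      (by have := Nat.le_of_dvd Nat.card_pos hcardA; omega) (hB.comap_subtype.map π) inferInstance
      (hA.coprime_dvd_left hcardA) ((map_mono fun b hb => mem_normalizer_subgroupOf (hBA hb)).trans
        (le_normalizer_map π)) _ _ (hsm y₁ h₁) (hsm y₂ h₂)
    intro a ha
    have h3 := commutatorElement_eq_one_iff_mul_comm.mpr (mem_centralizer_singleton_iff.mp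
      (this (mem_map_of_mem π (show (⟨a, hAL ha⟩ : L) ∈ A.subgroupOf L from ha))))
    rw [← map_commutatorElement, ← map_commutatorElement] at h3
    have h4 : ⁅a, ⁅y₁, y₂⁆⁆ ∈ C := (QuotientGroup.eq_one_iff (N := C.subgroupOf L) _).mp h3
    have h5 : ⁅a, ⁅y₁, y₂⁆⁆ ∈ A := Solv.commutator_le_of_le_normalizer hBA (commutator_mem_commutator ha
      (commutator_le_self B (commutator_mem_commutator h₁.mem h₂.mem)))
    exact mem_centralizer_singleton_iff.mpr (commutatorElement_eq_one_iff_mul_comm.mp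
      (mem_bot.mp ((Grp.inf_eq_bot_of_isPGroup_of_coprime hB hA).le ⟨h4.1, h5⟩)))

theorem commute_of_small [Finite Γ] [Fact p.Prime] (hp2 : p ≠ 2) {B A : Subgroup Γ} (hB : IsPGroup p B)
    (hAc : IsMulCommutative A) (hA : (Nat.card A).Coprime p) (hBA : B ≤ normalizer (A : Set Γ))
    {y₁ y₂ : Γ} (h₁ : Small p B A y₁) (h₂ : Small p B A y₂) : A ≤ centralizer {⁅y₁, y₂⁆} :=
  smallGen hp2 _ Γ B A (Nat.lt_succ_self _) hB hAc hA hBA y₁ y₂ h₁ h₂

end Cfsg.Agent.PLocal.HH
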