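import Mathlib
import Cfsg.Agent.PLocal.HHSmall

/-!
The Hall–Higman bound `l_p ≤ 2 e_p` for odd `p`.
-/

namespace Cfsg.Agent.PLocal.HH

open Module Subgroup
open scoped commutatorElement

universe u

variable {p : ℕ}

theorem commute_pow_of_sub_one_pow {F : Type*} [Field F] [hp : Fact p.Prime] [CharP F p] (hp2 : p ≠ 2)
    {Γ : Type u} [Group Γ] [Finite Γ] {W : Type*} [AddCommGroup W] [Module F W] [FiniteDimensional F W]
    (ρ : Γ →* End F W) (hρ : Function.Injective ρ) (hsol : IsPSolvable p Γ) (hO : pCore p Γ = ⊥)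
    {P : Subgroup Γ} (hP : IsPGroup p P) {e : ℕ} (hT : ∀ h ∈ P, (ρ h - 1) ^ (p ^ (e + 1) - 1) = 0)
    {h₁ h₂ : Γ} (hh₁ : h₁ ∈ P) (hh₂ : h₂ ∈ P) : Commute (h₁ ^ p ^ e) (h₂ ^ p ^ e) := by
  by_contra hne
  set D := closure {c | ∃ a ∈ P, ∃ b ∈ P, c = ⁅a ^ p ^ e, b ^ p ^ e⁆} with hD
  have hDP : D ≤ P := (closure_le _).mpr (by
    rintro _ ⟨a, ha, b, hb, rfl⟩
    exact commutator_le_self P (commutator_mem_commutator (P.pow_mem ha _) (P.pow_mem hb _)))
  have hPD : P ≤ normalizer (D : Set Γ) := fun g hg => mem_normalizer_fintype fun d hd => by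
    refine ((closure_le (D.comap (MulAut.conj g).toMonoidHom)).mpr ?_ : D ≤ _) hd
    rintro _ ⟨a, ha, b, hb, rfl⟩
    refine subset_closure ⟨g * a * g⁻¹, P.mul_mem (P.mul_mem hg ha) (P.inv_mem hg), g * b * g⁻¹,
      P.mul_mem (P.mul_mem hg hb) (P.inv_mem hg), ?_⟩
    rw [map_commutatorElement, map_pow, map_pow]
    rfl
  obtain ⟨q, hq, hpq, Q, -, hQ, hPQ, hnt⟩ := exists_invariant_qgroup (D := D) hP
    (Grp.pPrimeCore_coprime p Γ) le_normalizer_of_normal fun h => hne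
      (commutatorElement_eq_one_iff_commute.mp (mem_bot.mp
        ((Grp.inf_eq_bot_of_isPGroup_of_coprime hP (Grp.pPrimeCore_coprime p Γ)).le
          ⟨hDP (subset_closure ⟨h₁, hh₁, h₂, hh₂, rfl⟩), centralizer_pPrimeCore_le_of_isPSolvable hsol hO
            (h (subset_closure ⟨h₁, hh₁, h₂, hh₂, rfl⟩))⟩)))
  have := Fact.mk hq
  have hcop : ∀ {K : Type u} [Group K] [Finite K], IsPGroup p K → (Nat.card K).Coprime q := fun hK => by
    obtain ⟨k, hk⟩ := IsPGroup.iff_card.mp hK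
    exact hk ▸ ((Nat.coprime_primes hp.out hq).mpr hpq).pow_left k
  obtain ⟨B, Γ', _, _, f, A, hBP, hA, hAn, hDB, -, hsm⟩ :=
    reduce ρ hρ hpq hQ hPQ hDP hPD (hcop (hP.to_le hDP)) hnt
  have key : ∀ a ∈ P, ∃ hb : a ^ p ^ e ∈ B, Small p f.range A (f ⟨_, hb⟩) := fun a ha => by
    obtain ⟨i, n, hb, h1, h2⟩ := hsm a ha _ (hT a ha)
    have h3 : a ^ p ^ e = (a ^ p ^ i) ^ p ^ n := by rw [← pow_mul, ← pow_add, Nat.succ.inj h1]
    have h4 : f ⟨a ^ p ^ e, h3 ▸ B.pow_mem hb _⟩ = f ⟨_, hb⟩ ^ p ^ n := by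
      rw [← map_pow]; exact congrArg f (Subtype.ext h3)
    refine ⟨h3 ▸ B.pow_mem hb _, f ⟨_, hb⟩, ⟨_, rfl⟩, n, h4, ?_⟩
    rw [h4]
    rcases h2 with h2 | h2 <;> rw [h2]
    · exact Nat.one_lt_pow (by omega) hp.out.one_lt
    · rw [mul_comm, pow_mul]
      exact Nat.pow_lt_pow_left (Nat.sub_lt (pow_pos hp.out.pos _) one_pos) two_ne_zero
  have hAq : (Nat.card A).Coprime p := by
    obtain ⟨k, hk⟩ := IsPGroup.iff_card.mp (elemAb_isPGroup hA)
    exact hk ▸ ((Nat.coprime_primes hq hp.out).mpr hpq.symm).pow_left k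
  have hle : D ≤ ((centralizer (A : Set Γ')).comap f).map B.subtype := (closure_le _).mpr (by
    rintro _ ⟨a, ha, b, hb, rfl⟩
    obtain ⟨ha', hsa⟩ := key a ha
    obtain ⟨hb', hsb⟩ := key b hb
    refine ⟨⁅(⟨_, ha'⟩ : B), (⟨_, hb'⟩ : B)⁆, fun x hx => ?_, rfl⟩
    rw [map_commutatorElement]
    exact mem_centralizer_singleton_iff.mp (commute_of_small hp2
      ((hP.to_le hBP).of_surjective _ f.rangeRestrict_surjective) hA.1 hAq le_normalizer_of_normal
      hsa hsb hx))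
  obtain ⟨h1, h2⟩ := hDB (hle.trans (map_subtype_le _))
  refine h1 (h2.symm.trans (commutator_eq_bot_iff_le_centralizer.mpr (le_centralizer_iff.mpr ?_)))
  rintro _ ⟨d, hd, rfl⟩
  obtain ⟨b, hb, h3⟩ := hle hd
  exact (Subtype.ext h3 : b = d) ▸ hb

variable {G : Type u} [Group G]

theorem ExpLE.quotient_quotient [Finite G] [hp : Fact p.Prime] (hp2 : p ≠ 2) (hG : IsPSolvable p G)
    {e : ℕ} (h : ExpLE p (e + 1) G) :
    ExpLE p e ((G ⧸ pPrimePCore p G) ⧸ pPrimePCore p (G ⧸ pPrimePCore p G)) := by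
  obtain ⟨X₀, _, _, f₀, hEA₀, σ₀, hf₀, -, -, hσ₀, hval₀⟩ := exists_hh_rep (isPConstrained_of_isPSolvable hG)
  have hH := IsPSolvable.quotient hG (pPrimePCore p G)
  have hT : ∀ y : G ⧸ pPrimePCore p G, (∃ j, y ^ p ^ j = 1) → (σ₀ y - 1) ^ (p ^ (e + 1) - 1) = 0 := by
    intro y hy
    obtain ⟨x, ⟨j, hj⟩, rfl⟩ := exists_lift_pElement _ (QuotientGroup.mk'_surjective _) hy
    exact (h.of_surjective f₀ hf₀).sub_one_pow_eq_zero (hval₀ x) ⟨j, by rw [← map_pow, hj, map_one]⟩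
  have h' := h.of_surjective _ (QuotientGroup.mk'_surjective (pPrimePCore p G))
  obtain ⟨X, _, _, f, hEA, σ, hf, -, -, hσ, hval⟩ := exists_hh_rep (isPConstrained_of_isPSolvable hH)
  intro y hy
  obtain ⟨x, ⟨j, hj⟩, rfl⟩ := exists_lift_pElement _ (QuotientGroup.mk'_surjective _) hy
  by_contra hne
  refine theoremB_weak σ hσ (IsPSolvable.quotient hH _) pCore_quotient_pPrimePCore
    (orderOf_eq_prime_pow hne (by rw [← map_pow, h' x ⟨j, hj⟩, map_one]))
    (pow_eq_zero_of_le (m := p ^ e + (p ^ e - 1)) ?_ ?_)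
  · have h1 : p ^ e * 2 ≤ p ^ e * (p - 1) := Nat.mul_le_mul_left _ (by
      have := hp.out.two_le; omega)
    have := pow_pos hp.out.pos e
    omega
  obtain ⟨P, hP, hPf⟩ := exists_isPGroup_map_eq f hf (IsPGroup.to_sup_of_normal_left (isEA_isPGroup hEA)
    (isPGroup_zpowers_of_pow_eq_one (show f x ^ p ^ j = 1 by rw [← map_pow, hj, map_one])))
  ext v
  obtain ⟨a, ha, ha'⟩ : f x ∈ P.map f := hPf ▸ mem_sup_right (mem_zpowers _)
  obtain ⟨b, hb, hb'⟩ : v.val * f x ∈ P.map f :=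
    hPf ▸ mul_mem (mem_sup_left v.val_mem) (mem_sup_right (mem_zpowers _))
  have h1 := (commute_pow_of_sub_one_pow hp2 σ₀ hσ₀ hH pCore_quotient_pPrimePCore hP
    (fun g hg => hT g (isPGroup_subgroup_iff.mp hP g hg)) ha hb).map f
  rw [map_pow, map_pow, ha', hb', val_mul_pow (hval x), ← sub_one_pow_eq_sum (F := ZMod p) p] at h1
  rw [pow_add, sub_one_pow_char_pow (F := ZMod p) p, End.mul_apply, LinearMap.sub_apply, End.one_apply,
    EA.val_sub, ← map_pow, ← map_pow]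
  refine (congrArg (· * _) (hval _ _)).trans ?_
  rw [map_pow, mul_inv_eq_iff_eq_mul, mul_inv_eq_iff_eq_mul, LinearMap.zero_apply, EA.val_zero, one_mul]
  exact mul_right_cancel ((mul_assoc _ _ _).trans h1.eq)

/-- Hall–Higman Theorem A, exponent part, general case. -/
theorem pLengthLE_two_mul_of_expLE [Fact p.Prime] (hp2 : p ≠ 2) (e : ℕ) : ∀ {G : Type u} [Group G] [Finite G],
    IsPSolvable p G → ExpLE p e G → PLengthLE p (2 * e) G := by
  induction e with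
  | zero => exact fun _ h => pLengthLE_zero_of_expLE h
  | succ e ih =>
    intro G _ _ hG h
    exact pLengthLE_succ_iff.mpr (pLengthLE_succ_iff.mpr
      (ih (IsPSolvable.quotient (IsPSolvable.quotient hG _) _) (h.quotient_quotient hp2 hG)))

end Cfsg.Agent.PLocal.HH
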