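import Mathlib
import Cfsg.Agent.PLocal.PGV1
import Cfsg.Agent.Char.Burnside

/-! The `P(G,V)`-theorem, part 2: auxiliary counting lemmas. -/

set_option autoImplicit false

namespace Cfsg.Agent.PLocal.PGV

open Subgroup Cfsg.Agent.Grp Cfsg.Agent.PLocal.CP
open scoped commutatorElement Cfsg.Agent.PLocal.Amb

variable {G : Type*} [Group G] {p : ℕ}

/-- Pairwise comaximal subgroups of index at least `4` in a finite abelian group. -/
theorem count_comaximal {W : Type*} [CommGroup W] [Finite W] {ι : Type*} [Fintype ι]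
    (H : ι → Subgroup W) (C : Subgroup W) (hC : ∀ i, C ≤ H i)
    (hsup : ∀ i j, i ≠ j → H i ⊔ H j = ⊤) (hidx : ∀ i, 4 ≤ (H i).index) :
    3 * Fintype.card ι ≤ C.index := by
  classical
  have : NeZero (Monoid.exponent W) := ⟨Monoid.exponent_ne_zero_of_finite⟩
  have : Finite (W →* ℂˣ) :=
    Finite.of_equiv _ (CommGroup.monoidHom_mulEquiv_of_hasEnoughRootsOfUnity W ℂ).some.toEquiv.symm
  set φ := CommGroup.subgroupOrderIsoSubgroupMonoidHom W ℂ with hφ
  have hc : ∀ X : Subgroup W, ((φ X).ofDual : Set (W →* ℂˣ)).toFinite.toFinset.card = X.index := by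
    intro X
    rw [← Set.ncard_eq_toFinset_card, index, ← CommGroup.card_subgroupOrderIsoSubgroupMonoidHom ℂ X]
    rfl
  set s : ι → Finset (W →* ℂˣ) := fun i =>
    (((φ (H i)).ofDual : Set (W →* ℂˣ)).toFinite.toFinset).erase 1 with hs
  have h1 : ∀ i, 3 ≤ (s i).card := fun i => by
    rw [hs, Finset.card_erase_of_mem (by simp), hc]
    have := hidx i; omega
  have h2 : ((Finset.univ : Finset ι) : Set ι).PairwiseDisjoint s := by
    intro i _ j _ hij
    rw [Function.onFun, Finset.disjoint_left]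
    intro f hi hj
    simp only [hs, Finset.mem_erase, Set.Finite.mem_toFinset, SetLike.mem_coe, hφ,
      CommGroup.mem_subgroupOrderIsoSubgroupMonoidHom_iff] at hi hj
    refine hi.1 (MonoidHom.ext fun w => ?_)
    have : H i ⊔ H j ≤ f.ker := sup_le hi.2 hj.2
    exact this ((hsup i j hij).ge (mem_top w))
  have h3 : Finset.univ.biUnion s ⊆ ((φ C).ofDual : Set (W →* ℂˣ)).toFinite.toFinset := by
    intro f hf
    obtain ⟨i, -, hi⟩ := Finset.mem_biUnion.1 hf
    simp only [hs, Finset.mem_erase, Set.Finite.mem_toFinset, SetLike.mem_coe, hφ,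
      CommGroup.mem_subgroupOrderIsoSubgroupMonoidHom_iff] at hi ⊢
    exact fun g hg => hi.2 g (hC i hg)
  have h4 := Finset.card_le_card h3
  rw [hc, Finset.card_biUnion h2] at h4
  refine le_trans ?_ h4
  rw [mul_comm, ← Finset.card_univ, ← smul_eq_mul]
  exact Finset.card_nsmul_le_sum _ _ _ fun i _ => h1 i

theorem dvd_two_pow_mul_three_pow {n : ℕ} (hn : n ≠ 0)
    (h : ∀ r, r.Prime → r ∣ n → r = 2 ∨ r = 3) : n ∣ 2 ^ n * 3 ^ n := by
  rw [← Nat.factorization_prime_le_iff_dvd hn (by positivity)]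
  intro r hr
  by_cases hd : r ∣ n
  · have h1 := (Nat.factorization_lt r hn).le
    rcases h r hr hd with rfl | rfl
    · rw [Nat.factorization_mul (by positivity) (by positivity)]
      simp [Nat.prime_two.factorization_pow]; omega
    · rw [Nat.factorization_mul (by positivity) (by positivity)]
      simp [Nat.prime_three.factorization_pow]; omega
  · rw [Nat.factorization_eq_zero_of_not_dvd hd]; exact Nat.zero_le _

theorem exists_pow_six_not_mem [Finite G] {K : Subgroup G} (hK : IsQuasisimple K) :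
    ∃ k ∈ K, k ^ 6 ∉ 𝐂[K] := by
  by_contra hc
  push Not at hc
  have h1 : Group.IsSolvable (K ⧸ center K) := by
    refine Char.isSolvable_of_card_dvd_pow_mul_pow Nat.prime_two Nat.prime_three _
      (dvd_two_pow_mul_three_pow Nat.card_pos.ne' fun r hr hd => ?_)
    have := Fact.mk hr
    obtain ⟨x, hx⟩ := exists_prime_orderOf_dvd_card' r hd
    obtain ⟨k, rfl⟩ := QuotientGroup.mk_surjective x
    have h2 : (k : K ⧸ center K) ^ 6 = 1 := by
      rw [← QuotientGroup.mk_pow, QuotientGroup.eq_one_iff, mem_center_iff]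
      intro g
      exact Subtype.ext (mem_centralizer_iff.1 (hc k k.2) g g.2)
    have h3 : r ∣ 2 * 3 := hx ▸ orderOf_dvd_of_pow_eq_one h2
    rcases (Nat.Prime.dvd_mul hr).1 h3 with h4 | h4
    · exact Or.inl ((Nat.prime_dvd_prime_iff_eq hr Nat.prime_two).1 h4)
    · exact Or.inr ((Nat.prime_dvd_prime_iff_eq hr Nat.prime_three).1 h4)
  have h2 : Group.IsSolvable (center K) :=
    Group.isSolvable_of_comm fun a b => Subtype.ext (mem_center_iff.1 b.2 a)
  exact qs_not_solvable hK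
    (Group.isSolvable_of_ker_le_range (center K).subtype (QuotientGroup.mk' (center K)) (by simp))

theorem le_or_of_diag {K T : Subgroup G} (hK : IsQuasisimple K)
    (h : ∀ k ∈ K, ∃ e ∈ 𝐂[K], k * e ∈ T) : K ≤ T ∨ T ⊓ K ≤ 𝐂[K] := by
  have h1 : K ≤ 𝐍[(T ⊓ K : Subgroup G)] := by
    rw [le_normalizer_iff]
    intro k hk x hx
    obtain ⟨e, he, hke⟩ := h k hk
    refine mem_inf.2 ⟨?_, mul_mem (mul_mem hk hx.2) (inv_mem hk)⟩
    have h2 : k * x * k⁻¹ = (k * e) * x * (k * e)⁻¹ := by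
      rw [mul_assoc k e x, ← mem_centralizer_iff.1 he x hx.2]; group
    rw [h2]
    exact mul_mem (mul_mem hke hx.1) (inv_mem hke)
  rcases qsS_normal hK _ h1 with h2 | h2
  · exact Or.inl (h2.trans inf_le_left)
  · exact Or.inr (le_trans (le_inf le_rfl inf_le_right) h2)

theorem offender_bound [Finite G] {V W X : Subgroup G} (hW : W ≤ V)
    (hX : IsBestOffenderOn p V X) :
    Nat.card W * Nat.card ↥(X ⊓ 𝐂[W]) ≤ Nat.card X * Nat.card ↥(W ⊓ 𝐂[X]) := by
  have h1 := hX.1 (X ⊓ 𝐂[W]) inf_le_left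
  have h2 := card_mul_card_le_of_le (H := W) (K := V ⊓ 𝐂[X]) (L := V ⊓ 𝐂[(X ⊓ 𝐂[W] : Subgroup G)])
    (le_inf hW (le_centralizer_iff.1 inf_le_right))
    (inf_le_inf_left _ (Amb.centralizer_anti inf_le_left))
  rw [← inf_assoc, inf_eq_left.2 hW] at h2
  have h3 : 0 < Nat.card ↥(V ⊓ 𝐂[X]) := Nat.card_pos
  refine Nat.le_of_mul_le_mul_right ?_ h3
  calc _ = Nat.card ↥(X ⊓ 𝐂[W]) * (Nat.card W * Nat.card ↥(V ⊓ 𝐂[X])) := by ring
    _ ≤ Nat.card ↥(X ⊓ 𝐂[W]) * (Nat.card ↥(W ⊓ 𝐂[X]) *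
        Nat.card ↥(V ⊓ 𝐂[(X ⊓ 𝐂[W] : Subgroup G)])) := Nat.mul_le_mul_left _ h2
    _ = Nat.card ↥(W ⊓ 𝐂[X]) * (Nat.card ↥(X ⊓ 𝐂[W]) *
        Nat.card ↥(V ⊓ 𝐂[(X ⊓ 𝐂[W] : Subgroup G)])) := by ring
    _ ≤ Nat.card ↥(W ⊓ 𝐂[X]) * (Nat.card X * Nat.card ↥(V ⊓ 𝐂[X])) := Nat.mul_le_mul_left _ h1
    _ = _ := by ring

theorem le_centralizer_of_isCyclic {D U : Subgroup G} (hD : ⁅D, D⁆ = D) (hn : D ≤ 𝐍[U])
    (hU : IsCyclic U) : D ≤ 𝐂[U] := by
  obtain ⟨u, hu⟩ := (Subgroup.isCyclic_iff_exists_zpowers_eq_top U).1 hU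
  rw [← hD, commutator_le, ← hu]
  intro x hx y hy
  have h1 : ∀ z ∈ D, ∃ i : ℤ, z * u * z⁻¹ = u ^ i := fun z hz => by
    obtain ⟨i, hi⟩ := hu.ge (CP.conj_mem_of_mem_normalizer (hn hz) (hu.le (mem_zpowers u)))
    exact ⟨i, hi.symm⟩
  obtain ⟨i, hi⟩ := h1 x hx
  obtain ⟨j, hj⟩ := h1 y hy
  have h2 : x * y * u * (x * y)⁻¹ = y * x * u * (y * x)⁻¹ := by
    calc x * y * u * (x * y)⁻¹ = x * (y * u * y⁻¹) * x⁻¹ := by group
      _ = (u ^ i) ^ j := by rw [hj, ← hi, conj_zpow]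
      _ = (u ^ j) ^ i := by rw [← zpow_mul, ← zpow_mul, mul_comm]
      _ = y * (x * u * x⁻¹) * y⁻¹ := by rw [hi, ← hj, conj_zpow]
      _ = _ := by group
  have h3 : (y * x)⁻¹ * (x * y) ∈ 𝐂[zpowers u] := by
    rw [Amb.centralizer_zpowers, mem_centralizer_singleton_iff]
    calc _ = (y * x)⁻¹ * (x * y * u * (x * y)⁻¹) * (x * y) := by group
      _ = _ := by rw [h2]; group
  have h4 := CP.conj_mem_of_mem_normalizer
    (CP.le_normalizer_centralizer (hu ▸ hn : D ≤ 𝐍[zpowers u]) (mul_mem hy hx)) h3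
  convert h4 using 1
  simp only [commutatorElement_def]; group

end Cfsg.Agent.PLocal.PGV
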