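import Mathlib
import Cfsg.Agent.PLocal.S4Rec
import Cfsg.Agent.PLocal.PIrred
import Cfsg.Agent.S2834

/-!
A quadratic abelian offender on the centre of `O₂(H)`, in a group `H` whose Sylow `2`-subgroup lies in
a unique maximal subgroup, produces an `S₄` section.
-/

set_option autoImplicit false

namespace Cfsg.Agent.PLocal.S4Rec

open Cfsg Subgroup Cfsg.Agent.PLocal.Amb Cfsg.Agent.PLocal.CP
open scoped commutatorElement

variable {G : Type*} [Group G] [Finite G]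

omit [Finite G] in
theorem sec_sym4_of_offender' {Γ : Type*} [Group Γ] [Finite Γ] (f : G →* Γ) (W : Subgroup Γ)
    [hWn : W.Normal] (hW : IsPGroup 2 W) (hWc : W ≤ 𝐂[W]) (A Q : Subgroup G) [Finite A]
    (g : Γ) (hq : ⁅⁅W, A.map f⁆, A.map f⁆ = ⊥)
    (hfix : ∀ a ∈ A, a ∉ Q → ∀ v ∈ W, v ∈ 𝐂[cj(g, A.map f)] → Commute (f a) v → v = 1)
    (hAQ : ¬ A ≤ Q) (hW1 : W ≠ ⊥) (hidx : (W ⊓ 𝐂[A.map f]).relIndex W ≤ Q.relIndex A) :
    CF.Sec (Equiv.Perm (Fin 4)) Γ := by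
  have : Fact (Nat.Prime 2) := ⟨Nat.prime_two⟩
  have hcm : ∀ {a b : Γ}, a ∈ W → b ∈ W → a * b = b * a := fun ha hb => hWc hb _ ha
  set A' := A.map f with hA'
  set B' := cj(g, A') with hB'
  have hcj : cj(g, W ⊓ 𝐂[A']) = W ⊓ 𝐂[B'] := by rw [cj_inf, cj_of_normal, centralizer_cj]
  have hqA : ⁅W, A'⁆ ≤ W ⊓ 𝐂[A'] :=
    le_inf (commutator_le_left _ _) (commutator_eq_bot_iff_le_centralizer.1 hq)
  have hqB : ⁅W, B'⁆ ≤ W ⊓ 𝐂[B'] := by
    have := cj_mono g hqA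
    rwa [← commutator_cj, hcj, cj_of_normal] at this
  obtain ⟨a0, ha0, ha0Q⟩ := SetLike.not_le_iff_exists.1 hAQ
  have hd : (W ⊓ 𝐂[A']) ⊓ (W ⊓ 𝐂[B']) = ⊥ := by
    rw [eq_bot_iff]
    exact fun v hv => hfix a0 ha0 ha0Q v hv.1.1 hv.2.2 (hv.1.2 _ (mem_map_of_mem f ha0))
  have hm : Nat.card (W ⊓ 𝐂[A'] : Subgroup Γ) ≤ Q.relIndex A := by
    refine le_trans ?_ hidx
    have h1 := Grp.card_sup_mul_card_inf_of_le_normalizer (H := W ⊓ 𝐂[A']) (N := W ⊓ 𝐂[B'])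
      ((inf_le_left.trans (hWc.trans (centralizer_anti inf_le_left))).trans
        (centralizer_le_normalizer' _))
    have h2 := Grp.card_mul_relIndex (inf_le_left : W ⊓ 𝐂[A'] ≤ W)
    have h3 := card_le_of_le (sup_le inf_le_left inf_le_left : (W ⊓ 𝐂[A']) ⊔ (W ⊓ 𝐂[B']) ≤ W)
    have h4 : Nat.card (W ⊓ 𝐂[B'] : Subgroup Γ) = Nat.card (W ⊓ 𝐂[A'] : Subgroup Γ) := by
      rw [← hcj, card_cj]
    rw [hd, card_bot, mul_one, h4] at h1
    rw [h1, ← h2] at h3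
    exact Nat.le_of_mul_le_mul_left h3 Nat.card_pos
  have hne : W ⊓ 𝐂[A'] ≠ ⊥ := by
    intro e
    rw [e, le_bot_iff, commutator_eq_bot_iff_le_centralizer] at hqA
    exact hW1 (by rw [← e, inf_eq_left.2 hqA])
  obtain ⟨w₀, hw₀, hw₀1⟩ := (bot_or_exists_ne_one _).resolve_left hne
  obtain ⟨j, hw2, hw1⟩ := exists_pow_prime (isPGroup_iff.1 hW w₀ hw₀.1) hw₀1
  have hw := pow_mem hw₀ j
  set w := w₀ ^ j
  obtain ⟨b, hb, hbw⟩ : ∃ b ∈ B', b * w ≠ w * b := by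
    by_contra h
    push Not at h
    have : w ∈ (W ⊓ 𝐂[A']) ⊓ (W ⊓ 𝐂[B']) := ⟨hw, hw.1, h⟩
    exact hw1 (by rwa [hd] at this)
  have hcomm : ∀ {X : Subgroup Γ} {x y : Γ}, x ∈ X → y ∈ W → ⁅x, y⁆ ∈ ⁅W, X⁆ := fun hx hy => by
    rw [commutator_comm]; exact commutator_mem_commutator hx hy
  set v := ⁅b, w⁆ with hvdef
  have hv : v ∈ W ⊓ 𝐂[B'] := hqB (hcomm hb hw.1)
  have hv1 : v ≠ 1 := fun e => hbw (commutatorElement_eq_one_iff_mul_comm.1 e)
  let φ : A →* (W ⊓ 𝐂[A'] : Subgroup Γ) := MonoidHom.mk'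
    (fun a => ⟨⁅f a, v⁆, hqA (hcomm (mem_map_of_mem f a.2) hv.1)⟩) fun x y => Subtype.ext (by
      have h1 := hqA (hcomm (mem_map_of_mem f y.2) hv.1)
      have h2 := hqA (hcomm (mem_map_of_mem f x.2) hv.1)
      show ⁅f (x * y), v⁆ = ⁅f x, v⁆ * ⁅f y, v⁆
      rw [hcm h2.1 h1.1, map_mul, show ⁅f x * f y, v⁆ = f x * ⁅f y, v⁆ * (f x)⁻¹ * ⁅f x, v⁆ by
        simp only [commutatorElement_def]; group, h1.2 _ (mem_map_of_mem f x.2), mul_inv_cancel_right])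
  have hker : φ.ker ≤ Q.subgroupOf A := by
    intro a ha
    by_contra h
    exact hv1 (hfix a a.2 h v hv.1 hv.2
      (commutatorElement_eq_one_iff_commute.1 (congrArg Subtype.val ha)))
  have hr : φ.range = ⊤ := by
    refine eq_top_of_le_card _ (hm.trans ?_)
    rw [← index_ker]
    exact Nat.le_of_dvd (Nat.pos_of_ne_zero FiniteIndex.index_ne_zero) (index_dvd_of_le hker)
  obtain ⟨a, ha⟩ : (⟨w, hw⟩ : (W ⊓ 𝐂[A'] : Subgroup Γ)) ∈ φ.range := hr ▸ mem_top _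
  have ha' : ⁅f a, v⁆ = w := congrArg Subtype.val ha
  have hvw := hcm hv.1 hw.1
  rw [pow_two] at hw2
  refine sec_sym4_of_action (a := f a) (b := b) ?_ hw2 hvw hv1 hw1 ?_ ?_ ?_ ?_
  · rw [hvdef, commutatorElement_def, Commute.mul_mul_mul_comm
      (hcm (inv_mem hw.1) (hWn.conj_mem _ hw.1 b)), ← mul_inv_rev, hw2,
      show b * w * b⁻¹ * (b * w * b⁻¹) = b * (w * w) * b⁻¹ by group, hw2]
    group
  · rw [hw.2 _ (mem_map_of_mem f a.2), mul_inv_cancel_right]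
  · rw [hvw, ← ha', commutatorElement_def]; group
  · rw [hv.2 _ hb, mul_inv_cancel_right]
  · rw [hvdef, commutatorElement_def]; group

theorem inf_centralizer_le_of_gen {W A R X : Subgroup G} [W.Normal] (hWc : W ≤ 𝐂[W])
    (hZ : W ⊓ 𝐂[(⊤ : Subgroup G)] = ⊥) (hW : W ≤ ⁅(⊤ : Subgroup G), W⁆) (hR : R ≤ 𝐂[W])
    (hq : ⁅⁅W, A⁆, A⁆ = ⊥) {g x : G} (hg : A ⊔ cj(g, A) ⊔ R = ⊤) (hXA : X ≤ A)
    (hx : X ⊔ cj(x, A) ⊔ R = ⊤) : W ⊓ 𝐂[X] ≤ 𝐂[A] := by
  have hcj : ∀ g : G, cj(g, W ⊓ 𝐂[A]) = W ⊓ 𝐂[cj(g, A)] := fun g => by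
    rw [cj_inf, cj_of_normal, centralizer_cj]
  have hcard : ∀ g : G, Nat.card (W ⊓ 𝐂[cj(g, A)] : Subgroup G) = Nat.card (W ⊓ 𝐂[A] : Subgroup G) :=
    fun g => by rw [← hcj, card_cj]
  have hqA : ⁅W, A⁆ ≤ W ⊓ 𝐂[A] :=
    le_inf (commutator_le_left _ _) (commutator_eq_bot_iff_le_centralizer.1 hq)
  have hqB : ⁅W, cj(g, A)⁆ ≤ W ⊓ 𝐂[cj(g, A)] := by
    have := cj_mono g hqA
    rwa [← commutator_cj, hcj, cj_of_normal] at this
  have h1 : W ≤ (W ⊓ 𝐂[A]) ⊔ (W ⊓ 𝐂[cj(g, A)]) := by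
    refine hW.trans ?_
    rw [← le_secStab'_iff, ← hg]
    refine sup_le (sup_le ?_ ?_) ?_ <;> rw [le_secStab'_iff]
    · rw [commutator_comm]; exact hqA.trans le_sup_left
    · rw [commutator_comm]; exact hqB.trans le_sup_right
    · rw [commutator_eq_bot_iff_le_centralizer.2 hR]; exact bot_le
  have hn : ∀ Y Y' : Subgroup G, W ⊓ Y ≤ 𝐍[W ⊓ Y'] := fun Y Y' =>
    (inf_le_left.trans (hWc.trans (centralizer_anti inf_le_left))).trans (centralizer_le_normalizer' _)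
  have h2 := Grp.card_sup_mul_card_inf_of_le_normalizer (hn 𝐂[A] 𝐂[cj(g, A)])
  have h3 := Grp.card_sup_mul_card_inf_of_le_normalizer (hn 𝐂[X] 𝐂[cj(x, A)])
  have h4 : (W ⊓ 𝐂[X]) ⊓ (W ⊓ 𝐂[cj(x, A)]) = ⊥ := by
    rw [eq_bot_iff, ← hZ, ← hx, centralizer_sup, centralizer_sup]
    exact fun v hv => ⟨hv.1.1, ⟨hv.1.2, hv.2.2⟩, le_centralizer_iff.1 hR hv.1.1⟩
  rw [h4, card_bot, mul_one, hcard] at h3
  rw [hcard] at h2
  have h5 := card_le_of_le h1
  have h6 := card_le_of_le (sup_le inf_le_left inf_le_left : (W ⊓ 𝐂[X]) ⊔ (W ⊓ 𝐂[cj(x, A)]) ≤ W)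
  have h7 : 0 < Nat.card ((W ⊓ 𝐂[A]) ⊓ (W ⊓ 𝐂[cj(g, A)]) : Subgroup G) := Nat.card_pos
  have h8 : Nat.card (W ⊓ 𝐂[X] : Subgroup G) ≤ Nat.card (W ⊓ 𝐂[A] : Subgroup G) := by
    refine Nat.le_of_mul_le_mul_right ?_ (Nat.card_pos (α := (W ⊓ 𝐂[A] : Subgroup G)))
    rw [← h3, ← h2]
    exact (h6.trans h5).trans (Nat.le_mul_of_pos_right _ h7)
  rw [← eq_of_le_of_card_ge (inf_le_inf_left W (centralizer_anti hXA)) h8]
  exact inf_le_right

theorem sec_sym4_of_minOver {A M U : Subgroup G} [U.Normal] (hA : IsPGroup 2 A) (hAc : A ≤ 𝐂[A])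
    (hmin : MinOver (A ⊔ pCore 2 G) M ⊤) (hU : U ≤ pCore 2 G ⊓ 𝐂[pCore 2 G])
    (hK : ¬ pResidual 2 G ≤ 𝐂[U]) (hq : ⁅⁅U, A⁆, A⁆ = ⊥)
    (hff : ∀ U₁ ≤ U, Nat.card ((pCore 2 G ⊓ A) ⊔ U₁ : Subgroup G) ≤ Nat.card A) :
    CF.Sec (Equiv.Perm (Fin 4)) G := by
  have : Fact (Nat.Prime 2) := ⟨Nat.prime_two⟩
  set R := pCore 2 G with hR
  have hRp : IsPGroup 2 R := Grp.pCore_isPGroup 2 G
  have hN : ∀ (X : Subgroup G) [X.Normal] (H : Subgroup G), H ≤ 𝐍[X] := fun X _ H => by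
    rw [normalizer_eq_top]; exact le_top
  have hUp : IsPGroup 2 U := hRp.to_le (hU.trans inf_le_left)
  have hUc : U ≤ 𝐂[U] := (hU.trans inf_le_right).trans (centralizer_anti (hU.trans inf_le_left))
  set K := pResidual 2 G with hKdef
  have hKn : K.Normal := by
    rw [hKdef, ← pRes_top]
    exact normal_of_top_le (le_normalizer_pRes 2 ⊤)
  set V := ⁅U, K⁆ with hV
  have hVU : V ≤ U := commutator_le_left _ _
  have hVK : ⁅V, K⁆ = V := by
    have := commutator_pRes_pRes (p := 2) (L := ⊤) hUp (hN _ _)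
    rwa [pRes_top] at this
  set C := V ⊓ 𝐂[K] with hC
  set f := QuotientGroup.mk' C with hf
  have hfs : Function.Surjective f := QuotientGroup.mk'_surjective C
  have hWn : (V.map f).Normal := Subgroup.Normal.map inferInstance f hfs
  have hcent : ∀ {X Y : Subgroup G}, X ≤ 𝐂[Y] → X.map f ≤ 𝐂[Y.map f] := fun h => by
    rw [← commutator_eq_bot_iff_le_centralizer] at h ⊢
    rw [← Subgroup.map_commutator, h, Subgroup.map_bot]
  have hWc : V.map f ≤ 𝐂[V.map f] := hcent (hVU.trans (hUc.trans (centralizer_anti hVU)))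
  have hRc : R.map f ≤ 𝐂[V.map f] :=
    hcent (le_centralizer_iff.1 (hVU.trans (hU.trans inf_le_right)))
  have hZ : V.map f ⊓ 𝐂[(⊤ : Subgroup (G ⧸ C))] = ⊥ := by
    rw [eq_bot_iff]
    rintro _ ⟨⟨v, hv, rfl⟩, h⟩
    refine (QuotientGroup.eq_one_iff v).2 ⟨hv, ?_⟩
    have h1 : ⁅(⊤ : Subgroup G), zpowers v⁆ ≤ C := by
      rw [← QuotientGroup.ker_mk' C, ← Subgroup.map_eq_bot_iff, Subgroup.map_commutator,
        MonoidHom.map_zpowers, commutator_comm, commutator_eq_bot_iff_le_centralizer, zpowers_le]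
      exact centralizer_anti le_top h
    have h2 := pRes_le_centralizer_of_commutator_le (p := 2) (hUp.to_le (inf_le_left.trans hVU))
      (by rw [pRes_top]; exact le_centralizer_iff.1 inf_le_right) h1
    rw [pRes_top] at h2
    exact le_centralizer_iff.1 h2 (mem_zpowers v)
  have hqW : ⁅⁅V.map f, A.map f⁆, A.map f⁆ = ⊥ := by
    rw [← Subgroup.map_commutator, ← Subgroup.map_commutator, le_bot_iff.1
      ((commutator_mono (commutator_mono hVU le_rfl) le_rfl).trans hq.le), Subgroup.map_bot]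
  have hY : IsPGroup 2 (A ⊔ R : Subgroup G) := isPGroup_sup hA hRp (hN _ _)
  have hgen : ∀ (X : Subgroup G) (x : G), ¬ X ≤ cj(x, M) →
      X.map f ⊔ cj(f x, A.map f) ⊔ R.map f = ⊤ := fun X x h => by
    have h1 := (hmin.cj_of_mem (mem_top x)).eq_of_not_le (X := X ⊔ cj(x, A) ⊔ R)
      (by rw [cj_sup, cj_of_normal x R, sup_assoc]; exact le_sup_right) le_top
      fun h2 => h (le_sup_left.trans (le_sup_left.trans h2))
    rw [← map_cj, ← Subgroup.map_sup, ← Subgroup.map_sup, h1, map_top_of_surjective f hfs]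
  have hex : ∀ X : Subgroup G, IsPGroup 2 X → ¬ X ≤ R → ∃ x, ¬ X ≤ cj(x, M) := fun X hX h => by
    by_contra h1
    push Not at h1
    have h2 : X ≤ M.normalCore := fun a ha g => by
      have := h1 g⁻¹ ha
      rwa [mem_cj, inv_inv] at this
    have h3 := hmin.pClosed_of_le hY M.normalCore_le (hN _ _) X h2 hX
    refine h (h3.trans ?_)
    rw [hR, ← Amb.pCoreOf_top]
    exact pCoreOf_mono_of_normal le_top (hN _ _)
  have hAR : ¬ A ≤ R := fun h => hmin.not_le_pCoreOf hY (by rw [Amb.pCoreOf_top]; exact sup_le h le_rfl)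
  obtain ⟨g, hg⟩ := hex A hA hAR
  refine (sec_sym4_of_offender' f (V.map f) ((hUp.to_le hVU).map f) hWc A R (f g) hqW ?_ hAR ?_ ?_).trans
    (CF.sec_quotient C)
  · intro a ha haR v hv h1 h2
    obtain ⟨x, hx⟩ := hex (zpowers a) (hA.to_le (zpowers_le.2 ha)) (by rwa [zpowers_le])
    have h3 := inf_centralizer_le_of_gen hWc hZ (by
      refine (map_mono hVK.ge).trans ?_
      rw [Subgroup.map_commutator, commutator_comm]
      exact commutator_mono le_top le_rfl) hRc hqW (hgen A g hg) (map_mono (zpowers_le.2 ha))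
      (hgen _ x hx)
    have h4 : v ∈ 𝐂[(zpowers a).map f] := by
      rw [MonoidHom.map_zpowers, centralizer_zpowers, mem_centralizer_singleton_iff]
      exact h2.symm
    rw [← mem_bot, ← hZ, ← hgen A g hg, centralizer_sup, centralizer_sup]
    exact ⟨hv, ⟨h3 ⟨hv, h4⟩, h1⟩, le_centralizer_iff.1 hRc hv⟩
  · rw [Ne, Subgroup.map_eq_bot_iff, QuotientGroup.ker_mk']
    intro h
    refine hK ?_
    rw [le_centralizer_iff, ← commutator_eq_bot_iff_le_centralizer, ← hV, ← hVK,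
      commutator_eq_bot_iff_le_centralizer]
    exact h.trans inf_le_right
  · have h1 : (V ⊓ 𝐂[A]).map f ≤ V.map f ⊓ 𝐂[A.map f] :=
      le_inf (map_mono inf_le_left) (hcent inf_le_right)
    have h3 : (A ⊓ V).relIndex V ≤ R.relIndex A := by
      have h4 := hff V hVU
      have h5 := Grp.card_sup_mul_card_inf (R ⊓ A) V
      rw [inf_assoc, inf_eq_right.2 (inf_le_right.trans (hVU.trans (hU.trans inf_le_left)))] at h5
      have h6 := Grp.card_mul_relIndex (inf_le_right : A ⊓ V ≤ V)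
      have h7 := Grp.card_inf_mul_relIndex' R A
      have h8 : 0 < Nat.card (A ⊓ V : Subgroup G) := Nat.card_pos
      have h9 : 0 < Nat.card (R ⊓ A : Subgroup G) := Nat.card_pos
      rw [← h6, ← mul_assoc, mul_right_comm] at h5
      rw [Nat.eq_of_mul_eq_mul_right h8 h5, ← h7] at h4
      exact Nat.le_of_mul_le_mul_left h4 h9
    refine le_trans ?_ h3
    refine le_trans (relIndex_le_of_le_left h1 FiniteIndex.index_ne_zero) ?_
    refine le_trans (Nat.le_of_dvd (Nat.pos_of_ne_zero FiniteIndex.index_ne_zero)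
      ((relIndex_map_dvd f _ V).resolve_right fun h => h inf_le_left)) ?_
    exact relIndex_le_of_le_left (le_inf inf_le_right (inf_le_left.trans hAc))
      FiniteIndex.index_ne_zero

omit [Finite G] in
theorem quad_subgroupOf {Z A L : Subgroup G} (hq : ⁅⁅Z, A⁆, A⁆ = ⊥) :
    ⁅⁅Z.subgroupOf L, A.subgroupOf L⁆, A.subgroupOf L⁆ = ⊥ := by
  rw [← map_subtype_inj, Subgroup.map_commutator, Subgroup.map_commutator, Subgroup.map_bot,
    subgroupOf_map_subtype, subgroupOf_map_subtype]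
  exact le_bot_iff.1 ((commutator_mono (commutator_mono inf_le_left inf_le_left) inf_le_left).trans hq.le)

theorem sec_sym4_of_core (T : Sylow 2 G) {M Z A : Subgroup G} (hmin : MinOver T M ⊤) [hZn : Z.Normal]
    (hZ : Z ≤ pCore 2 G ⊓ 𝐂[pCore 2 G]) {x : G} (hx : x ∈ Z) (hxM : centralizer {x} = M)
    (hAT : A ≤ T) (hAO : ¬ A ≤ pCore 2 G) (hAc : A ≤ 𝐂[A]) (hq : ⁅⁅Z, A⁆, A⁆ = ⊥)
    (hff : ∀ B ≤ A, ∀ U ≤ Z, U ≤ 𝐂[B] → Nat.card (B ⊔ U : Subgroup G) ≤ Nat.card A) :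
    CF.Sec (Equiv.Perm (Fin 4)) G := by
  have : Fact (Nat.Prime 2) := ⟨Nat.prime_two⟩
  obtain ⟨L, hL, L₀, h1, h2, h3, ⟨g, hg⟩, h4⟩ := S2834.result T (isMinimalOver_iff.2 ⟨M, hmin⟩) M
    ⟨hmin.isCoatom, hmin.le⟩ A hAT hAO
  have hAL : A ≤ L := le_sup_left.trans hL
  have hAp : IsPGroup 2 A := T.isPGroup'.to_le hAT
  have hOR : pCore 2 G ≤ pCoreOf 2 L := Amb.le_pCoreOf (Grp.pCore_isPGroup 2 G) (le_sup_right.trans hL)
    le_normalizer_of_normal
  have hm : MinOver (A ⊔ pCoreOf 2 L) L₀ L := by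
    refine ⟨h1, h2, le_antisymm (ncl_le_of_le (h1.trans h2.le)) ?_, h3⟩
    obtain ⟨y, hy, hy'⟩ := SetLike.exists_of_lt h2
    refine (h4 y hy hy').ge.trans (sup_le (sup_le ?_ ?_) ?_)
    · exact le_sup_left.trans (le_ncl _ _)
    · exact (cj_mono y le_sup_left).trans (cj_le_ncl _ hy)
    · exact le_sup_right.trans (le_ncl _ _)
  have hC : centralizer {g * x * g⁻¹} = cj(g, M) := by rw [centralizer_singleton_conj, hxM]
  set U := Z ⊓ 𝐂[pCoreOf 2 L] with hU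
  have hUR : U ≤ pCoreOf 2 L := inf_le_left.trans (hZ.trans (inf_le_left.trans hOR))
  have hUL : U ≤ L := hUR.trans (Amb.pCoreOf_le 2 L)
  have hUn : (U.subgroupOf L).Normal := normal_subgroupOf' (Amb.le_normalizer_inf le_normalizer_of_normal
    (Amb.le_normalizer_centralizer (Amb.le_normalizer_pCoreOf 2 L)))
  have hxU : g * x * g⁻¹ ∈ U := by
    refine ⟨hZn.conj_mem x hx g, fun r hr => ?_⟩
    have h5 : r ∈ centralizer {g * x * g⁻¹} := hC ▸ (hg ▸ h1 (mem_sup_right hr) : r ∈ L ⊓ cj(g, M)).2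
    exact mem_centralizer_singleton_iff.1 h5
  refine (sec_sym4_of_minOver (A := A.subgroupOf L) (M := L₀.subgroupOf L) (U := U.subgroupOf L)
    (isPGroup_subgroupOf hAp L) ?_ ?_ ?_ ?_ ?_ ?_).trans (CF.sec_subgroup L)
  · rw [centralizer_subgroupOf hAL]
    exact comap_mono hAc
  · rw [← minOver_map_subtype, Subgroup.map_sup, map_subgroupOf_of_le hAL, map_subgroupOf_of_le h2.le]
    exact hm
  · rw [← Amb.pCoreOf_subgroupOf, centralizer_subgroupOf (Amb.pCoreOf_le 2 L)]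
    exact le_inf (comap_mono hUR) (comap_mono inf_le_right)
  · intro h
    rw [centralizer_subgroupOf hUL, ← pRes_subgroupOf, subgroupOf_le_iff, subgroupOf_map_subtype,
      inf_eq_left.2 (pRes_le 2 L)] at h
    obtain ⟨S, hS, hYS⟩ := exists_isSyl_ge (isPGroup_sup hAp (Amb.isPGroup_pCoreOf 2 L)
      (hAL.trans (Amb.le_normalizer_pCoreOf 2 L))) h1
    refine h2.not_ge ((hm.isSyl hS hYS).pRes_sup.ge.trans (sup_le ?_ hS.le))
    rw [hg]
    refine le_inf (pRes_le 2 L) fun k hk => ?_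
    rw [← hC, mem_centralizer_singleton_iff]
    exact ((h hk).1 _ hxU).symm
  · exact quad_subgroupOf (le_bot_iff.1 ((commutator_mono (commutator_mono inf_le_left le_rfl)
      le_rfl).trans hq.le))
  · intro U₁ h
    have h5 : U₁.map L.subtype ≤ U := (map_mono h).trans (map_subgroupOf_of_le hUL).le
    rw [Grp.card_subgroupOf_of_le hAL, ← card_subtype, Subgroup.map_sup,
      Subgroup.map_inf _ _ _ L.subtype_injective, map_subgroupOf_of_le hAL]
    exact hff _ inf_le_right _ (h5.trans inf_le_left)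
      (h5.trans (inf_le_right.trans (centralizer_anti inf_le_left)))

theorem le_centralizer_of_core {H S Z A : Subgroup G} (hS4 : ¬ CF.Sec (Equiv.Perm (Fin 4)) G)
    (hS : IsSyl 2 S H) {x : G} (hxS : S ≤ centralizer {x})
    (hK : ∀ K : Subgroup G, S ≤ K → K < H → K ≤ centralizer {x}) (hZn : H ≤ 𝐍[Z])
    (hZ : Z ≤ pCoreOf 2 H ⊓ 𝐂[pCoreOf 2 H]) (hx : x ∈ Z) (hAS : A ≤ S) (hAO : ¬ A ≤ pCoreOf 2 H)
    (hAc : A ≤ 𝐂[A]) (hq : ⁅⁅Z, A⁆, A⁆ = ⊥)
    (hff : ∀ B ≤ A, ∀ U ≤ Z, U ≤ 𝐂[B] → Nat.card (B ⊔ U : Subgroup G) ≤ Nat.card A) :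
    H ≤ centralizer {x} := by
  have : Fact (Nat.Prime 2) := ⟨Nat.prime_two⟩
  by_contra hH
  have hZH : Z ≤ H := hZ.trans (inf_le_left.trans (Amb.pCoreOf_le 2 H))
  have hAH : A ≤ H := hAS.trans hS.le
  have hm : MinOver S (H ⊓ centralizer {x}) H := minOver_of_isSyl hS
    (fun h => hAO (by rw [hS.eq_pCoreOf h]; exact hAS)) (le_inf hS.le hxS) (inf_lt_left.2 hH)
    fun X h1 h2 => le_inf h2.le (hK X h1 h2)
  obtain ⟨T, hT⟩ := hS.exists_sylow
  have hZn' := normal_subgroupOf' hZn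
  refine hS4 ((sec_sym4_of_core T (M := (centralizer {x}).subgroupOf H) (Z := Z.subgroupOf H)
    (A := A.subgroupOf H) ?_ ?_ (x := ⟨x, hZH hx⟩) hx ?_ ?_ ?_ ?_ (quad_subgroupOf hq) ?_).trans
    (CF.sec_subgroup H))
  · rw [← minOver_map_subtype, hT, map_subgroupOf_of_le hS.le, subgroupOf_map_subtype, inf_comm]
    exact hm
  · rw [← Amb.pCoreOf_subgroupOf, centralizer_subgroupOf (Amb.pCoreOf_le 2 H)]
    exact le_inf (comap_mono (hZ.trans inf_le_left)) (comap_mono (hZ.trans inf_le_right))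
  · ext y
    rw [mem_subgroupOf, mem_centralizer_singleton_iff, mem_centralizer_singleton_iff, Subtype.ext_iff]
    rfl
  · rw [hT]
    exact comap_mono hAS
  · exact fun h => hAO ((map_subgroupOf_of_le hAH).ge.trans (map_mono h))
  · rw [centralizer_subgroupOf hAH]
    exact comap_mono hAc
  · intro B hB U hU hUB
    rw [Grp.card_subgroupOf_of_le hAH, ← card_subtype, Subgroup.map_sup]
    refine hff _ ((map_mono hB).trans (map_subgroupOf_of_le hAH).le) _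
      ((map_mono hU).trans (map_subgroupOf_of_le hZH).le) ?_
    rw [← commutator_eq_bot_iff_le_centralizer] at hUB ⊢
    rw [← Subgroup.map_commutator, hUB, Subgroup.map_bot]

end Cfsg.Agent.PLocal.S4Rec
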