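import Mathlib
import Cfsg.Agent.PLocal.PIrred
import Cfsg.Agent.Grp.Zipper

/-! Flavell's generalisation of Wielandt's zipper lemma: a subgroup with full normal closure that
lies in two maximal subgroups is not subnormal in at least two of its maximal overgroups. -/

set_option autoImplicit false

namespace Cfsg.Agent.PLocal.FZ

open Cfsg Subgroup Amb
open Cfsg.Agent.Grp (SnIn)

variable {G : Type*} [Group G]

theorem coatom_cj {M : Subgroup G} (h : IsCoatom M) (g : G) : IsCoatom cj(g, M) := by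
  refine ⟨fun h1 => h.1 (cj_eq_top.1 h1), fun K hK => ?_⟩
  have : M < cj(g⁻¹, K) := by rw [← cj_lt_cj_iff (g := g), cj_cj_inv]; exact hK
  exact cj_eq_top.1 (h.2 _ this)

theorem snIn_cj {A L : Subgroup G} (h : SnIn A L) (g : G) : SnIn cj(g, A) cj(g, L) := h.map _

theorem cj_sSup (g : G) (S : Set (Subgroup G)) :
    cj(g, sSup S) = sSup ((fun U => cj(g, U)) '' S) := Grp.conj_smul_sSup S g

/-- a class of subgroups each with one exceptional maximal overgroup -/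
structure Ctx (Ω : Set (Subgroup G)) (μ : Subgroup G → Subgroup G) : Prop where
  conj : ∀ {B}, B ∈ Ω → ∀ g : G, cj(g, B) ∈ Ω
  coat : ∀ {B}, B ∈ Ω → IsCoatom (μ B)
  le : ∀ {B}, B ∈ Ω → B ≤ μ B
  ns : ∀ {B}, B ∈ Ω → ¬ SnIn B (μ B)
  sn : ∀ {B L}, B ∈ Ω → IsCoatom L → B ≤ L → L ≠ μ B → SnIn B L
  top : ∀ {B N}, B ∈ Ω → N.Normal → B ≤ N → N = ⊤
  uniq : ∀ {B B' L}, B ∈ Ω → B' ∈ Ω → μ B = μ B' → IsCoatom L → B ≤ L → B' ≤ L → L ≠ μ B → B = B'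

variable {Ω : Set (Subgroup G)} {μ : Subgroup G → Subgroup G}

theorem Ctx.mu_cj (c : Ctx Ω μ) {B : Subgroup G} (hB : B ∈ Ω) (g : G) :
    μ cj(g, B) = cj(g, μ B) := by
  by_contra h
  have := snIn_cj (c.sn (c.conj hB g) (coatom_cj (c.coat hB) g) (cj_mono g (c.le hB)) (Ne.symm h)) g⁻¹
  rw [cj_inv_cj, cj_inv_cj] at this
  exact c.ns hB this

theorem Ctx.normalizer_mu (c : Ctx Ω μ) {B : Subgroup G} (hB : B ∈ Ω) : 𝐍[μ B] ≤ μ B := by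
  rcases (le_normalizer (H := μ B)).eq_or_lt with h | h
  · exact h.ge
  · exact absurd (c.top hB (normalizer_eq_top_iff.1 ((c.coat hB).2 _ h)) (c.le hB)) (c.coat hB).1

theorem Ctx.normalizer_le (c : Ctx Ω μ) {B : Subgroup G} (hB : B ∈ Ω) : 𝐍[B] ≤ μ B := fun g hg =>
  c.normalizer_mu hB (cj_eq_iff.1 (by rw [← c.mu_cj hB, cj_of_mem_normalizer hg]))

theorem Ctx.inf_le (c : Ctx Ω μ) {B L : Subgroup G} (hB : B ∈ Ω) (hL : IsCoatom L) (h : B ≤ L)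
    (hne : L ≠ μ B) : μ B ⊓ L ≤ 𝐍[B] := fun g hg =>
  cj_eq_iff.1 (c.uniq hB (c.conj hB g) (by rw [c.mu_cj hB, cj_of_mem hg.1]) hL h
    (cj_le_of_mem h hg.2) hne).symm

/-- the members of `Ω` in `μ B ∩ L` -/
def conf (Ω : Set (Subgroup G)) (μ : Subgroup G → Subgroup G) (B L : Subgroup G) :
    Set (Subgroup G) := {C | C ∈ Ω ∧ C ≤ μ B ⊓ L}

/-- a configuration of maximal size -/
structure MaxConf (Ω : Set (Subgroup G)) (μ : Subgroup G → Subgroup G) (Δ : Set (Subgroup G)) :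
    Prop where
  sub : Δ ⊆ Ω
  ex : ∃ B ∈ Δ, ∃ L, IsCoatom L ∧ L ≠ μ B ∧ sSup Δ ≤ μ B ⊓ L
  max : ∀ B ∈ Ω, ∀ L, IsCoatom L → B ≤ L → L ≠ μ B → (conf Ω μ B L).ncard ≤ Δ.ncard

variable [Finite G] {Δ : Set (Subgroup G)}

theorem MaxConf.mem (h : MaxConf Ω μ Δ) {B L C : Subgroup G} (hB : B ∈ Δ) (hL : IsCoatom L)
    (hne : L ≠ μ B) (hle : sSup Δ ≤ μ B ⊓ L) (hC : C ∈ Ω) (hCle : C ≤ μ B ⊓ L) : C ∈ Δ := by
  have h1 : Δ ⊆ conf Ω μ B L := fun D hD => ⟨h.sub hD, (le_sSup hD).trans hle⟩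
  have h2 := Set.eq_of_subset_of_ncard_le h1
    (h.max B (h.sub hB) L hL ((le_sSup hB).trans (hle.trans inf_le_right)) hne)
  rw [h2]; exact ⟨hC, hCle⟩

theorem MaxConf.mem_of_le (h : MaxConf Ω μ Δ) {C : Subgroup G} (hC : C ∈ Ω) (hle : C ≤ sSup Δ) :
    C ∈ Δ := by
  obtain ⟨B, hB, L, hL, hne, h1⟩ := h.ex
  exact h.mem hB hL hne h1 hC (hle.trans h1)

omit [Finite G] in
theorem MaxConf.cj (c : Ctx Ω μ) (h : MaxConf Ω μ Δ) (g : G) :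
    MaxConf Ω μ ((fun U => cj(g, U)) '' Δ) := by
  refine ⟨?_, ?_, fun B hB L hL h1 h2 => ?_⟩
  · rintro _ ⟨U, hU, rfl⟩; exact c.conj (h.sub hU) g
  · obtain ⟨B, hB, L, hL, hne, h1⟩ := h.ex
    refine ⟨_, ⟨B, hB, rfl⟩, cj(g, L), coatom_cj hL g, ?_, ?_⟩
    · rw [c.mu_cj (h.sub hB)]; exact fun h2 => hne (cj_inj.1 h2)
    · rw [c.mu_cj (h.sub hB), ← cj_sSup, ← cj_inf]; exact cj_mono g h1
  · rw [Set.ncard_image_of_injective _ fun U V hUV => cj_inj.1 hUV]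
    exact h.max B hB L hL h1 h2

omit [Finite G] in
theorem MaxConf.mu_ne (c : Ctx Ω μ) (h : MaxConf Ω μ Δ) {B X : Subgroup G} (hB : B ∈ Δ)
    (hX : X ∈ Δ) (hne : B ≠ X) : μ B ≠ μ X := fun he => by
  obtain ⟨A, hA, L, hL, hne', h1⟩ := h.ex
  have k : ∀ L', IsCoatom L' → sSup Δ ≤ L' → L' = μ B := fun L' hL' h2 => by
    by_contra h3
    exact hne (c.uniq (h.sub hB) (h.sub hX) he hL' ((le_sSup hB).trans h2) ((le_sSup hX).trans h2) h3)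
  exact hne' ((k L hL (h1.trans inf_le_right)).trans
    (k _ (c.coat (h.sub hA)) (h1.trans inf_le_left)).symm)

omit [Finite G] in
theorem cj_mem_of_normalizer {B V : Subgroup G} (h : B ≤ V) (hn : V ≤ 𝐍[B]) {g : G}
    (hg : g ∈ 𝐍[V]) : cj(g, B) ≤ V ∧ V ≤ 𝐍[cj(g, B)] := by
  refine ⟨cj_le_of_mem_normalizer h hg, ?_⟩
  rw [normalizer_cj, ← cj_of_mem_normalizer hg]
  exact cj_mono g hn

theorem exists_normalizer {L : Subgroup G} (c : Ctx Ω μ) {S₀ : Set (Subgroup G)}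
    (h : ∀ C ∈ S₀, C ∈ Ω ∧ SnIn C L) : L ≤ 𝐍[(sSup S₀ : Subgroup G)] ∨
      ∃ C ∈ Ω, SnIn C L ∧ C ∉ S₀ ∧ C ≤ 𝐍[(sSup S₀ : Subgroup G)] := by
  have hc : ∀ U ∈ {C | C ∈ Ω ∧ SnIn C L}, ∀ g ∈ L, cj(g, U) ∈ {C | C ∈ Ω ∧ SnIn C L} :=
    fun U hU g hg => ⟨c.conj hU.1 g, hU.2.conj_smul (le_normalizer hg)⟩
  rcases (show S₀ ⊆ {C | C ∈ Ω ∧ SnIn C L} from h).eq_or_ssubset with h1 | h1
  · left; rw [h1]; exact Grp.le_normalizer_sSup fun g hg U hU => hc U hU g hg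
  · obtain ⟨X, hX, h2, h3⟩ := Grp.exists_notMem_le_normalizer_sSup (fun U hU => hU.2) hc h1
    exact Or.inr ⟨X, hX.1, hX.2, h2, h3⟩

theorem MaxConf.exists_two (c : Ctx Ω μ) (h : MaxConf Ω μ Δ) :
    ∃ A ∈ Δ, ∃ X ∈ Δ, A ≠ X ∧ sSup Δ ≤ 𝐍[A] ∧ sSup Δ ≤ 𝐍[X] := by
  obtain ⟨A, hA, L, hL, hne, h1⟩ := h.ex
  have hAL : A ≤ L := (le_sSup hA).trans (h1.trans inf_le_right)
  have hAn : sSup Δ ≤ 𝐍[A] := h1.trans (c.inf_le (h.sub hA) hL hAL hne)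
  refine ⟨A, hA, ?_⟩
  by_cases hX : ∃ X ∈ Δ, μ X = L
  · obtain ⟨X, hX, rfl⟩ := hX
    refine ⟨X, hX, fun he => hne (he ▸ rfl), hAn, le_trans ?_ (c.inf_le (h.sub hX)
      (c.coat (h.sub hA)) ((le_sSup hX).trans (h1.trans inf_le_left)) hne.symm)⟩
    rwa [inf_comm]
  push Not at hX
  obtain ⟨y, hy, hyA⟩ : ∃ y ∈ 𝐍[(sSup Δ : Subgroup G)], y ∉ μ A := by
    rcases exists_normalizer (L := L) c (S₀ := Δ) (fun C hC => ⟨h.sub hC, c.sn (h.sub hC) hL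
      ((le_sSup hC).trans (h1.trans inf_le_right)) (hX C hC).symm⟩) with h2 | ⟨C, hC, h2, h3, h4⟩
    · obtain ⟨y, hy, hy'⟩ := SetLike.not_le_iff_exists.1
        fun h3 => hne ((hL.le_iff_eq (c.coat (h.sub hA)).1).1 h3).symm
      exact ⟨y, h2 hy, hy'⟩
    · obtain ⟨y, hy, hy'⟩ := SetLike.not_le_iff_exists.1
        fun h5 => h3 (h.mem hA hL hne h1 hC (le_inf h5 h2.le))
      exact ⟨y, h4 hy, hy'⟩
  obtain ⟨a, b⟩ := cj_mem_of_normalizer (le_sSup hA) hAn hy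
  exact ⟨_, h.mem_of_le (c.conj (h.sub hA) y) a,
    fun he => hyA (c.normalizer_le (h.sub hA) (cj_eq_iff.1 he.symm)), hAn, b⟩

/-- a good member of a configuration -/
def Good (μ : Subgroup G → Subgroup G) (Δ : Set (Subgroup G)) (X : Subgroup G) : Prop :=
  X ∈ Δ ∧ sSup Δ ≤ 𝐍[X] ∧ ∃ g ∈ μ X, g ∈ 𝐍[(sSup (Δ \ {X}) : Subgroup G)] ∧
    g ∉ 𝐍[(sSup Δ : Subgroup G)]

theorem MaxConf.good_or (c : Ctx Ω μ) (h : MaxConf Ω μ Δ) {B X : Subgroup G} (hB : B ∈ Δ)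
    (hX : X ∈ Δ) (hne : B ≠ X) (hBn : sSup Δ ≤ 𝐍[B]) (hXn : sSup Δ ≤ 𝐍[X]) :
    Good μ Δ B ∨ (𝐍[(sSup Δ : Subgroup G)] ≤ μ B ∧
      ∃ C ∈ Ω, C ∉ Δ ∧ C ≤ μ B ∧ C ≤ 𝐍[(sSup Δ : Subgroup G)]) := by
  have hB' := hBn.trans (c.normalizer_le (h.sub hB))
  have hX' := hXn.trans (c.normalizer_le (h.sub hX))
  rcases exists_normalizer (L := μ B) c (S₀ := Δ \ {B}) (fun C hC => ⟨h.sub hC.1,
    c.sn (h.sub hC.1) (c.coat (h.sub hB)) ((le_sSup hC.1).trans hB')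
      (h.mu_ne c hB hC.1 (Ne.symm hC.2))⟩) with h2 | ⟨C, hC, h2, h3, h4⟩
  · left
    obtain ⟨g, hg, hg'⟩ := SetLike.not_le_iff_exists.1 (show ¬ μ B ≤ 𝐍[(sSup Δ : Subgroup G)] from
      fun h3 => c.ns (h.sub hB) (SnIn.of_le_normalizer (c.le (h.sub hB)) fun g hg => by
        have h4 := h.mem_of_le (c.conj (h.sub hB) g) (cj_le_of_mem_normalizer (le_sSup hB) (h3 hg))
        by_contra h5
        exact h.mu_ne c h4 hB (fun h6 => h5 (cj_eq_iff.1 h6))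
          (by rw [c.mu_cj (h.sub hB), cj_of_mem hg])))
    exact ⟨hB, hBn, g, hg, h2 hg, hg'⟩
  · have hCΔ : C ∉ Δ := fun h5 => h3 ⟨h5, by rintro rfl; exact c.ns hC h2⟩
    by_cases h5 : C ≤ 𝐍[(sSup Δ : Subgroup G)]
    · refine Or.inr ⟨?_, C, hC, hCΔ, h2.le, h5⟩
      by_contra h6
      have h7 : 𝐍[(sSup Δ : Subgroup G)] ≠ ⊤ := fun h7 => (c.coat (h.sub hB)).1 (top_le_iff.1
        ((c.top (h.sub hB) (normalizer_eq_top_iff.1 h7) (le_sSup hB)).ge.trans hB'))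
      obtain ⟨L, hL, hle⟩ := (eq_top_or_exists_le_coatom _).resolve_left h7
      exact hCΔ (h.mem hB hL (fun he => h6 (he ▸ hle)) (le_inf hB' (le_normalizer.trans hle)) hC
        (le_inf h2.le (h5.trans hle)))
    · obtain ⟨g, hg, hg'⟩ := SetLike.not_le_iff_exists.1 h5
      exact Or.inl ⟨hB, hBn, g, h2.le hg, h4 hg, hg'⟩

theorem MaxConf.exists_two_good (c : Ctx Ω μ) (h : MaxConf Ω μ Δ) :
    ∃ A X, A ≠ X ∧ Good μ Δ A ∧ Good μ Δ X := by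
  have key : ∀ {B X : Subgroup G}, B ∈ Δ → X ∈ Δ → B ≠ X → sSup Δ ≤ 𝐍[B] → sSup Δ ≤ 𝐍[X] →
      ¬ Good μ Δ B → ∃ A X, A ≠ X ∧ Good μ Δ A ∧ Good μ Δ X := by
    intro B X hB hX hne hBn hXn hG
    obtain ⟨h1, C, hC, hCΔ, h2, h3⟩ := (h.good_or c hB hX hne hBn hXn).resolve_left hG
    have k : ∀ {Y : Subgroup G}, Y ∈ Δ → B ≠ Y → sSup Δ ≤ 𝐍[Y] → ¬ C ≤ μ Y ∧ Good μ Δ Y := by
      intro Y hY hne hYn
      have h4 : ¬ C ≤ μ Y := fun h4 => hCΔ (h.mem hB (c.coat (h.sub hY))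
        (h.mu_ne c hB hY hne).symm (le_inf (hBn.trans (c.normalizer_le (h.sub hB)))
          (hYn.trans (c.normalizer_le (h.sub hY)))) hC (le_inf h2 h4))
      exact ⟨h4, (h.good_or c hY hB hne.symm hYn hBn).resolve_right fun h5 => h4 (h3.trans h5.1)⟩
    obtain ⟨h4, h5⟩ := k hX hne hXn
    obtain ⟨b, hb, hb'⟩ := SetLike.not_le_iff_exists.1 h4
    obtain ⟨a1, a2⟩ := cj_mem_of_normalizer (le_sSup hX) hXn (h3 hb)
    have a3 := h.mem_of_le (c.conj (h.sub hX) b) a1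
    refine ⟨X, _, fun he => hb' (c.normalizer_le (h.sub hX) (cj_eq_iff.1 he.symm)), h5,
      (k a3 (fun he => h.mu_ne c hB hX hne ?_) a2).2⟩
    rw [← cj_inj (g := b), ← c.mu_cj (h.sub hX), ← he, cj_of_mem (h2 hb)]
  obtain ⟨A, hA, X, hX, hne, hAn, hXn⟩ := h.exists_two c
  by_cases h1 : Good μ Δ A
  · by_cases h2 : Good μ Δ X
    · exact ⟨A, X, hne, h1, h2⟩
    · exact key hX hA hne.symm hXn hAn h2
  · exact key hA hX hne hAn hXn h1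

theorem MaxConf.step (c : Ctx Ω μ) (h : MaxConf Ω μ Δ) {X : Subgroup G} (hX : Good μ Δ X) :
    ∃ Δ' B X', MaxConf Ω μ Δ' ∧ Good μ Δ' B ∧ sSup Δ' ≤ 𝐍[X'] ∧
      (∀ C ∈ Δ', C = X' ∨ C ∈ Δ \ {X}) ∧ B ∈ Δ \ {X} ∧ ¬ X ≤ 𝐍[B] := by
  obtain ⟨hXΔ, hXn, g, hg, hg1, hg2⟩ := hX
  have h' := h.cj c g
  have hsup : sSup Δ = sSup (Δ \ {X}) ⊔ X := le_antisymm (sSup_le fun C hC => by
    by_cases he : C = X
    · exact he.le.trans le_sup_right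
    · exact (le_sSup (show C ∈ Δ \ {X} from ⟨hC, he⟩)).trans le_sup_left)
    (sup_le (sSup_le_sSup Set.sdiff_subset) (le_sSup hXΔ))
  have hsub : ∀ C ∈ (fun U => cj(g, U)) '' Δ, C = cj(g, X) ∨ C ∈ Δ \ {X} := by
    rintro _ ⟨C, hC, rfl⟩
    by_cases he : C = X
    · exact Or.inl (he ▸ rfl)
    have h1 : cj(g, C) ≤ sSup (Δ \ {X}) :=
      cj_le_of_mem_normalizer (le_sSup (show C ∈ Δ \ {X} from ⟨hC, he⟩)) hg1
    refine Or.inr ⟨h.mem_of_le (c.conj (h.sub hC) g) (h1.trans (sSup_le_sSup Set.sdiff_subset)),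
      fun h2 => hg2 ?_⟩
    rw [hsup, sup_eq_left.2 (Set.mem_singleton_iff.1 h2 ▸ h1)]
    exact hg1
  have hn : sSup ((fun U => cj(g, U)) '' Δ) ≤ 𝐍[cj(g, X)] := by
    rw [← cj_sSup, normalizer_cj]; exact cj_mono g hXn
  obtain ⟨B, hB, hne⟩ : ∃ B, Good μ ((fun U => cj(g, U)) '' Δ) B ∧ B ≠ cj(g, X) := by
    obtain ⟨A, Y, hAY, hA, hY⟩ := h'.exists_two_good c
    by_cases he : A = cj(g, X)
    · exact ⟨Y, hY, fun h1 => hAY (he.trans h1.symm)⟩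
    · exact ⟨A, hA, he⟩
  refine ⟨_, B, _, h', hB, hn, hsub, (hsub B hB.1).resolve_left hne, fun h1 => hg2 ?_⟩
  have hX' : cj(g, X) ∈ (fun U => cj(g, U)) '' Δ := ⟨X, hXΔ, rfl⟩
  have hmu : μ cj(g, X) = μ X := by rw [c.mu_cj (h.sub hXΔ), cj_of_mem hg]
  have h2 := h'.mem hB.1 (c.coat (h'.sub hX')) (h'.mu_ne c hB.1 hX' hne).symm
    (le_inf (hB.2.1.trans (c.normalizer_le (h'.sub hB.1))) (hn.trans (c.normalizer_le (h'.sub hX'))))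
    (h.sub hXΔ) (le_inf (h1.trans (c.normalizer_le (h'.sub hB.1))) (hmu ▸ c.le (h.sub hXΔ)))
  have h3 := (hsub X h2).resolve_right fun h3 => h3.2 rfl
  rw [hsup]
  exact le_normalizer_sup (L := zpowers g) (zpowers_le.2 hg1) (zpowers_le.2 (cj_eq_iff.1 h3.symm))
    (mem_zpowers g)

theorem Ctx.false (c : Ctx Ω μ) {A L : Subgroup G} (hA : A ∈ Ω) (hL : IsCoatom L) (h : A ≤ L)
    (hne : L ≠ μ A) : False := by
  obtain ⟨⟨B, K⟩, ⟨hB, hK, h1, h2⟩, hmax⟩ := Set.exists_max_image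
    {x : Subgroup G × Subgroup G | x.1 ∈ Ω ∧ IsCoatom x.2 ∧ x.1 ≤ x.2 ∧ x.2 ≠ μ x.1}
    (fun x => (conf Ω μ x.1 x.2).ncard) (Set.toFinite _) ⟨⟨A, L⟩, hA, hL, h, hne⟩
  have h0 : MaxConf Ω μ (conf Ω μ B K) := ⟨fun _ h => h.1,
    ⟨B, ⟨hB, le_inf (c.le hB) h1⟩, K, hK, h2, sSup_le fun _ h => h.2⟩,
    fun B' hB' L' hL' a b => hmax ⟨B', L'⟩ ⟨hB', hL', a, b⟩⟩
  obtain ⟨X₀, -, -, hX₀, -⟩ := h0.exists_two_good c
  let T := {x : Set (Subgroup G) × Subgroup G // MaxConf Ω μ x.1 ∧ Good μ x.1 x.2}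
  have hstep : ∀ x : T, ∃ y : T, ∃ X', sSup y.1.1 ≤ 𝐍[X'] ∧
      (∀ C ∈ y.1.1, C = X' ∨ C ∈ x.1.1 \ {x.1.2}) ∧ y.1.2 ∈ x.1.1 \ {x.1.2} ∧
      ¬ x.1.2 ≤ 𝐍[y.1.2] := fun x => by
    obtain ⟨Δ', B, X', a, b, d⟩ := x.2.1.step c x.2.2
    exact ⟨⟨⟨Δ', B⟩, a, b⟩, X', d⟩
  choose f hf using hstep
  have key : ∀ (d : ℕ) (x : T), (f^[d + 1] x).1.2 ∈ x.1.1 \ {x.1.2} := by
    intro d
    induction d using Nat.strong_induction_on with
    | _ d ih =>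
      intro x
      obtain ⟨X', a1, a2, a3, -⟩ := hf x
      rcases d with _ | d
      · exact a3
      have h3 := ih d (Nat.lt_succ_self d) (f x)
      refine (a2 _ h3.1).resolve_left fun he => ?_
      obtain ⟨-, -, -, -, b⟩ := hf (f^[d] (f x))
      rw [← Function.iterate_succ_apply' f d (f x), he] at b
      refine b (le_trans (le_sSup ?_) a1)
      rcases d with _ | d
      · exact (f x).2.2.1
      · exact (ih d (by omega) (f x)).1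
  let x₀ : T := ⟨⟨_, X₀⟩, h0, hX₀⟩
  obtain ⟨i, j, hij, he⟩ := Finite.exists_ne_map_eq_of_infinite fun n : ℕ => (f^[n] x₀).1.2
  have k : ∀ i j : ℕ, i < j → (f^[i] x₀).1.2 ≠ (f^[j] x₀).1.2 := fun i j hij he => by
    obtain ⟨d, rfl⟩ := Nat.exists_eq_add_of_lt hij
    have := (key d (f^[i] x₀)).2
    rw [← Function.iterate_add_apply, show d + 1 + i = i + d + 1 by omega] at this
    exact this he.symm
  rcases lt_or_gt_of_ne hij with h3 | h3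
  · exact k i j h3 he
  · exact k j i h3 he.symm

/-- Flavell's theorem. -/
theorem flavell_zipper {A M N : Subgroup G} (hA : ∀ K : Subgroup G, K.Normal → A ≤ K → K = ⊤)
    (hM : IsCoatom M) (hAM : A ≤ M) (hN : IsCoatom N) (hAN : A ≤ N) (hne : N ≠ M)
    (hsn : ∀ L, IsCoatom L → A ≤ L → L ≠ M → SnIn A L) : False := by
  induction hn : A.index using Nat.strong_induction_on generalizing A M N with
  | _ n ih =>
  by_cases hs : SnIn A M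
  · have hns : ¬ SnIn A ⊤ := fun h => by
      obtain ⟨K, h1, h2, h3⟩ := h.exists_normal_lt_of_ne fun h1 => hM.1 (top_le_iff.1 (h1 ▸ hAM))
      exact h2.ne (hA K (normalizer_eq_top_iff.1 (top_le_iff.1 h3)) h1)
    obtain ⟨K, hK, hK'⟩ := Grp.zipper le_top hns fun W h1 h2 => by
      obtain ⟨L, hL, hle⟩ := (eq_top_or_exists_le_coatom _).resolve_left h2.ne
      refine SnIn.mono ?_ h1 hle
      by_cases he : L = M
      · exact he ▸ hs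
      · exact hsn L hL (h1.trans hle) he
    exact hne (((hN.le_iff_eq hK.ne).1 (hK' N hAN hN.lt_top)).symm.trans
      ((hM.le_iff_eq hK.ne).1 (hK' M hAM hM.lt_top)))
  let Ω : Set (Subgroup G) := {B | ∃ g : G, B = cj(g, A)}
  let μ : Subgroup G → Subgroup G := fun B => sSup {L | IsCoatom L ∧ B ≤ L ∧ ¬ SnIn B L}
  have hsn' : ∀ (g : G) (L : Subgroup G), IsCoatom L → cj(g, A) ≤ L → L ≠ cj(g, M) →
      SnIn cj(g, A) L := fun g L hL h1 h2 => by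
    have := snIn_cj (hsn cj(g⁻¹, L) (coatom_cj hL _) (cj_le_iff.1 h1)
      fun he => h2 (by rw [← he, cj_cj_inv])) g
    rwa [cj_cj_inv] at this
  have hns' : ∀ g : G, ¬ SnIn cj(g, A) cj(g, M) := fun g h => by
    have := snIn_cj h g⁻¹
    rw [cj_inv_cj, cj_inv_cj] at this
    exact hs this
  have hμ : ∀ g : G, μ cj(g, A) = cj(g, M) := fun g => le_antisymm (sSup_le fun L hL => by
    by_contra h1
    exact hL.2.2 (hsn' g L hL.1 hL.2.1 fun he => h1 he.le))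
    (le_sSup ⟨coatom_cj hM g, cj_mono g hAM, hns' g⟩)
  have htop : ∀ (g : G) (K : Subgroup G), K.Normal → cj(g, A) ≤ K → K = ⊤ := fun g K hK h =>
    hA K hK (by rw [← cj_of_normal g⁻¹ K]; exact cj_le_iff.1 h)
  have c : Ctx Ω μ := by
    refine ⟨?_, ?_, ?_, ?_, ?_, ?_, ?_⟩
    · rintro _ ⟨g, rfl⟩ h; exact ⟨h * g, (cj_mul _ _ _).symm⟩
    · rintro _ ⟨g, rfl⟩; rw [hμ]; exact coatom_cj hM g
    · rintro _ ⟨g, rfl⟩; rw [hμ]; exact cj_mono g hAM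
    · rintro _ ⟨g, rfl⟩; rw [hμ]; exact hns' g
    · rintro _ L ⟨g, rfl⟩; rw [hμ]; exact hsn' g L
    · rintro _ K ⟨g, rfl⟩; exact htop g K
    · rintro _ _ L ⟨g, rfl⟩ ⟨h, rfl⟩ he hL h1 h2 h3
      rw [hμ] at he h3
      rw [hμ] at he
      by_contra h4
      have h5 : cj(g, A) < cj(g, A) ⊔ cj(h, A) := lt_of_le_of_ne le_sup_left fun h5 =>
        h4 (eq_of_le_of_card_ge (h5 ▸ le_sup_right) (by rw [card_cj, card_cj])).symm
      refine ih (cj(g, A) ⊔ cj(h, A)).index ?_ (fun K hK h6 => htop g K hK (h5.le.trans h6))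
        (coatom_cj hM g) (sup_le (cj_mono g hAM) (he ▸ cj_mono h hAM)) hL (sup_le h1 h2) h3
        (fun L' hL' h6 h7 => (hsn' g L' hL' (le_sup_left.trans h6) h7).sup
          (hsn' h L' hL' (le_sup_right.trans h6) (he ▸ h7))) rfl
      rw [← hn, ← index_map_equiv A (MulAut.conj g)]
      exact index_strictAnti h5
  have h1 := hμ 1
  rw [cj_one, cj_one] at h1
  exact c.false (A := A) ⟨1, (cj_one A).symm⟩ hN hAN (h1 ▸ hne)

/-- If all proper `H = ⟨A^H⟩` lie in the maximal subgroup `M`, then `M` is the only maximal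
subgroup containing `A`. -/
theorem eq_of_forall_ncl_le {A M N : Subgroup G}
    (hA : ∀ K : Subgroup G, K.Normal → A ≤ K → K = ⊤) (hM : IsCoatom M)
    (h : ∀ H : Subgroup G, A ≤ H → H ≠ ⊤ → CP.ncl A H = H → H ≤ M) (hN : IsCoatom N)
    (hAN : A ≤ N) : N = M := by
  by_contra hne
  obtain ⟨N, ⟨hN, hAN, hne⟩, hmax⟩ := (wellFounded_gt (α := Subgroup G)).onFun
    (f := fun L => CP.sncl A L) |>.has_min {L | IsCoatom L ∧ A ≤ L ∧ L ≠ M} ⟨N, hN, hAN, hne⟩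
  have h1 := CP.sncl_le_of_le hAN
  refine flavell_zipper (A := CP.sncl A N) (fun K hK h => hA K hK ((CP.le_sncl A N).trans h)) hM
    (h _ (CP.le_sncl A N) (fun h2 => hN.1 (top_le_iff.1 (h2 ▸ h1))) (CP.ncl_sncl hAN)) hN h1 hne
    fun L hL h2 h3 => ?_
  have hAL := (CP.le_sncl A N).trans h2
  have h4 : CP.sncl A N ≤ CP.sncl A L := by
    rw [← CP.eq_sncl_of_snIn hAN (le_inf (CP.le_sncl A L) (CP.le_sncl A N))
      ((CP.snIn_sncl hAL).inf_of_le h2)]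
    exact inf_le_left
  rw [h4.eq_of_not_lt (hmax L ⟨hL, hAL, h3⟩)]
  exact CP.snIn_sncl hAL

end Cfsg.Agent.PLocal.FZ
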