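import Mathlib
import Cfsg.Agent.FGS.Baer
import Cfsg.Agent.Grp.CritExp
import Cfsg.Agent.Grp.Card
import Cfsg.Agent.PLocal.PConstr
import Cfsg.Agent.PLocal.CoprimeQuot
import Cfsg.Agent.PLocal.CommMod
import Cfsg.Agent.Solv.FrobeniusAction

/-!
The Thompson-Bender signalizer lemma: in a `p`-constrained group, `p'`-subgroups normalized by a
suitable `p`-subgroup lie in `O_{p'}`.
-/

set_option autoImplicit false

namespace Cfsg.Agent.PLocal.TB

open Subgroup
open scoped commutatorElement

variable {G : Type*} [Group G] {p : ℕ}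

/-- Abelian case: if `K` fixes the fixed points of `A` on an abelian `p`-group then `K` acts
trivially. -/
theorem fix_of_fixed {F V : Type*} [Group F] [Finite F] [CommGroup V] [Finite V]
    [hp : Fact p.Prime] (φ : F →* MulAut V) (K A : Subgroup F)
    (hAK : A ≤ normalizer (K : Set F)) (hA : IsPGroup p A) (hV : IsPGroup p V)
    (hK : (Nat.card K).Coprime p) (h : ∀ v, (∀ a ∈ A, φ a v = v) → ∀ k ∈ K, φ k v = v) :
    ∀ k ∈ K, ∀ v, φ k v = v := by
  classical
  have := Fintype.ofFinite K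
  let N : V →* V := ∏ k : K, (φ k).toMonoidHom
  have hN : ∀ v, N v = ∏ k : K, φ k v := fun v => by
    simp only [N, MonoidHom.finsetProd_apply]
    rfl
  have hNa : ∀ a ∈ A, ∀ v, N (φ a v) = φ a (N v) := by
    intro a ha v
    rw [hN, hN, map_prod]
    let e : K ≃ K := (Solv.Frob.conjHom K A hAK ⟨a, ha⟩).toEquiv
    refine (Fintype.prod_equiv e _ _ fun k => ?_).symm
    have : ((e k : K) : F) = a * k * a⁻¹ := Solv.Frob.conjHom_apply hAK ⟨a, ha⟩ k
    rw [this, ← MulAut.mul_apply, ← MulAut.mul_apply, ← map_mul, ← map_mul, inv_mul_cancel_right]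
  have hker : N.ker = ⊥ := by
    by_contra hne
    let : MulAction A N.ker :=
      { smul := fun a w => ⟨φ a w, by rw [MonoidHom.mem_ker, hNa a a.2, w.2, map_one]⟩
        one_smul := fun w => Subtype.ext (by
          change φ ((1 : A) : F) w = w
          simp)
        mul_smul := fun a b w => Subtype.ext (by
          change φ ((a * b : A) : F) w = φ a (φ b w)
          simp) }
    have hd : p ∣ Nat.card N.ker := by
      rcases (hV.to_subgroup N.ker).card_eq_or_dvd with h1 | h1
      · exact absurd (card_eq_one.mp h1) hne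
      · exact h1
    obtain ⟨w, hw, hw1⟩ := hA.exists_fixed_point_of_prime_dvd_card_of_fixed_point N.ker hd
      (a := 1) (fun a => Subtype.ext (map_one (φ a)))
    have h1 := h w (fun a ha => congrArg Subtype.val (hw ⟨a, ha⟩))
    have h2 : (w : V) ^ Nat.card K = 1 := by
      have := w.2
      rw [MonoidHom.mem_ker, hN, Finset.prod_congr rfl (fun (k : K) _ => h1 k k.2), Finset.prod_const,
        Finset.card_univ, Fintype.card_eq_nat_card] at this
      exact this
    obtain ⟨n, hn⟩ := hV w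
    have h3 := Nat.dvd_gcd (orderOf_dvd_of_pow_eq_one h2) (orderOf_dvd_of_pow_eq_one hn)
    rw [(hK.pow_right n).gcd_eq_one, Nat.dvd_one, orderOf_eq_one_iff] at h3
    exact hw1 (Subtype.ext h3.symm)
  intro k hk v
  apply (MonoidHom.ker_eq_bot_iff N).mp hker
  rw [hN, hN]
  refine Fintype.prod_equiv (Equiv.mulRight (⟨k, hk⟩ : K)) _ _ fun j => ?_
  rw [← MulAut.mul_apply, ← map_mul]
  rfl

/-- Bender's lemma for odd `p`. -/
theorem le_centralizer_of_odd [Finite G] [hp : Fact p.Prime] (hp2 : p ≠ 2) {R A K : Subgroup G}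
    (hR : IsPGroup p R) (hA : IsPGroup p A) (hK : (Nat.card K).Coprime p)
    (hAK : A ≤ normalizer (K : Set G)) (hAR : A ≤ normalizer (R : Set G))
    (hKR : K ≤ normalizer (R : Set G))
    (h : ∀ x ∈ R, x ∈ centralizer (A : Set G) → x ^ p = 1 → x ∈ centralizer (K : Set G)) :
    K ≤ centralizer (R : Set G) := by
  obtain ⟨D, hDR, hN, hexp, hcl, hfaith⟩ := Grp.CritExp.exists_char_amb hR
  rw [Grp.CritExp.expQ_of_ne hp2] at hexp
  have hD : IsPGroup p D := hR.to_le hDR
  obtain ⟨m, hm⟩ := FGS.exists_baerData (G := D)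
    (by
      obtain ⟨n, hn⟩ := IsPGroup.iff_card.mp hD
      rw [hn]
      exact (hp.out.odd_of_ne_two hp2).pow)
    (fun x y z => Subtype.ext
      ((hcl (commutator_mem_commutator x.2 (hDR y.2))).2 z z.2).symm)
  have hF : K ⊔ A ≤ normalizer (D : Set G) := sup_le (hKR.trans hN) (hAR.trans hN)
  let φ : ↥(K ⊔ A) →* MulAut (FGS.Baer D m) :=
    (FGS.Baer.mapAut m).comp (Solv.Frob.conjHom D (K ⊔ A) hF)
  have hφ : ∀ (f : ↥(K ⊔ A)) (x : D), φ f (FGS.Baer.of m x) = FGS.Baer.of m x ↔
      (f : G) * x = x * f := by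
    intro f x
    change FGS.Baer.mapAut m _ _ = _ ↔ _
    rw [FGS.Baer.mapAut_of, (FGS.Baer.of m).injective.eq_iff, Subtype.ext_iff,
      Solv.Frob.conjHom_apply, mul_inv_eq_iff_eq_mul]
  have key := fix_of_fixed φ (K.subgroupOf (K ⊔ A)) (A.subgroupOf (K ⊔ A))
    (fun a ha => by
      rw [mem_normalizer_iff]
      intro k
      exact (mem_normalizer_iff.mp (hAK ha)) k)
    (hA.comap_subtype) (FGS.Baer.isPGroup hD)
    (by rw [Grp.card_subgroupOf_of_le le_sup_left]; exact hK)
    (by
      intro v hv k hk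
      obtain ⟨x, rfl⟩ := (FGS.Baer.of m).surjective v
      rw [hφ]
      refine h x (hDR x.2) (fun a ha => ?_) (hexp x x.2) k hk
      exact (hφ ⟨a, mem_sup_right ha⟩ x).mp (hv _ ha))
  intro k hk
  refine hfaith k (hKR hk) (hK.coprime_dvd_left (K.orderOf_dvd_natCard hk)) fun x hx => ?_
  exact ((hφ ⟨k, mem_sup_left hk⟩ ⟨x, hx⟩).mp (key _ hk _)).symm

/-- An element of `R` normalizing `K` centralizes `K` if `K` normalizes `R` coprimely. -/
theorem mem_centralizer_of_mem_normalizer [Finite G] [Fact p.Prime] {R K : Subgroup G}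
    (hR : IsPGroup p R) (hK : (Nat.card K).Coprime p) (hKR : K ≤ normalizer (R : Set G)) {x : G}
    (hx : x ∈ R) (hxK : x ∈ normalizer (K : Set G)) : x ∈ centralizer (K : Set G) := by
  intro k hk
  have h1 : k * x * k⁻¹ * x⁻¹ ∈ R ⊓ K :=
    ⟨R.mul_mem (CommMod.conj_mem_of_mem_normalizer (hKR hk) hx) (R.inv_mem hx), by
      have := K.mul_mem hk (CommMod.conj_mem_of_mem_normalizer hxK (K.inv_mem hk))
      simp only [mul_assoc] at this ⊢
      exact this⟩
  rw [Grp.inf_eq_bot_of_isPGroup_of_coprime hR hK, mem_bot] at h1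
  exact commutatorElement_eq_one_iff_mul_comm.mp h1

/-- The case where `[R, E] ≤ E`. -/
theorem le_centralizer_of_commutator_le [Finite G] [Fact p.Prime] {R E K : Subgroup G}
    (hR : IsPGroup p R) (hE : IsPGroup p E) (hK : (Nat.card K).Coprime p)
    (hEK : E ≤ normalizer (K : Set G)) (hER : E ≤ normalizer (R : Set G))
    (hKR : K ≤ normalizer (R : Set G)) (hRE : R ≤ normalizer (E : Set G))
    (hC : R ⊓ centralizer (E : Set G) ≤ normalizer (K : Set G)) :
    K ≤ centralizer (R : Set G) := by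
  have hVK : R ⊓ E ≤ centralizer (K : Set G) := fun x hx =>
    mem_centralizer_of_mem_normalizer hR hK hKR hx.1 (hEK hx.2)
  have hKV : K ≤ centralizer ((R ⊓ E : Subgroup G) : Set G) := le_centralizer_iff.mp hVK
  have hRE' : ⁅R, E⁆ ≤ R ⊓ E := le_inf (Solv.commutator_le_of_le_normalizer hER)
    (by rw [commutator_comm]; exact Solv.commutator_le_of_le_normalizer hRE)
  have hKE : ⁅K, E⁆ ≤ K := Solv.commutator_le_of_le_normalizer hEK
  have hcop : (Nat.card E).Coprime (Nat.card K) := (Solv.coprime_card_of_isPGroup hE hK).symm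
  rw [← Solv.coprime_commutator_sup_centralizer E K hEK hcop
    (Or.inl (Solv.isSolvable_of_isPGroup hE))]
  refine sup_le ?_ ?_
  · have h1 : ⁅⁅K, E⁆, R⁆ ≤ R ⊓ E := by
      refine CommMod.three_subgroups_mod (hKV.trans (centralizer_le_normalizer _))
        (Solv.le_normalizer_inf hER le_normalizer) (Solv.le_normalizer_inf le_normalizer hRE) ?_ ?_
      · rw [commutator_comm E R]
        refine (commutator_mono hRE' le_rfl).trans ?_
        rw [commutator_eq_bot_iff_le_centralizer.mpr hVK]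
        exact bot_le
      · exact (commutator_mono (Solv.commutator_le_of_le_normalizer hKR) le_rfl).trans hRE'
    rw [← commutator_eq_bot_iff_le_centralizer, commutator_comm]
    refine Solv.coprime_commutator_eq_bot _ R (hKE.trans hKR)
      (Solv.coprime_card_of_isPGroup hR (hK.coprime_dvd_left (card_dvd_of_le hKE)))
      (Or.inr (Solv.isSolvable_of_isPGroup hR)) ?_
    rw [eq_bot_iff, commutator_comm R]
    refine (commutator_mono h1 hKE).trans ?_
    rw [commutator_eq_bot_iff_le_centralizer.mpr hVK]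
  · refine Solv.p_times_q p E _ R hE (hK.coprime_dvd_left (card_dvd_of_le inf_le_left)) hR
      (le_centralizer_iff.mp inf_le_right) hER (inf_le_left.trans hKR) fun x hx => ?_
    exact centralizer_le (fun k hk => hk.1)
      (mem_centralizer_of_mem_normalizer hR hK hKR hx.1 (hC hx))

theorem le_pPrimeCore_of_map_le_centralizer [Finite G] [Fact p.Prime] (hG : IsPConstrained p G)
    {K : Subgroup G} (hK : (Nat.card K).Coprime p)
    (h : K.map (QuotientGroup.mk' (pPrimeCore p G)) ≤
      centralizer (pCore p (G ⧸ pPrimeCore p G) : Set (G ⧸ pPrimeCore p G))) :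
    K ≤ pPrimeCore p G := by
  have h1 : K.map (QuotientGroup.mk' (pPrimeCore p G)) = ⊥ := by
    rw [eq_bot_iff, ← Grp.inf_eq_bot_of_isPGroup_of_coprime (Grp.pCore_isPGroup p _)
      (hK.coprime_dvd_left (card_map_dvd K (QuotientGroup.mk' (pPrimeCore p G))))]
    exact le_inf (h.trans (isPConstrained_iff.mp hG)) le_rfl
  rwa [Subgroup.map_eq_bot_iff, QuotientGroup.ker_mk'] at h1

/-- The Thompson-Bender lemma. -/
theorem le_pPrimeCore_of_odd [Finite G] [hp : Fact p.Prime] (hp2 : p ≠ 2)
    (hG : IsPConstrained p G) {A K : Subgroup G} (hA : IsPGroup p A) (hK : (Nat.card K).Coprime p)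
    (hAK : A ≤ normalizer (K : Set G))
    (h : ∀ x ∈ centralizer (A : Set G), x ^ p = 1 → x ∈ normalizer (K : Set G)) :
    K ≤ pPrimeCore p G := by
  set f := QuotientGroup.mk' (pPrimeCore p G) with hf
  have hk : (Nat.card f.ker).Coprime p := by
    rw [hf, QuotientGroup.ker_mk']; exact Grp.pPrimeCore_coprime p G
  have hK' : (Nat.card (K.map f)).Coprime p := hK.coprime_dvd_left (card_map_dvd K f)
  have hn : ∀ B : Subgroup (G ⧸ pPrimeCore p G),
      B ≤ normalizer (pCore p (G ⧸ pPrimeCore p G) : Set (G ⧸ pPrimeCore p G)) := fun B => by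
    rw [normalizer_eq_top]; exact le_top
  refine le_pPrimeCore_of_map_le_centralizer hG hK (le_centralizer_of_odd hp2
    (Grp.pCore_isPGroup p _) (hA.map f) hK' ((map_mono hAK).trans (le_normalizer_map f)) (hn _)
    (hn _) fun x hx hxA hxp => ?_)
  rw [← map_centralizer_of_isPGroup f (QuotientGroup.mk'_surjective _) A hA hk] at hxA
  obtain ⟨y, hy, rfl, hyp⟩ := exists_lift_of_pow_eq_one (k := 1) f _ hk hxA (by rwa [pow_one])
  exact mem_centralizer_of_mem_normalizer (Grp.pCore_isPGroup p _) hK' (hn _) hx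
    (le_normalizer_map f ⟨y, h y hy (by rwa [pow_one] at hyp), rfl⟩)

/-- The signalizer lemma for a `p`-subgroup normalized by a Sylow subgroup. -/
theorem le_pPrimeCore_of_sylow [Finite G] [hp : Fact p.Prime]
    (hG : IsPConstrained p G) {E K : Subgroup G} (hE : IsPGroup p E) (hK : (Nat.card K).Coprime p)
    (hEK : E ≤ normalizer (K : Set G)) (S : Sylow p G)
    (hS : (S : Subgroup G) ≤ normalizer (E : Set G))
    (h : ∀ x ∈ centralizer (E : Set G), (∃ k, x ^ p ^ k = 1) → x ∈ normalizer (K : Set G)) :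
    K ≤ pPrimeCore p G := by
  set f := QuotientGroup.mk' (pPrimeCore p G) with hf
  have hk : (Nat.card f.ker).Coprime p := by
    rw [hf, QuotientGroup.ker_mk']; exact Grp.pPrimeCore_coprime p G
  have hK' : (Nat.card (K.map f)).Coprime p := hK.coprime_dvd_left (card_map_dvd K f)
  have hn : ∀ B : Subgroup (G ⧸ pPrimeCore p G),
      B ≤ normalizer (pCore p (G ⧸ pPrimeCore p G) : Set (G ⧸ pPrimeCore p G)) := fun B => by
    rw [normalizer_eq_top]; exact le_top
  refine le_pPrimeCore_of_map_le_centralizer hG hK (le_centralizer_of_commutator_le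
    (Grp.pCore_isPGroup p _) (hE.map f) hK' ((map_mono hEK).trans (le_normalizer_map f)) (hn _)
    (hn _) ?_ fun x hx => ?_)
  · refine (Grp.pCore_le_sylow (S.mapSurjective (QuotientGroup.mk'_surjective _))).trans ?_
    exact (map_mono hS).trans (le_normalizer_map f)
  · obtain ⟨k, hxk⟩ := Grp.pCore_isPGroup p _ ⟨x, hx.1⟩
    have hxA := hx.2
    rw [← map_centralizer_of_isPGroup f (QuotientGroup.mk'_surjective _) E hE hk] at hxA
    obtain ⟨y, hy, rfl, hyp⟩ := exists_lift_of_pow_eq_one (k := k) f _ hk hxA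
      (congrArg Subtype.val hxk)
    exact le_normalizer_map f ⟨y, h y hy ⟨k, hyp⟩, rfl⟩

theorem subgroupOf_le_normalizer {X A K : Subgroup G} (h : A ≤ normalizer (K : Set G)) :
    A.subgroupOf X ≤ normalizer (K.subgroupOf X : Set X) := fun a ha => by
  rw [mem_normalizer_iff]
  intro k
  exact (mem_normalizer_iff.mp (h ha)) k

theorem le_map_of_subgroupOf_le {X K : Subgroup G} {L : Subgroup X} (hKX : K ≤ X)
    (h : K.subgroupOf X ≤ L) : K ≤ L.map X.subtype := fun k hk => ⟨⟨k, hKX hk⟩, h hk, rfl⟩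

/-- The Thompson-Bender lemma inside a subgroup `X`. -/
theorem le_map_pPrimeCore_of_odd [Finite G] [hp : Fact p.Prime] (hp2 : p ≠ 2) {X : Subgroup G}
    (hX : IsPConstrained p X) {A K : Subgroup G} (hAX : A ≤ X) (hKX : K ≤ X) (hA : IsPGroup p A)
    (hK : (Nat.card K).Coprime p) (hAK : A ≤ normalizer (K : Set G))
    (h : ∀ x ∈ X, x ∈ centralizer (A : Set G) → x ^ p = 1 → x ∈ normalizer (K : Set G)) :
    K ≤ (pPrimeCore p X).map X.subtype := by
  refine le_map_of_subgroupOf_le hKX (le_pPrimeCore_of_odd hp2 hX (A := A.subgroupOf X)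
    hA.comap_subtype (by rw [Grp.card_subgroupOf_of_le hKX]; exact hK)
    (subgroupOf_le_normalizer hAK) fun x hx hxp => ?_)
  exact subgroupOf_le_normalizer le_rfl (h x x.2
    (fun a ha => congrArg Subtype.val (hx ⟨a, hAX ha⟩ ha)) (congrArg Subtype.val hxp))

theorem le_map_pPrimeCore_of_sylow [Finite G] [hp : Fact p.Prime] {X : Subgroup G}
    (hX : IsPConstrained p X) {E K : Subgroup G} (hEX : E ≤ X) (hKX : K ≤ X) (hE : IsPGroup p E)
    (hK : (Nat.card K).Coprime p) (hEK : E ≤ normalizer (K : Set G)) (S : Sylow p X)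
    (hS : (S : Subgroup X).map X.subtype ≤ normalizer (E : Set G))
    (h : ∀ x ∈ X, x ∈ centralizer (E : Set G) → (∃ k, x ^ p ^ k = 1) →
      x ∈ normalizer (K : Set G)) :
    K ≤ (pPrimeCore p X).map X.subtype := by
  refine le_map_of_subgroupOf_le hKX (le_pPrimeCore_of_sylow hX (E := E.subgroupOf X)
    hE.comap_subtype (by rw [Grp.card_subgroupOf_of_le hKX]; exact hK)
    (subgroupOf_le_normalizer hEK) S
    (fun s hs => subgroupOf_le_normalizer le_rfl (hS ⟨s, hs, rfl⟩)) fun x hx hxp => ?_)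
  obtain ⟨k, hk⟩ := hxp
  exact subgroupOf_le_normalizer le_rfl (h x x.2
    (fun a ha => congrArg Subtype.val (hx ⟨a, hEX ha⟩ ha)) ⟨k, congrArg Subtype.val hk⟩)

end Cfsg.Agent.PLocal.TB
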