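import Cfsg.Agent.PLocal.BkMainB
import Cfsg.Agent.PLocal.OddAut

/-! Automorphism groups of odd order of a Sylow `2`-subgroup of a minimal parabolic group. -/

set_option autoImplicit false
set_option linter.unusedSectionVars false

namespace Cfsg.Agent.PLocal.Bk

open Subgroup Cfsg Cfsg.Agent.PLocal.Amb Cfsg.Agent.PLocal.TV Cfsg.Agent.PLocal.SL2Nat
open Cfsg.Agent.PLocal.CP (IsCharP MinOver ncl)
open Cfsg.Agent.Grp (SnIn)
open Cfsg.Agent.PLocal.OddAut (RD)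
open scoped commutatorElement MatrixGroups Cfsg.Agent.PLocal.CP

variable {G : Type*} [Group G] [Finite G] {B E M X : Subgroup G}

/-- A root datum together with a set `L` of elements normalizing its overgroups. -/
structure RG (B X : Subgroup G) (L : Set G) (q : ℕ) : Prop where
  le : X ≤ B
  ne : X ≠ ⊥
  sq : ∀ x ∈ X, x * x = 1
  i1 : (𝐂[X]).relIndex B ≤ q
  i2 : q ≤ (𝐂[B]).relIndex X
  ti : ∀ x ∈ X, ∀ b ∈ B, ⁅b, x⁆ ∈ centralizer L → x ∈ 𝐂[B] ∨ b ∈ 𝐂[X]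
  cm : ∀ l ∈ L, ∀ k ∈ B, k ∈ 𝐂[X] → ⁅l, k⁆ ∈ X

theorem RG.rd {L : Set G} {q : ℕ} (h : RG B X L q) : RD B X (centralizer L) q := by
  refine ⟨h.le, h.sq, h.i1, h.i2, h.ti, fun k hk hk' l hl => ?_⟩
  have h1 := h.cm l hl k hk hk'
  have h2 := hk' _ h1
  have h3 := h.sq _ h1
  have e : l * k = ⁅l, k⁆ * k * l := by rw [commutatorElement_def]; group
  generalize ⁅l, k⁆ = w at h2 h3 e
  rw [← mul_assoc, e, mul_assoc _ l, e, ← mul_assoc, ← mul_assoc, mul_assoc w k w, ← h2,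
    ← mul_assoc, h3, one_mul]

theorem RG.mem_norm {L : Set G} {q : ℕ} (h : RG B X L q) {U : Subgroup G} (h1 : X ≤ U)
    (h2 : U ≤ B ⊓ 𝐂[X]) {l : G} (hl : l ∈ L) : l ∈ 𝐍[U] := by
  refine mem_normalizer_fintype fun u hu => ?_
  have e : l * u * l⁻¹ = ⁅l, u⁆ * u := by rw [commutatorElement_def]; group
  rw [e]
  exact U.mul_mem (h1 (h.cm l hl u (h2 hu).1 (h2 hu).2)) hu

theorem sq_W {w : G} (hw : w ∈ 𝐖[2, E]) : w * w = 1 := by
  rw [← pow_two]; exact (rtA_isEA_W (p := 2) (E := E)).2 w hw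

theorem Blk.rg_lin (h : Blk 2 B E) (hl : LinT 2 B E) :
    RG B 𝐖[2, E] E ((𝐂[𝐖[2, E]]).relIndex B) := by
  have a := (h.lin_rt hl).1
  refine ⟨h.W_le_B, fun k => h.not_W_le (k ▸ bot_le), fun x => sq_W, le_rfl, a.idx.le,
    fun x hx b hb k => ?_, fun l hl k hk hk' => ?_⟩
  · refine or_iff_not_imp_right.2 fun n => a.ti b hb n x hx ?_
    exact commutatorElement_eq_one_iff_mul_comm.1 (h.comm_eq_one hb hx k)
  · rw [← h.Q_eq_W (h.not_exc_of_two rfl)]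
    exact h.comm_K (commutator_mem_commutator hl ⟨hk, hk'⟩)

section Sym

variable {Ω : Type} [Fintype Ω] [DecidableEq Ω] {π : Equiv.Perm Ω} {z : Ω}

/-- Vectors supported on three points. -/
def sup3 (a b c : Ω) : AddSubgroup (Ev Ω) where
  carrier := {v | ∀ i, i ≠ a → i ≠ b → i ≠ c → v.1 i = 0}
  add_mem' := fun {v w} hv hw i h1 h2 h3 => by
    rw [PS.add_app, hv i h1 h2 h3, hw i h1 h2 h3, add_zero]
  zero_mem' := fun _ _ _ _ => rfl
  neg_mem' := fun {v} hv i h1 h2 h3 => by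
    show -v.1 i = 0
    rw [hv i h1 h2 h3, neg_zero]

theorem sup3_fix {a b c : Ω} {v : Ev Ω} (hv : v ∈ sup3 a b c) {σ : Equiv.Perm Ω} (ha : σ a = a)
    (hb : σ b = b) (hc : σ c = c) : pmG Ω σ • v = v := by
  refine PS.smul_eq_iff.2 fun i => ?_
  by_cases h1 : i = a
  · rw [h1, ha]
  by_cases h2 : i = b
  · rw [h2, hb]
  by_cases h3 : i = c
  · rw [h3, hc]
  rw [hv i h1 h2 h3, hv]
  · exact fun k => h1 (σ.injective (k.trans ha.symm))
  · exact fun k => h2 (σ.injective (k.trans hb.symm))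
  · exact fun k => h3 (σ.injective (k.trans hc.symm))

theorem SymC.rg {D : SD (Ev Ω) 𝐖[2, E] ⊥} (l : SymC 2 B E D π z) (c : Crd 2 B E D)
    (ms : MS 2 B M) (hM : ¬ E ≤ M) :
    ∃ X ≤ 𝐖[2, E], ∃ e, e ∉ M ∧ RG B X {e} 2 := by
  have h := c.blk
  obtain ⟨y, hy⟩ := l.exists_ne
  have n1 := l.ne hy
  have n2 := l.pair.ne_c hy
  set τ := Equiv.swap y (π y) * Equiv.swap y z with hτ
  have t1 : τ y = z := by
    rw [hτ, Equiv.Perm.mul_apply, Equiv.swap_apply_left,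
      Equiv.swap_apply_of_ne_of_ne hy.symm n2.symm]
  have t2 : τ z = π y := by
    rw [hτ, Equiv.Perm.mul_apply, Equiv.swap_apply_right, Equiv.swap_apply_left]
  have t3 : τ (π y) = y := by
    rw [hτ, Equiv.Perm.mul_apply, Equiv.swap_apply_of_ne_of_ne n1.symm n2, Equiv.swap_apply_right]
  have t4 : ∀ i, i ≠ y → i ≠ π y → i ≠ z → τ i = i := fun i h1 h2 h3 => by
    rw [hτ, Equiv.Perm.mul_apply, Equiv.swap_apply_of_ne_of_ne h1 h3,
      Equiv.swap_apply_of_ne_of_ne h1 h2]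
  have t5 : τ ^ 3 = 1 := by
    ext i
    rw [pow_succ, pow_two, Equiv.Perm.mul_apply, Equiv.Perm.mul_apply, Equiv.Perm.one_apply]
    by_cases h1 : i = y
    · rw [h1, t1, t2, t3]
    by_cases h2 : i = π y
    · rw [h2, t3, t1, t2]
    by_cases h3 : i = z
    · rw [h3, t2, t3, t1]
    rw [t4 i h1 h2 h3, t4 i h1 h2 h3, t4 i h1 h2 h3]
  have hker : ∀ g ∈ E, D.act g = 1 → g ∈ 𝐖[2, E] := fun g hg k => by
    rw [← l.eqQ, ← l.kerE]; exact ⟨hg, D.mem_ker.2 ⟨c.E_le hg, k⟩⟩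
  obtain ⟨e, he, ae, e3⟩ : ∃ e ∈ E, D.act e = pmG Ω τ ∧ e ^ 3 = 1 := by
    obtain ⟨e, he, ae⟩ := l.lift c (PS.swap_mul_mem n1 hy)
    refine ⟨e ^ 4, pow_mem he 4, ?_, ?_⟩
    · rw [D.act_pow (c.E_le he), ae, ← map_pow, ← hτ, pow_succ, t5, one_mul]
    · have := sq_W (hker _ (pow_mem he 3) (by
        rw [D.act_pow (c.E_le he), ae, ← map_pow, ← hτ, t5, map_one]))
      rw [← pow_mul, show 4 * 3 = (3 + 3) * 2 from rfl, pow_mul, pow_add, this, one_pow]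
  have hB : ∀ b ∈ B, ∃ σ ∈ pairG π l.pair.invol, D.act b = pmG Ω σ := fun b hb => by
    obtain ⟨σ, k⟩ := l.ex c (h.B_le_norm hb)
    exact ⟨σ, l.mem_pairG c hb k.symm, k.symm⟩
  have hz : ∀ σ ∈ pairG π l.pair.invol, σ z = z := fun σ hσ =>
    (hσ z).elim id fun k => k.trans l.pair.pc
  obtain ⟨w, hw, ew⟩ := D.surj (ee y z)
  have hwX : w ∈ D.pre (sup3 y (π y) z) :=
    ⟨hw, fun i h1 _ h3 => by rw [ew]; exact PS.ee_of_ne h1 h3⟩
  have hC : ∀ b ∈ B, ∀ σ ∈ pairG π l.pair.invol, D.act b = pmG Ω σ →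
      (b ∈ 𝐂[D.pre (sup3 y (π y) z)] ↔ σ y = y) := fun b hb σ hσ k => by
    refine ⟨fun k' => ?_, fun k' x hx => ?_⟩
    · have := (c.smul_iff hb hw).2 (k' w hwX).symm
      rw [k, ew, pmG_smul_ee, hz σ hσ] at this
      rcases ee_eq_ee hy this.symm with k1 | k1
      · exact k1.1.symm
      · exact absurd k1.1 hy
    · refine ((c.smul_iff hb hx.1).1 ?_).symm
      rw [k]
      exact sup3_fix hx.2 k' (by rw [l.pair.apply_pi hσ, k']) (hz σ hσ)
  have nB : ¬ D.pre (sup3 y (π y) z) ≤ 𝐂[B] := fun k => by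
    obtain ⟨b, hb, eb⟩ := l.liftB c (l.pair.swap_mem y)
    have := (hC b hb _ (l.pair.swap_mem y) eb).1 (le_centralizer_iff.1 k hb)
    rw [Equiv.swap_apply_left] at this
    exact n1 this.symm
  refine ⟨D.pre (sup3 y (π y) z), D.pre_le _, e, fun k => ?_, (D.pre_le _).trans h.W_le_B,
    fun k => nB (k.le.trans bot_le), fun x hx => sq_W hx.1, ?_, ?_, fun x hx b hb k => ?_, ?_⟩
  · exact n2 (t2 ▸ (l.mem_M c ms hM (mem_sup_left he) ae).1 k)
  · choose σ hσ eσ using hB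
    have := Sub.relIndex_le_card (H := 𝐂[D.pre (sup3 y (π y) z)]) (Y := B) (X := Bool)
      (fun b => decide (σ b b.2 y = y)) fun a b k => by
        refine (hC _ (B.mul_mem (B.inv_mem a.2) b.2) _
          (mul_mem (inv_mem (hσ a a.2)) (hσ b b.2)) (by
            rw [D.act_mul (c.B_le (B.inv_mem a.2)) (c.B_le b.2), D.act_inv, eσ a a.2, eσ b b.2,
              map_mul, map_inv])).2 ?_
        rw [Equiv.Perm.mul_apply, Equiv.Perm.inv_eq_iff_eq]
        rw [decide_eq_decide] at k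
        rcases hσ a a.2 y with k1 | k1
        · rw [k1, k.1 k1]
        · rcases hσ b b.2 y with k2 | k2
          · rw [k2, k.2 k2]
          · rw [k1, k2]
    rwa [Nat.card_eq_fintype_card, Fintype.card_bool] at this
  · have h1 := relIndex_pos 𝐂[B] (D.pre (sup3 y (π y) z))
    have h2 : (𝐂[B]).relIndex (D.pre (sup3 y (π y) z)) ≠ 1 := fun k => nB (relIndex_eq_one.1 k)
    omega
  · obtain ⟨σ, hσ, eσ⟩ := hB b hb
    refine or_iff_not_imp_right.2 fun n => ?_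
    have k1 : σ y = π y := (hσ y).resolve_left fun k => n ((hC b hb σ hσ eσ).2 k)
    have k2 : σ⁻¹ y = π y := by
      rw [Equiv.Perm.inv_eq_iff_eq, l.pair.apply_pi hσ, k1, l.pair.invol]
    have hu := D.comm_mem_U (c.B_le hb) hx.1
    have k3 : pmG Ω τ • D.ψ ⁅b, x⁆ = D.ψ ⁅b, x⁆ := by
      rw [← ae, D.act_ψ (c.E_le he) hu, k e rfl, mul_inv_cancel_right]
    have k4 := PS.smul_eq_iff.1 k3 y
    rw [t1, ← D.dl_act (c.B_le hb) hx.1, eσ, PS.dl_apply', PS.dl_apply', k2,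
      hz _ (inv_mem hσ), CharTwo.add_self_eq_zero] at k4
    have k5 : (D.ψ x).1 (π y) = (D.ψ x).1 y := by
      rw [← CharTwo.neg_eq ((D.ψ x).1 y), eq_neg_iff_add_eq_zero, ← k4]
    rw [← c.ψ_mem_fx le_rfl hx.1, l.imB, l.pair.mem_fx]
    intro i
    by_cases h1 : i = y
    · rw [h1, k5]
    by_cases h2 : i = π y
    · rw [h2, l.pair.invol, k5]
    by_cases h3 : i = z
    · rw [h3, l.pair.pc]
    rw [hx.2 i h1 h2 h3, hx.2]
    · exact fun k => h2 (l.pair.eq_iff.1 k)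
    · exact fun k => h1 (π.injective k)
    · exact l.pair.ne_c h3
  · intro e' he' k hk hk'
    rw [he']
    obtain ⟨σ, hσ, eσ⟩ := hB k hk
    have s1 := (hC k hk σ hσ eσ).1 hk'
    have s2 : σ (π y) = π y := by rw [l.pair.apply_pi hσ, s1]
    have s3 := hz σ hσ
    have hW : ⁅e, k⁆ ∈ 𝐖[2, E] := by
      refine hker _ ?_ ?_
      · have := (mem_normalizer_iff.1 (h.B_le_norm hk) _).1 (E.inv_mem he)
        rw [commutatorElement_def, mul_assoc, mul_assoc, ← mul_assoc k]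
        exact E.mul_mem he this
      · rw [D.act_comm (c.E_le he) (c.B_le hk), ae, eσ, ← map_commutatorElement,
          commutatorElement_eq_one_iff_mul_comm.2, map_one]
        ext i
        show τ (σ i) = σ (τ i)
        by_cases h1 : i = y
        · rw [h1, s1, t1, s3]
        by_cases h2 : i = π y
        · rw [h2, s2, t3, s1]
        by_cases h3 : i = z
        · rw [h3, s3, t2, s2]
        rw [t4 i h1 h2 h3, t4]
        · exact fun k => h1 (σ.injective (k.trans s1.symm))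
        · exact fun k => h2 (σ.injective (k.trans s2.symm))
        · exact fun k => h3 (σ.injective (k.trans s3.symm))
    refine ⟨hW, fun i h1 h2 h3 => ?_⟩
    have a1 := D.conj_mem (c.E_le he) hW
    have a2 := D.conj_mem (c.E_le he) a1
    have a3 : e * (e * ⁅e, k⁆ * e⁻¹) * e⁻¹ * (e * ⁅e, k⁆ * e⁻¹) * ⁅e, k⁆ = 1 := by
      calc _ = e ^ 3 * k * (e ^ 3)⁻¹ * k⁻¹ := by
            rw [commutatorElement_def, pow_succ, pow_two]; group
        _ = 1 := by rw [e3]; group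
    have a4 := congrArg (fun g => (D.ψ g).1 i) a3
    have t6 : τ⁻¹ i = i := by rw [Equiv.Perm.inv_eq_iff_eq, t4 i h1 h2 h3]
    simp only [D.ψ_mul (mul_mem a2 a1) hW, D.ψ_mul a2 a1, ← D.act_ψ (c.E_le he) a1,
      ← D.act_ψ (c.E_le he) hW, ae, PS.add_app, pmG_smul, t6, D.ψ_one, PS.zero_app,
      CharTwo.add_self_eq_zero, zero_add] at a4
    exact a4

end Sym

theorem MS.exists_rg (ms : MS 2 B M) (h : Blk 2 B E) (hM : ¬ E ≤ M) :
    ∃ X ≤ 𝐖[2, E], ∃ (L : Set G) (q : ℕ), (∃ e ∈ L, e ∉ M) ∧ RG B X L q := by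
  rcases h.typ with hl | hs
  · exact ⟨_, le_rfl, E, _, SetLike.not_le_iff_exists.1 hM, h.rg_lin hl⟩
  · obtain ⟨Ω, _, _, D, π, z, l, c⟩ := h.rt_sym hs
    obtain ⟨X, hX, e, he, r⟩ := l.rg c ms hM
    exact ⟨X, hX, {e}, 2, ⟨e, rfl, he⟩, r⟩

theorem odd_aut (hG : 𝐂[pCore 2 G] ≤ pCore 2 G) {T : Subgroup G} (hT : IsSyl 2 T ⊤)
    (hM : M ≠ ⊤) (hu : ∀ H, T ≤ H → H ≠ ⊤ → H ≤ M) {A : Subgroup (MulAut T)}
    (hA : Odd (Nat.card A)) : ∃ U : Subgroup G, U ≠ ⊥ ∧ U.Normal ∧ U ≤ T ∧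
      ∀ a ∈ A, ∀ x : T, (x : G) ∈ U → ((a x : T) : G) ∈ U := by
  by_contra hn
  have hT1 : T ≠ ⊥ := by
    rintro rfl
    refine hM (top_le_iff.1 fun x _ => ?_)
    have h1 : pCore 2 G ≤ ⊥ := pCoreOf_top (G := G) 2 ▸ hT.pCoreOf_le
    have h2 : x ∈ 𝐂[pCore 2 G] := by rw [le_bot_iff.1 h1, centralizer_bot']; trivial
    rw [mem_bot.1 (h1 (hG h2))]; exact one_mem _
  have hc : cStarOf 2 T ≤ M := BlockTr.cStarOf_le hT.pgrp hT1 fun K hK =>
    hu _ hK.le_normalizer fun k => hn ⟨K, hK.2.1, normalizer_eq_top_iff.1 k, hK.1, fun a _ x hx =>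
      (hK.2.2.fixed a).ge (show x ∈ K.subgroupOf T from hx)⟩
  have ms := (ms_cStar hG hT fun k => hM (top_le_iff.1 (k ▸ hc))).mono hc
  obtain ⟨E, hE⟩ : (BB 2 𝐁[2, T] M).Nonempty := by
    refine Set.nonempty_iff_ne_empty.2 fun k => hM ?_
    have := ms.sup_bb hT (baumann_le T)
    rwa [k, sSup_empty, sup_bot_eq] at this
  obtain ⟨X, hX, L, q, ⟨e, he, he'⟩, r⟩ := ms.exists_rg hE.1 hE.2.1
  have hXV := hX.trans (hE.1.W_le_V ms.bau (ms.not_le_cent hE.2.1))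
  have hXT := r.le.trans (baumann_le T)
  have := BlockTr.baumann_char (p := 2) T
  have r' : RD (𝐁[2, T].subgroupOf T) (X.subgroupOf T) _ q :=
    r.rd.comap T.subtype_injective (by rw [range_subtype]; exact baumann_le T)
  obtain ⟨U, h1, h2, h3, h4⟩ := OddAut.exists_inv r' (fun s x hx y hy => Subtype.ext (by
    have k1 : (x : G) ∈ ΩZ[2, pCore 2 G] := by
      have k : (s : G) * x * (s : G)⁻¹ ∈ ΩZ[2, pCore 2 G] := hXV hx
      exact (mem_normalizer_iff.1 (Sub.le_N_V (p := 2) ⊤ (mem_top (s : G))) _).2 k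
    exact (CP.omegaZ_le (p := 2) _ (hXV hy) |> fun k => ((omegaOne_le _ k1).2 _ k)))) hA
  have h5 : X ≤ U.map T.subtype := by
    rw [← map_subgroupOf_of_le hXT]; exact map_mono h1
  refine hn ⟨U.map T.subtype, fun k => r.ne (le_bot_iff.1 (k ▸ h5)), normalizer_eq_top_iff.1 ?_,
    map_subtype_le _, fun a ha x hx => mem_map_of_mem _ (h4 a ha x
      ((mem_map_iff_mem T.subtype_injective).1 hx))⟩
  by_contra k
  refine he' (hu _ (le_normalizer_map_subtype U) k (r.mem_norm h5 ?_ he))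
  rintro _ ⟨u, hu, rfl⟩
  have := h2 hu
  rw [centralizer_subgroupOf hXT] at this
  exact this

end Cfsg.Agent.PLocal.Bk
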