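import Mathlib
import Cfsg.Prelude.Def_LocalStructure
import Cfsg.Agent.PLocal.ParChar
import Cfsg.Agent.Class.SL2Sylow
import Cfsg.Agent.Chev.SzNorm
import Cfsg.Agent.Chev.SzSub
import Cfsg.Agent.Chev.SzLie

/-!
The root subgroup `Y` of a rank one group `SL₂(q)`, `Sz(q)`, `D_{2r}`: the properties used for
the family `IsInFrakL`.
-/

set_option autoImplicit false
set_option linter.unusedSectionVars false

namespace Cfsg.Agent.PLocal.WC

open Subgroup Cfsg Cfsg.Agent.PLocal.Amb Cfsg.Agent.Grp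
open scoped commutatorElement MatrixGroups

variable {K K' : Type*} [Group K] [Group K'] {p : ℕ}

/-- properties of the root subgroup of a rank one group. -/
structure RootGood (p : ℕ) (Y : Subgroup K) : Prop where
  omega : ∀ x ∈ 𝐍[Y], x ^ p = 1 → x ∈ Y
  irr : ∀ V ≤ Y, 𝐍[Y] ≤ 𝐍[V] → V = ⊥ ∨ V = Y
  prod : ∀ h : K, (¬ ∃ k : ℕ, h ^ p ^ k = 1) → ∃ (n m : ℕ) (g₁ g₂ y₁ y₂ : K),
    y₁ ∈ cj(g₁, Y) ∧ y₂ ∈ cj(g₂, Y) ∧ (¬ ∃ k : ℕ, (y₁ * y₂) ^ p ^ k = 1) ∧
      h ^ n = (y₁ * y₂) ^ p ^ m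

theorem RootGood.map {Y : Subgroup K} (h : RootGood p Y) (e : K ≃* K') :
    RootGood p (Y.map e.toMonoidHom) := by
  have hn : 𝐍[Y.map e.toMonoidHom] = (𝐍[Y]).map e.toMonoidHom :=
    (map_normalizer_eq_of_bijective Y e.bijective).symm
  refine ⟨fun x hx hp => ?_, fun V hV hN => ?_, fun x hx => ?_⟩
  · rw [hn] at hx
    obtain ⟨x, hx, rfl⟩ := hx
    exact ⟨x, h.omega x hx (e.injective (by simpa using hp)), rfl⟩
  · obtain ⟨V, rfl⟩ : ∃ W : Subgroup K, V = W.map e.toMonoidHom :=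
      ⟨V.comap e.toMonoidHom, (map_comap_eq_self_of_surjective e.surjective V).symm⟩
    rw [hn, ← map_normalizer_eq_of_bijective V e.bijective,
      map_le_map_iff_of_injective e.injective] at hN
    rcases h.irr V ((map_le_map_iff_of_injective e.injective).1 hV) hN with h0 | h0
    · left; rw [h0, Subgroup.map_bot]
    · right; rw [h0]
  · obtain ⟨x, rfl⟩ := e.surjective x
    obtain ⟨n, m, g₁, g₂, y₁, y₂, h1, h2, h3, h4⟩ := h.prod x fun ⟨k, hk⟩ =>
      hx ⟨k, by rw [← map_pow, hk, map_one]⟩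
    refine ⟨n, m, e g₁, e g₂, e y₁, e y₂, ?_, ?_, fun ⟨k, hk⟩ => h3 ⟨k, e.injective ?_⟩, ?_⟩
    · have := map_cj e.toMonoidHom g₁ Y
      exact this ▸ ⟨y₁, h1, rfl⟩
    · have := map_cj e.toMonoidHom g₂ Y
      exact this ▸ ⟨y₂, h2, rfl⟩
    · simpa using hk
    · rw [← map_pow, h4, map_pow, map_mul]

theorem RootGood.cj {Y : Subgroup K} (h : RootGood p Y) (g : K) : RootGood p cj(g, Y) :=
  h.map (MulAut.conj g)

theorem RootGood.of_map {Y : Subgroup K} (e : K ≃* K') (h : RootGood p (Y.map e.toMonoidHom)) :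
    RootGood p Y := by
  have := h.map e.symm
  rwa [map_map, show e.symm.toMonoidHom.comp e.toMonoidHom = MonoidHom.id K from by ext; simp,
    map_id] at this

theorem rootGood_of_isSyl [Finite K] [Fact p.Prime] {Y : Subgroup K} (hY : IsSyl p Y ⊤)
    (irr : ∀ V ≤ Y, 𝐍[Y] ≤ 𝐍[V] → V = ⊥ ∨ V = Y)
    (prod : ∀ h : K, (¬ ∃ k : ℕ, h ^ p ^ k = 1) → ∃ (m : ℕ) (y₁ y₂ : K),
      y₁ ^ p = 1 ∧ y₂ ^ p = 1 ∧ h = (y₁ * y₂) ^ p ^ m) : RootGood p Y := by
  have hz : ∀ x : K, x ^ p = 1 → IsPGroup p (zpowers x) := fun x hx =>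
    isPGroup_zpowers ⟨1, by rwa [pow_one]⟩
  refine ⟨fun x hx hp => hY.le_of_normalizes (hz x hp) le_top (zpowers_le.2 hx) (mem_zpowers x),
    irr, fun h hh => ?_⟩
  obtain ⟨m, y₁, y₂, h1, h2, h3⟩ := prod h hh
  obtain ⟨g₁, -, hg₁⟩ := hY.exists_le_cj (hz y₁ h1) le_top
  obtain ⟨g₂, -, hg₂⟩ := hY.exists_le_cj (hz y₂ h2) le_top
  refine ⟨1, m, g₁, g₂, y₁, y₂, hg₁ (mem_zpowers _), hg₂ (mem_zpowers _), fun ⟨k, hk⟩ => hh ⟨k, ?_⟩,
    by rw [pow_one, h3]⟩
  rw [h3, ← pow_mul, mul_comm, pow_mul, hk, one_pow]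

/-! ### two involutions -/

theorem rootGood_of_card_two [Finite K] {Y : Subgroup K} (hY : Nat.card Y = 2) {g : K}
    (hg : Y ⊔ cj(g, Y) = ⊤) (hO : pCore 2 K = ⊥) : RootGood 2 Y := by
  have : Fact (Nat.Prime 2) := ⟨Nat.prime_two⟩
  have hYp : IsPGroup 2 Y := IsPGroup.of_card (n := 1) (by rw [hY, pow_one])
  have hY1 : Y ≠ ⊥ := by
    rintro rfl
    rw [card_bot] at hY
    omega
  obtain ⟨s, hs, ho⟩ := exists_orderOf_eq_of_ne_bot hYp hY1
  have hYs : zpowers s = Y :=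
    eq_of_le_of_card_ge (zpowers_le.2 hs) (by rw [Nat.card_zpowers, ho, hY])
  have hs2 : s * s = 1 := by rw [← sq, ← ho, pow_orderOf_eq_one]
  have hsi : s⁻¹ = s := inv_eq_of_mul_eq_one_right hs2
  set t := g * s * g⁻¹ with ht
  have ht2 : t * t = 1 := by
    rw [ht]
    calc g * s * g⁻¹ * (g * s * g⁻¹) = g * (s * s) * g⁻¹ := by group
      _ = 1 := by rw [hs2]; group
  have hti : t⁻¹ = t := inv_eq_of_mul_eq_one_right ht2
  have hgt : cj(g, Y) = zpowers t := by
    rw [← hYs, MonoidHom.map_zpowers]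
    rfl
  set r := s * t with hr
  have hinv : ∀ u : K, u * r * u⁻¹ = r⁻¹ → ∀ x ∈ zpowers r, u * x * u⁻¹ = x⁻¹ := by
    rintro u hu x ⟨i, rfl⟩
    change u * r ^ i * u⁻¹ = (r ^ i)⁻¹
    rw [← conj_zpow, hu, inv_zpow]
  have hsr := hinv s (by
    rw [hr, hsi, mul_inv_rev, hsi, hti]
    calc s * (s * t) * s = (s * s) * t * s := by group
      _ = t * s := by rw [hs2, one_mul])
  have htr := hinv t (by
    rw [hr, hti, mul_inv_rev, hsi, hti]
    calc t * (s * t) * t = t * s * (t * t) := by group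
      _ = t * s := by rw [ht2, mul_one])
  have hnorm : ∀ x ∈ zpowers r, (zpowers x).Normal := by
    intro x hx
    have : (⊤ : Subgroup K) ≤ 𝐍[zpowers x] := by
      rw [← hg, hgt, ← hYs]
      refine sup_le (zpowers_le.2 (mem_normalizer_of_cj_le ?_))
        (zpowers_le.2 (mem_normalizer_of_cj_le ?_))
      · rw [MonoidHom.map_zpowers, zpowers_le]
        change s * x * s⁻¹ ∈ _
        rw [hsr x hx]; exact inv_mem (mem_zpowers x)
      · rw [MonoidHom.map_zpowers, zpowers_le]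
        change t * x * t⁻¹ ∈ _
        rw [htr x hx]; exact inv_mem (mem_zpowers x)
    exact normalizer_eq_top_iff.1 (top_le_iff.1 this)
  have hodd : ∀ x ∈ zpowers r, (∃ k : ℕ, x ^ 2 ^ k = 1) → x = 1 := by
    intro x hx hk
    have := hnorm x hx
    have h1 := le_pCore' (isPGroup_zpowers hk)
    rw [hO] at h1
    exact h1 (mem_zpowers x)
  have hdec : ∀ x : K, x ∈ zpowers r ∨ x * s ∈ zpowers r := by
    classical
    intro x
    have hn := hnorm r (mem_zpowers r)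
    have h1 : zpowers r ⊔ Y = ⊤ := by
      rw [eq_top_iff, ← hg, hgt]
      refine sup_le le_sup_right (zpowers_le.2 ?_)
      have : t = s * r := by rw [hr, ← mul_assoc, hs2, one_mul]
      rw [this]
      exact mul_mem (mem_sup_right hs) (mem_sup_left (mem_zpowers r))
    obtain ⟨a, ha, b, hb, rfl⟩ := (mem_sup_of_le_normalizer_left (N := zpowers r) (H := Y)
      le_normalizer_of_normal).1 (h1 ▸ mem_top x)
    rw [← hYs, mem_zpowers_iff_mem_range_orderOf, ho] at hb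
    simp only [Finset.mem_image, Finset.mem_range] at hb
    obtain ⟨i, hi, rfl⟩ := hb
    interval_cases i
    · left; simpa using ha
    · right; rw [pow_one, mul_assoc, hs2, mul_one]; exact ha
  have hsq : ∀ x ∈ zpowers r, (x * s) ^ 2 = 1 := fun x hx => by
    calc (x * s) ^ 2 = x * (s * x * s⁻¹) := by rw [hsi, sq]; group
      _ = 1 := by rw [hsr x hx, mul_inv_cancel]
  refine rootGood_of_isSyl ⟨le_top, hYp, fun R hR h1 _ x hx => ?_⟩ (fun V hV _ => ?_)
    fun h hh => ?_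
  · rcases hdec x with h0 | h0
    · rw [hodd x h0 (isPGroup_iff.1 hR x hx)]; exact one_mem _
    · have := hodd _ h0 (isPGroup_iff.1 hR _ (R.mul_mem hx (h1 hs)))
      rw [eq_inv_of_mul_eq_one_left this]
      exact inv_mem hs
  · have h1 := card_dvd_of_le hV
    rw [hY] at h1
    rcases (Nat.dvd_prime Nat.prime_two).1 h1 with h2 | h2
    · exact Or.inl (card_eq_one.1 h2)
    · exact Or.inr (eq_of_le_of_card_ge hV (by rw [h2, hY]))
  · rcases hdec h with h0 | h0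
    · exact ⟨0, h * s, s, hsq h h0, by rw [sq, hs2], by rw [mul_assoc, hs2]; simp⟩
    · exfalso
      refine hh ⟨1, ?_⟩
      have := hsq _ h0
      rwa [mul_assoc, hs2, mul_one] at this

/-! ### Suzuki groups -/

open Cfsg.Agent.Chev Cfsg.Agent.Chev.Suz in
theorem rootGood_Sz {F : Type*} [Field F] {m : ℕ} [SzField F m] {Y : Subgroup (Sz F m)}
    (hY : IsElementaryAbelian 2 Y) (hc : Nat.card Y = 2 ^ (2 * m + 1)) : RootGood 2 Y := by
  have : Fact (Nat.Prime 2) := ⟨Nat.prime_two⟩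
  obtain ⟨x, hx⟩ := exists_le_Qp (isEA_isPGroup hY)
  have h1 : Y = Zp x := eq_of_le_of_card_ge
    (fun y hy => mem_Zp.2 ⟨(mem_Qp.1 (hx hy)).1, hY.2 y hy⟩) (by rw [card_Zp, hc])
  have hZ : ∀ (k : Sz F m) (x : suzukiOvoid F m), cj(k, Zp x) = Zp (k • x) := by
    intro k x
    ext y
    rw [mem_cj, conj_mem_Zp_iff]
  obtain ⟨k, rfl⟩ := exists_smul_inf x
  rw [h1, ← hZ]
  refine RootGood.cj ⟨fun y hy h2 => ?_, fun V hV hN => ?_, fun h hh => ?_⟩ k
  · rw [normalizer_Zp] at hy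
    exact mem_Zp.2 ⟨hy, h2⟩
  · by_cases h0 : V = ⊥
    · exact Or.inl h0
    right
    obtain ⟨⟨v, hv⟩, hv1⟩ := ne_bot_iff_exists_ne_one.1 h0
    obtain ⟨b, rfl⟩ := mem_Zp_inf.1 (hV hv)
    have hb : b ≠ 0 := by
      rintro rfl
      exact hv1 (Subtype.ext uu_zero)
    refine le_antisymm hV fun y hy => ?_
    obtain ⟨c, rfl⟩ := mem_Zp_inf.1 hy
    by_cases hc0 : c = 0
    · rw [hc0, uu_zero]; exact one_mem _
    obtain ⟨l, hl⟩ := sq_mul_th_surj (c / b)
    have hl0 : l ≠ 0 := by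
      rintro rfl
      rw [zero_pow two_ne_zero, zero_mul, eq_comm, div_eq_zero_iff] at hl
      tauto
    have h3 : Suz.hh (Units.mk0 l hl0) ∈ 𝐍[V] := hN (by
      rw [normalizer_Zp]; exact hh_smul_inf _)
    have h4 := conj_mem_of_mem_normalizer h3 hv
    rwa [hh_conj_zero, Units.val_mk0, hl, div_mul_cancel₀ _ hb] at h4
  · obtain ⟨n, hn⟩ := exists_pow_coprime (p := 2) h
    have hne : h ^ 2 ^ n ≠ 1 := fun h0 => hh ⟨n, h0⟩
    have hT := isTorus_tor_of_odd hne (Nat.coprime_two_right.1 hn)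
    obtain ⟨x, s, hs, hsZ, hs1⟩ := hT.exists_involution
    have hs2 := (mem_Zp.1 hsZ).2
    have h2 := hT.conj_eq_inv hs hs2 hs1 (self_mem_tor _)
    set u := h ^ 2 ^ n with hu
    have hsi : s⁻¹ = s := inv_eq_of_mul_eq_one_right (by rw [← sq, hs2])
    have h3 : (u * s) ^ 2 = 1 := by
      calc (u * s) ^ 2 = u * (s * u * s⁻¹) := by rw [hsi, sq]; group
        _ = 1 := by rw [h2, mul_inv_cancel]
    obtain ⟨x', hx'⟩ := exists_mem_Zp h3
    obtain ⟨g₁, rfl⟩ := exists_smul_inf x'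
    obtain ⟨g₂, rfl⟩ := exists_smul_inf x
    have h4 : u * s * s = u := by rw [mul_assoc, ← sq, hs2, mul_one]
    refine ⟨2 ^ n, 0, g₁, g₂, u * s, s, by rwa [hZ], by rwa [hZ], fun ⟨k, hk⟩ => hh ⟨n + k, ?_⟩,
      by rw [h4]; simp [hu]⟩
    rwa [h4, hu, ← pow_mul, ← pow_add] at hk

/-! ### `SL₂(q)` -/

section SL2

open Matrix

variable {F : Type*} [Field F]

/-- an element of `SL₂` from its entries. -/
def mkSL2 (a b c d : F) (h : a * d - b * c = 1) : SL(2, F) :=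
  ⟨!![a, b; c, d], by rw [det_fin_two_of, h]⟩

theorem mkSL2_coe (a b c d : F) (h : a * d - b * c = 1) :
    (mkSL2 a b c d h : Matrix (Fin 2) (Fin 2) F) = !![a, b; c, d] := rfl

theorem sl2_pow_eq_one_of_trace (p : ℕ) [Fact p.Prime] [CharP F p] {y : SL(2, F)}
    (h : y 0 0 + y 1 1 = 2) : y ^ p = 1 := by
  have hd : y 0 0 * y 1 1 - y 0 1 * y 1 0 = 1 := by rw [← det_fin_two]; exact y.det_coe
  set N : Matrix (Fin 2) (Fin 2) F := (y : Matrix (Fin 2) (Fin 2) F) - 1 with hN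
  have hN2 : N ^ 2 = 0 := by
    have h1 : y 1 1 = 2 - y 0 0 := by rw [← h]; ring
    rw [h1] at hd
    ext i j
    fin_cases i <;> fin_cases j <;>
      simp [hN, sq, Matrix.mul_apply, Fin.sum_univ_two, h1]
    · linear_combination -hd
    · ring
    · ring
    · linear_combination -hd
  have : (y : Matrix (Fin 2) (Fin 2) F) = 1 + N := by rw [hN]; abel
  have h3 : (y : Matrix (Fin 2) (Fin 2) F) ^ p = 1 := by
    rw [this, add_pow_char_of_commute p (Commute.one_left N), one_pow,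
      pow_eq_zero_of_le (Fact.out : p.Prime).two_le hN2, add_zero]
  exact Subtype.ext ((Matrix.SpecialLinearGroup.coe_pow y p).trans h3)

theorem sl2_eq_mul_of_not_scalar (p : ℕ) [Fact p.Prime] [CharP F p] {h : SL(2, F)}
    (hs : ¬ (h 0 1 = 0 ∧ h 1 0 = 0 ∧ h 0 0 = h 1 1)) :
    ∃ y₁ y₂ : SL(2, F), y₁ ^ p = 1 ∧ y₂ ^ p = 1 ∧ h = y₁ * y₂ := by
  suffices hy : ∃ y : SL(2, F), y 0 0 + y 1 1 = 2 ∧ (y * h) 0 0 + (y * h) 1 1 = 2 by
    obtain ⟨y, h1, h2⟩ := hy
    exact ⟨y⁻¹, y * h, by rw [inv_pow, sl2_pow_eq_one_of_trace p h1, inv_one],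
      sl2_pow_eq_one_of_trace p h2, by group⟩
  by_cases h1 : h 1 0 = 0
  · by_cases h2 : h 0 1 = 0
    · have h3 : h 0 0 - h 1 1 ≠ 0 := fun h0 => hs ⟨h2, h1, sub_eq_zero.1 h0⟩
      set s := (2 - h 0 0 - h 1 1) / (h 0 0 - h 1 1) with hs'
      refine ⟨mkSL2 (1 + s) (-s) s (1 - s) (by ring), by simp [mkSL2_coe]; norm_num, ?_⟩
      simp [mkSL2_coe, Matrix.mul_apply, Fin.sum_univ_two, h1, h2, hs']
      field_simp
      ring
    · refine ⟨mkSL2 1 0 ((2 - h 0 0 - h 1 1) / h 0 1) 1 (by ring),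
        by simp [mkSL2_coe]; norm_num, ?_⟩
      simp [mkSL2_coe, Matrix.mul_apply, Fin.sum_univ_two]
      field_simp
      ring
  · refine ⟨mkSL2 1 ((2 - h 0 0 - h 1 1) / h 1 0) 0 1 (by ring),
      by simp [mkSL2_coe]; norm_num, ?_⟩
    simp [mkSL2_coe, Matrix.mul_apply, Fin.sum_univ_two]
    field_simp
    ring

theorem rootGood_SL2 [Fintype F] (p : ℕ) [Fact p.Prime] [CharP F p] {Y : Subgroup SL(2, F)}
    (hY : IsPGroup p Y) (hc : Nat.card Y = Fintype.card F) : RootGood p Y := by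
  obtain ⟨P, hP⟩ := Class.exists_sylow_SL2_eq_lineStab p (Class.pointE0 F)
  rw [Class.pointE0_submodule] at hP
  have hYs : IsSyl p Y ⊤ := (isSyl_top P).of_card_ge hY le_top
    (by rw [hc, Class.card_sylow_SL2 p P])
  obtain ⟨g, -, hg⟩ := hYs.exists_cj_eq (isSyl_top P)
  rw [← hg]
  refine RootGood.cj (rootGood_of_isSyl (isSyl_top P) (fun V hV hN => ?_) fun h hh => ?_) g
  · by_cases h0 : V = ⊥
    · exact Or.inl h0
    right
    obtain ⟨⟨v, hv⟩, hv1⟩ := ne_bot_iff_exists_ne_one.1 h0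
    have hmem : ∀ y : SL(2, F), y ∈ (P : Subgroup SL(2, F)) ↔
        ∃ c : F, y = SpecialLinearGroup.transvection zero_ne_one c := fun y => by
      rw [hP, Class.mem_lineStab_single_zero_iff]
    obtain ⟨b, rfl⟩ := (hmem v).1 (hV hv)
    have hb : b ≠ 0 := by
      rintro rfl
      exact hv1 (Subtype.ext (SpecialLinearGroup.transvection_coeff_zero zero_ne_one))
    have hmul : ∀ c d : F, SpecialLinearGroup.transvection (zero_ne_one (α := Fin 2)) (c + d) =
        SpecialLinearGroup.transvection zero_ne_one c *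
          SpecialLinearGroup.transvection zero_ne_one d := by
      intro c d
      ext i j
      fin_cases i <;> fin_cases j <;>
        simp [SpecialLinearGroup.transvection_coe, Matrix.mul_apply, Fin.sum_univ_two, add_comm]
    have hconj : ∀ (a : F) (ha : a ≠ 0) (c : F),
        (mkSL2 a 0 0 a⁻¹ (by simp [ha])) *
          SpecialLinearGroup.transvection zero_ne_one c *
          (mkSL2 a 0 0 a⁻¹ (by simp [ha]))⁻¹ =
          SpecialLinearGroup.transvection zero_ne_one (a ^ 2 * c) := by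
      intro a ha c
      rw [mul_inv_eq_iff_eq_mul]
      ext i j
      fin_cases i <;> fin_cases j <;>
        simp [mkSL2_coe, SpecialLinearGroup.transvection_coe, Matrix.mul_apply, Fin.sum_univ_two]
      field_simp
    have hsq : ∀ a : F, SpecialLinearGroup.transvection zero_ne_one (a ^ 2 * b) ∈ V := by
      intro a
      by_cases ha : a = 0
      · rw [ha, zero_pow two_ne_zero, zero_mul, SpecialLinearGroup.transvection_coeff_zero]
        exact one_mem _
      rw [← hconj a ha b]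
      refine conj_mem_of_mem_normalizer (hN (mem_normalizer_of_cj_le ?_)) hv
      refine cj_le_iff_forall.2 fun y hy => ?_
      obtain ⟨c, rfl⟩ := (hmem y).1 hy
      rw [hconj a ha c]
      exact (hmem _).2 ⟨_, rfl⟩
    refine le_antisymm hV fun y hy => ?_
    obtain ⟨c, rfl⟩ := (hmem y).1 hy
    by_cases h2 : ringChar F = 2
    · obtain ⟨a, ha⟩ := FiniteField.isSquare_of_char_two h2 (c / b)
      have : c = a ^ 2 * b := by rw [sq, ← ha, div_mul_cancel₀ _ hb]
      rw [this]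
      exact hsq a
    · have h3 : (2 : F) ≠ 0 := Ring.two_ne_zero h2
      have : c + ((c / b - 1) / 2) ^ 2 * b = ((c / b + 1) / 2) ^ 2 * b := by
        field_simp
        ring
      have h4 := hsq ((c / b + 1) / 2)
      rw [← this, hmul] at h4
      exact (mul_mem_cancel_right (hsq _)).1 h4
  · by_cases hs : h 0 1 = 0 ∧ h 1 0 = 0 ∧ h 0 0 = h 1 1
    · obtain ⟨h1, h2, h3⟩ := hs
      have hd : h 0 0 * h 1 1 - h 0 1 * h 1 0 = 1 := by rw [← det_fin_two]; exact h.det_coe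
      rw [h1, h2, ← h3, mul_zero, sub_zero] at hd
      set u : SL(2, F) := mkSL2 1 1 0 1 (by ring) with hu
      have hup : u ^ p = 1 := sl2_pow_eq_one_of_trace p (by simp [hu, mkSL2_coe]; norm_num)
      have hcomm : Commute h u := by
        ext i j
        fin_cases i <;> fin_cases j <;>
          simp [hu, mkSL2_coe, Matrix.mul_apply, Fin.sum_univ_two, h1, h2, h3]
      have hh2 : h ^ 2 = 1 := by
        ext i j
        fin_cases i <;> fin_cases j <;>
          simp [sq, Matrix.mul_apply, Fin.sum_univ_two, h1, h2, ← h3, hd]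
      have hp2 : p ≠ 2 := by
        rintro rfl
        exact hh ⟨1, by rwa [pow_one]⟩
      obtain ⟨y₁, y₂, a1, a2, a3⟩ := sl2_eq_mul_of_not_scalar p (h := h * u) (by
        rintro ⟨b1, -, -⟩
        simp [hu, mkSL2_coe, Matrix.mul_apply, Fin.sum_univ_two, h1] at b1
        rw [b1, mul_zero] at hd
        exact zero_ne_one hd)
      refine ⟨1, y₁, y₂, a1, a2, ?_⟩
      obtain ⟨k, hk⟩ := (Fact.out : p.Prime).odd_of_ne_two hp2
      rw [← a3, pow_one, hcomm.mul_pow, hup, mul_one, hk, pow_succ, pow_mul, hh2, one_pow,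
        one_mul]
    · obtain ⟨y₁, y₂, a1, a2, a3⟩ := sl2_eq_mul_of_not_scalar p hs
      exact ⟨0, y₁, y₂, a1, a2, by rw [a3]; simp⟩

end SL2

end Cfsg.Agent.PLocal.WC
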