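import Mathlib
import Cfsg.Prelude.Def_LocalStructure
import Cfsg.Agent.PLocal.FrakLGood
import Cfsg.Agent.PLocal.PIrred

/-!
The family `IsInFrakL`: action of `L` on `O_p(L) / C_Y(L)`.
-/

set_option autoImplicit false
set_option linter.unusedSectionVars false

namespace Cfsg.Agent.PLocal.WC

open Subgroup Cfsg Cfsg.Agent.PLocal.Amb Cfsg.Agent.Grp
open Cfsg.Agent.PLocal.CP (ncl IsCharP secCent MinOver)
open scoped commutatorElement Cfsg.Agent.PLocal.CP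

variable {G : Type*} [Group G] {p : ℕ}

/-- elements normalizing `C` and fixing the coset `aC`. -/
def fixMod (a : G) (C : Subgroup G) : Subgroup G where
  carrier := {l | l ∈ 𝐍[C] ∧ ⁅l, a⁆ ∈ C}
  mul_mem' := by
    rintro l m ⟨h1, h2⟩ ⟨h3, h4⟩
    refine ⟨mul_mem h1 h3, ?_⟩
    rw [commutatorElement_mul_left_eq_conj_mul]
    exact mul_mem (conj_mem_of_mem_normalizer h1 h4) h2
  one_mem' := ⟨one_mem _, by simp⟩
  inv_mem' := by
    rintro l ⟨h1, h2⟩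
    refine ⟨inv_mem h1, ?_⟩
    rw [commutatorElement_inv_left, ← commutatorElement_inv]
    exact inv_conj_mem_of_mem_normalizer h1 (inv_mem h2)

theorem mem_fixMod {a l : G} {C : Subgroup G} : l ∈ fixMod a C ↔ l ∈ 𝐍[C] ∧ ⁅l, a⁆ ∈ C := Iff.rfl

theorem fixMod_symm {a l : G} {C : Subgroup G} (h : l ∈ fixMod a C) (ha : a ∈ 𝐍[C]) :
    a ∈ fixMod l C :=
  ⟨ha, by rw [← commutatorElement_inv]; exact inv_mem h.2⟩

theorem mem_fixMod_of_commute {a l : G} {C : Subgroup G} (hl : l ∈ 𝐍[C]) (h : l * a = a * l) :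
    l ∈ fixMod a C :=
  ⟨hl, by rw [commutatorElement_eq_one_iff_mul_comm.2 h]; exact one_mem _⟩

theorem mem_normalizer_fixMod [Finite G] {a x : G} {C : Subgroup G} (hx : x ∈ 𝐍[C])
    (h : x * a = a * x) : x ∈ 𝐍[fixMod a C] := by
  refine mem_normalizer_of_cj_le (cj_le_iff_forall.2 fun l hl => ⟨?_, ?_⟩)
  · exact mul_mem (mul_mem hx hl.1) (inv_mem hx)
  · have := conj_mem_of_mem_normalizer hx hl.2
    rwa [conjugate_commutatorElement, h, mul_inv_cancel_right] at this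

/-- The abstract setting of `L ∈ 𝔏_G(Y)`. -/
structure LSetup (p : ℕ) (Y L : Subgroup G) : Prop where
  ea : IsElementaryAbelian p Y
  min : MinOver Y (L ⊓ 𝐍[Y]) L
  norm : pCoreOf p L ≤ 𝐍[Y]
  gen : pCoreOf p L = ncl (Y ⊓ pCoreOf p L) L
  omega : ∀ x ∈ L ⊓ 𝐍[Y], x ^ p ∈ pCoreOf p L → x ∈ Y ⊔ pCoreOf p L

namespace LSetup

variable [Finite G] [Fact p.Prime] {Y L : Subgroup G}

theorem cj (h : LSetup p Y L) {g : G} (hg : g ∈ L) : LSetup p cj(g, Y) L := by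
  have hA : cj(g, pCoreOf p L) = pCoreOf p L := cj_of_mem_normalizer (le_normalizer_pCoreOf p L hg)
  have hM : cj(g, L ⊓ 𝐍[Y]) = L ⊓ 𝐍[cj(g, Y)] := by rw [cj_inf, cj_of_mem hg, normalizer_cj]
  refine ⟨isEA_map h.ea _, hM ▸ h.min.cj_of_mem hg, ?_, ?_, fun x hx hp => ?_⟩
  · rw [normalizer_cj]
    exact hA.ge.trans (cj_mono g h.norm)
  · conv_rhs => rw [← hA, ← cj_inf, CP.ncl_cj_of_mem _ hg]
    exact h.gen
  · rw [← hM, mem_cj] at hx
    rw [← hA, ← cj_sup, mem_cj]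
    refine h.omega _ hx ?_
    have := inv_conj_mem_of_mem_normalizer (le_normalizer_pCoreOf p L hg) hp
    rwa [show g⁻¹ * x * g = g⁻¹ * x * g⁻¹⁻¹ by rw [inv_inv], conj_pow, inv_inv]

omit [Finite G] [Fact p.Prime] in
theorem cj_inf_centralizer {g : G} (hg : g ∈ L) : cj(g, Y) ⊓ 𝐂[L] = Y ⊓ 𝐂[L] := by
  ext x
  refine and_congr_left fun hx => ?_
  have : g * x = x * g := hx g hg
  change x ∈ cj(g, Y) ↔ x ∈ Y
  rw [mem_cj, mul_assoc, ← this]
  simp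

theorem le (h : LSetup p Y L) : Y ≤ L := h.min.le_top

theorem sup_cj (h : LSetup p Y L) {g : G} (hg : g ∈ L) (hgN : g ∉ 𝐍[Y]) : Y ⊔ cj(g, Y) = L :=
  h.min.sup_cj hg fun h0 => hgN h0.2

theorem inf_cj (h : LSetup p Y L) {g : G} (hg : g ∈ L) (hgN : g ∉ 𝐍[Y]) :
    Y ⊓ cj(g, Y) = Y ⊓ 𝐂[L] :=
  h.min.inf_cj (isEA_le_centralizer h.ea) hg fun h0 => hgN h0.2

theorem exists_mul (h : LSetup p Y L) {g : G} (hg : g ∈ L) (hgN : g ∉ 𝐍[Y]) {a : G}
    (ha : a ∈ pCoreOf p L) :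
    ∃ b ∈ Y ⊓ pCoreOf p L, ∃ b' ∈ cj(g, Y) ⊓ pCoreOf p L, a = b * b' := by
  have h' := h.cj hg
  have hLA := le_normalizer_pCoreOf p L
  have h1 : pCoreOf p L ≤ (Y ⊓ pCoreOf p L) ⊔ (cj(g, Y) ⊓ pCoreOf p L) := by
    conv_lhs => rw [h.gen]
    refine CP.ncl_le le_sup_left ?_
    conv_lhs => rw [← h.sup_cj hg hgN]
    refine sup_le ?_ ?_
    · refine le_normalizer_of_commutator_le_of_le (A := pCoreOf p L) ?_
        (sup_le inf_le_right inf_le_right)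
      exact (commutator_le_inf_of h.norm (h.le.trans hLA)).trans
        (le_sup_left.trans' (inf_comm _ _).le)
    · refine le_normalizer_of_commutator_le_of_le (A := pCoreOf p L) ?_
        (sup_le inf_le_right inf_le_right)
      exact (commutator_le_inf_of h'.norm (h'.le.trans hLA)).trans
        (le_sup_right.trans' (inf_comm _ _).le)
  exact (mem_sup_of_le_normalizer_right
    (inf_le_right.trans (le_normalizer_inf h'.norm le_normalizer))).1 (h1 ha)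

theorem mem_of_mem_normalizer (h : LSetup p Y L) {g : G} (hg : g ∈ L) (hgN : g ∉ 𝐍[Y]) {y : G}
    (hy : y ∈ Y) (hn : y ∈ 𝐍[cj(g, Y)]) : y ∈ pCoreOf p L := by
  have h' := h.cj hg
  have hLA := le_normalizer_pCoreOf p L
  have h1 := h'.omega y ⟨h.le hy, hn⟩ (by rw [h.ea.2 y hy]; exact one_mem _)
  have hyL : zpowers y ≤ L := zpowers_le.2 (h.le hy)
  have h2 : zpowers y ⊔ pCoreOf p L ≤ pCoreOf p L := by
    refine le_pCoreOf (isPGroup_sup ((isEA_isPGroup h.ea).to_le (zpowers_le.2 hy))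
      (isPGroup_pCoreOf p L) (hyL.trans hLA)) (sup_le hyL (pCoreOf_le p L)) ?_
    conv_lhs => rw [← h.sup_cj hg hgN]
    refine sup_le (le_normalizer_sup ?_ (h.le.trans hLA)) ?_
    · exact ((isEA_le_centralizer h.ea).trans (centralizer_anti (zpowers_le.2 hy))).trans
        (centralizer_le_normalizer' _)
    · refine le_normalizer_of_commutator_le_of_le (A := cj(g, Y) ⊔ pCoreOf p L)
        (le_sup_right.trans' ?_) (sup_le (zpowers_le.2 h1) le_sup_right)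
      refine CommMod.commutator_sup_le (h'.le.trans hLA) le_normalizer ?_
        (commutator_le_left_of (h'.le.trans hLA))
      rw [commutator_eq_bot_iff_le_centralizer.2 (isEA_le_centralizer h'.ea)]
      exact bot_le
  exact h2 (mem_sup_left (mem_zpowers y))

omit [Finite G] [Fact p.Prime] in
theorem le_normalizer_of_le_centralizer {C : Subgroup G} (hC : C ≤ 𝐂[L]) : L ≤ 𝐍[C] :=
  (le_centralizer_comm.1 hC).trans (centralizer_le_normalizer' _)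

theorem mem_centralizer_of_le_fixMod (h : LSetup p Y L) {C : Subgroup G} (hC : C ≤ 𝐂[L]) {b : G}
    (hb : b ∈ 𝐂[Y]) (hL : L ≤ fixMod b C) : b ∈ 𝐂[L] := by
  rw [← le_centralizer_singleton, ← h.min.ncl_eq, CP.ncl_le_iff]
  intro l hl
  refine cj_le_iff_forall.2 fun y hy => mem_centralizer_singleton_iff.2 ?_
  have h1 : y * b = b * y := hb y hy
  have h2 : y * ⁅l⁻¹, b⁆ = ⁅l⁻¹, b⁆ * y := hC (hL (L.inv_mem hl)).2 y (h.le hy)
  calc l * y * l⁻¹ * b = l * (y * ⁅l⁻¹, b⁆) * b * l⁻¹ := by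
        rw [commutatorElement_def]; group
    _ = l * ⁅l⁻¹, b⁆ * (y * b) * l⁻¹ := by rw [h2]; group
    _ = b * (l * y * l⁻¹) := by rw [h1, commutatorElement_def]; group

theorem le_fixMod (h : LSetup p Y L) {C : Subgroup G} (hC : C ≤ 𝐂[L]) {g : G} (hg : g ∈ L)
    (hgN : g ∉ 𝐍[Y]) {y a : G} (hy : y ∈ Y) (hyA : y ∉ pCoreOf p L) (ha : a ∈ pCoreOf p L)
    (hf : y ∈ fixMod a C) : Y ≤ fixMod a C := by
  have h' := h.cj hg
  have hLC := le_normalizer_of_le_centralizer hC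
  have hAL := pCoreOf_le p L
  obtain ⟨b, hb, b', hb', rfl⟩ := h.exists_mul hg hgN ha
  have hbY : ∀ y ∈ Y, b ∈ fixMod y C := fun y hy =>
    mem_fixMod_of_commute (hLC (hAL hb.2)) (isEA_comm h.ea hb.1 hy)
  have h1 : y ∈ fixMod b' C := by
    refine fixMod_symm ?_ (hLC (h.le hy))
    have := mul_mem (inv_mem (hbY y hy)) (fixMod_symm hf (hLC (hAL ha)))
    simpa using this
  have h2 : L ⊓ fixMod b' C = L := by
    refine h'.min.eq_of_not_le (le_inf h'.le fun x hx => ?_) inf_le_left fun h0 => hyA ?_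
    · exact mem_fixMod_of_commute (hLC (h'.le hx)) (isEA_comm h'.ea hx hb'.1)
    · exact h.mem_of_mem_normalizer hg hgN hy (h0 ⟨h.le hy, h1⟩).2
  intro x hx
  refine fixMod_symm (mul_mem (hbY x hx) ?_) (hLC (h.le hx))
  exact fixMod_symm (h2.ge (h.le hx)).2 (hLC (hAL hb'.2))

theorem mem_of_le_fixMod (h : LSetup p Y L) {g : G} (hg : g ∈ L) (hgN : g ∉ 𝐍[Y]) {a : G}
    (ha : a ∈ pCoreOf p L) (hf : L ≤ fixMod a (Y ⊓ 𝐂[L])) : a ∈ Y ⊓ 𝐂[L] := by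
  have h' := h.cj hg
  set C := Y ⊓ 𝐂[L] with hCdef
  have hC : C ≤ 𝐂[L] := inf_le_right
  have hLC := le_normalizer_of_le_centralizer hC
  have hAL := pCoreOf_le p L
  obtain ⟨b, hb, b', hb', rfl⟩ := h.exists_mul hg hgN ha
  have h1 : L ≤ fixMod b' C := by
    conv_lhs => rw [← h.sup_cj hg hgN]
    refine sup_le (fun y hy => ?_) fun y hy =>
      mem_fixMod_of_commute (hLC (h'.le hy)) (isEA_comm h'.ea hy hb'.1)
    refine fixMod_symm ?_ (hLC (h.le hy))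
    have := mul_mem (inv_mem (mem_fixMod_of_commute (hLC (hAL hb.2)) (isEA_comm h.ea hb.1 hy)))
      (fixMod_symm (hf (h.le hy)) (hLC (hAL ha)))
    simpa using this
  have h2 : b' ∈ C := by
    rw [hCdef, ← cj_inf_centralizer hg]
    exact ⟨hb'.1, h'.mem_centralizer_of_le_fixMod hC (isEA_le_centralizer h'.ea hb'.1) h1⟩
  have h3 : L ≤ fixMod b C := by
    intro l hl
    refine fixMod_symm ?_ (hLC hl)
    have := mul_mem (fixMod_symm (hf hl) (hLC (hAL ha)))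
      (inv_mem (fixMod_symm (h1 hl) (hLC (hAL hb'.2))))
    simpa using this
  exact mul_mem ⟨hb.1, h.mem_centralizer_of_le_fixMod hC (isEA_le_centralizer h.ea hb.1) h3⟩ h2

theorem exists_not_mem (h : LSetup p Y L) : ∃ g ∈ L, g ∉ 𝐍[Y] := by
  obtain ⟨g, hg, hgM⟩ := SetLike.exists_of_lt h.min.lt
  exact ⟨g, hg, fun h0 => hgM ⟨hg, h0⟩⟩

theorem core_le_fixMod (h : LSetup p Y L) {a : G} (ha : a ∈ pCoreOf p L) :
    pCoreOf p L ≤ fixMod a (Y ⊓ 𝐂[L]) := by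
  obtain ⟨g, hg, hgN⟩ := h.exists_not_mem
  have h' := h.cj hg
  have hLC := le_normalizer_of_le_centralizer (inf_le_right : Y ⊓ 𝐂[L] ≤ 𝐂[L])
  have hAL := pCoreOf_le p L
  have key : ∀ b ∈ Y ⊓ pCoreOf p L, ∀ b' ∈ cj(g, Y) ⊓ pCoreOf p L, b ∈ fixMod b' (Y ⊓ 𝐂[L]) := by
    intro b hb b' hb'
    refine ⟨hLC (hAL hb.2), ?_⟩
    rw [← h.inf_cj hg hgN]
    have := commutator_le_inf_of (A := Y ⊓ pCoreOf p L) (B := cj(g, Y) ⊓ pCoreOf p L)
      (inf_le_right.trans (le_normalizer_inf h'.norm le_normalizer))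
      (inf_le_right.trans (le_normalizer_inf h.norm le_normalizer))
      (commutator_mem_commutator hb hb')
    exact ⟨this.1.1, this.2.1⟩
  intro x hx
  obtain ⟨b, hb, b', hb', rfl⟩ := h.exists_mul hg hgN ha
  obtain ⟨c, hc, c', hc', rfl⟩ := h.exists_mul hg hgN hx
  refine mul_mem (fixMod_symm (mul_mem ?_ ?_) (hLC (hAL hc.2)))
    (fixMod_symm (mul_mem ?_ ?_) (hLC (hAL hc'.2)))
  · exact mem_fixMod_of_commute (hLC (hAL hb.2)) (isEA_comm h.ea hb.1 hc.1)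
  · exact fixMod_symm (key c hc b' hb') (hLC (hAL hb'.2))
  · exact key b hb c' hc'
  · exact mem_fixMod_of_commute (hLC (hAL hb'.2)) (isEA_comm h'.ea hb'.1 hc'.1)

/-- a product of elements of two conjugates of `Y` which is not a `p`-element acts fixed point
freely on `O_p(L) / C_Y(L)`. -/
theorem fpf_mul (h : LSetup p Y L) {g₁ g₂ y₁ y₂ a : G} (hg₁ : g₁ ∈ L) (hg₂ : g₂ ∈ L)
    (h1 : y₁ ∈ cj(g₁, Y)) (h2 : y₂ ∈ cj(g₂, Y)) (hn : ¬ ∃ k : ℕ, (y₁ * y₂) ^ p ^ k = 1)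
    (ha : a ∈ pCoreOf p L) (hf : y₁ * y₂ ∈ fixMod a (Y ⊓ 𝐂[L])) : a ∈ Y ⊓ 𝐂[L] := by
  have s1 := h.cj hg₁
  have s2 := h.cj hg₂
  set Y₁ := cj(g₁, Y) with hY₁
  set Y₂ := cj(g₂, Y) with hY₂
  have hLA := le_normalizer_pCoreOf p L
  have hg : g₂ * g₁⁻¹ ∈ L := mul_mem hg₂ (inv_mem hg₁)
  have e2 : cj(g₂ * g₁⁻¹, Y₁) = Y₂ := by rw [cj_mul, cj_inv_cj]
  have e1 : cj((g₂ * g₁⁻¹)⁻¹, Y₂) = Y₁ := by rw [← e2, cj_inv_cj]
  have hgN : g₂ * g₁⁻¹ ∉ 𝐍[Y₁] := by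
    intro h0
    rw [cj_of_mem_normalizer h0] at e2
    exact hn (isPGroup_iff.1 (isEA_isPGroup s1.ea) _ (mul_mem h1 (e2 ▸ h2)))
  have hgN' : (g₂ * g₁⁻¹)⁻¹ ∉ 𝐍[Y₂] := by
    intro h0
    rw [cj_of_mem_normalizer h0] at e1
    exact hn (isPGroup_iff.1 (isEA_isPGroup s1.ea) _ (mul_mem h1 (e1 ▸ h2)))
  have hy₁ : y₁ ∉ pCoreOf p L := fun h0 => hn (isPGroup_iff.1
    (isPGroup_sup (isPGroup_pCoreOf p L) (isEA_isPGroup s2.ea) s2.norm) _
      (mul_mem (mem_sup_left h0) (mem_sup_right h2)))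
  have hy₂ : y₂ ∉ pCoreOf p L := fun h0 => hn (isPGroup_iff.1
    (isPGroup_sup (isPGroup_pCoreOf p L) (isEA_isPGroup s1.ea) s1.norm) _
      (mul_mem (mem_sup_right h1) (mem_sup_left h0)))
  rw [← cj_inf_centralizer hg₁, ← hY₁] at hf ⊢
  set C := Y₁ ⊓ 𝐂[L] with hC
  have hLC := le_normalizer_of_le_centralizer (inf_le_right : C ≤ 𝐂[L])
  have a1 : ⁅y₁, a⁆ ∈ Y₁ := commutator_le_left_of s1.norm (commutator_mem_commutator h1 ha)
  have a2 : ⁅y₂, a⁆ ∈ Y₂ := commutator_le_left_of s2.norm (commutator_mem_commutator h2 ha)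
  have a3 : ⁅y₂, a⁆ ∈ Y₁ := by
    have b1 := hf.2.1
    rw [commutatorElement_mul_left_eq_conj_mul] at b1
    have b2 := Y₁.mul_mem (Y₁.mul_mem (Y₁.inv_mem h1) (Y₁.mul_mem b1 (Y₁.inv_mem a1))) h1
    convert b2 using 1
    group
  have a4 : y₂ ∈ fixMod a C := by
    refine ⟨hLC (s2.le h2), ?_⟩
    rw [hC, ← s1.inf_cj hg hgN, e2]
    exact ⟨a3, a2⟩
  have a5 : y₁ ∈ fixMod a C := by simpa using mul_mem hf (inv_mem a4)
  refine s1.mem_of_le_fixMod hg hgN ha ?_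
  conv_lhs => rw [← s1.sup_cj hg hgN, e2]
  exact sup_le (s1.le_fixMod inf_le_right hg hgN h1 hy₁ ha a5)
    (s2.le_fixMod inf_le_right (inv_mem hg) hgN' h2 hy₂ ha a4)

end LSetup

/-- if `k ^ p ^ m` fixes a nontrivial coset of `C` in the `p`-group `A`, so does `k`. -/
theorem exists_fixMod_of_pow [Finite G] [Fact p.Prime] {A C : Subgroup G} (hA : IsPGroup p A)
    (hAC : A ≤ 𝐍[C]) {k a : G} (hkA : k ∈ 𝐍[A]) (hkC : k ∈ 𝐍[C]) {m : ℕ} (ha : a ∈ A)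
    (haC : a ∉ C) (hf : k ^ p ^ m ∈ fixMod a C) : ∃ a' ∈ A, a' ∉ C ∧ k ∈ fixMod a' C := by
  obtain ⟨j, hj⟩ := exists_pow_coprime (p := p) (k ^ p ^ m)
  set u := (k ^ p ^ m) ^ p ^ j with hu
  obtain ⟨e, he⟩ := exists_pow_eq_self_of_coprime (x := u) (n := p ^ (m + j))
    (Nat.Coprime.pow_left _ hj.symm)
  have hu' : u = k ^ p ^ (m + j) := by rw [hu, ← pow_mul, ← pow_add]
  set k' := u ^ e with hk'
  have hc : Commute k k' := by
    rw [hk', hu', ← pow_mul]; exact Commute.self_pow k _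
  have hkp : (k * k'⁻¹) ^ p ^ (m + j) = 1 := by
    rw [hc.inv_right.mul_pow, ← hu', inv_pow, hk', ← pow_mul, mul_comm e, pow_mul, he,
      mul_inv_cancel]
  have hk'f : k' ∈ fixMod a C := pow_mem (pow_mem hf _) _
  have hk'A : k' ∈ 𝐍[A] := pow_mem (pow_mem (pow_mem hkA _) _) _
  have hn : zpowers (k * k'⁻¹) ≤ 𝐍[(A ⊓ fixMod k' C : Subgroup G)] := by
    refine le_normalizer_inf (zpowers_le.2 (mul_mem hkA (inv_mem hk'A)))
      (zpowers_le.2 (mem_normalizer_fixMod (mul_mem hkC (inv_mem hk'f.1)) ?_))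
    rw [inv_mul_cancel_right, ← mul_assoc, ← hc.eq, mul_inv_cancel_right]
  obtain ⟨w, hw, hwC, hwr⟩ := CP.exists_notMem_commutator_mem (hA.to_le inf_le_left)
    (isPGroup_zpowers ⟨_, hkp⟩) hn (U₁ := C) fun h0 => haC (h0 ⟨ha, fixMod_symm hk'f (hAC ha)⟩)
  refine ⟨w, hw.1, hwC, ?_⟩
  have a1 : k * k'⁻¹ ∈ fixMod w C := fixMod_symm
    ⟨hAC hw.1, (hwr _ (mem_sup_right (mem_zpowers _))).2⟩ (mul_mem hkC (inv_mem hk'f.1))
  simpa using mul_mem a1 (fixMod_symm hw.2 hk'f.1)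

section FrakL

variable [Finite G] [Fact p.Prime] {M L : Subgroup G}

theorem frakL_minOver (hL : IsInFrakL p M L) : MinOver 𝐘[p, M] (L ⊓ 𝐍[𝐘[p, M]]) L := by
  obtain ⟨X, hX⟩ := (CP.isMinimalOver_subgroupOf_iff hL.1).1 hL.2.2.2.1
  exact ⟨le_inf hL.1 le_normalizer, hL.2.2.2.2.2.1.1, hX.ncl_eq, hL.2.2.2.2.2.1.2⟩

theorem frakL_rootGood (hL : IsInFrakL p M L) :
    RootGood p ((𝐘[p, M].subgroupOf L).map (QuotientGroup.mk' (pCore p L))) := by
  have hmin := frakL_minOver hL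
  set Y := 𝐘[p, M] with hY
  set π := QuotientGroup.mk' (pCore p L) with hπ
  set Yb := (Y.subgroupOf L).map π with hYb
  have hea : IsElementaryAbelian p Yb := isEA_map (isEA_subgroupOf (CP.Y_isEA p M) L) π
  have hcard : Nat.card Yb = (Y ⊓ pCoreOf p L).relIndex Y := by
    rw [hYb, ← relIndex_ker, hπ, QuotientGroup.ker_mk', inf_relIndex_left, ← pCoreOf_subgroupOf,
      relIndex_subgroupOf hL.1]
  have htwo : p = 2 → Nat.card Yb = 2 → RootGood p Yb := by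
    rintro rfl h2
    obtain ⟨g, hg, hgM⟩ := SetLike.exists_of_lt hmin.lt
    refine rootGood_of_card_two h2 (g := π ⟨g, hg⟩) ?_ (pCore_quotient_pCore 2 L)
    rw [hYb, ← map_cj, ← Subgroup.map_sup, cj_subgroupOf, ← subgroupOf_sup hL.1
      (cj_le_of_mem hL.1 hg), hmin.sup_cj hg hgM, subgroupOf_self]
    exact map_top_of_surjective _ (QuotientGroup.mk'_surjective _)
  rcases hL.2.2.2.2.2.2 with ⟨F, _, _, hF, ⟨e⟩⟩ | ⟨hp, F, _, _, m, hF, hF', ⟨e⟩⟩ |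
    ⟨hp, r, hr, hr2, ⟨e⟩⟩
  · obtain ⟨k, hk⟩ := isEA_card hea
    have : CharP F p := charP_of_card_eq_prime_pow (f := k) (by rw [hF, ← hcard, hk])
    refine RootGood.of_map e (rootGood_SL2 p ((isEA_isPGroup hea).map _) ?_)
    rw [card_map_of_injective _ e.injective, hcard, hF]
  · rcases Nat.eq_zero_or_pos m with rfl | hm
    · exact htwo hp (by rw [hcard, ← hF', hF]; rfl)
    subst hp
    have := Chev.SzField.of_fintype hm hF
    refine RootGood.of_map (e.trans (Chev.Suz.lieEquiv F).symm) (rootGood_Sz (isEA_map hea _) ?_)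
    rw [card_map_of_injective _ (MulEquiv.injective _), hcard, ← hF', hF]
  · refine htwo hp ?_
    subst hp
    obtain ⟨k, hk⟩ := isEA_card hea
    have h1 : Nat.card Yb ∣ 2 * r := by
      have := card_subgroup_dvd_card Yb
      rwa [Nat.card_congr e.toEquiv, DihedralGroup.nat_card] at this
    have h2 : Nat.card Yb ≠ 1 := by
      rw [hcard, Ne, relIndex_eq_one]
      exact fun h0 => hmin.not_le_pCoreOf (CP.isPGroup_Y 2 M) (h0.trans inf_le_right)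
    rw [hk] at h1 h2 ⊢
    have h3 : (2 ^ k).Coprime r :=
      Nat.Coprime.pow_left _ ((Nat.coprime_primes Nat.prime_two hr).2 hr2.symm)
    have h4 := (Nat.dvd_prime Nat.prime_two).1 (h3.dvd_of_dvd_mul_right h1)
    tauto

theorem frakL_mem_normalizer (hL : IsInFrakL p M L) {x : L} :
    QuotientGroup.mk' (pCore p L) x ∈
      𝐍[(𝐘[p, M].subgroupOf L).map (QuotientGroup.mk' (pCore p L))] ↔ (x : G) ∈ 𝐍[𝐘[p, M]] := by
  rw [← cj_eq_iff, ← map_cj, cj_subgroupOf]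
  refine ⟨fun h => ?_, fun h => by rw [cj_of_mem_normalizer h]⟩
  refine ((frakL_minOver hL).mem_of_cj_le x.2 (le_inf (cj_le_of_mem hL.1 x.2) ?_)).2
  have h1 := h.le
  rw [Subgroup.map_le_map_iff, QuotientGroup.ker_mk', subgroupOf_le_iff, Subgroup.map_sup,
    map_subgroupOf_of_le hL.1, inf_eq_left.2 (cj_le_of_mem hL.1 x.2)] at h1
  exact h1.trans (sup_le le_normalizer hL.2.2.1)

theorem frakL_mem_map (_hL : IsInFrakL p M L) {V : Subgroup G} (hV : V ≤ L) {x : L} :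
    QuotientGroup.mk' (pCore p L) x ∈ (V.subgroupOf L).map (QuotientGroup.mk' (pCore p L)) ↔
      (x : G) ∈ V ⊔ pCoreOf p L := by
  rw [← mem_comap, comap_map_eq, QuotientGroup.ker_mk', ← pCoreOf_subgroupOf,
    ← subgroupOf_sup hV (pCoreOf_le p L), mem_subgroupOf]

theorem frakL_lSetup (hL : IsInFrakL p M L) : LSetup p 𝐘[p, M] L := by
  refine ⟨CP.Y_isEA p M, frakL_minOver hL, hL.2.2.1, ?_, fun x hx hp => ?_⟩
  · rw [← CP.map_normalClosure_subgroupOf (inf_le_left.trans hL.1)]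
    exact hL.2.1
  · rw [← frakL_mem_map hL hL.1 (x := ⟨x, hx.1⟩)]
    refine (frakL_rootGood hL).omega _ ((frakL_mem_normalizer hL).2 hx.2) ?_
    rw [← map_pow, QuotientGroup.mk'_apply, QuotientGroup.eq_one_iff, ← pCoreOf_subgroupOf]
    exact hp

theorem frakL_irr (hL : IsInFrakL p M L) {V : Subgroup G} (h1 : V ≤ 𝐘[p, M] ⊔ pCoreOf p L)
    (h2 : L ⊓ 𝐍[𝐘[p, M]] ≤ 𝐍[V]) : V ≤ pCoreOf p L ∨ 𝐘[p, M] ≤ V ⊔ pCoreOf p L := by
  have hV : V ≤ L := h1.trans (sup_le hL.1 (pCoreOf_le p L))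
  have key := (frakL_rootGood hL).irr ((V.subgroupOf L).map (QuotientGroup.mk' (pCore p L)))
    (by
      rintro _ ⟨x, hx, rfl⟩
      exact (frakL_mem_map hL hL.1).2 (h1 hx))
    (by
      intro x hx
      obtain ⟨x, rfl⟩ := QuotientGroup.mk'_surjective _ x
      rw [← cj_eq_iff, ← map_cj, cj_subgroupOf,
        cj_of_mem_normalizer (h2 ⟨x.2, (frakL_mem_normalizer hL).1 hx⟩)])
  rcases key with h | h
  · left
    intro x hx
    rw [Subgroup.map_eq_bot_iff, QuotientGroup.ker_mk', ← pCoreOf_subgroupOf] at h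
    exact h (show (⟨x, hV hx⟩ : L) ∈ V.subgroupOf L from hx)
  · right
    intro x hx
    rw [← frakL_mem_map hL hV (x := ⟨x, hL.1 hx⟩), h]
    exact mem_map_of_mem _ hx

theorem frakL_fpf (hL : IsInFrakL p M L) {h a : G} (hh : h ∈ L) (hn : ¬ ∃ k : ℕ, h ^ p ^ k = 1)
    (ha : a ∈ pCoreOf p L) (hf : ⁅h, a⁆ ∈ 𝐘[p, M] ⊓ 𝐂[L]) : a ∈ 𝐘[p, M] ⊓ 𝐂[L] := by
  have hs := frakL_lSetup hL
  set π := QuotientGroup.mk' (pCore p L) with hπ
  have hpe : ∀ x : L, (∃ k : ℕ, π x ^ p ^ k = 1) ↔ ∃ k : ℕ, (x : G) ^ p ^ k = 1 := by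
    intro x
    refine ⟨fun ⟨k, hk⟩ => ?_, fun ⟨k, hk⟩ => ⟨k, ?_⟩⟩
    · rw [← map_pow, hπ, QuotientGroup.mk'_apply, QuotientGroup.eq_one_iff] at hk
      obtain ⟨j, hj⟩ := isPGroup_iff.1 (isPGroup_pCore' p L) _ hk
      exact ⟨k + j, by rw [pow_add, pow_mul]; exact_mod_cast hj⟩
    · rw [← map_pow, show x ^ p ^ k = 1 from Subtype.ext hk, map_one]
  obtain ⟨n, m, g₁, g₂, y₁, y₂, h1, h2, h3, h4⟩ := (frakL_rootGood hL).prod (π ⟨h, hh⟩)
    (by rwa [hpe])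
  obtain ⟨g₁, rfl⟩ := QuotientGroup.mk'_surjective _ g₁
  obtain ⟨g₂, rfl⟩ := QuotientGroup.mk'_surjective _ g₂
  rw [← map_cj, cj_subgroupOf] at h1 h2
  obtain ⟨y₁, h1, rfl⟩ := h1
  obtain ⟨y₂, h2, rfl⟩ := h2
  rw [← map_mul, hpe] at h3
  rw [← map_mul, ← map_pow, ← map_pow, hπ, QuotientGroup.mk'_apply, QuotientGroup.mk'_apply,
    QuotientGroup.eq, ← pCoreOf_subgroupOf, mem_subgroupOf] at h4
  have hLC := LSetup.le_normalizer_of_le_centralizer (inf_le_right : 𝐘[p, M] ⊓ 𝐂[L] ≤ 𝐂[L])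
  have h5 : ((y₁ : G) * y₂) ^ p ^ m ∈ fixMod a (𝐘[p, M] ⊓ 𝐂[L]) := by
    have := mul_mem (pow_mem (show h ∈ fixMod a _ from ⟨hLC hh, hf⟩) n) (hs.core_le_fixMod ha h4)
    simpa using this
  by_contra h0
  have hy : (y₁ : G) * y₂ ∈ L := mul_mem y₁.2 y₂.2
  obtain ⟨a', ha', ha'C, h6⟩ := exists_fixMod_of_pow (isPGroup_pCoreOf p L)
    ((pCoreOf_le p L).trans hLC) (le_normalizer_pCoreOf p L hy) (hLC hy) ha h0 h5
  exact ha'C (hs.fpf_mul g₁.2 g₂.2 h1 h2 h3 ha' h6)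

end FrakL

end Cfsg.Agent.PLocal.WC
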