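import Mathlib
import Cfsg.Prelude.Def_LocalStructure
import Cfsg.Agent.PLocal.ParChar
import Cfsg.Agent.Grp.CardProduct
import Cfsg.Agent.Grp.Frattini

/-!
Subgroups with the basic property (`IsInFrakM`), asymmetry, and the family `IsInFrakH`.
-/

set_option autoImplicit false
set_option linter.unusedSectionVars false

namespace Cfsg.Agent.PLocal.WC

open Subgroup Cfsg Cfsg.Agent.PLocal.Amb Cfsg.Agent.Grp
open Cfsg.Agent.PLocal.CP (ncl IsCharP secCent IsPRed RedMod)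
open scoped commutatorElement Cfsg.Agent.PLocal.CP Pointwise

variable {G : Type*} [Group G] {p : ℕ} [Finite G] [Fact p.Prime]

/-- product of Sylow subgroups. -/
theorem isSyl_sup {A B K C : Subgroup G} (hA : IsSyl p A K) (hB : IsSyl p B C) (hn : K ≤ 𝐍[C])
    (hAB : A ≤ 𝐍[B]) : IsSyl p (A ⊔ B) (K ⊔ C) := by
  obtain ⟨S, hS⟩ := exists_isSyl p (K ⊔ C)
  refine hS.of_card_ge (isPGroup_sup hA.pgrp hB.pgrp hAB) (sup_le_sup hA.le hB.le) ?_
  have h1 : IsSyl p (A ⊓ C) (K ⊓ C) := hA.inf hn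
  have h2 : A ⊓ C = A ⊓ B :=
    le_antisymm (le_inf inf_le_left (hB.le_of_normalizes (hA.pgrp.to_le inf_le_left) inf_le_right
      (inf_le_left.trans hAB))) (inf_le_inf_left _ hB.le)
  rw [h2] at h1
  have e1 := card_mul_card_eq_of_le_normalizer hn
  have e2 := card_mul_card_eq_of_le_normalizer hAB
  have e3 : Nat.card ↥(A ⊓ B) * Nat.card S = Nat.card A * Nat.card B := by
    rw [h1.card_eq_pow, hS.card_eq_pow, hA.card_eq_pow, hB.card_eq_pow, ← pow_add, ← pow_add,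
      ← Finsupp.add_apply, ← Finsupp.add_apply,
      ← Nat.factorization_mul Nat.card_pos.ne' Nat.card_pos.ne',
      ← Nat.factorization_mul Nat.card_pos.ne' Nat.card_pos.ne', e1]
  rw [e2] at e3
  exact (Nat.eq_of_mul_eq_mul_left Nat.card_pos e3).le

omit [Finite G] [Fact p.Prime] in
theorem isSyl_of_map_subtype {L : Subgroup G} {T K : Subgroup L}
    (h : IsSyl p (T.map L.subtype) (K.map L.subtype)) : IsSyl p T K := by
  have hi := L.subtype_injective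
  refine ⟨(map_le_map_iff_of_injective hi).1 h.le, ?_, fun R hR h1 h2 => ?_⟩
  · have := isPGroup_subgroupOf h.pgrp L
    rwa [map_subtype_subgroupOf] at this
  · have := h.eq (hR.map L.subtype) (map_mono h1) (map_mono h2)
    exact ((map_le_map_iff_of_injective hi).1 this.le)

theorem isPClosed_map_subtype_iff {L : Subgroup G} {K : Subgroup L} :
    IsPClosed p K ↔ IsSyl p (pCoreOf p (K.map L.subtype)) (K.map L.subtype) := by
  rw [isPClosed_iff, ← pCoreOf_map_subtype]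
  exact ⟨fun h => h.map L.subtype, isSyl_of_map_subtype⟩

theorem isPIrreducible_iff {X : Subgroup G} : IsPIrreducible p X ↔
    ¬ IsSyl p (pCoreOf p X) X ∧ ∀ N : Subgroup G, N ≤ X → X ≤ 𝐍[N] →
      ¬ IsSyl p (pCoreOf p N) N → 𝐎[p, X] ≤ N := by
  unfold IsPIrreducible
  rw [isPClosed_iff]
  refine and_congr_right fun _ => ⟨fun h N h1 h2 h3 => ?_, fun h N hN h3 => ?_⟩
  · have := h (N.subgroupOf X) (normal_subgroupOf' h2)
      (by rwa [isPClosed_map_subtype_iff, map_subgroupOf_of_le h1])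
    rw [← map_subgroupOf_of_le h1]
    exact map_mono this
  · have := h (N.map X.subtype) (map_subtype_le N) (le_normalizer_map_subtype N)
      (by rwa [← isPClosed_map_subtype_iff])
    exact (map_le_map_iff_of_injective X.subtype_injective).1 this

/-- criterion for `p`-irreducibility. -/
theorem isPIrreducible_of_minimal {X P Y : Subgroup G} (hP : IsPGroup p P) (hPX : P ≤ X)
    (hYP : Y ≤ P) (hY : ¬ Y ≤ pCoreOf p X) (hmin : ∀ K, P ≤ K → K < X → Y ≤ pCoreOf p K) :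
    IsPIrreducible p X := by
  obtain ⟨T, hT, hPT⟩ := exists_isSyl_ge hP hPX
  refine isPIrreducible_iff.2 ⟨fun h => hY ?_, fun N hNX hXN hN => ?_⟩
  · rw [← h.eq hT.pgrp hT.pCoreOf_le hT.le]
    exact hYP.trans hPT
  have h1 : IsSyl p (T ⊓ N) N := hT.inf_of_le hNX hXN
  have hTK : T ≤ X ⊓ 𝐍[T ⊓ N] := le_inf hT.le (le_normalizer_inf le_normalizer (hT.le.trans hXN))
  have hK : X ⊓ 𝐍[T ⊓ N] < X := by
    refine lt_of_le_of_ne inf_le_left fun h0 => hN ?_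
    have : N ≤ 𝐍[T ⊓ N] := hNX.trans (h0.ge.trans inf_le_right)
    rwa [h1.eq_pCoreOf this]
  have hF := h1.frattini_sup hNX hXN
  by_contra hcon
  have hNT : N ⊔ T < X := by
    refine lt_of_le_of_ne (sup_le hNX hT.le) fun h0 => hcon ?_
    rw [← h0]
    exact pRes_sup_le hT.pgrp (hT.le.trans hXN)
  have h2 : ⁅Y, N⁆ ≤ pCoreOf p N := by
    have a1 := hmin _ (hPT.trans le_sup_right) hNT
    refine (commutator_mono a1 le_rfl).trans ?_
    refine (commutator_le_inf_of ((pCoreOf_le p _).trans (hNT.le.trans hXN))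
      (le_sup_left.trans (le_normalizer_pCoreOf p _))).trans ?_
    rw [inf_comm]
    exact inf_pCoreOf_le le_sup_left
  set K := X ⊓ 𝐍[T ⊓ N] with hKdef
  have hXO : X ≤ 𝐍[pCoreOf p N] := hXN.trans (normalizer_le_normalizer_pCoreOf p N)
  set W := pCoreOf p K ⊓ secCent N (pCoreOf p N) with hW
  have hYW : Y ≤ W := le_inf (hmin K (hPT.trans hTK) hK)
    (CP.le_secCent_iff.2 ⟨(hYP.trans hPX).trans hXO, h2⟩)
  have hWX : W ≤ X := inf_le_left.trans ((pCoreOf_le p K).trans inf_le_left)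
  have hKW : K ≤ 𝐍[W] := le_normalizer_inf (le_normalizer_pCoreOf p K)
    (CP.le_normalizer_secCent (inf_le_left.trans hXN) (inf_le_left.trans hXO))
  have h3 : W ⊔ pCoreOf p N ≤ pCoreOf p X := by
    refine le_pCoreOf (isPGroup_sup ((isPGroup_pCoreOf p K).to_le inf_le_left)
      (isPGroup_pCoreOf p N) (hWX.trans hXO)) (sup_le hWX ((pCoreOf_le p N).trans hNX)) ?_
    rw [← hF]
    refine sup_le ?_ (le_normalizer_sup hKW (inf_le_left.trans hXO))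
    rw [le_normalizer_iff_commutator_le_left]
    refine CommMod.commutator_sup_le ?_ ?_ ?_ ?_
    · exact le_sup_left.trans le_normalizer
    · exact le_sup_right.trans le_normalizer
    · exact ((commutator_mono inf_le_right le_rfl).trans
        (CP.le_secCent_iff.1 le_rfl).2).trans le_sup_right
    · exact (commutator_le_left_of (le_normalizer_pCoreOf p N)).trans le_sup_right
  exact hY (hYW.trans (le_sup_left.trans h3))

omit [Finite G] [Fact p.Prime] in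
theorem mem_charPSubgroups {L : Subgroup G} :
    L ∈ charPSubgroups p G ↔ pCoreOf p L ≠ ⊥ ∧ 𝐂[pCoreOf p L] ≤ pCoreOf p L :=
  and_congr_left fun _ => not_congr pCoreOf_eq_bot_iff.symm

theorem exists_maxCharP {L : Subgroup G} (h : L ∈ charPSubgroups p G) :
    ∃ X ∈ maxCharPSubgroups p G, L ≤ X := by
  obtain ⟨X, hLX, hX⟩ := (Set.toFinite (charPSubgroups p G)).exists_le_maximal h
  exact ⟨X, ⟨hX.1, fun K hK hXK => le_antisymm (hX.2 hK hXK) hXK⟩, hLX⟩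

theorem mem_charP_of_parChar (h : IsOfParabolicCharacteristic p G) {T L : Subgroup G}
    (hT : IsSyl p T ⊤) (hTL : T ≤ L) (h1 : pCoreOf p L ≠ ⊥) : L ∈ charPSubgroups p G :=
  mem_charPSubgroups.2 ⟨h1, parChar_centralizer_pCoreOf_le h hT hTL h1⟩

theorem Y_ne_bot {T L : Subgroup G} (hL : IsCharP p L) (hT : IsSyl p T L) (h1 : T ≠ ⊥) :
    𝐘[p, L] ≠ ⊥ :=
  ne_bot_of_le (hL.omegaZ_le_Y hT) (omegaZ_ne_bot hT.pgrp h1)

/-- existence of a subgroup with the basic property above `L`. -/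
theorem exists_frakM (hH : IsOfParabolicCharacteristic p G) {T L : Subgroup G} (hT : IsSyl p T ⊤)
    (hTL : T ≤ L) (hL : pCoreOf p L ≠ ⊥) :
    ∃ M Ls : Subgroup G, T ≤ M ∧ IsInFrakM p M ∧ T ≤ Ls ∧ Ls ≤ M ∧ Ls ∈ charPSubgroups p G ∧
      𝐘[p, L] = 𝐘[p, Ls] ∧ 𝐘[p, L] ≤ 𝐘[p, M] ∧ L ⊔ 𝐂[𝐘[p, L]] = Ls ⊔ 𝐂[𝐘[p, L]] := by
  have hT1 : T ≠ ⊥ := ne_bot_of_le (hT.mono hTL le_top).pCoreOf_le hL
  have hcp : ∀ X, T ≤ X → pCoreOf p X ≠ ⊥ → IsCharP p X := fun X h1 h2 =>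
    parChar_isCharP_of_le hH hT h1 h2
  have hsy : ∀ X, T ≤ X → IsSyl p T X := fun X h1 => hT.mono h1 le_top
  set Ld := L ⊔ 𝐂[𝐘[p, L]] with hLd
  have hLdN : Ld ≤ 𝐍[𝐘[p, L]] := sup_le (CP.le_normalizer_Y p L) (centralizer_le_normalizer' _)
  have hYL1 : 𝐘[p, L] ≠ ⊥ := Y_ne_bot (hcp L hTL hL) (hsy L hTL) hT1
  let 𝒮 : Set (Subgroup G) := {X | T ≤ X ∧ pCoreOf p X ≠ ⊥ ∧ L ≤ (X ⊓ Ld) ⊔ 𝐂[𝐘[p, L]]}
  have hS1 : ∀ X ∈ 𝒮, ∀ X', X ≤ X' → pCoreOf p X' ≠ ⊥ → X' ∈ 𝒮 := fun X hX X' h1 h2 =>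
    ⟨hX.1.trans h1, h2, hX.2.2.trans (sup_le_sup_right (inf_le_inf_right _ h1) _)⟩
  have hS2 : ∀ X ∈ 𝒮, ∃ Ls, T ≤ Ls ∧ Ls ≤ X ∧ Ls ∈ charPSubgroups p G ∧ 𝐘[p, L] = 𝐘[p, Ls] ∧
      𝐘[p, L] ≤ 𝐘[p, X] ∧ Ld = Ls ⊔ 𝐂[𝐘[p, L]] := by
    intro X hX
    have a1 : T ≤ X ⊓ Ld := le_inf hX.1 (hTL.trans le_sup_left)
    have a2 : (X ⊓ Ld) ⊔ 𝐂[𝐘[p, L]] = Ld :=
      le_antisymm (sup_le inf_le_right le_sup_right) (sup_le hX.2.2 le_sup_right)
    have a3 := (hcp L hTL hL).Y_inf_normalizer (hsy L hTL) (hsy _ a1) a2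
    have a4 := CP.inf_normalizer_sup_centralizer (hsy _ a1) (inf_le_right.trans hLdN)
    have a5 := CP.le_inf_normalizer_inf_centralizer a1 (hTL.trans (CP.le_normalizer_Y p L))
    have a6 : pCoreOf p ((X ⊓ Ld) ⊓ 𝐍[T ⊓ 𝐂[𝐘[p, L]]]) ≠ ⊥ :=
      ne_bot_of_le (CP.Y_le_pCoreOf p _) (by rwa [a3])
    refine ⟨_, a5, inf_le_left.trans inf_le_left, mem_charP_of_parChar hH hT a5 a6, a3.symm, ?_,
      (a4.trans a2).symm⟩
    rw [← a3]
    exact (hcp X hX.1 hX.2.1).Y_le_Y (hsy X hX.1) a5 (inf_le_left.trans inf_le_left)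
  have hLS : L ∈ 𝒮 := ⟨hTL, hL, le_sup_left.trans' (le_inf le_rfl le_sup_left)⟩
  obtain ⟨M₀, hM₀, hmax⟩ := Set.exists_max_image 𝒮 (fun X => Nat.card 𝐘[p, X]) (Set.toFinite _)
    ⟨L, hLS⟩
  set Y := 𝐘[p, M₀] with hY
  have hY1 : Y ≠ ⊥ := Y_ne_bot (hcp _ hM₀.1 hM₀.2.1) (hsy _ hM₀.1) hT1
  have hYp : IsPGroup p Y := CP.isPGroup_Y p M₀
  have hYT : Y ≤ T := (CP.isPRed_Y p M₀).le_syl (hsy _ hM₀.1)
  have hM₀N : M₀ ≤ 𝐍[Y] := CP.le_normalizer_Y p M₀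
  have hTN : T ≤ 𝐍[Y] := hM₀.1.trans hM₀N
  have hne : ∀ X, T ≤ X → X ≤ 𝐍[Y] → pCoreOf p X ≠ ⊥ := fun X h1 h2 =>
    ne_bot_of_le (le_pCoreOf hYp (hYT.trans h1) h2) hY1
  have hYeq : ∀ X ∈ 𝒮, Y ≤ 𝐘[p, X] → 𝐘[p, X] = Y := fun X hX h1 =>
    (eq_of_le_of_card_ge h1 (hmax X hX)).symm
  have hNS : 𝐍[Y] ∈ 𝒮 := hS1 _ hM₀ _ hM₀N (hne _ hTN le_rfl)
  have hYN : 𝐘[p, 𝐍[Y]] = Y :=
    hYeq _ hNS ((hcp _ hTN hNS.2.1).Y_le_Y (hsy _ hTN) hM₀.1 hM₀N)
  let 𝒯 : Set (Subgroup G) := {X | T ≤ X ∧ X ⊔ 𝐂[Y] = 𝐍[Y]}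
  obtain ⟨M, hM, hmin⟩ := (Set.toFinite 𝒯).exists_minimal
    ⟨𝐍[Y], hTN, sup_eq_left.2 (centralizer_le_normalizer' _)⟩
  have hMN : M ≤ 𝐍[Y] := le_sup_left.trans hM.2.le
  have hMO := hne M hM.1 hMN
  obtain ⟨-, -, -, -, -, hYLY, -⟩ := hS2 _ hM₀
  have hCC : 𝐂[Y] ≤ 𝐂[𝐘[p, L]] := centralizer_anti hYLY
  have hMS : M ∈ 𝒮 := by
    refine ⟨hM.1, hMO, hNS.2.2.trans (sup_le ?_ le_sup_right)⟩
    rw [← hM.2, sup_comm, sup_inf_of_le_normalizer' (hCC.trans le_sup_right)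
      (hMN.trans (normalizer_le_normalizer_centralizer Y))]
    exact sup_le (hCC.trans le_sup_right) le_sup_left
  have hYM : 𝐘[p, M] = Y := by
    refine hYeq M hMS (IsPRed.le_Y ?_)
    have := CP.isPRed_Y p 𝐍[Y]
    rw [hYN] at this
    exact this.of_sup_eq (hYT.trans hM.1)
      (hM.2.trans (sup_eq_left.2 (centralizer_le_normalizer' _)).symm)
  have hX : ∀ X ∈ charPSubgroups p G, M ≤ X → X ≤ 𝐍[Y] := by
    intro X hX hMX
    have b1 := (mem_charPSubgroups.1 hX).1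
    have b2 := hYeq X (hS1 M hMS X hMX b1)
      (by rw [← hYM]; exact (hcp X (hM.1.trans hMX) b1).Y_le_Y (hsy _ (hM.1.trans hMX)) hM.1 hMX)
    rw [← b2]
    exact CP.le_normalizer_Y p X
  have hNL : 𝐍[Y] ∈ charPSubgroups p G := mem_charP_of_parChar hH hT hTN hNS.2.1
  have hMP : M ≤ 𝐍[T ⊓ 𝐂[Y]] := by
    have b1 := CP.inf_normalizer_sup_centralizer (hsy M hM.1) hMN
    have b2 := hmin (y := M ⊓ 𝐍[T ⊓ 𝐂[Y]])
      ⟨CP.le_inf_normalizer_inf_centralizer hM.1 hTN, b1.trans hM.2⟩ inf_le_left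
    exact b2.trans inf_le_right
  have hsylC : IsSyl p (T ⊓ 𝐂[Y]) (M ⊓ 𝐂[Y]) := CP.isSyl_inf_centralizer (hsy M hM.1) hMN
  have hPO : T ⊓ 𝐂[Y] ≤ pCoreOf p M :=
    le_pCoreOf (hT.pgrp.to_le inf_le_left) (inf_le_left.trans hM.1) hMP
  obtain ⟨Ls, c1, c2, c3, c4, c5, c6⟩ := hS2 M hMS
  refine ⟨M, Ls, hM.1, ⟨mem_charP_of_parChar hH hT hM.1 hMO, ?_, ?_, ?_, ?_, ?_⟩,
    c1, c2, c3, c4, c5, c6⟩
  · rw [hYM, hM.2]
    exact ⟨hNL, fun X h1 h2 => le_antisymm (hX X h1 (hMN.trans h2)) h2⟩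
  · rw [hYM, hM.2]
    exact fun X h1 h2 => (h1.2 _ hNL (hX X h1.1 h2)).symm
  · rw [hYM, hM.2, hYN]
  · rw [hYM, isPClosed_iff, hsylC.eq_pCoreOf (inf_le_left.trans hMP)]
    exact hsylC
  · rw [hYM, le_frattini_iff]
    intro Kb hKb
    rw [map_le_iff_le_comap]
    have hK := (isCoatom_comap_of_surjective (QuotientGroup.mk'_surjective (pCore p M)) hKb)
    set K' := Kb.comap (QuotientGroup.mk' (pCore p M)) with hK'
    have hOK : pCore p M ≤ K' := by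
      have := ker_le_comap (QuotientGroup.mk' (pCore p M)) Kb
      rwa [QuotientGroup.ker_mk'] at this
    by_contra hcon
    have d1 : K' ⊔ (M ⊓ 𝐂[Y]).subgroupOf M = ⊤ := hK.2 _ (left_lt_sup.2 hcon)
    set K := K'.map M.subtype with hKdef
    have hKM : K ≤ M := map_subtype_le _
    have d2 : K ⊔ (M ⊓ 𝐂[Y]) = M := by
      have := congrArg (map M.subtype) d1
      rwa [Subgroup.map_sup, map_subgroupOf_of_le inf_le_left, ← MonoidHom.range_eq_map,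
        range_subtype] at this
    have hPK : T ⊓ 𝐂[Y] ≤ K := hPO.trans (map_mono hOK)
    obtain ⟨A, hA, hPA⟩ := exists_isSyl_ge (hT.pgrp.to_le inf_le_left) hPK
    have d3 := isSyl_sup hA hsylC (hKM.trans (le_normalizer_inf le_normalizer
      (hMN.trans (normalizer_le_normalizer_centralizer Y)))) (hA.le.trans (hKM.trans hMP))
    rw [d2, sup_eq_left.2 hPA] at d3
    obtain ⟨m, hm, he⟩ := (hsy M hM.1).exists_cj_eq d3
    have d4 : cj(m, K) ∈ 𝒯 := by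
      refine ⟨he ▸ cj_mono m hA.le, ?_⟩
      have e1 : K ⊔ 𝐂[Y] = 𝐍[Y] := by
        rw [← hM.2]
        refine le_antisymm (sup_le_sup_right hKM _) (sup_le ?_ le_sup_right)
        rw [← d2]
        exact sup_le_sup_left inf_le_right _
      rw [← cj_of_mem_normalizer (normalizer_le_normalizer_centralizer Y (hMN hm)), ← cj_sup, e1,
        cj_of_mem (hMN hm)]
    have d5 := hmin d4 (cj_le_of_mem hKM hm)
    rw [le_cj_iff, cj_of_mem (M.inv_mem hm)] at d5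
    refine hK.1 (eq_top_iff.2 fun x _ => ?_)
    exact mem_map_subtype.1 (d5 x.2)

/-- The standing hypotheses on `S ≤ M`. -/
structure FM (p : ℕ) (S M : Subgroup G) : Prop where
  par : IsOfParabolicCharacteristic p G
  syl : IsSyl p S ⊤
  le : S ≤ M
  frak : IsInFrakM p M

theorem FM.of_large (S : Sylow p G) {Q M : Subgroup G} (hQp : IsPGroup p Q) (hQ1 : Q ≠ ⊥)
    (hQ : IsLarge Q) (hSM : (S : Subgroup G) ≤ M) (hM : IsInFrakM p M) :
    FM p (S : Subgroup G) M :=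
  ⟨large_isOfParabolicCharacteristic hQp hQ1 hQ, isSyl_top S, hSM, hM⟩

namespace FM

variable {S M : Subgroup G}

theorem core_ne_bot (h : FM p S M) : pCoreOf p M ≠ ⊥ := (mem_charPSubgroups.1 h.frak.1).1

theorem centralizer_core_le (h : FM p S M) : 𝐂[pCoreOf p M] ≤ pCoreOf p M :=
  (mem_charPSubgroups.1 h.frak.1).2

theorem charP (h : FM p S M) : IsCharP p M := CP.isCharP_of_le_centralizer h.centralizer_core_le

theorem sylM (h : FM p S M) : IsSyl p S M := h.syl.mono h.le le_top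

theorem core_le_S (h : FM p S M) : pCoreOf p M ≤ S := h.sylM.pCoreOf_le

theorem S_ne_bot (h : FM p S M) : S ≠ ⊥ := ne_bot_of_le h.core_le_S h.core_ne_bot

theorem Y_ne_bot (h : FM p S M) : 𝐘[p, M] ≠ ⊥ := WC.Y_ne_bot h.charP h.sylM h.S_ne_bot

theorem le_dagger (h : FM p S M) {L : Subgroup G} (hML : M ≤ L) (h1 : pCoreOf p L ≠ ⊥) :
    L ≤ M ⊔ 𝐂[𝐘[p, M]] := by
  obtain ⟨X, hX, hLX⟩ := exists_maxCharP (mem_charP_of_parChar h.par h.syl (h.le.trans hML) h1)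
  rw [← h.frak.2.2.1 X hX (hML.trans hLX)]
  exact hLX

theorem normalizer_le_dagger (h : FM p S M) {R : Subgroup G} (hR : IsPGroup p R) (h1 : R ≠ ⊥)
    (hn : M ≤ 𝐍[R]) : 𝐍[R] ≤ M ⊔ 𝐂[𝐘[p, M]] :=
  h.le_dagger hn (ne_bot_of_le (le_pCoreOf hR le_normalizer le_rfl) h1)

theorem normalizer_Y (h : FM p S M) : 𝐍[𝐘[p, M]] = M ⊔ 𝐂[𝐘[p, M]] :=
  le_antisymm (h.normalizer_le_dagger (CP.isPGroup_Y p M) h.Y_ne_bot (CP.le_normalizer_Y p M))
    (sup_le (CP.le_normalizer_Y p M) (centralizer_le_normalizer' _))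

theorem normalizer_core_le (h : FM p S M) : 𝐍[pCoreOf p M] ≤ 𝐍[𝐘[p, M]] := by
  rw [h.normalizer_Y]
  exact h.normalizer_le_dagger (isPGroup_pCoreOf p M) h.core_ne_bot (le_normalizer_pCoreOf p M)

theorem core_eq (h : FM p S M) : pCoreOf p M = S ⊓ 𝐂[𝐘[p, M]] := by
  refine le_antisymm (le_inf h.core_le_S (CP.pCoreOf_le_centralizer_Y p M)) ?_
  have h1 := isPClosed_iff.1 h.frak.2.2.2.2.1
  have h2 := CP.isSyl_inf_centralizer h.sylM (CP.le_normalizer_Y p M)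
  rw [h1.eq h2.pgrp h2.pCoreOf_le h2.le]
  exact pCoreOf_mono_of_normal inf_le_left
    (le_normalizer_inf le_normalizer (CP.isPRed_Y p M).norm_centralizer)

theorem isSyl_core (h : FM p S M) : IsSyl p (pCoreOf p M) 𝐂[𝐘[p, M]] := by
  rw [h.core_eq]
  exact (h.syl.mono (h.le.trans (CP.le_normalizer_Y p M)) le_top).inf_of_le
    (centralizer_le_normalizer' _) (normalizer_le_normalizer_centralizer _)

theorem Y_eq_omegaZ (h : FM p S M) : 𝐘[p, M] = ΩZ[p, pCoreOf p M] := by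
  rw [h.core_eq]
  exact h.charP.Y_eq_omegaZ h.sylM

theorem isPRed_dagger (h : FM p S M) : IsPRed p 𝐘[p, M] 𝐍[𝐘[p, M]] := by
  rw [h.normalizer_Y]
  exact (CP.isPRed_Y p M).sup_centralizer

/-- weak closure of `O_p(M)` in `M†`. -/
theorem cj_core_eq (h : FM p S M) {g : G} (hg : g ∈ 𝐍[𝐘[p, M]]) {R : Subgroup G}
    (hR : IsPGroup p R) (h1 : pCoreOf p M ≤ R) (h2 : cj(g, pCoreOf p M) ≤ R) :
    cj(g, pCoreOf p M) = pCoreOf p M := by
  have a1 := h.isSyl_core.cj_of_mem_normalizer (normalizer_le_normalizer_centralizer _ hg)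
  have a2 : R ⊓ 𝐂[𝐘[p, M]] = pCoreOf p M :=
    h.isSyl_core.eq (hR.to_le inf_le_left) (le_inf h1 h.isSyl_core.le) inf_le_right
  exact (a1.eq (isPGroup_pCoreOf p M) ((le_inf h2 a1.le).trans a2.le) h.isSyl_core.le).symm

theorem isWC_subgroupOf (h : FM p S M) :
    IsWC p ((pCoreOf p M).subgroupOf (M ⊔ 𝐂[𝐘[p, M]])) := by
  refine ⟨isPGroup_subgroupOf (isPGroup_pCoreOf p M) _, fun g R hR h1 h2 => ?_⟩
  have hle : pCoreOf p M ≤ M ⊔ 𝐂[𝐘[p, M]] := (pCoreOf_le p M).trans le_sup_left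
  rw [cj_subgroupOf] at h2 ⊢
  have h3 := subgroupOf_le_iff.1 h2
  have h4 := subgroupOf_le_iff.1 h1
  rw [inf_eq_left.2 hle] at h4
  rw [inf_eq_left.2 (cj_le_of_mem hle g.2)] at h3
  rw [h.cj_core_eq (h.normalizer_Y.ge g.2) (hR.map _) h4 h3]

end FM

omit [Finite G] [Fact p.Prime] in
theorem le_centralizer_of_asym {Y : Subgroup G} (h : ¬ IsSymmetricIn Y) {g : G}
    (h1 : cj(g, Y) ≤ 𝐍[Y]) (h2 : Y ≤ 𝐍[cj(g, Y)]) : cj(g, Y) ≤ 𝐂[Y] := by
  rw [← commutator_eq_bot_iff_le_centralizer, commutator_comm]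
  by_contra h0
  exact h ⟨g, h0, commutator_le_inf_of h2 h1⟩

omit [Finite G] [Fact p.Prime] in
theorem isEA_ncl {Y L : Subgroup G} (hY : IsElementaryAbelian p Y)
    (h : ∀ g ∈ L, cj(g, Y) ≤ 𝐂[Y]) : IsElementaryAbelian p (ncl Y L) := by
  refine isEA_iSup (fun g => isEA_map hY _) fun a b => ?_
  rw [centralizer_cj, le_cj_iff, ← cj_mul]
  exact h _ (L.mul_mem (L.inv_mem b.2) a.2)

omit [Finite G] [Fact p.Prime] in
theorem isEA_ncl_of_asym {Y R : Subgroup G} (hY : IsElementaryAbelian p Y)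
    (h : ¬ IsSymmetricIn Y) (h1 : Y ≤ R) (h2 : R ≤ 𝐍[Y]) : IsElementaryAbelian p (ncl Y 𝐍[R]) := by
  refine isEA_ncl hY fun g hg => le_centralizer_of_asym h
    ((cj_le_of_mem_normalizer h1 hg).trans h2) ?_
  rw [normalizer_cj]
  refine le_trans ?_ (cj_mono g h2)
  rwa [cj_of_mem_normalizer hg]

namespace FM

variable {S M : Subgroup G}

theorem normalizer_le_of_asym_aux (h : FM p S M) (ha : ¬ IsSymmetricIn 𝐘[p, M]) {L : Subgroup G}
    (hL : IsPGroup p L) (hPL : pCoreOf p M ≤ L) (hLN : L ≤ 𝐍[𝐘[p, M]]) :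
    𝐍[L] ≤ 𝐍[pCoreOf p M] := by
  set P := pCoreOf p M with hP
  set Y := 𝐘[p, M] with hY
  have hYP : Y ≤ P := CP.Y_le_pCoreOf p M
  have hLP : L ≤ 𝐍[P] := fun g hg =>
    cj_eq_iff.1 (h.cj_core_eq (hLN hg) hL hPL (cj_le_of_mem hPL hg))
  let A : Set G := {w | ∃ m ∈ 𝐍[P], ∃ x ∈ 𝐍[L], ∃ m' ∈ 𝐍[P], w = m * x * m'}
  have hAinv : A⁻¹ = A := by
    have : ∀ w ∈ A, w⁻¹ ∈ A := by
      rintro w ⟨m, hm, x, hx, m', hm', rfl⟩
      exact ⟨m'⁻¹, inv_mem hm', x⁻¹, inv_mem hx, m⁻¹, inv_mem hm, by group⟩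
    ext w
    exact ⟨fun hw => by simpa using this _ hw, fun hw => this _ hw⟩
  have key : ∀ n : ℕ, ∀ w ∈ A ^ n, cj(w, Y) ≤ P := by
    intro n
    induction n with
    | zero =>
      intro w hw
      rw [pow_zero, Set.mem_one] at hw
      rw [hw, cj_one]
      exact hYP
    | succ n ih =>
      have step : ∀ w ∈ A ^ (n + 1), ∃ m ∈ 𝐍[P], cj(w, Y) ≤ cj(m, L) := by
        intro w hw
        rw [pow_succ'] at hw
        obtain ⟨a, ⟨m, hm, x, hx, m', hm', rfl⟩, w', hw', rfl⟩ := hw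
        refine ⟨m, hm, ?_⟩
        change cj(m * x * m' * w', Y) ≤ _
        rw [cj_mul, cj_mul, cj_mul]
        refine cj_mono m (cj_le_of_mem_normalizer ?_ hx)
        exact (cj_le_of_mem_normalizer (ih w' hw') hm').trans hPL
      have step2 : ∀ w ∈ A ^ (n + 1), cj(w, Y) ≤ 𝐍[Y] := by
        intro w hw
        obtain ⟨m, hm, hle⟩ := step w hw
        exact hle.trans ((cj_le_of_mem hLP hm).trans h.normalizer_core_le)
      intro w hw
      have hw' : w⁻¹ ∈ A ^ (n + 1) := by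
        rw [← hAinv, inv_pow]
        simpa using hw
      have a1 : cj(w, Y) ≤ 𝐂[Y] := by
        refine le_centralizer_of_asym ha (step2 w hw) ?_
        rw [normalizer_cj, le_cj_iff]
        exact step2 _ hw'
      obtain ⟨m, hm, hle⟩ := step w hw
      have a2 : cj(m, L) ⊓ 𝐂[Y] = P := by
        refine h.isSyl_core.eq ((isPGroup_cj m hL).to_le inf_le_left)
          (le_inf ?_ h.isSyl_core.le) inf_le_right
        exact (cj_of_mem_normalizer hm).ge.trans (cj_mono m hPL)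
      rw [← a2]
      exact le_inf hle a1
  let X : Subgroup G :=
    { carrier := {w | ∃ n : ℕ, w ∈ A ^ n}
      mul_mem' := by
        rintro a b ⟨n, hn⟩ ⟨m, hm⟩
        exact ⟨n + m, by rw [pow_add]; exact Set.mul_mem_mul hn hm⟩
      one_mem' := ⟨0, by simp⟩
      inv_mem' := by
        rintro a ⟨n, hn⟩
        refine ⟨n, ?_⟩
        rw [← hAinv, inv_pow]
        simpa using hn }
  have hX1 : 𝐍[P] ≤ X := fun m hm => ⟨1, by
    rw [pow_one]; exact ⟨m, hm, 1, one_mem _, 1, one_mem _, by group⟩⟩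
  have hX2 : 𝐍[L] ≤ X := fun x hx => ⟨1, by
    rw [pow_one]; exact ⟨1, one_mem _, x, hx, 1, one_mem _, by group⟩⟩
  have hU : ncl Y X ≤ P := CP.ncl_le_iff.2 fun w ⟨n, hn⟩ => key n w hn
  have hXd : X ≤ 𝐍[Y] := by
    rw [hY, h.normalizer_Y]
    refine (CP.le_normalizer_ncl Y X).trans (h.normalizer_le_dagger
      ((isPGroup_pCoreOf p M).to_le hU) (ne_bot_of_le (CP.le_ncl Y X) h.Y_ne_bot) ?_)
    exact ((le_normalizer_pCoreOf p M).trans hX1).trans (CP.le_normalizer_ncl Y X)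
  intro g hg
  exact cj_eq_iff.1 (h.cj_core_eq (hXd (hX2 hg)) hL hPL (cj_le_of_mem_normalizer hPL hg))

theorem isWC_core (h : FM p S M) (ha : ¬ IsSymmetricIn 𝐘[p, M]) : IsWC p (pCoreOf p M) := by
  refine isWC_of_normalizer_le (isPGroup_pCoreOf p M) fun L hL hPL => ?_
  have hPN : pCoreOf p M ≤ 𝐍[𝐘[p, M]] := (pCoreOf_le p M).trans (CP.le_normalizer_Y p M)
  have h1 : L ⊓ 𝐍[𝐘[p, M]] = L := by
    refine eq_of_inf_normalizer_le hL inf_le_left (inf_le_inf_left _ ?_)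
    exact (h.normalizer_le_of_asym_aux ha (hL.to_le inf_le_left) (le_inf hPL hPN)
      inf_le_right).trans h.normalizer_core_le
  exact h.normalizer_le_of_asym_aux ha hL hPL (inf_eq_left.1 h1)

theorem exists_conj_of_asym (h : FM p S M) (ha : ¬ IsSymmetricIn 𝐘[p, M]) {x g : G}
    (hx : x ∈ 𝐘[p, M]) (hg : g * x * g⁻¹ ∈ 𝐘[p, M]) : ∃ m ∈ M, m * x * m⁻¹ = g * x * g⁻¹ := by
  have hw := h.isWC_core ha
  have hC : ∀ y ∈ 𝐘[p, M], pCoreOf p M ≤ centralizer ({y} : Set G) := fun y hy =>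
    (CP.pCoreOf_le_centralizer_Y p M).trans (centralizer_le_centralizer_singleton hy)
  obtain ⟨k, hk, he⟩ := hw.exists_cj_eq (hC _ hg) (g := g)
    (by rw [centralizer_singleton_conj]; exact cj_mono g (hC x hx))
  have a1 : k⁻¹ * g ∈ 𝐍[pCoreOf p M] := by rw [← cj_eq_iff, cj_mul, he, cj_inv_cj]
  have a2 := h.normalizer_core_le a1
  rw [h.normalizer_Y, mem_sup_of_le_normalizer_right (CP.isPRed_Y p M).norm_centralizer] at a2
  obtain ⟨m, hm, c, hc, he⟩ := a2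
  refine ⟨m, hm, ?_⟩
  have a3 : x * c = c * x := hc x hx
  have a4 : k * (g * x * g⁻¹) = (g * x * g⁻¹) * k := mem_centralizer_singleton_iff.1 hk
  calc m * x * m⁻¹ = m * (x * c) * c⁻¹ * m⁻¹ := by group
    _ = (m * c) * x * (m * c)⁻¹ := by rw [a3]; group
    _ = k⁻¹ * ((g * x * g⁻¹) * k) := by rw [← he]; group
    _ = g * x * g⁻¹ := by rw [← a4]; group

/-- facts on `H ∈ ℌ_G(O_p(M))`. -/
theorem frakH_pRes_sup {H : Subgroup G} (hH : IsInFrakH p M H) :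
    𝐎[p, H] ⊔ pCoreOf p M = H := by
  have h1 : 𝐎[p, H] ⊔ pCoreOf p M ≤ H := sup_le (pRes_le p H) hH.2.1
  by_contra h0
  exact hH.2.2.1 ((hH.2.2.2 _ le_sup_right (lt_of_le_of_ne h1 h0)).trans
    (pCoreOf_le_of_pRes_le le_sup_left h1))

theorem frakH_commutator {H : Subgroup G} (hH : IsInFrakH p M H) :
    ⁅𝐎[p, H], 𝐘[p, M]⁆ = 𝐎[p, H] := by
  set R := 𝐎[p, H] with hR
  set Y := 𝐘[p, M] with hY
  set P := pCoreOf p M with hP
  have hYP : Y ≤ P := CP.Y_le_pCoreOf p M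
  have hPH : P ≤ H := hH.2.1
  have hHR : H ≤ 𝐍[R] := le_normalizer_pRes p H
  have hPY : P ≤ 𝐍[Y] := (pCoreOf_le p M).trans (CP.le_normalizer_Y p M)
  have h1 : ⁅R, Y⁆ ≤ R := commutator_le_left_of (hYP.trans (hPH.trans hHR))
  have hPn : P ≤ 𝐍[⁅R, Y⁆] := le_normalizer_commutator (hPH.trans hHR) hPY
  have hK : ⁅R, Y⁆ ⊔ P ≤ H := sup_le (h1.trans (pRes_le p H)) hPH
  refine le_antisymm h1 ?_
  by_cases h0 : ⁅R, Y⁆ ⊔ P = H
  · conv_lhs => rw [hR, ← h0]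
    exact pRes_sup_le (isPGroup_pCoreOf p M) hPn
  · exfalso
    have a1 := hH.2.2.2 _ le_sup_right (lt_of_le_of_ne hK h0)
    have a2 : ⁅R, Y⁆ ⊔ Y ≤ ⁅R, Y⁆ ⊔ P := sup_le_sup_left hYP _
    have a3 : H ≤ 𝐍[(⁅R, Y⁆ ⊔ Y : Subgroup G)] := by
      rw [← frakH_pRes_sup hH]
      refine sup_le ?_ (le_normalizer_sup hPn hPY)
      rw [commutator_comm, sup_comm, ← CP.ncl_eq_sup_commutator]
      exact CP.le_normalizer_ncl Y R
    exact hH.2.2.1 (((le_inf le_sup_right a1).trans (inf_pCoreOf_le a2)).trans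
      (pCoreOf_mono_of_normal (a2.trans hK) a3))

theorem frakH_ncl_Y {H : Subgroup G} (hH : IsInFrakH p M H) :
    ncl 𝐘[p, M] H = 𝐎[p, H] ⊔ 𝐘[p, M] := by
  have hYP := CP.Y_le_pCoreOf p M
  have hPY : pCoreOf p M ≤ 𝐍[𝐘[p, M]] := (pCoreOf_le p M).trans (CP.le_normalizer_Y p M)
  apply le_antisymm
  · refine CP.ncl_le le_sup_right ?_
    conv_lhs => rw [← frakH_pRes_sup hH]
    exact sup_le (le_sup_left.trans le_normalizer)
      (le_normalizer_sup (hH.2.1.trans (le_normalizer_pRes p H)) hPY)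
  · refine sup_le ?_ (CP.le_ncl _ _)
    rw [← frakH_commutator hH, commutator_comm]
    exact (commutator_mono le_rfl (pRes_le p H)).trans (CP.commutator_le_ncl _ _)

theorem frakH_ncl_core {H : Subgroup G} (hH : IsInFrakH p M H) : ncl (pCoreOf p M) H = H := by
  refine le_antisymm (CP.ncl_le_of_le hH.2.1) ?_
  conv_lhs => rw [← frakH_pRes_sup hH]
  refine sup_le ?_ (CP.le_ncl _ _)
  exact (le_sup_left.trans (frakH_ncl_Y hH).ge).trans (CP.ncl_mono (CP.Y_le_pCoreOf p M) le_rfl)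

end FM

end Cfsg.Agent.PLocal.WC
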