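import Cfsg.Agent.PLocal.SL2NatMore

/-! A cubic module for `SL₂(q)` which is quadratic modulo a natural submodule is quadratic when
`p > 3`. -/

set_option autoImplicit false

namespace Cfsg.Agent.PLocal.GN

open Subgroup Cfsg Cfsg.Agent.PLocal.SL2Nat Matrix
open scoped MatrixGroups

theorem quad_ring {R : Type*} [Ring R] {a b w' : R} (ha : a * a = 0) (hb : b * b = 0)
    (br : (1 + a) * (1 + b) * (1 + a) = (1 + b) * (1 + a) * (1 + b))
    (hw : ((1 + a) * (1 + b) * (1 + a)) * ((1 + a) * (1 + b) * (1 + a)) = -1) {s : ℕ}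
    (hs : 2 * (s : R) = 1) (hw' : w' * ((1 + a) * (1 + b) * (1 + a)) = 1) :
    ∃ r, (1 + a) ^ 2 * (1 + b) ^ s * (1 + a) ^ 2 * w' = s + a * r := by
  have two : ∀ c : R, c = -c → c = 0 := fun c hc => by
    have h : 2 * c = 0 := by rw [two_mul]; nth_rewrite 1 [hc]; simp
    calc c = 2 * (s : R) * c := by rw [hs, one_mul]
      _ = s * (2 * c) := by rw [← mul_assoc, (Nat.cast_commute s 2).eq]
      _ = 0 := by rw [h, mul_zero]
  have h1 : a + a * b * a = b + b * a * b := by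
    linear_combination (norm := noncomm_ring) br - ha + hb
  have h2 : a * b + a * b * a * b = 0 := by
    linear_combination (norm := noncomm_ring) -(a * h1) + ha + ha * b * a
  have h3 : b * a + b * a * b * a = 0 := by
    linear_combination (norm := noncomm_ring) -(h1 * a) + ha + a * b * ha
  set w := (1 + a) * (1 + b) * (1 + a) with hwd
  have hac : a * (a + a * b * a) = 0 := by
    linear_combination (norm := noncomm_ring) ha + ha * b * a
  have hbc : b * (a + a * b * a) = 0 := by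
    linear_combination (norm := noncomm_ring) h3
  have h4 : w * (a + a * b * a) = a + a * b * a := by
    rw [hwd]
    linear_combination (norm := noncomm_ring) (1 + a) * (1 + b) * hac + (1 + a) * hbc + hac
  have h5 : a + a * b * a = 0 := two _ (by
    linear_combination (norm := noncomm_ring) -h4 - w * h4 + hw * (a + a * b * a))
  have h6 : w * (1 + a * b + b * a) = 1 + a * b + b * a := by
    rw [hwd]
    linear_combination (norm := noncomm_ring) 3 * h5 - h1 + h2 + h3 + ha * (1 + a * b + b * a)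
      + 2 * ha * b + hb * a + a * hb * a + b * ha * b + a * b * ha * b + a * h3
  have h7 : 1 + a * b + b * a = 0 := two _ (by
    linear_combination (norm := noncomm_ring) -h6 - w * h6 + hw * (1 + a * b + b * a))
  have h8 : w = a + b := by
    rw [hwd]
    linear_combination (norm := noncomm_ring) h5 + h7 + ha
  have h9 : w' = -(a + b) := by
    rw [← h8]
    linear_combination (norm := noncomm_ring) w' * hw - hw' * w
  have h10 : ∀ n : ℕ, (1 + b) ^ n = 1 + n * b := fun n => by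
    induction n with
    | zero => simp
    | succ n ih =>
      rw [pow_succ, ih]
      push_cast
      linear_combination (norm := noncomm_ring) (n : R) * hb
  have h11 : (1 + a) ^ 2 = 1 + 2 * a := by
    linear_combination (norm := noncomm_ring) ha
  refine ⟨2 * ((1 + s * b) * (1 + 2 * a) * w') - (1 + 2 * b - s * b), ?_⟩
  rw [h10, h11, h9]
  have hsa : (s : R) * a = a * s := (Nat.cast_commute s a).eq
  have h12 : (1 + s * b) * (1 + 2 * a) * -(a + b) = s - a * (1 + 2 * b - s * b) := by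
    linear_combination (norm := noncomm_ring) -(2 * ha) - (s : R) * hb - 2 * (s : R) * b * ha
      - hs * (b * a * b) + h1 - h5 - (s : R) * h7 + hsa * b
  linear_combination (norm := noncomm_ring) h12

section Mod

variable {L M F : Type*} [Group L] [AddCommGroup M] [Field F] {p : ℕ} [hp : Fact p.Prime] [CharP F p]

theorem cubic_fixed (h3 : 3 < p) (ρ : Representation ℤ L M) (φ : L →* SL(2, F))
    (hM : ∀ m : M, p • m = 0) (hker : ∀ g g', φ g = φ g' → ρ g = ρ g')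
    (hneg : ∀ g, φ g = -1 → ρ g = -1) (N : Submodule ℤ M) (hN : ∀ g, N ≤ N.comap (ρ g))
    (ψ : M → Fin 2 → F) (ψ_smul : ∀ n ∈ N, ∀ k : ℕ, ψ (k • n) = k • ψ n)
    (ψ_inj : ∀ n ∈ N, ψ n = 0 → n = 0) (ψ_eq : ∀ g, ∀ n ∈ N, ψ (ρ g n) = φ g • ψ n)
    {x y : L} {α β : F} (hx : φ x = uu α) (hy : φ y = ll β) (hαβ : α * β = -1)
    (qx : ∀ m, (ρ x - 1) ((ρ x - 1) m) ∈ N) (qy : ∀ m, (ρ y - 1) ((ρ y - 1) m) ∈ N)
    (cx : ∀ m, (ρ x - 1) ((ρ x - 1) ((ρ x - 1) m)) = 0)
    (nx : ∀ n ∈ N, (ρ x - 1) ((ρ x - 1) n) = 0) (m : M) : (ρ x - 1) ((ρ x - 1) m) = 0 := by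
  have hα : α ≠ 0 := by rintro rfl; simp at hαβ
  have hβ : β = -α⁻¹ := by field_simp; linear_combination hαβ
  have h2 : (2 : F) ≠ 0 := fun e => by
    have := Nat.le_of_dvd two_pos ((CharP.cast_eq_zero_iff F p 2).1 (by exact_mod_cast e))
    omega
  have h3' : (3 : F) ≠ 0 := fun e => by
    have := Nat.le_of_dvd three_pos ((CharP.cast_eq_zero_iff F p 3).1 (by exact_mod_cast e))
    omega
  obtain ⟨k, hk⟩ := hp.out.odd_of_ne_two (by omega)
  have hs : (2 : F) * (k + 1 : ℕ) = 1 := by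
    have := CharP.cast_eq_zero F p
    rw [hk] at this
    push_cast at this ⊢
    linear_combination this
  set σ := ρ.quotient N hN with hσ
  have hσ1 : ∀ g m, σ g (N.mkQ m) = N.mkQ (ρ g m) := fun g m => rfl
  have hσ2 : ∀ g g', φ g = φ g' → σ g = σ g' := fun g g' e => by
    refine LinearMap.ext fun v => ?_
    obtain ⟨v, rfl⟩ := N.mkQ_surjective v
    rw [hσ1, hσ1, hker g g' e]
  have hq : ∀ g, (∀ m, (ρ g - 1) ((ρ g - 1) m) ∈ N) → (σ g - 1) * (σ g - 1) = 0 := fun g h => by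
    refine LinearMap.ext fun v => ?_
    obtain ⟨v, rfl⟩ := N.mkQ_surjective v
    have := (Submodule.Quotient.mk_eq_zero N).2 (h v)
    simpa [hσ1, ← Submodule.mkQ_apply] using this
  have e1 : (1 : Module.End ℤ (M ⧸ N)) + (σ x - 1) = σ x := by abel
  have e2 : (1 : Module.End ℤ (M ⧸ N)) + (σ y - 1) = σ y := by abel
  have hw : φ (x * y * x) = nn α hα := by rw [map_mul, map_mul, hx, hy, hβ, uu_ll_uu]
  obtain ⟨r, hr⟩ := quad_ring (a := σ x - 1) (b := σ y - 1) (w' := σ (x * y * x)⁻¹) (hq x qx) (hq y qy)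
    (by
      rw [e1, e2, ← map_mul, ← map_mul, ← map_mul, ← map_mul]
      refine hσ2 _ _ ?_
      rw [hw, map_mul, map_mul, hx, hy, hβ]
      refine sl_ext ?_ ?_ ?_ ?_ <;> simp [SL2Nat.mul_apply', coe_uu, coe_ll, coe_nn, hα])
    (by
      rw [e1, e2, ← map_mul, ← map_mul, ← map_mul]
      refine LinearMap.ext fun v => ?_
      obtain ⟨v, rfl⟩ := N.mkQ_surjective v
      rw [hσ1, hneg]
      · simp
      · rw [map_mul, hw]
        refine sl_ext ?_ ?_ ?_ ?_ <;> simp [SL2Nat.mul_apply', coe_nn, hα])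
    (s := k + 1)
    (by
      refine LinearMap.ext fun v => ?_
      obtain ⟨v, rfl⟩ := N.mkQ_surjective v
      have h1 : (2 * ((k + 1 : ℕ) : Module.End ℤ (M ⧸ N))) = ((p + 1 : ℕ) : Module.End ℤ (M ⧸ N)) := by
        rw [hk]; push_cast; noncomm_ring
      rw [h1, Module.End.natCast_apply, succ_nsmul, ← map_nsmul, hM, map_zero, zero_add]
      rfl)
    (by rw [e1, e2, ← map_mul, ← map_mul, ← map_mul, inv_mul_cancel, map_one])
  rw [e1, e2, ← map_pow, ← map_pow, ← map_mul, ← map_mul, ← map_mul] at hr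
  generalize hh' : x ^ 2 * y ^ (k + 1) * x ^ 2 * (x * y * x)⁻¹ = h at hr
  have hφh : φ h = hh 2 h2 := by
    simp only [← hh', map_mul, map_pow, map_inv, hx, hy]
    exact hh_word h2 hαβ hs
  have h4 := cubic_calc (a := ρ x) (h := ρ h) (by
    rw [← map_pow, ← map_mul, ← map_mul]
    refine hker _ _ ?_
    rw [map_mul, map_mul, map_pow, hφh, hx, hh_mul_uu, uu_pow]
    congr 2; push_cast; ring) cx m
  obtain ⟨m', hm'⟩ := N.mkQ_surjective (r (N.mkQ m))
  have h5 : ρ h m - ((k + 1) • m + (ρ x - 1) m') ∈ N := by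
    rw [← Submodule.Quotient.eq, ← Submodule.mkQ_apply, ← Submodule.mkQ_apply, ← hσ1, hr]
    simp only [LinearMap.add_apply, Module.End.natCast_apply, Module.End.mul_apply, ← hm', map_add,
      map_nsmul, LinearMap.sub_apply, Module.End.one_apply, map_sub, hσ1]
  have h6 : (ρ x - 1) ((ρ x - 1) (ρ h m)) = (k + 1) • (ρ x - 1) ((ρ x - 1) m) := by
    have := nx _ h5
    rw [map_sub, map_sub, sub_eq_zero, map_add, map_add, cx, add_zero, map_nsmul, map_nsmul] at this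
    exact this
  set n := (ρ x - 1) ((ρ x - 1) m) with hn
  have hnN : n ∈ N := qx m
  have h7 : ψ n 1 = 0 := by
    have h8 : ρ x n = n := sub_eq_zero.1 (cx m)
    have h9 := congrFun (ψ_eq x n hnN) 0
    rw [h8, hx, uu_smul_zero] at h9
    simpa [hα] using h9
  rw [h6, smul_smul] at h4
  have h8 := congrFun (ψ_eq h n hnN) 0
  rw [h4, ψ_smul n hnN, hφh, hh_smul_zero, Pi.smul_apply, nsmul_eq_mul] at h8
  refine ψ_inj n hnN (vec_ext ?_ h7)
  refine (mul_eq_zero.1 ((mul_eq_zero.1 (?_ : (2 : F) * (3 * ψ n 0) = 0)).resolve_left h2)).resolve_left h3'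
  push_cast at h8 hs
  linear_combination h8 - 8 * ψ n 0 * hs

omit hp [CharP F p] in
theorem avg [Finite M] (hM : ∀ m : M, p • m = 0) (Γ : Subgroup (Module.End ℤ M)ˣ)
    (hΓ : (Nat.card Γ).Coprime p) {u : (Module.End ℤ M)ˣ} (hu : u ∈ normalizer (Γ : Set _))
    (h1 : ∀ m, ∀ γ ∈ Γ, γ.1 ((u.1 - 1) ((u.1 - 1) m)) = (u.1 - 1) ((u.1 - 1) m))
    (h2 : ∀ m, (∀ γ ∈ Γ, γ.1 m = m) → (u.1 - 1) ((u.1 - 1) m) = 0) (m : M) :
    (u.1 - 1) ((u.1 - 1) m) = 0 := by
  classical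
  have : Finite (Module.End ℤ M) := Finite.of_injective _ (DFunLike.coe_injective)
  have := Fintype.ofFinite Γ
  set τ : Module.End ℤ M := ∑ γ : Γ, γ.1.1 with hτ
  have h3 : ∀ γ ∈ Γ, γ.1 * τ = τ := fun γ hγ => by
    rw [hτ, Finset.mul_sum]
    exact Fintype.sum_equiv (Equiv.mulLeft ⟨γ, hγ⟩) _ _ fun δ => rfl
  have h4 : u.1 * τ = τ * u.1 := by
    rw [hτ, Finset.mul_sum, Finset.sum_mul]
    refine Fintype.sum_equiv (Γ.normalizerMonoidHom ⟨u, hu⟩).toEquiv _ _ fun δ => ?_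
    change u.1 * δ.1.1 = (u * δ.1 * u⁻¹).1 * u.1
    simp
  have h5 : ∀ m, (u.1 - 1) (τ m) = τ ((u.1 - 1) m) := fun m => by
    have := LinearMap.congr_fun h4 m
    simp only [Module.End.mul_apply] at this
    simp [this]
  have h6 := h2 (τ m) fun γ hγ => LinearMap.congr_fun (h3 γ hγ) m
  rw [h5, h5, hτ, LinearMap.sum_apply, Finset.sum_congr rfl fun γ _ => h1 m γ.1 γ.2,
    Finset.sum_const, Finset.card_univ, ← Nat.card_eq_fintype_card] at h6
  have h7 := addOrderOf_dvd_of_nsmul_eq_zero h6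
  have h8 := addOrderOf_dvd_of_nsmul_eq_zero (hM ((u.1 - 1) ((u.1 - 1) m)))
  exact AddMonoid.addOrderOf_eq_one_iff.1 (Nat.eq_one_of_dvd_coprimes hΓ h7 h8)

theorem cubic_sq [Finite M] (h3 : 3 < p) (ρ : Representation ℤ L M) (φ : L →* SL(2, F))
    (hM : ∀ m : M, p • m = 0) (hK : ∀ k, φ k = 1 → ∃ n, n.Coprime p ∧ ρ k ^ n = 1)
    (N : Submodule ℤ M) (hN : ∀ g, N ≤ N.comap (ρ g))
    (ψ : M → Fin 2 → F) (ψ_add : ∀ n ∈ N, ∀ n' ∈ N, ψ (n + n') = ψ n + ψ n')
    (ψ_inj : ∀ n ∈ N, ψ n = 0 → n = 0) (ψ_eq : ∀ g, ∀ n ∈ N, ψ (ρ g n) = φ g • ψ n)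
    {x y : L} {α β : F} (hx : φ x = uu α) (hy : φ y = ll β) (hαβ : α * β = -1)
    (qx : ∀ m, (ρ x - 1) ((ρ x - 1) m) ∈ N) (qy : ∀ m, (ρ y - 1) ((ρ y - 1) m) ∈ N)
    (cx : ∀ m, (ρ x - 1) ((ρ x - 1) ((ρ x - 1) m)) = 0) (m : M) : (ρ x - 1) ((ρ x - 1) m) = 0 := by
  have : Finite (Module.End ℤ M) := Finite.of_injective _ (DFunLike.coe_injective)
  let ψ' : N →+ (Fin 2 → F) := AddMonoidHom.mk' (fun n => ψ n) fun a b => ψ_add _ a.2 _ b.2
  have ψ_z : ∀ n ∈ N, ∀ k : ℤ, ψ (k • n) = k • ψ n := fun n hn k => map_zsmul ψ' k ⟨n, hn⟩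
  have ψ_sub : ∀ n ∈ N, ∀ n' ∈ N, ψ (n - n') = ψ n - ψ n' := fun n hn n' hn' =>
    map_sub ψ' ⟨n, hn⟩ ⟨n', hn'⟩
  let Γ : Subgroup (Module.End ℤ M)ˣ :=
    { carrier := {u | ∃ l, ∃ ε : ℤˣ, (∀ v : Fin 2 → F, φ l • v = (ε : ℤ) • v) ∧ u.1 = (ε : ℤ) • ρ l}
      one_mem' := ⟨1, 1, by simp, by simp⟩
      mul_mem' := by
        rintro u v ⟨l, ε, h1, h2⟩ ⟨l', ε', h1', h2'⟩
        refine ⟨l * l', ε * ε', fun w => ?_, ?_⟩
        · rw [map_mul, mul_smul, h1, h1', smul_smul, Units.val_mul]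
        · rw [Units.val_mul, h2, h2', map_mul, smul_mul_smul_comm, Units.val_mul]
      inv_mem' := by
        rintro u ⟨l, ε, h1, h2⟩
        refine ⟨l⁻¹, ε, fun w => ?_, ?_⟩
        · rw [map_inv, inv_smul_eq_iff, h1, smul_smul, ← Units.val_mul, Int.units_mul_self]
          simp
        · refine Units.inv_eq_of_mul_eq_one_right ?_
          rw [h2, smul_mul_smul_comm, ← map_mul, ← Units.val_mul, Int.units_mul_self]
          simp }
  have hΓ : (Nat.card Γ).Coprime p := by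
    rw [Nat.coprime_comm, hp.out.coprime_iff_not_dvd]
    intro e
    obtain ⟨⟨γ, l, ε, h1, h2⟩, hγ⟩ := exists_prime_orderOf_dvd_card' p e
    obtain ⟨n, hn, h4⟩ := hK (l ^ 2) (eq_of_forall_smul_eq fun v => by
      rw [map_pow, sq, mul_smul, h1, h1, smul_smul, ← Units.val_mul, Int.units_mul_self]
      simp)
    have h5 : γ ^ (2 * n) = 1 := Units.ext (by
      rw [Units.val_pow_eq_pow_val, pow_mul, h2, smul_pow, ← Units.val_pow_eq_pow_val, Int.units_sq,
        ← map_pow]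
      simpa using h4)
    have h6 : p ∣ 2 * n := by
      rw [← hγ]
      exact orderOf_dvd_of_pow_eq_one (Subtype.ext h5)
    rcases (Nat.Prime.dvd_mul hp.out).1 h6 with h7 | h7
    · have := Nat.le_of_dvd two_pos h7
      omega
    · exact hp.out.one_lt.ne' (Nat.eq_one_of_dvd_coprimes hn h7 dvd_rfl)
  have hn : ∀ g, ρ.toHomUnits g ∈ normalizer (Γ : Set (Module.End ℤ M)ˣ) := fun g => by
    refine mem_normalizer_fintype ?_
    rintro u ⟨l, ε, h1, h2⟩
    refine ⟨g * l * g⁻¹, ε, fun w => ?_, ?_⟩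
    · rw [map_mul, map_mul, mul_smul, mul_smul, h1, smul_comm, map_inv, smul_inv_smul]
    · rw [← map_inv, Units.val_mul, Units.val_mul, h2, MonoidHom.coe_toHomUnits,
        MonoidHom.coe_toHomUnits, map_mul, map_mul, mul_smul_comm, smul_mul_assoc]
  have hΓN : ∀ n ∈ N, ∀ γ ∈ Γ, γ.1 n = n := by
    rintro n hn γ ⟨l, ε, h1, h2⟩
    have h4 : ρ l n ∈ N := hN l hn
    rw [← sub_eq_zero, h2, LinearMap.smul_apply]
    refine ψ_inj _ (N.sub_mem (N.smul_mem _ h4) hn) ?_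
    rw [ψ_sub _ (N.smul_mem _ h4) _ hn, ψ_z _ h4, ψ_eq l n hn, h1, smul_smul, ← Units.val_mul,
      Int.units_mul_self]
    simp
  refine avg hM Γ hΓ (hn x) (fun m => hΓN _ (qx m)) (fun m hm => ?_) m
  let W : Submodule ℤ M :=
    { carrier := {m | ∀ γ ∈ Γ, γ.1 m = m}
      zero_mem' := fun γ _ => map_zero _
      add_mem' := fun ha hb γ hγ => by rw [map_add, ha γ hγ, hb γ hγ]
      smul_mem' := fun c a ha γ hγ => by rw [map_smul, ha γ hγ] }
  have hW : ∀ g, W ≤ W.comap (ρ g) := fun g w hw γ hγ => by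
    have h1 := hw _ (Amb.inv_conj_mem_of_mem_normalizer (hn g) hγ)
    rw [← map_inv, Units.val_mul, Units.val_mul, MonoidHom.coe_toHomUnits,
      MonoidHom.coe_toHomUnits] at h1
    have h2 := congrArg (ρ g) h1
    rwa [← Module.End.mul_apply, ← mul_assoc, ← mul_assoc, ← map_mul, mul_inv_cancel, map_one,
      one_mul] at h2
  set σ := ρ.subrepresentation W hW with hσ
  have hσ1 : ∀ g (w : W), (σ g w : M) = ρ g w := fun g w => rfl
  have hσ2 : ∀ g (w : W), ((σ g - 1) w : M) = (ρ g - 1) w := fun g w => rfl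
  have key := cubic_fixed h3 σ φ (fun w => Subtype.ext (hM w)) (fun g g' e => ?_) (fun g e => ?_)
    (N.comap W.subtype) (fun g w hw => hN g hw) (fun w => ψ w) (fun w hw k => map_nsmul ψ' k ⟨w, hw⟩)
    (fun w hw e => Subtype.ext (ψ_inj _ hw e)) (fun g w hw => ψ_eq g w hw) hx hy hαβ
    (fun w => qx w) (fun w => qy w) (fun w => Subtype.ext (cx w)) (fun w hw => Subtype.ext ?_) ⟨m, hm⟩
  · exact congrArg Subtype.val key
  · refine LinearMap.ext fun w => Subtype.ext ?_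
    have h1 := w.2 (ρ.toHomUnits (g⁻¹ * g')) ⟨g⁻¹ * g', 1, fun v => by simp [e],
      by rw [MonoidHom.coe_toHomUnits, Units.val_one, one_smul]⟩
    have h2 := congrArg (ρ g) h1
    rw [MonoidHom.coe_toHomUnits, ← Module.End.mul_apply, ← map_mul, mul_inv_cancel_left] at h2
    exact h2.symm
  · refine LinearMap.ext fun w => Subtype.ext ?_
    have h1 := w.2 (-ρ.toHomUnits g) ⟨g, -1, fun v => by
      rw [e]; refine vec_ext ?_ ?_ <;> simp [smul_apply'], by simp⟩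
    rw [hσ1]
    simpa [neg_eq_iff_eq_neg] using h1
  · have h1 : ∀ n ∈ N, (ρ x - 1) n ∈ N := fun n hn => N.sub_mem (hN x hn) hn
    have h2 : ∀ n ∈ N, ψ ((ρ x - 1) n) = uu α • ψ n - ψ n := fun n hn => by
      rw [← hx, ← ψ_eq x n hn, ← ψ_sub _ (hN x hn) _ hn]; rfl
    have hw' : (w : M) ∈ N := hw
    rw [hσ2, hσ2]
    refine ψ_inj _ (h1 _ (h1 _ hw')) ?_
    rw [h2 _ (h1 _ hw'), h2 _ hw']
    refine vec_ext ?_ ?_ <;> simp

end Mod

end Cfsg.Agent.PLocal.GN
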