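import Cfsg.Agent.PLocal.GNPair

/-! Two pushing up situations over the same `p`-group, compared inside a common finite overgroup. -/

set_option autoImplicit false

namespace Cfsg.Agent.PLocal.GN

open Subgroup Cfsg Cfsg.Agent.PLocal.Amb Cfsg.Agent.PLocal.Stell Cfsg.Agent.PLocal.CommMod
open Cfsg.Agent.PLocal.SL2Nat
open scoped commutatorElement

universe u v w

theorem exists_free {S : Type u} {G : Type v} [Group S] [Group G] (σ : S →* G)
    (hσ : Function.Injective σ) :
    ∃ (R : Set G) (_ : Nonempty R) (e : S × R ≃ G), ∀ s t r, e (t * s, r) = σ t * e (s, r) := by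
  obtain ⟨R, hR, h1⟩ := σ.range.exists_isComplement_right 1
  refine ⟨R, ⟨⟨1, h1⟩⟩, (((MonoidHom.ofInjective hσ).toEquiv.prodCongr (Equiv.refl R)).trans
    hR.equiv.symm), fun s t r => ?_⟩
  change σ (t * s) * r = σ t * (σ s * r)
  rw [map_mul, mul_assoc]

theorem exists_perm_hom {S K Q Q' R : Type*} [Group S] [Group K] [Nonempty Q'] (ρ : S →* K)
    (ε : S × Q ≃ K) (hε : ∀ s t r, ε (t * s, r) = ρ t * ε (s, r)) (c : S × R ≃ (S × Q) × Q')
    (hc : ∀ s t r, c (t * s, r) = ((t * (c (s, r)).1.1, (c (s, r)).1.2), (c (s, r)).2)) :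
    ∃ f : K →* Equiv.Perm (S × R), Function.Injective f ∧
      ∀ t s r, f (ρ t) (s, r) = (t * s, r) := by
  let E := c.trans (ε.prodCongr (Equiv.refl Q'))
  let f : K →* Equiv.Perm (S × R) := MonoidHom.mk'
    (fun g => E.trans (((Equiv.mulLeft g).prodCongr (Equiv.refl Q')).trans E.symm))
    fun a b => Equiv.ext fun x => by simp [Prod.map, mul_assoc]
  have hf : ∀ g x, E (f g x) = (g * (E x).1, (E x).2) := fun g x => E.apply_symm_apply _
  refine ⟨f, (injective_iff_map_eq_one f).2 fun g hg => ?_, fun t s r => E.injective ?_⟩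
  · have := hf g (E.symm (1, Classical.arbitrary Q'))
    rw [hg] at this
    simpa using this.symm
  · rw [hf]
    change _ = Prod.map ε id (c (t * s, r))
    rw [hc]
    exact Prod.ext (hε _ _ _).symm rfl

/-- Two finite groups with a common subgroup embed into a finite group over that subgroup. -/
theorem exists_amalgam_embedding {S : Type u} {G : Type v} {H : Type w} [Group S] [Group G] [Group H]
    [Finite G] [Finite H] (σ : S →* G) (hσ : Function.Injective σ) (τ : S →* H)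
    (hτ : Function.Injective τ) :
    ∃ (X : Type (max u v w)) (_ : Group X) (_ : Finite X) (f : G →* X) (f' : H →* X),
      Function.Injective f ∧ Function.Injective f' ∧ f.comp σ = f'.comp τ := by
  have := Finite.of_injective σ hσ
  obtain ⟨R, hR, e, he⟩ := exists_free σ hσ
  obtain ⟨R', hR', e', he'⟩ := exists_free τ hτ
  obtain ⟨f, hf, h1⟩ := exists_perm_hom σ e he (Equiv.prodAssoc S R R').symm fun _ _ _ => rfl
  obtain ⟨f', hf', h2⟩ := exists_perm_hom τ e' he'
    (((Equiv.refl S).prodCongr (Equiv.prodComm R R')).trans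
    (Equiv.prodAssoc S R' R).symm) fun _ _ _ => rfl
  exact ⟨_, inferInstance, inferInstance, f, f', hf, hf', MonoidHom.ext fun t => Equiv.ext fun x =>
    (h1 t x.1 x.2).trans (h2 t x.1 x.2).symm⟩

variable {p : ℕ} [hp : Fact p.Prime]

theorem Small.comap {X Y : Type*} [Group X] [Group Y] [Finite X] [Finite Y] {S : Subgroup X}
    (hS : IsPGroup p S) (f : X →* Y) {N : Subgroup Y} (h : Small p (S.map f) N) :
    Small p S (N.comap f) := by
  have e := Push.phi_map hS f
  refine ⟨map_le_iff_le_comap.1 ?_, map_le_iff_le_comap.1 ?_, fun x hx => ?_,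
    fun h3 => map_le_iff_le_comap.1 ?_, fun h3 x hx => ?_⟩
  · rw [map_commutator, map_commutator, e]; exact h.c3
  · rw [map_commutator, e]; exact h.c1
  · rw [mem_comap, map_pow]; exact h.pw _ (e ▸ mem_map_of_mem f hx)
  · rw [map_commutator, e]; exact h.c2 h3
  · rw [mem_comap, map_pow]; exact h.ex h3 _ (mem_map_of_mem f hx)

theorem vert_of_pushE {G : Type*} [Group G] [Finite G] {S M : Subgroup G}
    (h : Push.PushE p S (pCore p G) M) (hc : 𝐂[pCore p G] ≤ pCore p G)
    (hJ : S ≤ 𝐂[centerThompsonAOf S]) (hZ : ¬ S ⊓ 𝐂[S] ≤ center G)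
    (hel : ∀ z ∈ S ⊓ 𝐂[S], z ^ p = 1) (hcd : CD S S) : ∃ q, Vert p q ⊤ S M := by
  have o := h.off_center hc hJ hZ
  have hn := h.normal
  have := o.normal
  obtain ⟨x, hx⟩ := h.exists_not_mem
  obtain ⟨s, hs, hsT⟩ := h.exists_mem_not_mem
  have o' : AmbOff ⊤ S M (pCore p G) (pCore p G ⊓ 𝐂[pCore p G]) _ _ x :=
    ambOff_module (inf_le_right.trans (Amb.centralizer_anti inf_le_left)) le_normalizer_of_normal
      le_top h.le trivial hx le_normalizer_of_normal (inf_le_left.trans o.cent)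
      (fun g _ hg => (h.gen g hg s hs hsT).ge.trans (sup_le (le_sup_right.trans le_sup_left)
        ((zpowers_le_of_mem hs).trans (le_sup_left.trans le_sup_left))))
      (fun g _ hg a ha hag => by
        by_contra haT
        refine h.lt (cj_eq_top.1 (eq_top_iff.2 ((h.gen g hg a ha haT).ge.trans
          (sup_le (cj_mono g h.le) (zpowers_le_of_mem (mem_cj.2 hag)))))))
      (le_centralizer_iff.1 (h.quad o)) (by rw [coe_top, centralizer_univ]; exact o.noncentral)
      (by rw [inf_eq_right.2 h.core_le, ← h.card_centralizer_mul_eq o, mul_comm])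
  have hzv : Zv p (⊤ : Subgroup G) = pCore p G ⊓ 𝐂[pCore p G] := by
    rw [Zv, pCoreOf_top]
    refine le_antisymm (omegaOne_le _) fun z hz => mem_omegaOne hz ?_
    obtain ⟨u, hu, v, hv, rfl⟩ := o'.exists_mul hz
    have h1 : Commute u (x * v * x⁻¹) := o.comm _ hu.1 _ (o.normal.conj_mem v hv.1 x)
    rw [h1.mul_pow, conj_pow, hel u ⟨h.core_le hu.1.1, hu.2⟩, hel v ⟨h.core_le hv.1.1, hv.2⟩]
    simp
  refine ⟨(pCore p G).relIndex S, ⟨h.syl, h.le, fun e => h.lt (eq_top_iff.2 e), ?_, ?_, ?_, ?_, ?_,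
    ?_, ?_, ?_⟩, hcd, by rw [hzv, pCoreOf_top]⟩
  · intro g _ hg x hx hxQ
    rw [pCoreOf_top] at hxQ
    exact (h.gen g hg x hx hxQ).ge
  · rw [pCoreOf_top]
    exact fun e => h.ne (le_antisymm e h.core_le)
  · rw [pCoreOf_top]; exact h.comm
  · rw [pCoreOf_top]; exact inf_le_right.trans hc
  · rw [pCoreOf_top, ← card_subgroupOf' h.core_le]
    exact ((pCore p G).subgroupOf S).index_mul_card
  · rw [hzv]; exact le_centralizer_iff.1 (h.quad o)
  · rw [hzv, pCoreOf_top, ← h.card_centralizer_mul_eq o, mul_comm]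
  · rw [hzv, coe_top, centralizer_univ]; exact o.noncentral

/-- the hypotheses on the `p`-group in the main case -/
structure Main (p : ℕ) (S : Type*) [Group S] : Prop where
  pgrp : IsPGroup p S
  el : ∀ z ∈ center S, z ^ p = 1
  cd : CD (⊤ : Subgroup S) ⊤
  zj : centerThompsonAOf (⊤ : Subgroup S) ≤ center S
  sp : ∀ R : Subgroup S, R ≠ ⊤ → ∃ A, SP ⊤ A ∧ ¬ A ≤ R

omit hp in
theorem map_center_eq {S G : Type*} [Group S] [Group G] {σ : S →* G} (hσ : Function.Injective σ) :
    (center S).map σ = σ.range ⊓ 𝐂[σ.range] := by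
  rw [MonoidHom.range_eq_map, ← map_inf_centralizer_of_injective hσ, coe_top, centralizer_univ,
    top_inf_eq]

theorem Main.vert {S G : Type*} [Group S] [Group G] [Finite G] (m : Main p S) {σ : S →* G}
    (hσ : Function.Injective σ) (h : IsPushingUpSituation p σ.range)
    (hZ : ¬ (center S).map σ ≤ center G) :
    ∃ q M, Vert p q ⊤ σ.range M ∧ ∃ A, SP σ.range A ∧ ¬ A ≤ pCoreOf p ⊤ := by
  obtain ⟨M, hM⟩ := Push.pushE_of_situation h
  obtain ⟨q, v⟩ := vert_of_pushE hM h.2.2.1 (by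
      rw [MonoidHom.range_eq_map, ← map_centerThompsonAOf _ hσ, map_le_centralizer_iff hσ]
      exact le_centralizer_iff.1 (m.zj.trans (by rw [coe_top, centralizer_univ])))
    (map_center_eq hσ ▸ hZ) (by
      rw [← map_center_eq hσ]
      rintro _ ⟨z, hz, rfl⟩
      rw [← map_pow, m.el z hz, map_one]) (σ.range_eq_map ▸ m.cd.map hσ)
  obtain ⟨A, hA, h1⟩ := m.sp ((pCoreOf p ⊤).comap σ) fun e => v.ne (by
    rw [MonoidHom.range_eq_map, map_le_iff_le_comap, e])
  exact ⟨q, M, v, A.map σ, σ.range_eq_map ▸ hA.map hσ, fun e => h1 (map_le_iff_le_comap.1 e)⟩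

theorem Main.pair {S G H : Type*} [Group S] [Group G] [Group H] [Finite G] [Finite H] (m : Main p S)
    {σ : S →* G} (hσ : Function.Injective σ) (h : IsPushingUpSituation p σ.range)
    (hZ : ¬ (center S).map σ ≤ center G) {τ : S →* H} (hτ : Function.Injective τ)
    (h' : IsPushingUpSituation p τ.range) {S₀ : Subgroup S} (h0 : ∀ N, Small p ⊤ N → S₀ ≤ N)
    (hZ' : ¬ (S₀ ⊓ center S).map τ ≤ center H) :
    (Zv p ⊤ ⊔ ⁅pCoreOf p (⊤ : Subgroup G), 𝐎[p, (⊤ : Subgroup G)]⁆).comap σ ≤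
      (pCoreOf p ⊤).comap τ := by
  have := Finite.of_injective σ hσ
  obtain ⟨q, M, v, A, hA, hAT⟩ := m.vert hσ h hZ
  obtain ⟨q', M', v', A', hA', hAT'⟩ := m.vert hτ h' fun e => hZ' ((map_mono inf_le_right).trans e)
  obtain ⟨X, _, _, f, f', hf, hf', e⟩ := exists_amalgam_embedding σ hσ τ hτ
  have e1 : τ.range.map f' = σ.range.map f := by
    rw [MonoidHom.map_range, MonoidHom.map_range, e]
  have w := v.map hf
  have w' := v'.map hf'
  rw [e1] at w'
  by_contra hn
  have h1 := GN.pair w w' ⟨A.map f, hA.map hf, by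
      rwa [pCoreOf_map hf, map_le_map_iff_of_injective hf]⟩
    ⟨A'.map f', e1 ▸ hA'.map hf', by rwa [pCoreOf_map hf', map_le_map_iff_of_injective hf']⟩
    fun e2 => hn fun x hx => by
      rw [Zv_map hf, pCoreOf_map hf, ← map_pRes, ← map_commutator, ← Subgroup.map_sup,
        pCoreOf_map hf'] at e2
      have h2 := e2 (mem_map_of_mem f hx)
      rw [show f (σ x) = f' (τ x) from DFunLike.congr_fun e x, mem_map_iff_mem hf'] at h2
      exact h2
  rw [MonoidHom.map_range, MonoidHom.range_eq_map] at h1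
  have h2 := h0 _ (h1.comap (m.pgrp.to_subgroup ⊤) _)
  refine hZ' ?_
  rintro _ ⟨x, hx, rfl⟩
  have h3 : f' (τ x) ∈ 𝐂[(⊤ : Subgroup H).map f'] := by
    rw [← show f (σ x) = f' (τ x) from DFunLike.congr_fun e x]
    refine cent_of_pRes w'.toLoc (h2 hx.1).2 ?_
    rintro _ ⟨_, ⟨y, rfl⟩, rfl⟩
    rw [← map_mul, ← map_mul, ← map_mul, ← map_mul, mem_center_iff.1 hx.2 y]
  refine mem_center_iff.2 fun y => hf' ?_
  rw [map_mul, map_mul]
  exact h3 _ ⟨y, trivial, rfl⟩

end Cfsg.Agent.PLocal.GN
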