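import Cfsg.Agent.PLocal.GNMain

/-! The exceptional `p`-groups of the Glauberman–Niles theorem. -/

set_option autoImplicit false

namespace Cfsg.Agent.PLocal.GN

open Subgroup Cfsg Cfsg.Agent.PLocal.Amb Cfsg.Agent.PLocal.Push
open scoped commutatorElement Pointwise

universe u

variable {p : ℕ} {S : Type u} [Group S]

theorem phi_top : (frattini ↥(⊤ : Subgroup S)).map (⊤ : Subgroup S).subtype = frattini S := by
  refine le_antisymm (map_le_iff_le_comap.2 (frattini_le_comap_frattini_of_surjective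
    topEquiv.surjective)) fun x hx => ⟨⟨x, trivial⟩, ?_, rfl⟩
  exact frattini_le_comap_frattini_of_surjective (φ := (topEquiv (G := S)).symm.toMonoidHom)
    topEquiv.symm.surjective hx

namespace Exc

variable (h : Exc p S)
include h

theorem c3 : ⁅⁅frattini S, (⊤ : Subgroup S)⁆, (⊤ : Subgroup S)⁆ = ⊥ :=
  le_bot_iff.1 (phi_top (S := S) ▸ h.small.c3)

theorem c2 (h3 : p ≠ 3) : ⁅frattini S, (⊤ : Subgroup S)⁆ = ⊥ :=
  le_bot_iff.1 (phi_top (S := S) ▸ h.small.c2 h3)

theorem c1 : ⁅frattini S, frattini S⁆ = ⊥ := le_bot_iff.1 (phi_top (S := S) ▸ h.small.c1)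

theorem pw : ∀ x ∈ frattini S, x ^ p = 1 := fun x hx => h.small.pw x (phi_top (S := S) ▸ hx)

theorem le_center (h3 : p ≠ 3) : frattini S ≤ center S := by
  have := commutator_eq_bot_iff_le_centralizer.1 (h.c2 h3)
  rwa [coe_top, centralizer_univ] at this

theorem isEA_center : IsElementaryAbelian p (center S) :=
  isEA_iff.2 ⟨fun _ _ _ hb => mem_center_iff.1 hb _, h.el⟩

theorem isEA_frattini : IsElementaryAbelian p (frattini S) :=
  isEA_iff.2 ⟨fun _ ha _ hb => commutatorElement_eq_one_iff_mul_comm.1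
    (h.c1.le (commutator_mem_commutator ha hb)), h.pw⟩

theorem le_upper : frattini S ≤ Subgroup.upperCentralSeries S 2 := fun x hx => by
  have := commutator_eq_bot_iff_le_centralizer.1 h.c3
  rw [coe_top, centralizer_univ] at this
  rw [Subgroup.mem_upperCentralSeries_succ_iff, Subgroup.upperCentralSeries_one]
  exact fun y => this (commutator_mem_commutator hx trivial)

theorem exponent [Fact p.Prime] [Nontrivial S] (h3 : 3 < p) : Monoid.exponent S = p :=
  (Monoid.exponent_eq_prime_iff Fact.out).2 fun g hg => orderOf_eq_prime (h.small.ex h3 g trivial) hg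

theorem lattice [Finite S] : ∀ A ∈ maxAbelianSubgroups S, ∀ B ∈ maxAbelianSubgroups S,
    ∀ Q : Subgroup S, Nat.card A ^ 2 = Nat.card S * Nat.card (center S) ∧
      Nat.card Q * Nat.card (center Q) ≤ Nat.card S * Nat.card (center S) ∧
      ((A ⊔ B : Subgroup S) : Set S) = (A : Set S) * (B : Set S) ∧
      A ⊔ B = centralizer ((A ⊓ B : Subgroup S) : Set S) := by
  intro A hA B hB Q
  have h1 := (isCentrallyLarge_iff.1 (h.cl A hA)).1
  have h2 := (isCentrallyLarge_iff.1 (h.cl B hB)).1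
  have h3 : Nat.card S * Nat.card (center S) = maxCentralizerProduct S := by
    rw [← h.top, coe_top, centralizer_univ, card_top]
  refine ⟨?_, ?_, cd_coe_sup h1 h2, ?_⟩
  · rw [h3, ← h1, maxAb_centralizer hA, sq]
  · rw [h3, ← maxCentralProduct_eq]; exact cl_le_max Q
  · rw [cd_centralizer_inf h1 h2, maxAb_centralizer hA, maxAb_centralizer hB]

theorem isPair_phi [Fact p.Prime] [Finite S] [Nontrivial S] (hS : IsPGroup p S)
    (he : ¬ ∃ A ∈ maxAbelianSubgroups S, IsElementaryAbelian p A) :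
    IsPair p S (center S) (frattiniOfMinimalCLJoin p S) := by
  have ch : (frattiniOfMinimalCLJoin p S).Characteristic :=
    characteristic_iff_map_eq.2 fun φ => phiJoin_map hS φ
  refine ⟨center_ne_bot' hS, fun h0 => he ?_, inferInstance, ch, le_rfl, h.jt ▸ le_top,
    char_subgroupOf h.jt ch, fun G _ _ τ hτ hE => ?_⟩
  · obtain ⟨Q, hQ, hm⟩ := exists_mcl_omega (P := S) p
    have h1 : (frattini Q).map Q.subtype ≤ ⊥ := by
      rw [← h0]
      exact le_iSup_of_le (f := fun Q : {Q : Subgroup S // IsMinimalCentrallyLarge Q ∧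
        Nat.card ↥(omegaOneCenter p Q) = maxOmegaCenterOfMinimalCL p S} =>
        (frattini ↥(Q : Subgroup S)).map (Q : Subgroup S).subtype) ⟨Q, hQ, hm⟩ le_rfl
    obtain ⟨h2, h3⟩ := (phi_le_iff (hS.to_subgroup Q)).1 h1
    have h4 : ∀ a ∈ Q, ∀ b ∈ Q, a * b = b * a := fun a ha b hb =>
      commutatorElement_eq_one_iff_mul_comm.1 (h2 (commutator_mem_commutator ha hb))
    have h5 : IsMulCommutative Q := ⟨⟨fun a b => Subtype.ext (h4 a a.2 b b.2)⟩⟩
    exact ⟨Q, (mcl_iff_maxAb hQ h5 Q).1 hQ, isEA_iff.2 ⟨h4, h3⟩⟩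
  · obtain ⟨M, hP⟩ := pushE_of_situation hE
    have h4 := hP.center_or_phiJoin hE.2.2.1 (range_le_of_jt h.jt hτ)
    rw [← phiJoin_map hS (MonoidHom.ofInjective hτ), map_range_subtype, ← map_center_eq hτ] at h4
    exact h4.imp_left normal_of_le_center

end Exc

theorem IsPair.good' {S₁ S₂ : Subgroup S} (h : IsPair p S S₁ S₂) (G : Type u) [Group G] [Finite G]
    (P : Subgroup G) (e : S ≃* P) (hE : IsPushingUpSituation p P) :
    (S₁.map (P.subtype.comp e.toMonoidHom)).Normal ∨ (S₂.map (P.subtype.comp e.toMonoidHom)).Normal :=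
  h.good G _ (P.subtype_injective.comp e.injective) (by
    rwa [MonoidHom.range_comp, MonoidHom.range_eq_top.2 e.surjective, ← MonoidHom.range_eq_map,
      range_subtype])

end Cfsg.Agent.PLocal.GN
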