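import Cfsg.Agent.PLocal.GNVert
import Cfsg.Agent.PLocal.GNCubic
import Cfsg.Agent.PLocal.StellMain
import Cfsg.Agent.PLocal.PushCL

/-! The final step of the pair lemma: the Sylow subgroup is small modulo `C_P(O^p(H))`. -/

set_option autoImplicit false

namespace Cfsg.Agent.PLocal.GN

open Subgroup Cfsg Cfsg.Agent.PLocal.Amb Cfsg.Agent.PLocal.Stell Cfsg.Agent.PLocal.CommMod
open Cfsg.Agent.PLocal.SL2Nat
open scoped commutatorElement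

variable {X : Type*} [Group X] {p q : ℕ}

/-- `S / N` is small. -/
structure Small (p : ℕ) (S N : Subgroup X) : Prop where
  c3 : ⁅⁅(frattini S).map S.subtype, S⁆, S⁆ ≤ N
  c1 : ⁅(frattini S).map S.subtype, (frattini S).map S.subtype⁆ ≤ N
  pw : ∀ x ∈ (frattini S).map S.subtype, x ^ p ∈ N
  c2 : p ≠ 3 → ⁅(frattini S).map S.subtype, S⁆ ≤ N
  ex : 3 < p → ∀ x ∈ S, x ^ p ∈ N

theorem mul_pow_mem {Y : Subgroup X} {a b : X} {n : ℕ} (ha : a ∈ 𝐍[Y]) (hb : b ∈ 𝐍[Y])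
    (h1 : ⁅⁅b, a⁆, a⁆ ∈ Y) (h2 : ⁅⁅b, a⁆, b⁆ ∈ Y) (h3 : a ^ n ∈ Y) (h4 : b ^ n ∈ Y)
    (h5 : ⁅b, a⁆ ^ n.choose 2 ∈ Y) : (a * b) ^ n ∈ Y := by
  let π := QuotientGroup.mk' (Y.subgroupOf 𝐍[Y])
  have key : ∀ x : 𝐍[Y], π x = 1 ↔ (x : X) ∈ Y := fun x => QuotientGroup.eq_one_iff x
  have e := Grp.CommPow.mul_pow_of_commute (x := π ⟨a, ha⟩) (y := π ⟨b, hb⟩)
    (commutatorElement_eq_one_iff_commute.1 (by
      rw [← map_commutatorElement, ← map_commutatorElement, key]; exact h1))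
    (commutatorElement_eq_one_iff_commute.1 (by
      rw [← map_commutatorElement, ← map_commutatorElement, key]; exact h2)) n
  rw [← map_commutatorElement, ← map_mul, ← map_pow, ← map_pow, ← map_pow, ← map_pow,
    (key (⟨a, ha⟩ ^ n)).2 h3, (key (⟨b, hb⟩ ^ n)).2 h4, (key (_ ^ n.choose 2)).2 h5, one_mul,
    one_mul, key] at e
  exact e

variable [Finite X] [hp : Fact p.Prime] {H S M B W : Subgroup X}

theorem normal_cent : H ≤ 𝐍[(pCoreOf p H ⊓ 𝐂[𝐎[p, H]] : Subgroup X)] :=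
  le_normalizer_inf (le_normalizer_pCoreOf p H) (le_normalizer_centralizer (le_normalizer_pRes p H))

theorem cent_of_pRes (h : Loc p q H S M) {u : X} (h1 : u ∈ 𝐂[𝐎[p, H]]) (h2 : u ∈ 𝐂[S]) :
    u ∈ 𝐂[H] := by
  rw [← h.syl.pRes_sup, Amb.centralizer_sup]
  exact ⟨h1, h2⟩

theorem Zv_inf_cent (h : Loc p q H S M) : Zv p H ⊓ 𝐂[𝐎[p, H]] ≤ 𝐂[H] := by
  by_contra e
  obtain ⟨x, hx, hxM⟩ := h.exists_not_mem
  have h1 := (h.ambOff hx hxM).le_sup_of_normalized (Y := Zv p H ⊓ 𝐂[𝐎[p, H]]) inf_le_left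
    (le_normalizer_inf (le_normalizer_Zv H) (le_normalizer_centralizer (le_normalizer_pRes p H)))
    (fun e' => e (e'.trans inf_le_right))
  have h2 : Zv p H ≤ 𝐂[𝐎[p, H]] := h1.trans (sup_le inf_le_right
    (inf_le_right.trans (Amb.centralizer_anti (pRes_le p H))))
  exact h.nc fun u hu => cent_of_pRes h (h2 hu.1) hu.2

theorem sq_mem (h : Loc p q H S M) (h3 : p ≠ 3)
    (hc : ⁅pCoreOf p H, pCoreOf p H⁆ ≤ pCoreOf p H ⊓ 𝐂[𝐎[p, H]])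
    (hpw : ∀ a ∈ pCoreOf p H, a ^ p ∈ pCoreOf p H ⊓ 𝐂[𝐎[p, H]])
    (hq : ∀ s ∈ S, ∀ a ∈ pCoreOf p H,
      ⁅s, ⁅s, a⁆⁆ ∈ (Zv p H ⊓ 𝐂[S]) ⊔ (pCoreOf p H ⊓ 𝐂[𝐎[p, H]]))
    {z a : X} (hz : z ∈ S) (hzp : z ^ p = 1) (ha : a ∈ pCoreOf p H) :
    ⁅z, ⁅z, a⁆⁆ ∈ pCoreOf p H ⊓ 𝐂[𝐎[p, H]] := by
  classical
  set P := pCoreOf p H with hP
  set C := P ⊓ 𝐂[𝐎[p, H]] with hC
  have hs : SecHyp H P C := ⟨inf_le_left, hc, le_normalizer_pCoreOf p H, normal_cent⟩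
  set ρ := Sec.rep hs with hρ
  have hM : ∀ m : Sec hs, p • m = 0 := fun m => by
    obtain ⟨x, hx, rfl⟩ := Sec.exists_pr_eq hs m
    rw [← Sec.pr_pow hs hx, Sec.pr_eq_zero hs (P.pow_mem hx p)]
    exact hpw x hx
  have hcm : ∀ g : H, ∀ a ∈ P, ⁅(g : X), a⁆ ∈ P := fun g a ha => Sec.comm_mem hs g.2 ha
  have ha1 : ∀ g : H, ∀ a ∈ P, (ρ g - 1) (Sec.pr hs a) = Sec.pr hs ⁅(g : X), a⁆ := fun g a ha =>
    Sec.rep_pr_sub hs g ha
  let x : H := ⟨z, h.syl.le hz⟩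
  suffices key : ∀ m, (ρ x - 1) ((ρ x - 1) m) = 0 by
    have := key (Sec.pr hs a)
    rwa [ha1 x a ha, ha1 x _ (hcm x a ha), Sec.pr_eq_zero hs (hcm x _ (hcm x a ha))] at this
  rcases lt_or_gt_of_ne h3 with h2 | h2
  · obtain rfl : p = 2 := by have := hp.out.two_le; omega
    intro m
    have h1 : ρ x (ρ x m) = m := by
      rw [← Module.End.mul_apply, ← map_mul, show x * x = 1 from Subtype.ext ((sq z).symm.trans hzp),
        map_one, Module.End.one_apply]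
    have h4 := hM (m - ρ x m)
    simp only [LinearMap.sub_apply, Module.End.one_apply, map_sub, h1]
    rw [← h4]; abel
  by_cases hzP : z ∈ P
  · intro m
    rw [(Sec.rep_eq_one_iff hs x).2 fun a ha => hc (commutator_mem_commutator hzP ha)]
    simp
  obtain ⟨n, hn⟩ : ∃ n, q = p ^ n := by
    obtain ⟨k, hk⟩ := h.syl.pgrp.exists_card_eq
    obtain ⟨n, -, hn⟩ := (Nat.dvd_prime_pow hp.out).1 (hk ▸ Dvd.intro _ h.card)
    exact ⟨n, hn⟩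
  have hq1 : q ≠ 1 := by
    rintro rfl
    exact h.ne (eq_of_le_of_card_ge h.core_le (by rw [← h.card, one_mul])).ge
  obtain ⟨F, _, _, hF⟩ := exists_field hn hq1
  have := Push.charP_of_card (hF.trans hn)
  obtain ⟨g, hg, hgM⟩ := h.exists_not_mem
  obtain ⟨D₀, -, k₀⟩ := h.exists_natData F (Nat.card_eq_fintype_card.trans hF) (h.ambOff hg hgM)
  obtain ⟨D, sD⟩ := D₀.exists_std h.syl (h.syl.cj_of_mem hg) (h.gen' hg hgM)
  rw [D₀.kerOf_eq D] at k₀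
  obtain ⟨α, hα⟩ := sD.up x hz
  have hα0 : α ≠ 0 := by
    rintro rfl
    exact hzP (k₀ ⟨(D.φ_eq_one_iff' x).1 (hα.symm.trans uu_zero), hz⟩)
  obtain ⟨y, hyS, hy⟩ := sD.lo' (-α⁻¹)
  set N := Sec.sub hs (Zv p H) with hN
  have hZP : Zv p H ≤ P := Zv_le H
  let ψ : Sec hs → Fin 2 → F := fun m => if e : m ∈ N then D.ψ (Classical.choose e) else 0
  have hψ : ∀ u ∈ Zv p H, ψ (Sec.pr hs u) = D.ψ u := fun u hu => by
    have e : Sec.pr hs u ∈ N := Sec.pr_mem_sub hs hu (hZP hu)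
    obtain ⟨h1, h4, h5⟩ := Classical.choose_spec e
    simp only [ψ, dif_pos e]
    rw [D.ψ_eq_iff h1 hu]
    have h6 := (Zv p H).mul_mem ((Zv p H).inv_mem h1) hu
    exact ⟨h6, Zv_inf_cent h ⟨h6, ((Sec.pr_eq_pr hs h4 (hZP hu)).1 h5).2⟩⟩
  have hNρ : ∀ g, N ≤ N.comap (ρ g) := by
    rintro g _ ⟨u, hu, hu', rfl⟩
    exact ⟨_, D.conj_mem g.2 hu, hZP (D.conj_mem g.2 hu), (Sec.rep_pr hs g hu').symm⟩
  have hqS : ∀ s : H, (s : X) ∈ S → ∀ m, (ρ s - 1) ((ρ s - 1) m) ∈ N ∧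
      (ρ s - 1) ((ρ s - 1) ((ρ s - 1) m)) = 0 := fun s hsS m => by
    obtain ⟨a, ha, rfl⟩ := Sec.exists_pr_eq hs m
    obtain ⟨u, hu, c, hc', e⟩ := (mem_sup_of_le_normalizer_right
      ((inf_le_left.trans (Zv_le_self H)).trans hs.normU₀)).1 (hq s hsS a ha)
    rw [ha1 s a ha, ha1 s _ (hcm s a ha), e, Sec.pr_mul hs (hZP hu.1) hc'.1,
      (Sec.pr_eq_zero hs hc'.1).2 hc', add_zero, ha1 s u (hZP hu.1),
      comm_eq_one_of_mem_centralizer hsS hu.2, Sec.pr_one]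
    exact ⟨Sec.pr_mem_sub hs hu.1 (hZP hu.1), rfl⟩
  refine cubic_sq h2 ρ D.φ hM (fun k hk => ?_) N hNρ ψ ?_ ?_ ?_ hα.symm hy (by field_simp)
    (fun m => (hqS x hz m).1) (fun m => ?_) (fun m => (hqS x hz m).2)
  · obtain ⟨e, n', hn', hk'⟩ := Nat.exists_eq_pow_mul_and_not_dvd (orderOf_pos (k : X)).ne' p
      hp.out.ne_one
    refine ⟨n', ((Nat.Prime.coprime_iff_not_dvd hp.out).2 hn').symm, ?_⟩
    have h1 : (k : X) ^ n' ∈ D.kerOf := D.kerOf.pow_mem ((D.φ_eq_one_iff' k).1 hk) _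
    obtain ⟨t, ht, h4⟩ := h.syl.exists_cj_le (R := zpowers ((k : X) ^ n')) (isPGroup_zpowers ⟨e, by
      rw [← pow_mul, mul_comm, ← hk', pow_orderOf_eq_one]⟩) (zpowers_le_of_mem (D.kerOf_le h1))
    have h5 : t * (k : X) ^ n' * t⁻¹ ∈ P := k₀ ⟨Amb.conj_mem_of_mem_normalizer
      (D.le_normalizer_kerOf ht) h1, h4 (conj_mem_cj t (mem_zpowers _))⟩
    have h6 : (k : X) ^ n' ∈ P := by
      simpa [mul_assoc] using inv_conj_mem_of_mem_normalizer (hs.normU ht) h5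
    rw [← map_pow]
    exact (Sec.rep_eq_one_iff hs _).2 fun a ha => hc (commutator_mem_commutator h6 ha)
  · rintro _ ⟨u, hu, hu', rfl⟩ _ ⟨v, hv, hv', rfl⟩
    rw [← Sec.pr_mul hs hu' hv', hψ _ ((Zv p H).mul_mem hu hv), hψ u hu, hψ v hv, D.ψ_mul u hu v hv]
  · rintro _ ⟨u, hu, hu', rfl⟩ e
    rw [hψ u hu, D.ψ_eq_zero u hu] at e
    exact (Sec.pr_eq_zero hs hu').2 ⟨hu', Amb.centralizer_anti (pRes_le p H) e.2⟩
  · rintro g _ ⟨u, hu, hu', rfl⟩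
    rw [hρ, Sec.rep_pr hs g hu', hψ _ (D.conj_mem g.2 hu), hψ u hu, D.ψ_conj g u hu]
  · let g' : H := ⟨g, hg⟩
    have h1 : ∀ m, (ρ y - 1) m = ρ g' ((ρ (g'⁻¹ * y * g') - 1) (ρ g'⁻¹ m)) := fun m => by
      simp only [LinearMap.sub_apply, Module.End.one_apply, map_sub, ← Module.End.mul_apply,
        ← map_mul]
      simp [mul_assoc]
    have h4 : ∀ m, ρ g'⁻¹ (ρ g' m) = m := fun m => by
      rw [← Module.End.mul_apply, ← map_mul, inv_mul_cancel, map_one, Module.End.one_apply]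
    rw [h1, h1 m, h4]
    exact hNρ g' (hqS _ (mem_cj.1 hyS) _).1

theorem fin (h : Vert p q H S M) (hB : B ≤ S) (hBp : ∀ b ∈ B, b ^ p = 1) (hBc : B ≤ 𝐂[B])
    (hS : S ≤ pCoreOf p H ⊔ B) (hW : W ≤ pCoreOf p H) (hEW : ⁅pCoreOf p H, 𝐎[p, H]⁆ ≤ W)
    (hWP : ⁅W, pCoreOf p H⁆ ≤ 𝐂[H]) (hWp : ∀ w ∈ W, w ^ p ∈ 𝐂[H])
    (hBB : ⁅⁅pCoreOf p H, B⁆, B⁆ ≤ 𝐂[S])
    (hQ : ∀ a ∈ pCoreOf p H, ∀ z ∈ B, ⁅z, ⁅z, a⁆⁆ ∈ 𝐂[H] → ∀ z' ∈ B, ⁅⁅z, a⁆, z'⁆ ∈ 𝐂[𝐎[p, H]]) :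
    Small p S (pCoreOf p H ⊓ 𝐂[𝐎[p, H]]) := by
  set P := pCoreOf p H with hP
  set E := 𝐎[p, H] with hE
  set C := P ⊓ 𝐂[E] with hC
  have hPp : IsPGroup p P := isPGroup_pCoreOf p H
  have hPH : P ≤ H := pCoreOf_le p H
  have hEH : E ≤ H := pRes_le p H
  have hSH : S ≤ H := h.syl.le
  have hBH : B ≤ H := hB.trans hSH
  have nP : H ≤ 𝐍[P] := le_normalizer_pCoreOf p H
  have nC : H ≤ 𝐍[C] := normal_cent
  have nZ : H ≤ 𝐍[(P ⊓ 𝐂[H] : Subgroup X)] :=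
    le_normalizer_inf nP (le_normalizer_centralizer le_normalizer)
  have hPP : ∀ {A A' : Subgroup X}, A ≤ P → A' ≤ H → ⁅A, A'⁆ ≤ P := fun h1 h2 =>
    (commutator_mono h1 h2).trans (le_normalizer_iff_commutator_le_left.1 nP)
  have hCC : ∀ {A : Subgroup X}, A ≤ H → ⁅C, A⁆ ≤ C := fun h1 =>
    le_normalizer_iff_commutator_le_left.1 (h1.trans nC)
  have hZE : ⁅P ⊓ 𝐂[H], E⁆ ≤ ⊥ :=
    commutator_le_of_cent (inf_le_right.trans (Amb.centralizer_anti hEH))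
  have h0 : ⁅⁅P, E⁆, P⁆ ≤ P ⊓ 𝐂[H] :=
    le_inf (hPP (hPP le_rfl hEH) hPH) ((commutator_mono hEW le_rfl).trans hWP)
  have h1 : ⁅P, P⁆ ≤ C := by
    refine le_inf (hPP le_rfl hPH) (commutator_eq_bot_iff_le_centralizer.1 (le_bot_iff.1
      (coprime_step_pRes (hPp.to_le (hPP le_rfl hPH)) (le_normalizer_commutator nP nP)
        le_normalizer_of_normal (three_subgroups_mod (hPH.trans nZ) (hPH.trans nZ) (hEH.trans nZ) h0 ?_) hZE)))
    rwa [Subgroup.commutator_comm E]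
  have h2 : ∀ a ∈ P, a ^ p ∈ C := by
    have h3 : closure {y | ∃ x ∈ P, y = x ^ p} ≤ P := by
      rw [closure_le]; rintro _ ⟨x, hx, rfl⟩; exact P.pow_mem hx p
    have h4 := coprime_step_pRes (U := ⊥) (hPp.to_le h3) (nP.trans (normalizer_le_pow P p))
      le_normalizer_of_normal
      (commutator_closure_le (N := P ⊓ 𝐂[H]) ?_ ?_) hZE
    · exact fun a ha => ⟨P.pow_mem ha p, commutator_eq_bot_iff_le_centralizer.1 (le_bot_iff.1 h4)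
        (subset_closure ⟨a, ha, rfl⟩)⟩
    · rintro _ ⟨x, hx, rfl⟩
      exact nZ (hPH (P.pow_mem hx p))
    · rintro _ ⟨a, ha, rfl⟩ y hy
      refine ⟨hPP le_rfl hEH (commutator_mem_commutator (P.pow_mem ha p) hy), ?_⟩
      have hw : ⁅a⁻¹, y⁆ ∈ W := hEW (commutator_mem_commutator (P.inv_mem ha) hy)
      have hc : ⁅⁅a⁻¹, y⁆, a⁆ ∈ 𝐂[H] := hWP (commutator_mem_commutator hw ha)
      have e := Grp.CommPow.mul_pow_of_commute (x := a) (y := ⁅a⁻¹, y⁆)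
        (hc a (hPH ha)).symm (hc _ (hPH (hW hw))).symm p
      rw [show a * ⁅a⁻¹, y⁆ = y * a * y⁻¹ by group, conj_pow] at e
      have hc' := (𝐂[H]).mul_mem (hWp _ hw) ((𝐂[H]).pow_mem hc (p.choose 2))
      rw [mul_assoc (a ^ p)] at e
      set c := ⁅a⁻¹, y⁆ ^ p * ⁅⁅a⁻¹, y⁆, a⁆ ^ p.choose 2
      have e2 : ⁅a ^ p, y⁆ = c⁻¹ := by
        have e3 : a ^ p * c = c * a ^ p := hc' _ (hPH (P.pow_mem ha p))
        calc ⁅a ^ p, y⁆ = a ^ p * (y * a ^ p * y⁻¹)⁻¹ := by group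
          _ = c⁻¹ := by rw [e, e3]; group
      rw [e2]
      exact (𝐂[H]).inv_mem hc'
  have nPB : S ≤ 𝐍[⁅P, B⁆] := hS.trans (sup_le (Solv.le_normalizer_commutator_left _ _)
    (Solv.le_normalizer_commutator_right _ _))
  set N := ⁅P, B⁆ ⊔ C with hN
  have nN : S ≤ 𝐍[N] := le_normalizer_sup nPB (hSH.trans nC)
  have hNP : N ≤ P := sup_le (hPP le_rfl hBH) inf_le_left
  have hPS : P ≤ S := h.core_le
  have h3 : ⁅S, S⁆ ≤ N := by
    refine (commutator_mono hS hS).trans (commutator_sup_le (hPS.trans nN) (hB.trans nN)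
      (commutator_sup_le' (hPS.trans nN) (hB.trans nN) (h1.trans le_sup_right) le_sup_left)
      (commutator_sup_le' (hPS.trans nN) (hB.trans nN) ?_ (commutator_le_of_cent hBc)))
    rw [Subgroup.commutator_comm]; exact le_sup_left
  have hmul : ∀ s ∈ S, ∃ a ∈ P, ∃ b ∈ B, s = a * b := fun s hs =>
    (mem_sup_of_le_normalizer_left (hBH.trans nP)).1 (hS hs)
  have h4 : (frattini S).map S.subtype ≤ N := by
    refine (Push.phi_le_iff h.syl.pgrp).2 ⟨h3, fun s hs => ?_⟩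
    obtain ⟨a, ha, b, hb, rfl⟩ := hmul s hs
    have hc : ⁅b, a⁆ ∈ S := S.commutator_le_self (commutator_mem_commutator (hB hb) (hPS ha))
    exact mul_pow_mem (nN (hPS ha)) (nN (hB hb)) (h3 (commutator_mem_commutator hc (hPS ha)))
      (h3 (commutator_mem_commutator hc (hB hb))) (mem_sup_right (h2 a ha))
      (by rw [hBp b hb]; exact one_mem _)
      (N.pow_mem (h3 (commutator_mem_commutator (hB hb) (hPS ha))) _)
  have key : ∀ {Y : Subgroup X}, S ≤ 𝐍[Y] → C ≤ Y → ⁅⁅P, B⁆, B⁆ ≤ Y → ⁅N, S⁆ ≤ Y :=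
    fun nY hCY hY => commutator_sup_le (((hPP le_rfl hBH).trans hPS).trans nY)
      ((inf_le_left.trans hPS).trans nY)
      ((commutator_mono le_rfl hS).trans (commutator_sup_le' (hPS.trans nY) (hB.trans nY)
        ((commutator_mono (hPP le_rfl hBH) le_rfl).trans (h1.trans hCY)) hY))
      ((hCC hSH).trans hCY)
  have nZS : S ≤ 𝐍[(Zv p H ⊓ 𝐂[S] : Subgroup X)] := le_normalizer_of_cent inf_le_right
  have hBB' : ⁅⁅P, B⁆, B⁆ ≤ Zv p H ⊓ 𝐂[S] :=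
    (le_inf ((hPP (hPP le_rfl hBH) hBH).trans hPS) hBB).trans h.Zv_inf.ge
  have h5 : ⁅N, S⁆ ≤ (Zv p H ⊓ 𝐂[S]) ⊔ C :=
    key (le_normalizer_sup nZS (hSH.trans nC)) le_sup_right (hBB'.trans le_sup_left)
  have h6 : p ≠ 3 → ⁅N, S⁆ ≤ C := fun h3' => by
    refine key (hSH.trans nC) le_rfl (le_centMod.1 ?_).2
    rw [Subgroup.commutator_comm]
    refine commutator_le.2 fun z hz a ha => ?_
    have hza : ⁅z, a⁆ ∈ ⁅P, B⁆ := by
      rw [Subgroup.commutator_comm]; exact commutator_mem_commutator hz ha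
    have hzaP := hPP le_rfl hBH hza
    refine ⟨nC (hPH hzaP), fun z' hz' => ⟨hPP le_rfl hBH (commutator_mem_commutator hzaP hz'),
      hQ a ha z hz (cent_of_pRes h.toLoc (sq_mem h.toLoc h3' h1 h2 (fun s hs a ha => ?_) (hB hz)
        (hBp z hz) ha).2 ?_) z' hz'⟩⟩
    · rw [← commutatorElement_inv]
      exact inv_mem (h5 (commutator_mem_commutator (h3 (commutator_mem_commutator hs (hPS ha))) hs))
    · rw [← commutatorElement_inv]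
      exact inv_mem (hBB (commutator_mem_commutator hza hz))
  refine ⟨?_, (commutator_mono (h4.trans hNP) (h4.trans hNP)).trans h1,
    fun x hx => h2 x (hNP (h4 hx)), fun h3' => (commutator_mono h4 le_rfl).trans (h6 h3'),
    fun h3' s hs => ?_⟩
  · exact (commutator_mono ((commutator_mono h4 le_rfl).trans h5) le_rfl).trans
      (commutator_sup_le (((inf_le_left.trans (Zv_le_self H))).trans nC)
        (le_normalizer) (commutator_le_of_cent inf_le_right) (hCC hSH))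
  · obtain ⟨a, ha, b, hb, rfl⟩ := hmul s hs
    have hc := h3 (commutator_mem_commutator (hB hb) (hPS ha))
    obtain ⟨k, hk⟩ := Grp.CommPow.dvd_choose_two (hp.out.odd_of_ne_two (by omega))
    exact mul_pow_mem (nC (hPH ha)) (nC (hBH hb))
      (h6 h3'.ne' (commutator_mem_commutator hc (hPS ha)))
      (h6 h3'.ne' (commutator_mem_commutator hc (hB hb))) (h2 a ha)
      (by rw [hBp b hb]; exact one_mem _) (by rw [hk, pow_mul]; exact C.pow_mem (h2 _ (hNP hc)) k)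

end Cfsg.Agent.PLocal.GN
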