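import Cfsg.Agent.PLocal.ChermakDelgado
import Cfsg.Agent.PLocal.Amb

/-! The Chermak–Delgado lattice of a subgroup `S` of an ambient finite group. -/

set_option autoImplicit false

namespace Cfsg.Agent.PLocal.GN

open Subgroup Cfsg Cfsg.Agent.PLocal.Amb
open scoped Pointwise

variable {X Y : Type*} [Group X] [Group Y]

/-- `R` is a member of the Chermak–Delgado lattice of `S`. -/
def CD (S R : Subgroup X) : Prop :=
  R ≤ S ∧ ∀ Q ≤ S, Nat.card Q * Nat.card ↥(S ⊓ 𝐂[Q]) ≤ Nat.card R * Nat.card ↥(S ⊓ 𝐂[R])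

theorem card_subgroupOf' {R S : Subgroup X} (h : R ≤ S) : Nat.card (R.subgroupOf S) = Nat.card R :=
  Nat.card_congr (subgroupOfEquivOfLe h).toEquiv

theorem perp_subgroupOf {R S : Subgroup X} (h : R ≤ S) :
    𝐂[R.subgroupOf S] = (S ⊓ 𝐂[R]).subgroupOf S := by
  rw [centralizer_subgroupOf h, inf_subgroupOf_left]

theorem card_perp_subgroupOf {R S : Subgroup X} (h : R ≤ S) :
    Nat.card 𝐂[R.subgroupOf S] = Nat.card ↥(S ⊓ 𝐂[R]) := by
  rw [perp_subgroupOf h, card_subgroupOf' inf_le_left]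

theorem eq_of_subgroupOf {R Q S : Subgroup X} (hR : R ≤ S) (hQ : Q ≤ S)
    (h : R.subgroupOf S = Q.subgroupOf S) : R = Q := by
  rw [← map_subgroupOf_of_le hR, h, map_subgroupOf_of_le hQ]

variable [Finite X] {S R Q T : Subgroup X}

theorem cd_iff (h : R ≤ S) : CD S R ↔ IsCentralizerLarge (R.subgroupOf S) := by
  constructor
  · rintro ⟨-, hR⟩
    obtain ⟨Q, hQ⟩ := exists_isCentralizerLarge (G := S)
    refine isCentralizerLarge_of_ge ?_
    rw [← hQ, card_perp_subgroupOf h, card_subgroupOf' h, ← map_subtype_subgroupOf Q,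
      card_perp_subgroupOf (map_subtype_le Q), card_subgroupOf' (map_subtype_le Q)]
    exact hR _ (map_subtype_le Q)
  · intro hR
    refine ⟨h, fun Q hQ => ?_⟩
    have h1 := cd_le_max (Q.subgroupOf S)
    rw [← hR, card_perp_subgroupOf h, card_subgroupOf' h, card_perp_subgroupOf hQ,
      card_subgroupOf' hQ] at h1
    exact h1

theorem cd_map_subtype {R : Subgroup S} : CD S (R.map S.subtype) ↔ IsCentralizerLarge R := by
  rw [cd_iff (map_subtype_le R), map_subtype_subgroupOf]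

namespace CD

omit [Finite X] in
theorem le (h : CD S R) : R ≤ S := h.1

theorem large (h : CD S R) : IsCentralizerLarge (R.subgroupOf S) := (cd_iff h.le).1 h

theorem sup (h : CD S R) (h' : CD S Q) : CD S (R ⊔ Q) := by
  rw [cd_iff (sup_le h.le h'.le), subgroupOf_sup h.le h'.le]
  exact IsCentralizerLarge.sup' h.large h'.large

theorem inf (h : CD S R) (h' : CD S Q) : CD S (R ⊓ Q) := by
  rw [cd_iff (inf_le_left.trans h.le)]
  exact IsCentralizerLarge.inf' h.large h'.large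

theorem exists_mul (h : CD S R) (h' : CD S Q) {x : X} (hx : x ∈ R ⊔ Q) :
    ∃ r ∈ R, ∃ s ∈ Q, x = r * s := by
  have hxS : x ∈ S := sup_le h.le h'.le hx
  have h1 : (⟨x, hxS⟩ : S) ∈ R.subgroupOf S ⊔ Q.subgroupOf S := by
    rw [← subgroupOf_sup h.le h'.le]; exact hx
  have h2 : (⟨x, hxS⟩ : S) ∈ ((R.subgroupOf S : Subgroup S) : Set S) * (Q.subgroupOf S : Set S) := by
    rw [← cd_coe_sup h.large h'.large]; exact h1
  obtain ⟨r, hr, s, hs, e⟩ := h2
  exact ⟨r, hr, s, hs, (congrArg Subtype.val e).symm⟩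

theorem perp (h : CD S R) : CD S (S ⊓ 𝐂[R]) := by
  rw [cd_iff inf_le_left, ← perp_subgroupOf h.le]
  exact cd_centralizer h.large

theorem perp_perp (h : CD S R) : S ⊓ 𝐂[(S ⊓ 𝐂[R] : Subgroup X)] = R := by
  refine eq_of_subgroupOf inf_le_left h.le ?_
  rw [← perp_subgroupOf inf_le_left, ← perp_subgroupOf h.le]
  exact cd_centralizer_centralizer h.large

theorem perp_inf (h : CD S R) (h' : CD S Q) :
    S ⊓ 𝐂[(R ⊓ Q : Subgroup X)] = (S ⊓ 𝐂[R]) ⊔ (S ⊓ 𝐂[Q]) := by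
  refine eq_of_subgroupOf inf_le_left (sup_le inf_le_left inf_le_left) ?_
  rw [← perp_subgroupOf (inf_le_left.trans h.le), subgroupOf_sup inf_le_left inf_le_left,
    ← perp_subgroupOf h.le, ← perp_subgroupOf h'.le]
  exact cd_centralizer_inf h.large h'.large

theorem le_of_perp (h : CD S R) (hQ : Q ≤ S) (e : S ⊓ 𝐂[R] ≤ 𝐂[Q]) : Q ≤ R := by
  rw [← h.perp_perp]
  exact le_inf hQ (le_centralizer_iff.1 e)

theorem center_le (h : CD S R) : S ⊓ 𝐂[S] ≤ R :=
  h.le_of_perp inf_le_left (le_centralizer_iff.1 (inf_le_right.trans (Amb.centralizer_anti inf_le_left)))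

/-- modular law -/
theorem sup_inf (h : CD S R) (h' : CD S Q) {W : Subgroup X} (hW : R ≤ W) :
    (R ⊔ Q) ⊓ W = R ⊔ (Q ⊓ W) := by
  refine le_antisymm (fun x hx => ?_) (sup_le (le_inf le_sup_left hW)
    (inf_le_inf_right _ le_sup_right))
  obtain ⟨r, hr, s, hs, rfl⟩ := h.exists_mul h' hx.1
  exact mul_mem_sup hr ⟨hs, by simpa using W.mul_mem (W.inv_mem (hW hr)) hx.2⟩

omit [Finite X] in
theorem of_card (h : CD S R) (hQ : Q ≤ S)
    (e : Nat.card R * Nat.card ↥(S ⊓ 𝐂[R]) ≤ Nat.card Q * Nat.card ↥(S ⊓ 𝐂[Q])) : CD S Q :=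
  ⟨hQ, fun W hW => (h.2 W hW).trans e⟩

omit [Finite X] in
theorem map (h : CD S R) {f : X →* Y} (hf : Function.Injective f) : CD (S.map f) (R.map f) := by
  have key : ∀ Q : Subgroup X, Nat.card (Q.map f) * Nat.card ↥(S.map f ⊓ 𝐂[Q.map f]) =
      Nat.card Q * Nat.card ↥(S ⊓ 𝐂[Q]) := by
    intro Q
    have h1 : S.map f ⊓ 𝐂[Q.map f] = (S ⊓ 𝐂[Q]).map f := by
      ext y
      constructor
      · rintro ⟨⟨x, hx, rfl⟩, hc⟩
        refine ⟨x, ⟨hx, fun z hz => hf ?_⟩, rfl⟩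
        rw [map_mul, map_mul]
        exact hc _ ⟨z, hz, rfl⟩
      · rintro ⟨x, ⟨hx, hc⟩, rfl⟩
        refine ⟨⟨x, hx, rfl⟩, ?_⟩
        rintro _ ⟨z, hz, rfl⟩
        rw [← map_mul, ← map_mul, hc z hz]
    rw [h1, card_map_of_injective hf, card_map_of_injective hf]
  refine ⟨map_mono h.le, fun Q hQ => ?_⟩
  have h2 : Q = (Q.comap f).map f := by
    rw [map_comap_eq, inf_eq_right.2 (hQ.trans (map_le_range f S))]
  rw [h2, key, key]
  exact h.2 _ ((comap_mono hQ).trans (comap_map_eq_self_of_injective hf S).le)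

omit [Finite X] in
theorem cj (h : CD S R) (g : X) : CD cj(g, S) cj(g, R) := h.map (MulAut.conj g).injective

omit [Finite X] in
theorem cj_of_mem (h : CD S R) {g : X} (hg : g ∈ 𝐍[S]) : CD S cj(g, R) := by
  have := h.cj g
  rwa [cj_of_mem_normalizer hg] at this

theorem perp_eq (hT : CD S T) (hZ : S ⊓ 𝐂[T] ≤ R) : S ⊓ 𝐂[R] ≤ T :=
  hT.le_of_perp inf_le_left (le_centralizer_iff.1 (inf_le_right.trans (Amb.centralizer_anti hZ)))

/-- going down to a large subgroup `T` containing its centralizer -/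
theorem down (hT : CD S T) (h : CD S R) (hZ : S ⊓ 𝐂[T] ≤ R) (hR : R ≤ T) : CD T R := by
  refine ⟨hR, fun W hW => ?_⟩
  have h1 : T ⊓ 𝐂[R] = S ⊓ 𝐂[R] :=
    le_antisymm (inf_le_inf_right _ hT.le) (le_inf (hT.perp_eq hZ) inf_le_right)
  rw [h1]
  exact le_trans (Nat.mul_le_mul_left _ (card_le_of_le (inf_le_inf_right _ hT.le)))
    (h.2 W (hW.trans hT.le))

theorem self (hT : CD S T) (hc : S ⊓ 𝐂[T] ≤ T) : CD T T := hT.down hT hc le_rfl

theorem up (hT : CD S T) (hc : S ⊓ 𝐂[T] ≤ T) (h : CD T R) : CD S R := by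
  refine hT.of_card (h.le.trans hT.le) ?_
  have h1 : S ⊓ 𝐂[T] = T ⊓ 𝐂[T] :=
    le_antisymm (le_inf hc inf_le_right) (inf_le_inf_right _ hT.le)
  rw [h1]
  exact (h.2 T le_rfl).trans (Nat.mul_le_mul_left _ (card_le_of_le (inf_le_inf_right _ hT.le)))

end CD

end Cfsg.Agent.PLocal.GN
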