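import Cfsg.Agent.PLocal.GNFin

/-! The pair lemma for the Glauberman–Niles theorem. -/

set_option autoImplicit false

namespace Cfsg.Agent.PLocal.GN

open Subgroup Cfsg Cfsg.Agent.PLocal.Amb Cfsg.Agent.PLocal.Stell Cfsg.Agent.PLocal.CommMod
open Cfsg.Agent.PLocal.SL2Nat
open scoped commutatorElement

variable {X : Type*} [Group X] {p q q' : ℕ}

structure Two (p q q' : ℕ) (G H S M M' : Subgroup X) : Prop where
  g : Vert p q G S M
  h : Vert p q' H S M'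
  le : Zv p G ≤ pCoreOf p H
  ne : ¬ pCoreOf p G ≤ pCoreOf p H
  spG : ∃ A, SP S A ∧ ¬ A ≤ pCoreOf p G
  spH : ∃ A, SP S A ∧ ¬ A ≤ pCoreOf p H

theorem normal_centralizer (G : Subgroup X) : G ≤ 𝐍[𝐂[G]] := le_normalizer_centralizer le_normalizer

theorem exists_W (p : ℕ) {H P : Subgroup X} (hP : P ≤ H) (nP : H ≤ 𝐍[P]) :
    ∃ W : Subgroup X, H ≤ 𝐍[W] ∧ W ≤ P ∧ ⁅W, P⁆ ≤ 𝐂[H] ∧ (∀ w ∈ W, w ^ p ∈ 𝐂[H]) ∧
      ∀ Z ≤ P, ⁅Z, P⁆ ≤ 𝐂[H] → (∀ z ∈ Z, z ^ p = 1) → Z ≤ W := by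
  have nC := normal_centralizer H
  let W : Subgroup X :=
    { carrier := {w | w ∈ P ⊓ centMod P 𝐂[H] ∧ w ^ p ∈ 𝐂[H]}
      one_mem' := ⟨one_mem _, by simp⟩
      mul_mem' := by
        rintro a b ⟨ha, ha'⟩ ⟨hb, hb'⟩
        have hc : ⁅b, a⁆ ∈ 𝐂[H] := hb.2.2 a ha.1
        have key : ∀ x ∈ H, ⁅⁅b, a⁆, x⁆ ∈ 𝐂[H] := fun x hx => by
          rw [commutatorElement_eq_one_iff_mul_comm.2 (hc x hx).symm]; exact one_mem _
        exact ⟨mul_mem ha hb, mul_pow_mem ha.2.1 hb.2.1 (key a (hP ha.1)) (key b (hP hb.1)) ha' hb'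
          (pow_mem hc _)⟩
      inv_mem' := by
        rintro a ⟨ha, ha'⟩
        exact ⟨inv_mem ha, by rw [inv_pow]; exact inv_mem ha'⟩ }
  refine ⟨W, le_normalizer_iff_cj.2 fun k hk => cj_le_iff_forall.2 fun w hw =>
    ⟨Amb.conj_mem_of_mem_normalizer (le_normalizer_inf nP (le_trans (le_inf nP nC)
      (inf_normalizer_le_normalizer_centMod _ _)) hk) hw.1, ?_⟩, fun w hw => hw.1.1,
    commutator_le.2 fun w hw a ha => hw.1.2.2 a ha, fun w hw => hw.2, fun Z h1 h2 h3 z hz =>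
      ⟨⟨h1 hz, nC (hP (h1 hz)), fun a ha => h2 (commutator_mem_commutator hz ha)⟩, by
        rw [h3 z hz]; exact one_mem _⟩⟩
  rw [conj_pow]
  exact Amb.conj_mem_of_mem_normalizer (nC hk) hw.2

variable [Finite X] [hp : Fact p.Prime] {G H S M M' : Subgroup X}

theorem pRes_le_of_normal (h : Loc p q H S M) {N : Subgroup X} (hN : H ≤ 𝐍[N])
    (hNS : ¬ N ⊓ S ≤ pCoreOf p H) : 𝐎[p, H] ≤ N :=
  (pRes_mono (h.le_sup_of_normal hN hNS)).trans (pRes_sup_le h.syl.pgrp (h.syl.le.trans hN))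

omit [Finite X] hp in
theorem Vert.commutator_Zv (g : Vert p q G S M) : ⁅Zv p G, S⁆ ≤ S ⊓ 𝐂[S] :=
  le_inf ((commutator_Zv_le g.syl.le).trans g.Zv_le') g.quad

namespace Two

variable (t : Two p q q' G H S M M')
include t

omit hp in
theorem sup_eq : pCoreOf p G ⊔ pCoreOf p H = S := t.h.cover t.g.cdT t.ne

omit hp in
theorem le' : Zv p H ≤ pCoreOf p G := (t.h.Zv_le_iff t.g.cdT).2 (t.g.perp_core.le.trans t.le)

omit hp in
theorem symm : Two p q' q H G S M' M :=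
  ⟨t.h, t.g, t.le', fun e => t.g.ne (t.sup_eq.ge.trans (sup_le le_rfl e)), t.spH, t.spG⟩

omit hp in
theorem V_le : Zv p G ⊔ Zv p H ≤ pCoreOf p G := sup_le (Zv_le G) t.le'

omit hp in
theorem cdV : CD (pCoreOf p G) (Zv p G ⊔ Zv p H) :=
  t.g.down (t.g.cdZ.sup t.h.cdZ) le_sup_left t.V_le

omit hp in
theorem perp_V : S ⊓ 𝐂[(Zv p G ⊔ Zv p H : Subgroup X)] = pCoreOf p G ⊓ pCoreOf p H := by
  rw [Amb.centralizer_sup, inf_inf_distrib_left, t.g.perp_Zv, t.h.perp_Zv]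

omit [Finite X] hp in
theorem commV : ⁅Zv p G ⊔ Zv p H, S⁆ ≤ S ⊓ 𝐂[S] :=
  commutator_sup_le (t.g.Zv_le'.trans (le_normalizer_of_cent inf_le_right))
    (t.h.Zv_le'.trans (le_normalizer_of_cent inf_le_right)) t.g.commutator_Zv t.h.commutator_Zv

omit hp in
theorem between {W : Subgroup X} (hW : CD S W) (h1 : Zv p G ≤ W) (h2 : W ≤ Zv p G ⊔ Zv p H) :
    W ≤ Zv p G ∨ Zv p G ⊔ Zv p H ≤ W := by
  by_cases e : Zv p H ≤ W
  · exact Or.inr (sup_le h1 e)
  · left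
    rw [← inf_eq_right.2 h2, t.g.cdZ.sup_inf t.h.cdZ h1]
    refine sup_le le_rfl (le_trans (le_inf (inf_le_left.trans t.h.Zv_le') ?_) t.g.center_le)
    rw [inf_comm]; exact t.h.cover' hW e

omit [Finite X] hp in
theorem norm_between {W : Subgroup X} (h1 : Zv p G ≤ W) (h2 : W ≤ Zv p G ⊔ Zv p H) : S ≤ 𝐍[W] :=
  le_normalizer_iff_commutator_le_left.2
    ((commutator_mono h2 le_rfl).trans (t.commV.trans (t.g.center_le.trans h1)))

omit hp in
theorem exists_sp : ∃ A, SP S A ∧ ¬ A ≤ pCoreOf p G ∧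
    Zv p G ⊔ Zv p H ≤ (A ⊓ pCoreOf p G) ⊔ Zv p G := by
  suffices h : ∃ A, SP S A ∧ ¬ A ≤ pCoreOf p G ∧ A ⊓ pCoreOf p G ≤ pCoreOf p H by
    obtain ⟨A, hA, h1, h2⟩ := h
    have s := t.g.sp_up (t.g.star hA)
    exact ⟨A, hA, h1, sup_le le_sup_right
      ((t.h.Zv_le_iff s.cd).2 (s.perp.le.trans (sup_le h2 t.le)))⟩
  obtain ⟨A, hA, h1⟩ := t.spG
  by_cases e : A ⊓ pCoreOf p G ≤ pCoreOf p H
  · exact ⟨A, hA, h1, e⟩
  refine ⟨_, t.h.sp_up (t.h.star hA), fun e' => h1 ?_,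
    inf_le_left.trans (sup_le inf_le_right (Zv_le H))⟩
  have h2 := (hA.cd.inf t.g.cdT).sup_inf t.h.cdT (W := A) inf_le_left
  rw [t.h.cover (hA.cd.inf t.g.cdT) e, inf_eq_right.2 hA.cd.le] at h2
  refine h2.le.trans (sup_le inf_le_right ?_)
  rw [inf_comm]
  exact le_sup_left.trans e'

omit hp in
theorem inf_le (nV : ¬ G ≤ 𝐍[(Zv p G ⊔ Zv p H : Subgroup X)]) {R : Subgroup X}
    (hR : CD (pCoreOf p G) R) (hn : G ≤ 𝐍[((Zv p G ⊔ Zv p H) ⊓ R : Subgroup X)]) :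
    (Zv p G ⊔ Zv p H) ⊓ R ≤ Zv p G ∧
      pCoreOf p G ≤ (pCoreOf p G ⊓ pCoreOf p H) ⊔ (pCoreOf p G ⊓ 𝐂[R]) := by
  have h1 : (Zv p G ⊔ Zv p H) ⊓ R ≤ Zv p G := by
    refine (t.between (t.g.up (t.cdV.inf hR)) (le_inf le_sup_left (t.g.Zv_le_of hR))
      inf_le_left).resolve_right fun e => nV ?_
    rwa [le_antisymm inf_le_left e] at hn
  refine ⟨h1, ?_⟩
  rw [← t.perp_V, t.g.perp_eq le_sup_left, ← t.cdV.perp_inf hR]
  exact le_inf le_rfl ((core_le_centralizer G).trans (Amb.centralizer_anti h1))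

omit hp in
theorem inf_star (nV : ¬ G ≤ 𝐍[(Zv p G ⊔ Zv p H : Subgroup X)]) {A : Subgroup X} (hA : SP S A)
    (hAT : ¬ A ≤ pCoreOf p G) {g : X} (hg : g ∈ G) (hgM : g ∉ M) :
    SP (pCoreOf p G) cj(g, (A ⊓ pCoreOf p G) ⊔ Zv p G) ∧
    (Zv p G ⊔ Zv p H) ⊓ cj(g, (A ⊓ pCoreOf p G) ⊔ Zv p G) ≤ Zv p G ∧
      pCoreOf p G ≤ (pCoreOf p G ⊓ pCoreOf p H) ⊔ cj(g, (A ⊓ pCoreOf p G) ⊔ Zv p G) := by
  have hgT : cj(g, pCoreOf p G) = pCoreOf p G := cj_of_mem_normalizer (le_normalizer_pCoreOf p G hg)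
  have hgZ : cj(g, Zv p G) = Zv p G := cj_of_mem_normalizer (le_normalizer_Zv G hg)
  have sB : SP (pCoreOf p G) cj(g, (A ⊓ pCoreOf p G) ⊔ Zv p G) := by
    have := (t.g.star hA).cj g
    rwa [hgT] at this
  have hZ : Zv p G ≤ (Zv p G ⊔ Zv p H) ⊓ cj(g, (A ⊓ pCoreOf p G) ⊔ Zv p G) :=
    le_inf le_sup_left (t.g.Zv_le_of sB.cd)
  have n := t.norm_between hZ inf_le_left
  have h1 := t.inf_le nV sB.cd ((t.g.gen' hg hgM).trans (sup_le n ?_))
  · rw [sB.perp] at h1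
    exact ⟨sB, h1⟩
  rw [← t.g.cover hA.cd hAT, cj_sup, hgT]
  refine sup_le (le_normalizer_iff_commutator_le_left.2 (le_trans ?_ hZ)) (t.g.core_le.trans n)
  refine (commutator_mono inf_le_right le_rfl).trans ?_
  rw [commutator_cj]
  refine (cj_mono g ?_).trans hgZ.le
  have nZ := le_normalizer_Zv (p := p) G
  exact commutator_sup_le ((inf_le_right.trans (pCoreOf_le p G)).trans nZ) le_normalizer
    (commutator_le_of_cent (inf_le_left.trans hA.comm))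
    (commutator_Zv_le (hA.cd.le.trans t.g.syl.le))

theorem star (nV : ¬ G ≤ 𝐍[(Zv p G ⊔ Zv p H : Subgroup X)]) : ⁅Zv p H, S⁆ ≤ 𝐂[G] := by
  obtain ⟨A, hA, hAT⟩ := t.spG
  obtain ⟨g, hg, hgM⟩ := t.g.exists_not_mem
  obtain ⟨sB, -, h1⟩ := t.inf_star nV hA hAT hg hgM
  have n := t.g.syl.le.trans (normal_centralizer G)
  have h2 : ⁅Zv p H, pCoreOf p H⁆ ≤ 𝐂[G] := commutator_le_of_cent (Zv_le_centralizer H)
  rw [← t.sup_eq]
  refine commutator_sup_le' (t.g.core_le.trans n) (t.h.core_le.trans n)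
    ((commutator_mono le_rfl h1).trans (commutator_sup_le' ((inf_le_left.trans t.g.core_le).trans n)
      ((sB.cd.le.trans t.g.core_le).trans n) ((commutator_mono le_rfl inf_le_right).trans h2)
      (commutator_le.2 fun z hz c hc => ?_))) h2
  exact t.g.hstar hA hAT hg hgM t.cdV hc (fun x hx => (t.commV
    (commutator_mem_commutator hx (t.g.core_le (sB.cd.le hc)))).2) (mem_sup_right hz)

theorem star' : ⁅Zv p G, S⁆ ≤ 𝐂[H] := by
  by_cases nV : H ≤ 𝐍[(Zv p H ⊔ Zv p G : Subgroup X)]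
  swap
  · exact t.symm.star nV
  have h1 : H ≤ 𝐂[⁅Zv p H ⊔ Zv p G, pCoreOf p H⁆] := t.h.le_of_normal
    (le_normalizer_centralizer (le_normalizer_commutator nV (le_normalizer_pCoreOf p H)))
    (le_centralizer_iff.1 ((commutator_mono le_rfl t.h.core_le).trans
      (t.symm.commV.trans inf_le_right)))
  have n := t.h.syl.le.trans (normal_centralizer H)
  rw [← t.sup_eq]
  exact commutator_sup_le' (t.g.core_le.trans n) (t.h.core_le.trans n)
    (commutator_le_of_cent (Zv_le_centralizer G))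
    ((commutator_mono le_sup_right le_rfl).trans (le_centralizer_iff.1 h1))

theorem comm_cj (nV : ¬ G ≤ 𝐍[(Zv p G ⊔ Zv p H : Subgroup X)]) {g : X} (hg : g ∈ G) :
    ⁅cj(g, Zv p H), pCoreOf p G⁆ = ⁅Zv p H, pCoreOf p G⁆ ∧ ⁅Zv p H, pCoreOf p G⁆ ≤ 𝐂[G] := by
  have h1 := (commutator_mono le_rfl t.g.core_le).trans (t.star nV)
  refine ⟨?_, h1⟩
  conv_lhs => rw [← cj_of_mem_normalizer (le_normalizer_pCoreOf p G hg), commutator_cj]
  exact cj_of_mem_normalizer (le_normalizer_of_cent h1 hg)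

theorem not_le (nV : ¬ G ≤ 𝐍[(Zv p G ⊔ Zv p H : Subgroup X)]) {g : X} (hg : g ∈ G) (hgM : g ∉ M) :
    ¬ cj(g, Zv p H) ≤ pCoreOf p H := by
  intro hle
  set T := pCoreOf p G with hT
  set P := pCoreOf p H with hP
  set V := Zv p G ⊔ Zv p H with hV
  have hgT : cj(g, T) = T := cj_of_mem_normalizer (le_normalizer_pCoreOf p G hg)
  have hgZ : cj(g, Zv p G) = Zv p G := cj_of_mem_normalizer (le_normalizer_Zv G hg)
  have hVg : cj(g, V) = Zv p G ⊔ cj(g, Zv p H) := by rw [hV, cj_sup, hgZ]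
  obtain ⟨A, hA, hAT, hVA⟩ := t.exists_sp
  obtain ⟨sB, h1, -⟩ := t.inf_star nV hA hAT hg hgM
  set B := cj(g, (A ⊓ T) ⊔ Zv p G) with hB
  have sB' := t.g.sp_up sB
  have hBP : ¬ B ≤ P := fun e => by
    have h2 : Zv p H ≤ Zv p G := le_trans (le_inf le_sup_right
      ((t.h.Zv_le_iff sB'.cd).2 (sB'.perp.le.trans e))) h1
    exact t.ne (t.g.perp_Zv.ge.trans ((inf_le_inf_left _ (Amb.centralizer_anti h2)).trans
      t.h.perp_Zv.le))
  have cVg : CD T cj(g, V) := Vert.conj_core t.cdV hg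
  have cX : CD S (V ⊔ cj(g, V)) := t.g.up (t.cdV.sup cVg)
  have hVP : V ≤ P := sup_le t.le (Zv_le H)
  have hVgP : cj(g, V) ≤ P := hVg ▸ sup_le t.le hle
  have cX' : CD P (V ⊔ cj(g, V)) :=
    t.h.down cX (le_sup_right.trans le_sup_left) (sup_le hVP hVgP)
  obtain ⟨k, hk, hkM⟩ := t.h.exists_not_mem
  have sA' := t.h.star sB'
  have sB'' : SP P cj(k, (B ⊓ P) ⊔ Zv p H) := by
    have := sA'.cj k
    rwa [cj_of_mem_normalizer (le_normalizer_pCoreOf p H hk)] at this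
  set B' := cj(k, (B ⊓ P) ⊔ Zv p H) with hB'
  have hVgA : cj(g, V) ≤ (B ⊓ P) ⊔ Zv p H := (le_inf (cj_mono g hVA) hVgP).trans le_sup_left
  have hXA : V ⊔ cj(g, V) ≤ (B ⊓ P) ⊔ Zv p H :=
    sup_le (sup_le ((hVg ▸ le_sup_left).trans hVgA) le_sup_right) hVgA
  obtain ⟨c1, c2⟩ := t.comm_cj nV hg
  have nG := t.g.syl.le.trans (normal_centralizer G)
  have nH := t.h.syl.le.trans (normal_centralizer H)
  have hXT : ⁅V ⊔ cj(g, V), T⁆ ≤ 𝐂[S] := by
    have h0 : ⁅Zv p G, T⁆ ≤ 𝐂[G] := commutator_le_of_cent (Zv_le_centralizer G)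
    refine le_trans ?_ (Amb.centralizer_anti t.g.syl.le)
    rw [hVg]
    exact commutator_sup_le ((t.V_le.trans t.g.core_le).trans nG)
      (((hVg ▸ cVg.le).trans t.g.core_le).trans nG)
      (commutator_sup_le (t.g.Zv_le'.trans nG) (t.h.Zv_le'.trans nG) h0 c2)
      (commutator_sup_le (t.g.Zv_le'.trans nG) ((hle.trans t.h.core_le).trans nG) h0 (c1 ▸ c2))
  have hZX : cj(g, Zv p H) ≤ V ⊔ cj(g, V) := (cj_mono g le_sup_right).trans le_sup_right
  have cV : CD S V := t.g.up t.cdV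
  have cB' : CD S B' := t.h.up sB''.cd
  have key : ⁅cj(g, Zv p H), T ⊓ P⁆ ≤ 𝐂[H] := by
    have cW := cX.inf (cV.sup cB')
    have hVW : V ≤ (V ⊔ cj(g, V)) ⊓ (V ⊔ B') := le_inf le_sup_left le_sup_left
    have c3 : CD T cj(g⁻¹, cj(g, V) ⊓ ((V ⊔ cj(g, V)) ⊓ (V ⊔ B'))) :=
      Vert.conj_core (t.g.down ((t.g.up cVg).inf cW)
        (le_inf (t.g.Zv_le_of cVg) (le_sup_left.trans hVW)) (inf_le_left.trans cVg.le)) (G.inv_mem hg)
    rcases t.between (t.g.up c3) (t.g.Zv_le_of c3) (cj_le_iff.2 (by rw [inv_inv]; exact inf_le_left))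
      with e | e
    · rw [cj_le_iff, inv_inv, hgZ] at e
      have h2 : (V ⊔ cj(g, V)) ⊓ (V ⊔ B') ≤ V := by
        rw [← inf_eq_right.2 (inf_le_left : (V ⊔ cj(g, V)) ⊓ (V ⊔ B') ≤ _),
          cV.sup_inf (t.g.up cVg) hVW]
        exact sup_le le_rfl (e.trans le_sup_left)
      have h3 : T ⊓ P ≤ (S ⊓ 𝐂[(V ⊔ cj(g, V) : Subgroup X)]) ⊔ (S ⊓ 𝐂[(V ⊔ B' : Subgroup X)]) := by
        rw [← cX.perp_inf (cV.sup cB'), ← t.perp_V]
        exact inf_le_inf_left _ (Amb.centralizer_anti h2)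
      refine (commutator_mono le_rfl h3).trans (commutator_sup_le' (inf_le_left.trans nH)
        (inf_le_left.trans nH) (commutator_le_of_cent'
          (inf_le_right.trans (Amb.centralizer_anti hZX))) (commutator_le.2 fun z hz c hc => ?_))
      rw [Amb.centralizer_sup] at hc
      have hcT : c ∈ T := (t.perp_V.le ⟨hc.1, hc.2.1⟩).1
      exact t.h.hstar sB' hBP hk hkM cX' ((t.h.sp_up sB'').perp.le ⟨hc.1, hc.2.2⟩)
        (fun x hx => hXT (commutator_mem_commutator hx hcT)) (hZX hz)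
    · rw [le_cj_iff, inv_inv] at e
      refine commutator_le.2 fun z hz c hc => cent_of_pRes t.h.toLoc ?_
        (hXT (commutator_mem_commutator (hZX hz) hc.1))
      obtain ⟨v, hv, β, hβ, rfl⟩ := cV.exists_mul cB' (e (cj_mono g le_sup_right hz)).2.2
      obtain ⟨d, hd, ζ, hζ, rfl⟩ := t.h.star_inf sB'
        hk hkM ((Subgroup.mul_mem_cancel_left _ (hXA (mem_sup_left hv))).1 (hXA (hZX hz))) hβ
      have nC : H ≤ 𝐍[(P ⊓ 𝐂[𝐎[p, H]] : Subgroup X)] := normal_cent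
      have hVK : V ≤ centMod (T ⊓ P) (P ⊓ 𝐂[𝐎[p, H]]) := le_centMod.2
        ⟨(hVP.trans (pCoreOf_le p H)).trans nC, commutator_le_of_cent'
          (t.perp_V.ge.trans inf_le_right)⟩
      have hdC : d ∈ P ⊓ 𝐂[𝐎[p, H]] := ⟨(Subgroup.mul_mem_cancel_right _ (Zv_le H hζ)).1
        (sB''.cd.le hβ), t.h.inter_le sB' hBP hk hkM hd⟩
      have hdK : d ∈ centMod (T ⊓ P) (P ⊓ 𝐂[𝐎[p, H]]) := ⟨le_normalizer hdC, fun y hy =>
        le_normalizer_iff_commutator_le_left.1 nC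
          (commutator_mem_commutator hdC (pCoreOf_le p H hy.2))⟩
      exact ((mul_mem (hVK hv) (mul_mem hdK (hVK (mem_sup_right hζ)))).2 c hc).2
  have h4 := (t.inf_le nV cVg ((t.g.gen' hg hgM).trans (sup_le
    (t.norm_between (le_inf le_sup_left (t.g.Zv_le_of cVg)) inf_le_left) ?_))).2
  · refine t.h.commutator_not_le ?_
    rw [← t.sup_eq]
    refine commutator_sup_le' (t.g.core_le.trans nH) (t.h.core_le.trans nH) ?_
      (commutator_le_of_cent (Zv_le_centralizer H))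
    rw [← c1]
    exact (commutator_mono le_rfl h4).trans (commutator_sup_le'
      ((inf_le_left.trans t.g.core_le).trans nH) ((inf_le_left.trans t.g.core_le).trans nH) key
      (commutator_le_of_cent' (inf_le_right.trans (Amb.centralizer_anti (cj_mono g le_sup_right)))))
  · refine le_normalizer_iff_commutator_le_left.2 ((commutator_mono inf_le_right le_rfl).trans ?_)
    rw [commutator_cj]
    exact ((cj_mono g (t.commV.trans t.g.center_le)).trans hgZ.le).trans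
      (le_inf le_sup_left (t.g.Zv_le_of cVg))

theorem le_sup (nV : ¬ G ≤ 𝐍[(Zv p G ⊔ Zv p H : Subgroup X)]) {g : X} (hg : g ∈ G) (hgM : g ∉ M) :
    S ≤ pCoreOf p H ⊔ cj(g, Zv p H) ∧
      pCoreOf p G ≤ (pCoreOf p G ⊓ pCoreOf p H) ⊔ cj(g, Zv p H) := by
  have cVg := Vert.conj_core t.cdV hg
  have hVg : cj(g, Zv p G ⊔ Zv p H) = Zv p G ⊔ cj(g, Zv p H) := by
    rw [cj_sup, cj_of_mem_normalizer (le_normalizer_Zv G hg)]
  have h1 := t.h.cover (t.g.up cVg) fun e => t.not_le nV hg hgM ((cj_mono g le_sup_right).trans e)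
  have h2 := (t.g.up cVg).sup_inf t.h.cdT cVg.le
  rw [h1, inf_eq_right.2 t.g.core_le] at h2
  rw [hVg] at h1 h2
  exact ⟨h1.ge.trans (sup_le (sup_le (t.le.trans le_sup_left) le_sup_right) le_sup_left),
    h2.le.trans (sup_le (sup_le ((le_inf (Zv_le G) t.le).trans le_sup_left) le_sup_right)
      ((inf_comm _ _).le.trans le_sup_left))⟩

theorem small (nV : ¬ G ≤ 𝐍[(Zv p G ⊔ Zv p H : Subgroup X)]) :
    Small p S (pCoreOf p H ⊓ 𝐂[𝐎[p, H]]) := by
  obtain ⟨g, hg, hgM⟩ := t.g.exists_not_mem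
  obtain ⟨h1, -⟩ := t.le_sup nV hg hgM
  obtain ⟨c1, c2⟩ := t.comm_cj nV hg
  set T := pCoreOf p G with hT
  set P := pCoreOf p H with hP
  have nT : G ≤ 𝐍[T] := le_normalizer_pCoreOf p G
  have nP : H ≤ 𝐍[P] := le_normalizer_pCoreOf p H
  have hBT : cj(g, Zv p H) ≤ T := cj_le_of_mem_normalizer t.le' (nT hg)
  have hBS := hBT.trans t.g.core_le
  have hBH := hBS.trans t.h.syl.le
  have hSS : ⁅S, S⁆ ≤ T ⊓ P := le_inf t.g.comm t.h.comm
  have c3 : ⁅cj(g, Zv p H), T⁆ ≤ 𝐂[S] := (c1 ▸ c2).trans (Amb.centralizer_anti t.g.syl.le)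
  have c4 : ⁅cj(g, Zv p H), T ⊓ P⁆ ≤ Zv p H := le_trans (le_inf ((commutator_mono hBS
    (inf_le_left.trans t.g.core_le)).trans (commutator_le_self S))
    ((commutator_mono le_rfl inf_le_left).trans c3)) t.h.center_le
  obtain ⟨W, nW, hWP, w1, w2, w3⟩ := exists_W p (pCoreOf_le p H) nP
  have hZW : Zv p H ≤ W :=
    w3 _ (Zv_le H) (commutator_le_of_cent (Zv_le_centralizer H)) fun z hz => Zv_pow hz
  refine fin t.h hBS (fun b hb => ?_) ?_ h1 hWP ?_ w1 w2 ?_ fun a ha z hz hza z' hz' => ?_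
  · obtain ⟨z, hz, rfl⟩ := mem_cj_iff_exists.1 hb
    rw [conj_pow, Zv_pow hz, mul_one, mul_inv_cancel]
  · rw [centralizer_cj]; exact cj_mono g (Zv_comm H)
  · by_cases nV' : H ≤ 𝐍[(Zv p H ⊔ Zv p G : Subgroup X)]
    · have nD : H ≤ 𝐍[(T ⊓ P : Subgroup X)] := by
        rw [inf_comm, ← t.symm.perp_V, t.h.perp_eq le_sup_left]
        exact le_normalizer_inf nP (le_normalizer_centralizer nV')
      refine (coprime_step_pRes (isPGroup_pCoreOf p H) nP (le_normalizer_Zv H)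
        (t.h.toLoc.commutator_pRes_le nD t.h.syl.le le_sup_left
          ((commutator_mono le_rfl t.h.core_le).trans hSS)).1 ?_).trans hZW
      rw [Subgroup.commutator_comm]
      refine (le_centMod.1 (pRes_le_of_normal t.h.toLoc (le_trans (le_inf nD (le_normalizer_Zv H))
        (inf_normalizer_le_normalizer_centMod _ _)) fun e => t.not_le nV hg hgM ?_)).2
      exact le_trans (le_inf (le_centMod.2 ⟨hBH.trans (le_normalizer_Zv H), c4⟩) hBS) e
    · obtain ⟨k, hk, hkM⟩ := t.h.exists_not_mem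
      obtain ⟨-, h2⟩ := t.symm.le_sup nV' hk hkM
      have h3 : cj(k, Zv p G) ≤ W := cj_le_of_mem_normalizer (w3 _ t.le
        ((commutator_mono le_rfl t.h.core_le).trans t.star') fun z hz => Zv_pow hz) (nW hk)
      refine (t.h.toLoc.commutator_pRes_le nW hBH (by rwa [sup_comm]) ((commutator_mono le_rfl h2).trans
        (commutator_sup_le' ((inf_le_left.trans (pCoreOf_le p H)).trans nW)
          (h3.trans le_normalizer) ?_ ((commutator_mono hBH h3).trans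
            (le_normalizer_iff_commutator_le_right.1 nW))))).1
      rw [inf_comm]; exact c4.trans hZW
  · rw [Subgroup.commutator_comm]
    exact (commutator_mono le_rfl (((commutator_mono t.h.core_le hBS).trans hSS).trans
      inf_le_left)).trans c3
  · have hu := hSS (commutator_mem_commutator (hBS hz) (t.h.core_le ha))
    have one : ∀ {x y : X}, y * x = x * y → ⁅x, y⁆ ∈ 𝐂[𝐎[p, H]] := fun e => by
      rw [commutatorElement_eq_one_iff_mul_comm.2 e.symm]; exact one_mem _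
    have hu₀ : g⁻¹ * ⁅z, a⁆ * g ∈ T := inv_conj_mem_of_mem_normalizer (nT hg) hu.1
    by_cases e : g⁻¹ * ⁅z, a⁆ * g ∈ P
    · refine one ((?_ : ⁅z, a⁆ ∈ 𝐂[cj(g, Zv p H)]) z' hz')
      rw [centralizer_cj]
      exact mem_cj.2 (core_le_centralizer H e)
    · have hz₀ := mem_cj.1 hz
      have h4 : ⁅g⁻¹ * z * g, g⁻¹ * ⁅z, a⁆ * g⁆ = ⁅z, ⁅z, a⁆⁆ := by
        have h5 := c2 (c1 ▸ commutator_mem_commutator hz hu.1) g hg
        calc _ = g⁻¹ * (⁅z, ⁅z, a⁆⁆ * g) := by group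
          _ = _ := by rw [← h5]; group
      have h5 := t.h.mem_centralizer hz₀ (t.g.core_le hu₀) e (by
        rw [← commutatorElement_inv, h4]; exact inv_mem hza)
      have h6 : z ∈ Zv p G := by
        simpa [mul_assoc] using Amb.conj_mem_of_mem_normalizer (le_normalizer_Zv G hg)
          (t.g.center_le ⟨t.h.Zv_le' hz₀, h5⟩)
      exact one (t.g.quad (commutator_mem_commutator h6 (t.h.core_le ha)) z' (hBS hz'))

theorem commutator_le (nV : G ≤ 𝐍[(Zv p G ⊔ Zv p H : Subgroup X)]) :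
    ⁅pCoreOf p G, 𝐎[p, G]⁆ ≤ pCoreOf p H := by
  have nT : G ≤ 𝐍[pCoreOf p G] := le_normalizer_pCoreOf p G
  have h1 : G ≤ centMod (Zv p G ⊔ Zv p H) (Zv p G) := t.g.le_of_normal
    (le_trans (le_inf nV (le_normalizer_Zv G)) (inf_normalizer_le_normalizer_centMod _ _))
    (le_centMod.2 ⟨t.g.syl.le.trans (le_normalizer_Zv G), by
      rw [Subgroup.commutator_comm]; exact t.commV.trans t.g.center_le⟩)
  have h2 : G ≤ 𝐂[⁅Zv p G ⊔ Zv p H, pCoreOf p G⁆] := t.g.le_of_normal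
    (le_normalizer_centralizer (le_normalizer_commutator nV nT))
    (le_centralizer_iff.1 ((commutator_mono le_rfl t.g.core_le).trans (t.commV.trans inf_le_right)))
  rw [← t.h.perp_Zv]
  refine le_inf (((commutator_mono le_rfl (pRes_le p G)).trans
    (le_normalizer_iff_commutator_le_left.1 nT)).trans t.g.core_le)
    (commutator_eq_bot_iff_le_centralizer.1 (commutator_commutator_eq_bot_of_rotate
      (le_bot_iff.1 ?_) (le_bot_iff.1 ?_)))
  · exact commutator_le_of_cent (((commutator_mono (pRes_le p G) le_sup_right).trans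
      (le_centMod.1 h1).2).trans (Zv_le_centralizer G))
  · exact commutator_le_of_cent' ((pRes_le p G).trans (h2.trans (Amb.centralizer_anti
      (commutator_mono le_sup_right le_rfl))))

end Two

theorem pair (g : Vert p q G S M) (h : Vert p q' H S M') (spG : ∃ A, SP S A ∧ ¬ A ≤ pCoreOf p G)
    (spH : ∃ A, SP S A ∧ ¬ A ≤ pCoreOf p H)
    (hn : ¬ Zv p G ⊔ ⁅pCoreOf p G, 𝐎[p, G]⁆ ≤ pCoreOf p H) :
    Small p S (pCoreOf p H ⊓ 𝐂[𝐎[p, H]]) := by
  by_cases e : Zv p G ≤ pCoreOf p H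
  · have h1 : ¬ ⁅pCoreOf p G, 𝐎[p, G]⁆ ≤ pCoreOf p H := fun e' => hn (sup_le e e')
    have t : Two p q q' G H S M M' := ⟨g, h, e, fun e' => h1 (((commutator_mono le_rfl
      (pRes_le p G)).trans (le_normalizer_iff_commutator_le_left.1
        (le_normalizer_pCoreOf p G))).trans e'), spG, spH⟩
    exact t.small fun nV => h1 (t.commutator_le nV)
  have h1 := h.cover g.cdZ e
  have h2 : ⁅Zv p G, pCoreOf p H⁆ ≤ S ⊓ 𝐂[S] := (commutator_mono le_rfl h.core_le).trans g.commutator_Zv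
  refine fin h g.Zv_le' (fun b hb => Zv_pow hb) (Zv_comm G) (by rw [sup_comm, h1]) (Zv_le H)
    (h.toLoc.commutator_pRes_le (le_normalizer_Zv H) (g.Zv_le'.trans h.syl.le) h1.ge
      (h2.trans h.center_le)).1 (commutator_le_of_cent (Zv_le_centralizer H))
    (fun w hw => by rw [Zv_pow hw]; exact one_mem _) (commutator_le_of_cent ?_)
    fun a ha z hz _ z' hz' => ?_
  · rw [Subgroup.commutator_comm]
    exact h2.trans (inf_le_right.trans (Amb.centralizer_anti g.Zv_le'))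
  · rw [commutatorElement_eq_one_iff_mul_comm.2
      ((h2 (commutator_mem_commutator hz ha)).2 z' (g.Zv_le' hz')).symm]
    exact one_mem _

end Cfsg.Agent.PLocal.GN
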