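import Cfsg.Agent.PLocal.GNLat
import Cfsg.Agent.PLocal.StellGrp

/-! A rank one pushing up group whose Sylow subgroup lies in its own Chermak–Delgado lattice. -/

set_option autoImplicit false

namespace Cfsg.Agent.PLocal.GN

open Subgroup Cfsg Cfsg.Agent.PLocal.Amb Cfsg.Agent.PLocal.Stell Cfsg.Agent.PLocal.CommMod
open scoped commutatorElement

variable {X Y : Type*} [Group X] [Group Y] {p q : ℕ}

/-- self-perpendicular members of the lattice -/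
structure SP (S A : Subgroup X) : Prop where
  cd : CD S A
  perp : S ⊓ 𝐂[A] = A

theorem SP.comm {S A : Subgroup X} (h : SP S A) : A ≤ 𝐂[A] := h.perp.ge.trans inf_le_right

theorem SP.map {S A : Subgroup X} (h : SP S A) {f : X →* Y} (hf : Function.Injective f) :
    SP (S.map f) (A.map f) :=
  ⟨h.cd.map hf, by rw [← map_inf_centralizer_of_injective hf, h.perp]⟩

theorem SP.cj {S A : Subgroup X} (h : SP S A) (g : X) : SP cj(g, S) cj(g, A) :=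
  h.map (MulAut.conj g).injective

structure Vert (p q : ℕ) (G S M : Subgroup X) : Prop extends Loc p q G S M where
  cd : CD S S
  zv : pCoreOf p G ⊓ 𝐂[pCoreOf p G] ≤ Zv p G

variable [Finite X] [hp : Fact p.Prime]

theorem coprime_step {T R U W : Subgroup X} (hT : IsPGroup p T) (hR : R ≤ 𝐍[T])
    (hc : (Nat.card R).Coprime p) (h1 : ⁅T, R⁆ ≤ W) (h2 : ⁅W, R⁆ ≤ U) : ⁅T, R⁆ ≤ U := by
  have := hT.isNilpotent
  obtain ⟨n, hn⟩ := hT.exists_card_eq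
  rw [← Solv.coprime_commutator_commutator R T hR (by rw [hn]; exact hc.pow_right n)
    (Or.inr inferInstance)]
  exact (commutator_mono h1 le_rfl).trans h2

/-- `[T, E] ≤ U` from a two step series -/
theorem coprime_step_pRes {T L U W : Subgroup X} (hT : IsPGroup p T) (hL : L ≤ 𝐍[T]) (hU : L ≤ 𝐍[U])
    (h1 : ⁅T, 𝐎[p, L]⁆ ≤ W) (h2 : ⁅W, 𝐎[p, L]⁆ ≤ U) : ⁅T, 𝐎[p, L]⁆ ≤ U := by
  rw [Subgroup.commutator_comm]
  refine (le_centMod.1 (pRes_le_iff.2 fun g hg hc => ?_)).2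
  have h3 : zpowers g ≤ 𝐎[p, L] := zpowers_le_of_mem (mem_pRes hg hc)
  have h4 := coprime_step (U := U) (W := W) hT ((zpowers_le_of_mem hg).trans hL)
    (by rwa [Nat.card_zpowers]) ((commutator_mono le_rfl h3).trans h1)
    ((commutator_mono le_rfl h3).trans h2)
  rw [Subgroup.commutator_comm] at h4
  exact ⟨hU hg, fun y hy => h4 (commutator_mem_commutator (mem_zpowers g) hy)⟩

namespace Vert

variable {G S M R A U : Subgroup X}

theorem map [Finite Y] (h : Vert p q G S M) {f : X →* Y} (hf : Function.Injective f) :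
    Vert p q (G.map f) (S.map f) (M.map f) :=
  ⟨h.toLoc.map hf, h.cd.map hf, by
    rw [pCoreOf_map hf, Zv_map hf, ← map_inf_centralizer_of_injective hf]
    exact map_mono h.zv⟩

theorem conj (h : Vert p q G S M) {g : X} (hg : g ∈ G) : Vert p q G cj(g, S) cj(g, M) := by
  have := h.map (f := (MulAut.conj g).toMonoidHom) (MulAut.conj g).injective
  rwa [cj_of_mem hg] at this

omit [Finite X] hp in
theorem perp_core (h : Vert p q G S M) : S ⊓ 𝐂[pCoreOf p G] = Zv p G :=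
  le_antisymm (fun _ hx => h.zv ⟨h.charP ⟨h.syl.le hx.1, hx.2⟩, hx.2⟩)
    (le_inf h.Zv_le' (Zv_le_centralizer G))

omit [Finite X] hp in
theorem core_perp (h : Vert p q G S M) : pCoreOf p G ⊓ 𝐂[pCoreOf p G] = Zv p G :=
  le_antisymm h.zv (le_inf (Zv_le G) (Zv_le_centralizer G))

omit [Finite X] hp in
theorem center_le (h : Vert p q G S M) : S ⊓ 𝐂[S] ≤ Zv p G :=
  h.perp_core ▸ inf_le_inf_left _ (Amb.centralizer_anti h.core_le)

omit [Finite X] hp in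
theorem Zv_inf (h : Vert p q G S M) : Zv p G ⊓ 𝐂[S] = S ⊓ 𝐂[S] :=
  le_antisymm (inf_le_inf_right _ h.Zv_le') (le_inf h.center_le inf_le_right)

omit [Finite X] hp in
theorem perp_Zv (h : Vert p q G S M) : S ⊓ 𝐂[Zv p G] = pCoreOf p G :=
  le_antisymm h.inf_centralizer_le (le_inf h.core_le (core_le_centralizer G))

omit hp in
theorem cdT (h : Vert p q G S M) : CD S (pCoreOf p G) := by
  refine h.cd.of_card h.core_le (le_of_eq ?_)
  rw [h.perp_core, h.card_Zv, h.Zv_inf, ← h.card]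
  ring

omit hp in
theorem cdZ (h : Vert p q G S M) : CD S (Zv p G) := h.perp_core ▸ h.cdT.perp

omit hp in
theorem cover (h : Vert p q G S M) (hR : CD S R) (hn : ¬ R ≤ pCoreOf p G) :
    R ⊔ pCoreOf p G = S := by
  refine le_antisymm (sup_le hR.le h.core_le) ((hR.sup h.cdT).le_of_perp le_rfl ?_)
  obtain ⟨a, ha, haT⟩ := SetLike.not_le_iff_exists.1 hn
  intro u hu
  rw [Amb.centralizer_sup] at hu
  refine h.mem_centralizer (h.perp_core.le ⟨hu.1, hu.2.2⟩) (hR.le ha) haT ?_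
  rw [SL2Nat.comm_eq_one_of_mem_centralizer ha hu.2.1]
  exact one_mem _

omit hp in
theorem Zv_le_iff (h : Vert p q G S M) (hR : CD S R) : Zv p G ≤ R ↔ S ⊓ 𝐂[R] ≤ pCoreOf p G :=
  ⟨fun e => h.perp_Zv ▸ inf_le_inf_left _ (Amb.centralizer_anti e),
    fun e => hR.le_of_perp h.Zv_le' (e.trans (core_le_centralizer G))⟩

omit hp in
theorem cover' (h : Vert p q G S M) (hR : CD S R) (hn : ¬ Zv p G ≤ R) : R ⊓ Zv p G ≤ 𝐂[S] := by
  have h1 := h.cover hR.perp (mt (h.Zv_le_iff hR).2 hn)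
  rw [← h1, Amb.centralizer_sup]
  exact le_inf (inf_le_left.trans (le_centralizer_iff.1 inf_le_right))
    (inf_le_right.trans (Zv_le_centralizer G))

omit hp in
theorem up (h : Vert p q G S M) (hR : CD (pCoreOf p G) R) : CD S R :=
  h.cdT.up (h.perp_core.le.trans (Zv_le G)) hR

omit hp in
theorem down (h : Vert p q G S M) (hR : CD S R) (h1 : Zv p G ≤ R) (h2 : R ≤ pCoreOf p G) :
    CD (pCoreOf p G) R := h.cdT.down hR (h.perp_core.le.trans h1) h2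

omit hp in
theorem Zv_le_of (h : Vert p q G S M) (hR : CD (pCoreOf p G) R) : Zv p G ≤ R :=
  h.core_perp ▸ hR.center_le

omit [Finite X] hp in
theorem conj_core (hR : CD (pCoreOf p G) R) {g : X} (hg : g ∈ G) : CD (pCoreOf p G) cj(g, R) :=
  hR.cj_of_mem (le_normalizer_pCoreOf p G hg)

omit hp in
theorem perp_eq (h : Vert p q G S M) (hZ : Zv p G ≤ R) : S ⊓ 𝐂[R] = pCoreOf p G ⊓ 𝐂[R] :=
  le_antisymm (le_inf (h.perp_Zv ▸ inf_le_inf_left _ (Amb.centralizer_anti hZ)) inf_le_right)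
    (inf_le_inf_right _ h.core_le)

omit hp in
theorem sp_down (h : Vert p q G S M) (hA : SP S A) (hAT : A ≤ pCoreOf p G) : SP (pCoreOf p G) A := by
  have h1 : Zv p G ≤ A := (h.Zv_le_iff hA.cd).2 (hA.perp.le.trans hAT)
  exact ⟨h.down hA.cd h1 hAT, by rw [← h.perp_eq h1, hA.perp]⟩

omit hp in
theorem sp_up (h : Vert p q G S M) (hA : SP (pCoreOf p G) A) : SP S A :=
  ⟨h.up hA.cd, by rw [h.perp_eq (h.Zv_le_of hA.cd), hA.perp]⟩

omit hp in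
theorem star (h : Vert p q G S M) (hA : SP S A) :
    SP (pCoreOf p G) ((A ⊓ pCoreOf p G) ⊔ Zv p G) := by
  refine h.sp_down ⟨(hA.cd.inf h.cdT).sup h.cdZ, ?_⟩ (sup_le inf_le_right (Zv_le G))
  rw [Amb.centralizer_sup, ← inf_assoc, hA.cd.perp_inf h.cdT, hA.perp, h.perp_core,
    show (A ⊔ Zv p G) ⊓ 𝐂[Zv p G] = (Zv p G ⊔ A) ⊓ pCoreOf p G from ?_,
    h.cdZ.sup_inf hA.cd (Zv_le G), sup_comm]
  rw [sup_comm, ← h.perp_Zv, ← inf_assoc, inf_eq_left.2 (sup_le h.Zv_le' hA.cd.le)]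

omit hp in
theorem inv (h : Vert p q G S M) (hA : CD S A) (hR : CD (pCoreOf p G) R)
    (hAR : A ⊓ pCoreOf p G ≤ R) : A ≤ 𝐍[R] := by
  have h1 : (R ⊔ A) ⊓ pCoreOf p G = R := by
    rw [(h.up hR).sup_inf hA hR.le, sup_eq_left.2 hAR]
  rw [← h1]
  exact le_normalizer_inf (le_sup_right.trans le_normalizer)
    ((hA.le.trans h.syl.le).trans (le_normalizer_pCoreOf p G))

omit hp in
theorem xt (h : Vert p q G S M) (hA : CD S A) (hU : CD (pCoreOf p G) U)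
    (hAU : A ⊓ pCoreOf p G ≤ U) {t : X} (ht : t ∈ pCoreOf p G) :
    ∃ W, CD (pCoreOf p G) W ∧ U ≤ W ∧ (∀ a ∈ A, ⁅a, t⁆ ∈ W) ∧
      ∀ x ∈ W, ∃ u ∈ U, ∃ a ∈ A, x = u * ⁅a, t⁆ := by
  have hA' : CD S cj(t, A) := hA.cj_of_mem (le_normalizer (h.core_le ht))
  have h1 : CD S ((A ⊔ cj(t, A)) ⊓ pCoreOf p G) := (hA.sup hA').inf h.cdT
  have h2 : ∀ a ∈ A, ⁅a, t⁆ ∈ pCoreOf p G := fun a ha =>
    SL2Nat.comm_mem_of_normalizer (le_normalizer_pCoreOf p G (h.syl.le (hA.le ha))) ht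
  refine ⟨U ⊔ ((A ⊔ cj(t, A)) ⊓ pCoreOf p G), h.down ((h.up hU).sup h1)
    ((h.Zv_le_of hU).trans le_sup_left) (sup_le hU.le inf_le_right), le_sup_left, fun a ha => ?_,
    fun x hx => ?_⟩
  · refine mem_sup_right ⟨?_, h2 a ha⟩
    have : ⁅a, t⁆ = a * (t * a⁻¹ * t⁻¹) := by group
    rw [this]
    exact mul_mem_sup ha (conj_mem_cj t (A.inv_mem ha))
  · obtain ⟨u, hu, r, hr, rfl⟩ := (h.up hU).exists_mul h1 hx
    obtain ⟨a₁, ha₁, b, hb, rfl⟩ := hA.exists_mul hA' hr.1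
    obtain ⟨a₂, ha₂, rfl⟩ := mem_cj_iff_exists.1 hb
    have e : a₁ * (t * a₂ * t⁻¹) = a₁ * a₂ * ⁅a₂⁻¹, t⁆ := by group
    refine ⟨u * (a₁ * a₂), U.mul_mem hu (hAU ⟨A.mul_mem ha₁ ha₂, ?_⟩), a₂⁻¹, A.inv_mem ha₂, by
      rw [e, mul_assoc u]⟩
    have h3 := hr.2
    rw [e] at h3
    exact (Subgroup.mul_mem_cancel_right _ (h2 _ (A.inv_mem ha₂))).1 h3

omit hp in
theorem step (h : Vert p q G S M) (hA : CD S A) (hU : CD (pCoreOf p G) U)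
    (hAU : A ⊓ pCoreOf p G ≤ U) {L Y₀ Y₁ : Subgroup X} (hAL : A ≤ L)
    (hL : ∀ W, CD (pCoreOf p G) W → U ≤ W → L ≤ 𝐍[W]) (h0 : U ≤ Y₀) (h01 : Y₀ ≤ Y₁)
    (h1 : Y₁ ≤ pCoreOf p G ⊓ 𝐍[Y₀]) (n0 : L ≤ 𝐍[Y₀]) (n1 : L ≤ 𝐍[Y₁])
    (hmin : ∀ W, Y₀ ≤ W → W ≤ Y₁ → L ≤ 𝐍[W] → W ≤ Y₀ ∨ Y₁ ≤ W) : ⁅A, Y₁⁆ ≤ Y₀ := by
  refine commutator_le.2 fun a ha t ht => ?_
  obtain ⟨W, hW, hUW, hW1, hW2⟩ := h.xt hA hU hAU (h1 ht).1
  have hWY : W ≤ Y₁ := fun x hx => by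
    obtain ⟨u, hu, b, hb, rfl⟩ := hW2 x hx
    exact Y₁.mul_mem (h01 (h0 hu)) (SL2Nat.comm_mem_of_normalizer (n1 (hAL hb)) ht)
  rcases hmin (Y₀ ⊔ W) le_sup_left (sup_le h01 hWY) (le_normalizer_sup n0 (hL W hW hUW)) with e | e
  · exact e (mem_sup_right (hW1 a ha))
  · obtain ⟨y, hy, x, hx, e'⟩ := (mem_sup_of_le_normalizer_left
      ((hWY.trans h1).trans inf_le_right)).1 (e (Y₁.inv_mem ht))
    obtain ⟨u, hu, b, hb, rfl⟩ := hW2 x hx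
    have h2 : t = b⁻¹ * (y * u)⁻¹ * b := by
      have : (y * u)⁻¹ = b * t * b⁻¹ := by
        rw [inv_eq_iff_mul_eq_one]
        calc y * u * (b * t * b⁻¹) = y * (u * ⁅b, t⁆) * t := by group
          _ = 1 := by rw [← e']; group
      rw [this]; group
    have h3 : t ∈ Y₀ := by
      rw [h2]
      exact inv_conj_mem_of_mem_normalizer (n0 (hAL hb)) (Y₀.inv_mem (Y₀.mul_mem hy (h0 hu)))
    exact SL2Nat.comm_mem_of_normalizer (n0 (hAL ha)) h3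

theorem commutator_pRes_le {S' M' B : Subgroup X} (h : Vert p q G S M) (h' : Vert p q G S' M')
    (hA : CD S A) (hB : CD S' B) (hU : CD (pCoreOf p G) U) (hAU : A ⊓ pCoreOf p G ≤ U)
    (hBU : B ⊓ pCoreOf p G ≤ U) : ⁅pCoreOf p G, 𝐎[p, A ⊔ B]⁆ ≤ U := by
  set T := pCoreOf p G with hT
  have hL : ∀ W, CD T W → U ≤ W → A ⊔ B ≤ 𝐍[W] := fun W hW e =>
    sup_le (h.inv hA hW (hAU.trans e)) (h'.inv hB hW (hBU.trans e))
  have hLT : A ⊔ B ≤ 𝐍[T] := hL T (h.down h.cdT (Zv_le G) le_rfl) hU.le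
  have hLU : A ⊔ B ≤ 𝐍[U] := hL U hU le_rfl
  obtain ⟨Y₀, ⟨h0, h0T, n0, c0⟩, hmax⟩ := exists_maximal_of_wellFoundedGT
    (fun W : Subgroup X => U ≤ W ∧ W ≤ T ∧ A ⊔ B ≤ 𝐍[W] ∧ ⁅W, 𝐎[p, A ⊔ B]⁆ ≤ U)
    ⟨U, le_rfl, hU.le, hLU, le_normalizer_iff_commutator_le_left.1 ((pRes_le _ _).trans hLU)⟩
  by_cases e : T ≤ Y₀
  · exact (commutator_mono e le_rfl).trans c0
  obtain ⟨Y₁, ⟨h01, h1, n1⟩, hmin⟩ := exists_minimal_of_wellFoundedLT
    (fun W : Subgroup X => Y₀ < W ∧ W ≤ T ⊓ 𝐍[Y₀] ∧ A ⊔ B ≤ 𝐍[W])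
    ⟨T ⊓ 𝐍[Y₀], lt_inf_normalizer (isPGroup_pCoreOf p G) (lt_of_le_not_ge h0T e), le_rfl,
      le_normalizer_inf hLT (le_normalizer_normalizer n0)⟩
  have hm : ∀ W, Y₀ ≤ W → W ≤ Y₁ → A ⊔ B ≤ 𝐍[W] → W ≤ Y₀ ∨ Y₁ ≤ W := fun W a b c => by
    by_cases e' : W ≤ Y₀
    · exact Or.inl e'
    · exact Or.inr (hmin ⟨lt_of_le_not_ge a e', b.trans h1, c⟩ b)
  have h2 : ⁅A ⊔ B, Y₁⁆ ≤ Y₀ := commutator_sup_le (le_sup_left.trans n0) (le_sup_right.trans n0)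
    (h.step hA hU hAU le_sup_left hL h0 h01.le h1 n0 n1 hm)
    (h'.step hB hU hBU le_sup_right hL h0 h01.le h1 n0 n1 hm)
  rw [Subgroup.commutator_comm] at h2
  have h3 : ⁅Y₁, 𝐎[p, A ⊔ B]⁆ ≤ U := coprime_step_pRes
    ((isPGroup_pCoreOf p G).to_le (h1.trans inf_le_left)) n1 hLU
    ((commutator_mono le_rfl (pRes_le _ _)).trans h2) c0
  exact absurd (hmax ⟨h0.trans h01.le, h1.trans inf_le_left, n1, h3⟩ h01.le) h01.not_ge

omit hp in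
/-- `A* ∩ B* = (A ∩ B) Z` -/
theorem star_inf (h : Vert p q G S M) (hA : SP S A) {g : X} (hg : g ∈ G) (hgM : g ∉ M) {x : X}
    (hx : x ∈ (A ⊓ pCoreOf p G) ⊔ Zv p G) (hx' : x ∈ cj(g, (A ⊓ pCoreOf p G) ⊔ Zv p G)) :
    ∃ d ∈ A ⊓ cj(g, A), ∃ z ∈ Zv p G, x = d * z := by
  have hn : ∀ B : Subgroup X, B ⊓ pCoreOf p G ≤ 𝐍[Zv p G] := fun B =>
    (inf_le_right.trans (pCoreOf_le p G)).trans (le_normalizer_Zv G)
  rw [cj_sup, cj_inf, cj_of_mem_normalizer (le_normalizer_pCoreOf p G hg),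
    cj_of_mem_normalizer (le_normalizer_Zv G hg)] at hx'
  obtain ⟨a, ha, z, hz, rfl⟩ := (mem_sup_of_le_normalizer_right (hn A)).1 hx
  obtain ⟨b, hb, z', hz', e⟩ := (mem_sup_of_le_normalizer_right (hn _)).1 hx'
  obtain ⟨u, hu, v, hv, e'⟩ := (h.ambOff hg hgM).exists_mul ((Zv p G).mul_mem hz' ((Zv p G).inv_mem hz))
  have hZA : Zv p G ⊓ 𝐂[S] ≤ A := h.Zv_inf.le.trans hA.cd.center_le
  have hv' : g * v * g⁻¹ ∈ Zv p G := Amb.conj_mem_of_mem_normalizer (le_normalizer_Zv G hg) hv.1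
  have e2 : a * u⁻¹ = b * (g * v * g⁻¹) := by
    have h1 : u * (g * v * g⁻¹) = (g * v * g⁻¹) * u := (Zv_comm G hv' u hu.1)
    calc a * u⁻¹ = a * z * z⁻¹ * u⁻¹ := by group
      _ = b * (z' * z⁻¹) * u⁻¹ := by rw [e]; group
      _ = _ := by rw [e', h1]; group
  refine ⟨a * u⁻¹, ⟨A.mul_mem ha.1 (A.inv_mem (hZA hu)), ?_⟩, u * z, (Zv p G).mul_mem hu.1 hz, by
    group⟩
  rw [e2]
  exact Subgroup.mul_mem _ hb.1 (conj_mem_cj g (hZA hv))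

/-- `A ∩ A ^ g` centralizes `O^p(G)`. -/
theorem inter_le (h : Vert p q G S M) (hA : SP S A) (hAT : ¬ A ≤ pCoreOf p G) {g : X} (hg : g ∈ G)
    (hgM : g ∉ M) : A ⊓ cj(g, A) ≤ 𝐂[𝐎[p, G]] := by
  set T := pCoreOf p G with hT
  have hgT : cj(g, T) = T := cj_of_mem_normalizer (le_normalizer_pCoreOf p G hg)
  have h' := h.conj hg
  have hB := hA.cj g
  have sA := h.star hA
  have sB : SP T cj(g, (A ⊓ T) ⊔ Zv p G) := by
    have := sA.cj g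
    rwa [hgT] at this
  have hU := sA.cd.sup sB.cd
  have hDT : A ⊓ cj(g, A) ≤ T := fun a ha =>
    h.ti hg hgM (hA.cd.le ha.1) (h.le (hA.cd.le (mem_cj.1 ha.2)))
  have hDU : A ⊓ cj(g, A) ≤ 𝐂[((A ⊓ T) ⊔ Zv p G ⊔ cj(g, (A ⊓ T) ⊔ Zv p G) : Subgroup X)] := by
    rw [Amb.centralizer_sup]
    refine le_inf ((le_inf inf_le_left hDT).trans (le_sup_left.trans sA.comm)) (le_trans ?_ sB.comm)
    rw [cj_sup, cj_inf, hgT]
    exact (le_inf inf_le_right hDT).trans le_sup_left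
  have h1 := h.commutator_pRes_le h' hA.cd hB.cd hU (le_sup_left.trans le_sup_left) (by
    rw [cj_sup, cj_inf, hgT]; exact le_sup_left.trans le_sup_right)
  set L := A ⊔ cj(g, A) with hL
  have hLG : L ≤ G := sup_le (hA.cd.le.trans h.syl.le) (hB.cd.le.trans h'.syl.le)
  have hLT : L ≤ 𝐍[T] := hLG.trans (le_normalizer_pCoreOf p G)
  obtain ⟨R, hR⟩ := exists_isSyl p L
  have hn : R ⊔ T ≤ 𝐍[(𝐎[p, L] ⊔ ⁅T, 𝐎[p, L]⁆ : Subgroup X)] := by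
    refine sup_le (hR.le.trans (le_normalizer_sup (le_normalizer_pRes p L)
      (le_normalizer_commutator hLT (le_normalizer_pRes p L)))) ?_
    refine le_normalizer_iff_commutator_le_right.2 ?_
    have n : T ≤ 𝐍[⁅T, 𝐎[p, L]⁆] := Solv.le_normalizer_commutator_left _ _
    exact commutator_sup_le' (le_sup_left.trans le_normalizer) (le_sup_right.trans le_normalizer)
      le_sup_right ((le_normalizer_iff_commutator_le_right.1 n).trans le_sup_right)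
  have hG : G ≤ (𝐎[p, L] ⊔ ⁅T, 𝐎[p, L]⁆) ⊔ (R ⊔ T) := by
    have h2 : L ≤ (𝐎[p, L] ⊔ ⁅T, 𝐎[p, L]⁆) ⊔ (R ⊔ T) :=
      hR.pRes_sup.ge.trans (sup_le_sup le_sup_left le_sup_left)
    have h3 : T ≤ (𝐎[p, L] ⊔ ⁅T, 𝐎[p, L]⁆) ⊔ (R ⊔ T) := le_sup_right.trans le_sup_right
    refine (h.gen' hg hgM).trans ?_
    rw [← h.cover hA.cd hAT, cj_sup, hgT]
    exact sup_le (sup_le (le_sup_left.trans h2) h3) (sup_le (le_sup_right.trans h2) h3)
  have h4 := (pRes_mono hG).trans (pRes_sup_le (isPGroup_sup hR.pgrp (isPGroup_pCoreOf p G)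
    (hR.le.trans hLT)) hn)
  refine le_trans ?_ (Amb.centralizer_anti h4)
  rw [Amb.centralizer_sup]
  refine le_inf (le_trans ?_ (Amb.centralizer_anti (pRes_le p L))) (hDU.trans (Amb.centralizer_anti h1))
  rw [hL, Amb.centralizer_sup]
  exact le_inf (inf_le_left.trans hA.comm) (inf_le_right.trans hB.comm)

theorem hstar (h : Vert p q G S M) (hA : SP S A) (hAT : ¬ A ≤ pCoreOf p G) {g : X} (hg : g ∈ G)
    (hgM : g ∉ M) (hR : CD (pCoreOf p G) R) {c : X} (hc : c ∈ cj(g, (A ⊓ pCoreOf p G) ⊔ Zv p G))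
    (hS : ∀ x ∈ R, ⁅x, c⁆ ∈ 𝐂[S]) {x : X} (hx : x ∈ R) : ⁅x, c⁆ ∈ 𝐂[G] := by
  set T := pCoreOf p G with hT
  have hgT : cj(g, T) = T := cj_of_mem_normalizer (le_normalizer_pCoreOf p G hg)
  have h' := h.conj hg
  have hB := hA.cj g
  rw [cj_sup, cj_inf, hgT, cj_of_mem_normalizer (le_normalizer_Zv G hg)] at hc
  have sB := h'.star hB
  obtain ⟨c', hc', z, hz, rfl⟩ := (mem_sup_of_le_normalizer_right
    ((inf_le_right.trans (pCoreOf_le p G)).trans (le_normalizer_Zv G))).1 hc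
  have e1 : ∀ y ∈ T, ⁅y, c' * z⁆ = ⁅y, c'⁆ := fun y hy => by
    have h1 : y * z = z * y := Zv_le_centralizer G hz y hy
    calc ⁅y, c' * z⁆ = y * c' * y⁻¹ * (y * z) * y⁻¹ * z⁻¹ * c'⁻¹ := by group
      _ = _ := by rw [h1]; group
  obtain ⟨a, ha, haT⟩ := SetLike.not_le_iff_exists.1 hAT
  set b := g * a * g⁻¹ with hb
  have hbB : b ∈ cj(g, A) := conj_mem_cj g ha
  have hbG : b ∈ G := h'.syl.le (hB.cd.le hbB)
  have hbM : b⁻¹ ∉ M := fun e => haT (h.ti (G.inv_mem hg) (fun e' => hgM (by simpa using M.inv_mem e'))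
    (hA.cd.le ha) (by simpa [hb] using M.inv_mem e))
  have hn := h'.inv hB.cd (hR.sup sB.cd) (le_sup_left.trans le_sup_right)
  obtain ⟨x', hx', β, hβ, e2⟩ := hR.exists_mul sB.cd
    (Amb.conj_mem_of_mem_normalizer (hn hbB) (mem_sup_left hx))
  have hbc : b * c' = c' * b := hB.comm hc'.1 b hbB
  have hβc : β * c' = c' * β := sB.comm (mem_sup_left hc') β hβ
  have e3 : b * ⁅x, c'⁆ * b⁻¹ = ⁅x', c'⁆ := by
    calc b * ⁅x, c'⁆ * b⁻¹ = (b * x * b⁻¹) * (b * c' * b⁻¹) * (b * x * b⁻¹)⁻¹ * (b * c' * b⁻¹)⁻¹ := by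
          group
      _ = x' * (β * c') * β⁻¹ * x'⁻¹ * c'⁻¹ := by rw [e2, hbc]; group
      _ = _ := by rw [hβc]; group
  rw [e1 x (hR.le hx)]
  refine Amb.centralizer_anti (h.gen' (G.inv_mem hbG) hbM) ?_
  rw [Amb.centralizer_sup, centralizer_cj]
  refine ⟨e1 x (hR.le hx) ▸ hS x hx, mem_cj.2 ?_⟩
  rw [inv_inv, e3, ← e1 x' (hR.le hx')]
  exact hS x' hx'

end Vert

end Cfsg.Agent.PLocal.GN
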