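import Mathlib
import Cfsg.Agent.PLocal.NatSyl
import Cfsg.Agent.S2553
import Cfsg.Agent.Class.SL2Sylow

/-!
# The case `q = 4`: natural `SL₂(4)` in `GL₄(2) ≅ A₈`
-/

set_option autoImplicit false

namespace Cfsg.Agent.PLocal.NatSyl

open Subgroup Equiv Equiv.Perm Cfsg.Agent.KSG Cfsg.Agent.PLocal.Amb
open scoped MatrixGroups

theorem perm8 {H K S : Subgroup (Perm (Fin 8))} (hH : H ≤ alternatingGroup _) (hKH : K ≤ H)
    (hK : Nat.card K = 60) (hp : ⁅K, K⁆ = K) {c : Perm (Fin 8)} (hc : orderOf c = 3)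
    (hcK : ∀ k ∈ K, k * c = c * k) (hS : IsSyl 2 S H)
    (hSK : S ≤ normalizer (K : Set (Perm (Fin 8)))) :
    H ≤ normalizer (K : Set (Perm (Fin 8))) ∨ Nonempty (H ≃* alternatingGroup (Fin 7)) := by
  have : Fact (Nat.Prime 5) := ⟨Nat.prime_five⟩
  obtain ⟨⟨x, hxK⟩, hx⟩ := exists_prime_orderOf_dvd_card' (G := K) 5 (by rw [hK]; norm_num)
  rw [← orderOf_coe] at hx
  replace hx : orderOf x = 5 := hx
  have hxc : IsCycle x := isCycle_of_prime_order' (hx ▸ Nat.prime_five) (by rw [hx]; simp)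
  have hΔ : x.support.card = 5 := hxc.orderOf.symm.trans hx
  have h1 : c.support ⊆ x.supportᶜ := fun a ha => Finset.mem_compl.2 fun h => mem_support.1 ha
    (S2553.fix_of_commute_coprime hxc (hcK x hxK).symm (q := 3) (hc ▸ pow_orderOf_eq_one c)
      (by rw [hx]; norm_num) (mem_support.1 h))
  have h3 : (x.supportᶜ).card = 3 := by rw [Finset.card_compl, hΔ]; rfl
  have hcc : IsCycle c := isCycle_of_prime_order (hc ▸ Nat.prime_three)
    (by have := Finset.card_le_card h1; omega)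
  have h2 : c.support = x.supportᶜ :=
    Finset.eq_of_subset_of_card_le h1 (by rw [h3, ← hcc.orderOf, hc])
  have hKA : K = altOn x.support := by
    refine eq_of_le_of_card_ge (fun k hk => mem_altOn.2 ⟨hH (hKH hk), fun a ha =>
      S2553.fix_of_commute_cycle hp hcc hcK (mem_support.1 (h2 ▸ Finset.mem_compl.2 ha)) k hk⟩) ?_
    obtain ⟨e⟩ := nonempty_altOn_equiv x.support
    rw [Nat.card_congr e.toEquiv, hK, hΔ, nat_card_alternatingGroup]
    simp [Nat.factorial]
  obtain ⟨D, hΔD, hD, -, hblk⟩ :=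
    (altFull_altOn.of_le (hKA ▸ hKH : altOn x.support ≤ H)).exists_block (by omega)
  have hD5 : 5 ≤ D.card := hΔ ▸ Finset.card_le_card hΔD
  have hD8 : D.card ≤ 8 := D.card_le_univ
  have hst : ∀ g ∈ H, ∀ a, g a ∈ D ↔ a ∈ D := fun g hg => by
    obtain ⟨w, hw, hw'⟩ : ∃ w ∈ D, g w ∈ D := by
      by_contra! h
      have e1 : Disjoint (D.image g) D := Finset.disjoint_left.2 fun a ha => by
        obtain ⟨w, hw, rfl⟩ := Finset.mem_image.1 ha
        exact h w hw
      have e2 : (D.image g ∪ D).card ≤ 8 := Finset.card_le_univ _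
      rw [Finset.card_union_of_disjoint e1, Finset.card_image_of_injective _ g.injective] at e2
      omega
    exact hblk g hg w hw hw'
  let M : SubMulAction S (Fin 8) :=
    { carrier := x.support
      smul_mem' := fun s a ha => by
        by_contra h
        have e := (mem_altOn.1 (hKA ▸ conj_mem_of_mem_normalizer (hSK s.2) hxK)).2 (s.1 a) h
        exact mem_support.1 ha (by simpa using e) }
  obtain ⟨d, hd⟩ := hS.pgrp.nonempty_fixed_point_of_prime_not_dvd_card M (by
    rw [show Nat.card M = x.support.card from Nat.card_eq_finsetCard x.support, hΔ]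
    norm_num)
  have hdD : d.1 ∈ D := hΔD d.2
  have horb : MulAction.orbit H d.1 = (D : Set (Fin 8)) := by
    ext e
    refine ⟨?_, fun he => ?_⟩
    · rintro ⟨g, rfl⟩
      exact (hst g g.2 _).2 hdD
    · by_cases hed : e = d.1
      · rw [hed]
        exact MulAction.mem_orbit_self _
      obtain ⟨f, hf, hf1, hf2⟩ := exists_ne_ne_of_card (X := D) (by omega) d.1 e
      exact ⟨⟨_, hD _ hdD _ he _ hf (Ne.symm hed) hf1.symm hf2.symm⟩,
        c3_apply_fst (Ne.symm hed) hf1.symm⟩
  have hodd : ¬ 2 ∣ D.card := fun h => hS.not_dvd_relIndex (h.trans (by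
    rw [← Set.ncard_coe_finset, ← horb, ← MulAction.index_stabilizer]
    exact index_dvd_of_le fun s hs => congrArg Subtype.val (hd ⟨s.1, hs⟩)))
  by_cases h5 : D.card = 5
  · obtain rfl : x.support = D := Finset.eq_of_subset_of_card_le hΔD (by omega)
    refine Or.inl fun g hg => mem_normalizer_fintype fun k hk => ?_
    rw [hKA] at hk ⊢
    exact conj_mem_altOn hk (hst g hg)
  have h7 : D.card = 7 := by omega
  have hHA : H = altOn D := by
    refine le_antisymm (fun g hg => mem_altOn.2 ⟨hH hg, fun a ha => ?_⟩) hD.altOn_le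
    exact Finset.card_le_one.1 (show Dᶜ.card ≤ 1 by rw [Finset.card_compl, h7]; rfl) _
      (Finset.mem_compl.2 (mt (hst g hg a).1 ha)) _ (Finset.mem_compl.2 ha)
  have e := nonempty_altOn_equiv D
  rw [h7] at e
  exact Or.inr (hHA ▸ e)

variable {G F : Type*} [Group G] [Field F] [DistribMulAction G (Fin 2 → F)]
  [FaithfulSMul G (Fin 2 → F)] {L S : Subgroup G}

theorem Nat2.four [Finite G] [Fintype F] [CharP F 2] (h : Nat2 F L) (h4 : Fintype.card F = 4)
    (hS : IsSyl 2 S ⊤) (hL : S ≤ normalizer (L : Set G)) (hLiso : Nonempty (L ≃* SL(2, F))) :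
    L.Normal ∨ Nonempty (G ≃* alternatingGroup (Fin 7)) := by
  let : Algebra (ZMod 2) F := ZMod.algebra F 2
  have : SMulCommClass G (ZMod 2) (Fin 2 → F) :=
    ⟨fun g r m => ZMod.map_smul (DistribSMul.toAddMonoidHom (Fin 2 → F) g) r m⟩
  have hr : Module.finrank (ZMod 2) (Fin 2 → F) = 4 := by
    have e := Module.card_eq_pow_finrank (K := ZMod 2) (V := Fin 2 → F)
    rw [Fintype.card_fun, h4, ZMod.card, Fintype.card_fin] at e
    exact Nat.pow_right_injective le_rfl (e.symm.trans rfl)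
  obtain ⟨Φ, -⟩ := S2551.exists_equiv
  let Ψ : (Module.End (ZMod 2) (Fin 2 → F))ˣ →* Perm (Fin 8) :=
    (alternatingGroup (Fin 8)).subtype.comp ((Matrix.GeneralLinearGroup.toLin'
      (Module.finBasisOfFinrankEq (ZMod 2) (Fin 2 → F) hr)).symm.trans Φ.symm).toMonoidHom
  have hΨ : Function.Injective Ψ := Subtype.val_injective.comp (MulEquiv.injective _)
  let γ : G →* (Module.End (ZMod 2) (Fin 2 → F))ˣ :=
    (DistribMulAction.toModuleEnd (ZMod 2) (Fin 2 → F)).toHomUnits
  let δ : Fˣ →* (Module.End (ZMod 2) (Fin 2 → F))ˣ :=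
    (DistribMulAction.toModuleEnd (ZMod 2) (Fin 2 → F)).toHomUnits
  have hγ : Function.Injective (Ψ.comp γ) := hΨ.comp fun a b e =>
    eq_of_smul (F := F) fun m => congrArg (fun u : (Module.End (ZMod 2) (Fin 2 → F))ˣ => u.1 m) e
  have hδ : Function.Injective (Ψ.comp δ) := hΨ.comp fun a b e => Units.ext (by
    simpa [δ, Units.smul_def] using
      congrArg (fun u : (Module.End (ZMod 2) (Fin 2 → F))ˣ => u.1 ![1, 0] 0) e)
  have : Fact (Nat.Prime 3) := ⟨Nat.prime_three⟩
  obtain ⟨ω, hω⟩ := exists_prime_orderOf_dvd_card' (G := Fˣ) 3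
    (by rw [Nat.card_units, Nat.card_eq_fintype_card, h4])
  obtain ⟨e⟩ := hLiso
  have hp : ⁅L, L⁆ = L := by
    have h1 : ω ^ 2 ≠ 1 := pow_ne_one_of_lt_orderOf two_ne_zero (by omega)
    have h2 := Matrix.SL2.commutator_eq_top ω.ne_zero fun e => h1 (Units.ext (by simpa using e))
    have h3 : commutator L = ⊤ := by
      rw [← map_equiv_top e.symm, ← h2, commutator_def, commutator_def, map_commutator,
        map_equiv_top]
    rw [← L.map_subtype_commutator, h3, ← MonoidHom.range_eq_map, range_subtype]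
  rcases perm8 (H := (⊤ : Subgroup G).map (Ψ.comp γ)) (K := L.map (Ψ.comp γ))
    (S := S.map (Ψ.comp γ)) (c := (Ψ.comp δ) ω) (by rintro _ ⟨g, -, rfl⟩; exact Subtype.prop _)
    (map_mono le_top) (by
      rw [card_map_of_injective hγ, Nat.card_congr e.toEquiv, Class.card_SL2, h4]
      rfl)
    (by rw [← map_commutator, hp]) ((orderOf_injective _ hδ ω).trans hω) (by
      rintro _ ⟨l, hl, rfl⟩
      obtain ⟨A, hA⟩ := h.act l hl
      change Ψ (γ l) * Ψ (δ ω) = Ψ (δ ω) * Ψ (γ l)
      rw [← map_mul, ← map_mul]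
      refine congrArg Ψ (Units.ext (LinearMap.ext fun m => ?_))
      change l • (ω • m) = ω • (l • m)
      rw [hA, hA, Units.smul_def, Units.smul_def, Matrix.mulVec_smul])
    (hS.map _) ((map_mono hL).trans (le_normalizer_map _)) with h1 | ⟨⟨e1⟩⟩
  · refine Or.inl ⟨fun n hn g => ?_⟩
    have h2 := conj_mem_of_mem_normalizer (h1 (mem_map_of_mem _ (mem_top g))) (mem_map_of_mem _ hn)
    rwa [← map_inv, ← map_mul, ← map_mul, mem_map_iff_mem hγ] at h2
  · exact Or.inr ⟨(topEquiv.symm.trans (equivMapOfInjective _ _ hγ)).trans e1⟩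

end Cfsg.Agent.PLocal.NatSyl
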