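import Cfsg.Agent.PLocal.TVMin

/-!
Weak versions `TI0`, `TIW` of `TIO` (no bound on arbitrary elementary abelian subgroups), with the
corresponding pairs `FW`.
-/

set_option autoImplicit false
set_option linter.unusedSectionVars false

namespace Cfsg.Agent.PLocal.TV

open Subgroup Cfsg Cfsg.Agent.PLocal.Amb Cfsg.Agent.PLocal
open scoped commutatorElement

variable {P : Type*} [Group P] {V : Type*} [AddCommGroup V] [DistribMulAction P V]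

variable (V) in
/-- The standing hypothesis on the family `𝒟`. -/
structure TI0 (p : ℕ) (𝒟 : Set (Subgroup P)) : Prop where
  faith : ∀ g : P, (∀ v : V, g • v = v) → g = 1
  exp : ∀ v : V, p • v = 0
  conj : ∀ g : P, ∀ A ∈ 𝒟, cj(g, A) ∈ 𝒟
  ne_bot : ∀ A ∈ 𝒟, A ≠ ⊥
  quad : ∀ A ∈ 𝒟, cm V A ≤ fx V A
  card : ∀ A ∈ 𝒟, Nat.card A * Nat.card (fx V A) = Nat.card V
  ti : ∀ A ∈ 𝒟, ∀ a ∈ A, a ≠ 1 → ∀ v : V, a • v = v → v ∈ fx V A

variable (V) in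
/-- `TI0` together with a condition on commuting members. -/
structure TIW (p : ℕ) (𝒟 : Set (Subgroup P)) : Prop extends TI0 V p 𝒟 where
  sup : ∀ A ∈ 𝒟, ∀ B ∈ 𝒟, A ≠ B → A ≤ 𝐂[B] → fx V A ⊔ fx V B = ⊤

namespace TI0

variable {p : ℕ} {𝒟 : Set (Subgroup P)} (h : TI0 V p 𝒟) {A B : Subgroup P}
include h

theorem isEA (hA : A ∈ 𝒟) : IsElementaryAbelian p A :=
  isEA_of_quad h.faith h.exp le_rfl (h.quad A hA)

theorem pgrp (hA : A ∈ 𝒟) : IsPGroup p A := isEA_isPGroup (h.isEA hA)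

theorem comm (hA : A ∈ 𝒟) : A ≤ 𝐂[A] :=
  le_cent_of_forall (isEA_iff.1 (h.isEA hA)).1

theorem dl_mem (hA : A ∈ 𝒟) {a : P} (ha : a ∈ A) (v : V) : dl a v ∈ fx V A :=
  h.quad A hA (dl_mem_cm ha v)

theorem dl_mul_eq (hA : A ∈ 𝒟) {a b : P} (ha : a ∈ A) (hb : b ∈ A) (v : V) :
    dl (a * b) v = dl a v + dl b v := dl_add_of_fixed (h.dl_mem hA hb v a ha)

theorem dl_inv_eq (hA : A ∈ 𝒟) {a : P} (ha : a ∈ A) (v : V) : dl a⁻¹ v = -dl a v := by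
  rw [dl_inv, h.dl_mem hA ha v _ (A.inv_mem ha)]

theorem exists_ne_one (hA : A ∈ 𝒟) : ∃ a ∈ A, a ≠ 1 := by
  obtain ⟨⟨a, ha⟩, h1⟩ := (ne_bot_iff_exists_ne_one).1 (h.ne_bot A hA)
  exact ⟨a, ha, fun e => h1 (Subtype.ext e)⟩

theorem fx_zpowers (hA : A ∈ 𝒟) {a : P} (ha : a ∈ A) (h1 : a ≠ 1) : fx V (zpowers a) = fx V A :=
  le_antisymm (fun v hv => h.ti A hA a ha h1 v (mem_fx_zpowers.1 hv)) (fx_anti (zpowers_le.2 ha))

variable [Finite P] [Finite V]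

theorem one_lt_card (hA : A ∈ 𝒟) : 1 < Nat.card A :=
  (one_lt_card_iff_ne_bot A).2 (h.ne_bot A hA)

theorem card_fx_eq (hA : A ∈ 𝒟) (hB : B ∈ 𝒟) (e : Nat.card A = Nat.card B) :
    Nat.card (fx V A) = Nat.card (fx V B) := by
  have h1 := h.card A hA
  rw [← h.card B hB, e] at h1
  exact Nat.eq_of_mul_eq_mul_left Nat.card_pos h1

theorem card_range (hA : A ∈ 𝒟) {a : P} (ha : a ∈ A) (h1 : a ≠ 1) :
    Nat.card (dl a : V →+ V).range = Nat.card A := by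
  have h2 := card_range_dl (V := V) a
  rw [h.fx_zpowers hA ha h1, ← h.card A hA] at h2
  exact Nat.eq_of_mul_eq_mul_right Nat.card_pos h2

/-- `|V : U ⊓ C_V(A)| ≤ |V : U| |A|`. -/
theorem card_le_inf (hA : A ∈ 𝒟) (U : AddSubgroup V) :
    Nat.card U ≤ Nat.card A * Nat.card ↥(U ⊓ fx V A) := by
  have h1 := card_mul_le_of_le (H := U) (K := fx V A) (L := ⊤) le_top le_top
  rw [AddSubgroup.card_top, ← h.card A hA, ← mul_assoc] at h1
  rw [mul_comm]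
  exact Nat.le_of_mul_le_mul_right h1 Nat.card_pos

theorem card_V_le (hA : A ∈ 𝒟) (hB : B ∈ 𝒟) :
    Nat.card V ≤ Nat.card A * Nat.card B * Nat.card ↥(fx V A ⊓ fx V B) := by
  rw [← h.card A hA, mul_assoc]
  exact Nat.mul_le_mul_left _ (h.card_le_inf hB _)

end TI0

namespace TIW

variable {p : ℕ} {𝒟 : Set (Subgroup P)} (h : TIW V p 𝒟) {A B : Subgroup P} [Finite P] [Finite V]
include h

theorem eq_of_fx_eq (hA : A ∈ 𝒟) (hB : B ∈ 𝒟) (e : fx V A = fx V B) : A = B := by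
  by_contra hne
  have k := h.sup A hA B hB hne (le_cent_of_forall fun a ha b hb => comm_of_quad h.faith
    (fun v => (e ▸ h.dl_mem hB hb v : dl b v ∈ fx V A) a ha)
    (fun v => (e ▸ h.dl_mem hA ha v : dl a v ∈ fx V B) b hb))
  rw [← e, sup_idem] at k
  exact h.ne_bot A hA (eq_bot_iff.2 fun a ha => h.faith a fun v => (k ▸ trivial : v ∈ fx V A) a ha)

theorem eq_of_fx_le (hA : A ∈ 𝒟) (hB : B ∈ 𝒟) (e : Nat.card A = Nat.card B)
    (hle : fx V A ≤ fx V B) : A = B :=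
  h.eq_of_fx_eq hA hB (add_eq_of_card_le hle (h.card_fx_eq hA hB e).ge)

theorem cj_eq_of_smul (hA : A ∈ 𝒟) {g : P} (hg : ∀ u ∈ fx V A, g • u ∈ fx V A) :
    cj(g, A) = A :=
  h.eq_of_fx_le (h.conj g A hA) hA (card_cj g A) fun u hu =>
    by simpa using hg _ (mem_fx_cj.1 hu)

theorem eq_of_mem (hA : A ∈ 𝒟) (hB : B ∈ 𝒟) {a : P} (ha : a ∈ A) (hb : a ∈ B) (h1 : a ≠ 1) :
    A = B :=
  h.eq_of_fx_eq hA hB (by rw [← h.fx_zpowers hA ha h1, h.fx_zpowers hB hb h1])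

theorem inf_eq_bot (hA : A ∈ 𝒟) (hB : B ∈ 𝒟) (hne : A ≠ B) : A ⊓ B = ⊥ := by
  rw [eq_bot_iff]
  intro a ha
  by_contra h1
  exact hne (h.eq_of_mem hA hB ha.1 ha.2 h1)

theorem cj_eq_of_comm (hA : A ∈ 𝒟) {g a : P} (ha : a ∈ A) (h1 : a ≠ 1) (hc : g * a = a * g) :
    cj(g, A) = A :=
  h.eq_of_mem (h.conj g A hA) hA
    (by have := conj_mem_cj g ha; rwa [hc, mul_inv_cancel_right] at this) ha h1

section Comm

variable (hA : A ∈ 𝒟) (hB : B ∈ 𝒟) (hne : A ≠ B) (hc : A ≤ 𝐂[B])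
include hA hB hne hc

theorem exists_add_of_comm (v : V) : ∃ x ∈ fx V A, ∃ y ∈ fx V B, x + y = v := by
  rw [← AddSubgroup.mem_sup, h.sup A hA B hB hne hc]; trivial

theorem dl_mem_of_comm {a : P} (ha : a ∈ A) (v : V) : dl a v ∈ fx V B := by
  obtain ⟨x, hx, y, hy, rfl⟩ := h.exists_add_of_comm hA hB hne hc v
  rw [map_add, dl_of_mem_fx ha hx, zero_add, dl_apply]
  exact (fx V B).sub_mem (smul_mem_fx (centralizer_le_normalizer' B (hc ha)) hy) hy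

theorem exists_dl_mul {a b : P} (ha : a ∈ A) (hb : b ∈ B) (v : V) :
    ∃ w ∈ fx V B, dl (a * b) w = dl a v := by
  obtain ⟨x, hx, y, hy, rfl⟩ := h.exists_add_of_comm hA hB hne hc v
  exact ⟨y, hy, by rw [dl_mul, dl_of_mem_fx hb hy, smul_zero, zero_add, map_add,
    dl_of_mem_fx ha hx, zero_add]⟩

end Comm

theorem dl_mem_of_comm' (hA : A ∈ 𝒟) (hB : B ∈ 𝒟) (hc : A ≤ 𝐂[B]) {a : P} (ha : a ∈ A) (v : V) :
    dl a v ∈ fx V B := by
  by_cases e : A = B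
  · exact e ▸ h.dl_mem hA ha v
  · exact h.dl_mem_of_comm hA hB e hc ha v

theorem cm_le_of_comm (hA : A ∈ 𝒟) (hB : B ∈ 𝒟) (hc : A ≤ 𝐂[B]) : cm V A ≤ fx V B :=
  cm_le_iff.2 fun _ ha v => h.dl_mem_of_comm' hA hB hc ha v

theorem cj_eq_of_cm_le (hB : B ∈ 𝒟) (hle : cm V A ≤ fx V B) {a : P} (ha : a ∈ A) :
    cj(a, B) = B :=
  h.cj_eq_of_smul hB fun u hu => smul_mem_of_dl_mem hu (hle (dl_mem_cm ha u))

/-- The key step of `comm_of_pgroup`. -/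
theorem cj_eq_of_conj_comm (hA : A ∈ 𝒟) (hB : B ∈ 𝒟)
    (h1 : ∀ b ∈ B, cj(b, A) ≤ 𝐂[A]) (h2 : ∀ a ∈ A, cj(a, B) ≤ 𝐂[B]) {b : P} (hb : b ∈ B) :
    cj(b, A) = A := by
  by_contra hne
  have hA' := h.conj b A hA
  -- `[V, A] ≤ C_V(B)`
  have k1 : cm V A ≤ fx V B := by
    rw [cm_le_iff]
    intro a ha v
    obtain ⟨w, -, hw⟩ := h.exists_dl_mul hA hA' (Ne.symm hne) (cent_symm (h1 b hb)) ha
      (conj_mem_cj b (A.inv_mem ha)) v
    rw [← hw]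
    have e : a * (b * a⁻¹ * b⁻¹) = (a * b * a⁻¹) * b⁻¹ := by group
    rw [e, dl_mul']
    exact (fx V B).add_mem
      (h.dl_mem_of_comm' (h.conj a B hB) hB (h2 a ha) (conj_mem_cj a hb) _)
      (h.dl_mem hB (B.inv_mem hb) _)
  have k2 : ∀ a ∈ A, a * b * a⁻¹ * b⁻¹ ∈ B := fun a ha =>
    B.mul_mem (by have := conj_mem_cj a hb; rwa [h.cj_eq_of_cm_le hB k1 ha] at this) (B.inv_mem hb)
  have k3 : ∀ a ∈ A, a * b * a⁻¹ * b⁻¹ = 1 → a = 1 := fun a ha e => by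
    by_contra ha1
    refine hne (h.cj_eq_of_comm hA ha ha1 ?_)
    have : a * b * a⁻¹ * b⁻¹ * (b * a) = b * a := by rw [e, one_mul]
    rw [← this]; group
  -- `|B| ≤ |A|`
  have k4 : Nat.card B ≤ Nat.card A := by
    obtain ⟨a, ha, ha1⟩ := h.exists_ne_one hA
    rw [← h.card_range hB (k2 a ha) (fun e => ha1 (k3 a ha e)), ← h.card_range hA ha ha1]
    apply card_add_le
    rintro _ ⟨v, rfl⟩
    have e : a * b * a⁻¹ * b⁻¹ = a * (b * a⁻¹ * b⁻¹) := by group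
    rw [e, dl_mul', dl_conj, k1 (dl_mem_cm (A.inv_mem ha) _) b hb, h.dl_inv_eq hA ha]
    exact AddSubgroup.add_mem _ ⟨_, rfl⟩ (AddSubgroup.neg_mem _ ⟨_, rfl⟩)
  let f : A → B := fun a => ⟨(a : P) * b * (a : P)⁻¹ * b⁻¹, k2 a a.2⟩
  have hf : Function.Injective f := fun a a' e => by
    have e1 : (a : P) * b * (a : P)⁻¹ * b⁻¹ = (a' : P) * b * (a' : P)⁻¹ * b⁻¹ :=
      congrArg Subtype.val e
    have e2 : ((a' : P)⁻¹ * a) * b * ((a' : P)⁻¹ * a)⁻¹ * b⁻¹ = 1 := by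
      have e3 : (a : P) * b * (a : P)⁻¹ = a' * b * (a' : P)⁻¹ := mul_right_cancel e1
      calc _ = (a' : P)⁻¹ * ((a : P) * b * (a : P)⁻¹) * a' * b⁻¹ := by group
        _ = 1 := by rw [e3]; group
    have := k3 _ (A.mul_mem (A.inv_mem a'.2) a.2) e2
    exact Subtype.ext (inv_mul_eq_one.1 this).symm
  have hs : Function.Surjective f := (hf.bijective_of_nat_card_le k4).2
  obtain ⟨a, ha⟩ := hs ⟨b⁻¹, B.inv_mem hb⟩
  have e1 : (a : P) * b * (a : P)⁻¹ * b⁻¹ = b⁻¹ := congrArg Subtype.val ha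
  have e2 : b = 1 := by
    have e3 : (a : P) * b * (a : P)⁻¹ = 1 := by
      have := mul_right_cancel (e1.trans (one_mul _).symm); exact this
    calc b = (a : P)⁻¹ * ((a : P) * b * (a : P)⁻¹) * a := by group
      _ = 1 := by rw [e3]; group
  exact hne (by rw [e2, cj_one])

theorem comm_of_normalizes (hA : A ∈ 𝒟) (hB : B ∈ 𝒟) (h1 : ∀ b ∈ B, cj(b, A) = A)
    (h2 : ∀ a ∈ A, cj(a, B) = B) : A ≤ 𝐂[B] := by
  by_cases e : A = B
  · exact e ▸ h.comm hA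
  refine le_cent_of_forall fun a ha b hb => ?_
  have k : a * b * a⁻¹ * b⁻¹ ∈ A ⊓ B := by
    refine ⟨?_, B.mul_mem (h2 a ha ▸ conj_mem_cj a hb) (B.inv_mem hb)⟩
    have e : a * b * a⁻¹ * b⁻¹ = a * (b * a⁻¹ * b⁻¹) := by group
    rw [e]; exact A.mul_mem ha (h1 b hb ▸ conj_mem_cj b (A.inv_mem ha))
  rw [h.inf_eq_bot hA hB e, mem_bot] at k
  have : a * b * a⁻¹ * b⁻¹ * (b * a) = b * a := by rw [k, one_mul]
  rw [← this]; group

/-- Two members of `𝒟` generating a `p`-group commute. -/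
theorem comm_of_pgroup [Fact p.Prime] {R : Subgroup P} (hR : IsPGroup p R) :
    ∀ {A B : Subgroup P}, A ∈ 𝒟 → B ∈ 𝒟 → A ≤ R → B ≤ R → A ≤ 𝐂[B] := by
  induction R using WellFoundedLT.induction with
  | _ R ih =>
  have key : ∀ A ∈ 𝒟, A ≤ R → ∀ r ∈ R, cj(r, A) ≤ 𝐂[A] := fun A hA hAR r hr => by
    rcases hAR.eq_or_lt with e | hlt
    · rw [cj_of_mem (e ▸ hr)]; exact h.comm hA
    obtain ⟨M, ⟨hM1, hM2⟩, hmax⟩ := (wellFounded_gt (α := Subgroup P)).has_min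
      {M | A ≤ M ∧ M < R} ⟨A, le_rfl, hlt⟩
    have hn : R ≤ 𝐍[M] := by
      have k := lt_inf_normalizer hR hM2
      by_contra k2
      exact hmax _ ⟨hM1.trans k.le, lt_of_le_not_ge inf_le_left fun k3 => k2 (k3.trans inf_le_right)⟩ k
    exact ih M hM2 (hR.to_le hM2.le) (h.conj r A hA) hA (cj_le_of_mem_normalizer hM1 (hn hr)) hM1
  intro A B hA hB hAR hBR
  exact h.comm_of_normalizes hA hB
    (fun b hb => h.cj_eq_of_conj_comm hA hB (fun b hb => key A hA hAR b (hBR hb))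
      (fun a ha => key B hB hBR a (hAR ha)) hb)
    (fun a ha => h.cj_eq_of_conj_comm hB hA (fun a ha => key B hB hBR a (hAR ha))
      (fun b hb => key A hA hAR b (hBR hb)) ha)

theorem comm_of_cm_le [Fact p.Prime] (hA : A ∈ 𝒟) (hB : B ∈ 𝒟) (hle : cm V A ≤ fx V B) :
    A ≤ 𝐂[B] :=
  h.comm_of_pgroup (isPGroup_sup (h.pgrp hA) (h.pgrp hB)
    fun _ ha => cj_eq_iff.1 (h.cj_eq_of_cm_le hB hle ha)) hA hB le_sup_left le_sup_right

end TIW

variable (V) in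
/-- A pair of members of `𝒟` in general position. -/
structure FW (𝒟 : Set (Subgroup P)) (A B : Subgroup P) : Prop where
  memA : A ∈ 𝒟
  memB : B ∈ 𝒟
  card : Nat.card A = Nat.card B
  ne : fx V A ≠ fx V B
  injA : ∀ a ∈ A, ∀ u ∈ fx V B, a • u ∈ fx V B → u ∉ fx V A → a = 1
  injB : ∀ b ∈ B, ∀ u ∈ fx V A, b • u ∈ fx V A → u ∉ fx V B → b = 1

variable {p : ℕ} {𝒟 : Set (Subgroup P)} {A B : Subgroup P}

/-- The injection `A × (H_A ∩ U) → H_A`. -/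
theorem TI0.inj_aux (h : TI0 V p 𝒟) (hA : A ∈ 𝒟) {U : AddSubgroup V} {u : V}
    (hu : ∀ a ∈ A, dl a u ∈ U → a = 1) :
    Function.Injective fun x : A × ↥(fx V A ⊓ U) =>
      (⟨dl (x.1 : P) u + x.2, (fx V A).add_mem (h.dl_mem hA x.1.2 u) x.2.2.1⟩ : fx V A) := by
  rintro ⟨a, d⟩ ⟨a', d'⟩ e
  have e1 : dl (a : P) u + d = dl (a' : P) u + d' := congrArg Subtype.val e
  have e2 : dl ((a : P) * (a' : P)⁻¹) u = d' - d := by
    rw [h.dl_mul_eq hA a.2 (A.inv_mem a'.2), h.dl_inv_eq hA a'.2]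
    rw [← sub_eq_zero] at e1 ⊢
    rw [← e1]; abel
  have e3 := hu _ (A.mul_mem a.2 (A.inv_mem a'.2)) (e2 ▸ U.sub_mem d'.2.2 d.2.2)
  have e4 : a = a' := Subtype.ext (mul_inv_eq_one.1 e3)
  subst e4
  exact Prod.ext rfl (Subtype.ext (add_left_cancel e1))

theorem TI0.card_mul_inf_le [Finite V] (h : TI0 V p 𝒟) (hA : A ∈ 𝒟) {U : AddSubgroup V} {u : V}
    (hu : ∀ a ∈ A, dl a u ∈ U → a = 1) :
    Nat.card A * Nat.card ↥(fx V A ⊓ U) ≤ Nat.card (fx V A) := by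
  rw [← Nat.card_prod]
  exact Nat.card_le_card_of_injective _ (h.inj_aux hA hu)

theorem TI0.surj_aux [Finite P] [Finite V] (h : TI0 V p 𝒟) (hA : A ∈ 𝒟) {U : AddSubgroup V} {u : V}
    (hu : ∀ a ∈ A, dl a u ∈ U → a = 1)
    (hc : Nat.card (fx V A) ≤ Nat.card A * Nat.card ↥(fx V A ⊓ U)) {x : V} (hx : x ∈ fx V A) :
    ∃ a ∈ A, dl a u - x ∈ U := by
  rw [← Nat.card_prod] at hc
  obtain ⟨⟨a, d⟩, e⟩ := ((h.inj_aux hA hu).bijective_of_nat_card_le hc).2 ⟨x, hx⟩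
  have e1 : dl (a : P) u + d = x := congrArg Subtype.val e
  refine ⟨a, a.2, ?_⟩
  rw [← e1, sub_add_cancel_left]
  exact U.neg_mem d.2.2

namespace FW

theorem symm (f : FW V 𝒟 A B) : FW V 𝒟 B A :=
  ⟨f.memB, f.memA, f.card.symm, f.ne.symm, f.injB, f.injA⟩

theorem cj (h : TI0 V p 𝒟) (f : FW V 𝒟 A B) (g : P) : FW V 𝒟 cj(g, A) cj(g, B) := by
  have k : ∀ {A B : Subgroup P}, (∀ a ∈ A, ∀ u ∈ fx V B, a • u ∈ fx V B → u ∉ fx V A → a = 1) →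
      ∀ a ∈ cj(g, A), ∀ u ∈ fx V cj(g, B), a • u ∈ fx V cj(g, B) → u ∉ fx V cj(g, A) → a = 1 := by
    intro A B f a ha u hu h1 h2
    rw [mem_fx_cj] at hu h1 h2
    have := f _ (mem_cj.1 ha) _ hu (by rwa [mul_smul, mul_smul, smul_inv_smul]) h2
    calc a = g * (g⁻¹ * a * g) * g⁻¹ := by group
      _ = 1 := by rw [this]; group
  exact ⟨h.conj g A f.memA, h.conj g B f.memB, by rw [card_cj, card_cj, f.card],
    fun e => f.ne (AddSubgroup.ext fun v => by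
      rw [← smul_mem_fx_cj (g := g), e, smul_mem_fx_cj]), k f.injA, k f.injB⟩

variable [Finite P] [Finite V] (h : TI0 V p 𝒟) (f : FW V 𝒟 A B)
include h f

theorem exists_not_mem : ∃ u ∈ fx V B, u ∉ fx V A := by
  by_contra k
  push Not at k
  exact f.ne (add_eq_of_card_le k (h.card_fx_eq f.memA f.memB f.card).le).symm

theorem inj0 {u : V} (hu : u ∈ fx V B) (hu' : u ∉ fx V A) : ∀ a ∈ A, dl a u ∈ fx V B → a = 1 :=
  fun a ha k => f.injA a ha u hu (smul_mem_of_dl_mem hu k) hu'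

theorem card_inf : Nat.card A * Nat.card ↥(fx V A ⊓ fx V B) = Nat.card (fx V A) := by
  obtain ⟨u, hu, hu'⟩ := f.exists_not_mem h
  refine le_antisymm (h.card_mul_inf_le f.memA (f.inj0 h hu hu')) ?_
  rw [f.card]; exact h.card_le_inf f.memB _

theorem card_inf' :
    Nat.card A * Nat.card A * Nat.card ↥(fx V A ⊓ fx V B) = Nat.card V := by
  rw [mul_assoc, f.card_inf h, h.card A f.memA]

theorem sup_eq_top : fx V A ⊔ fx V B = ⊤ := by
  apply add_eq_top_of_card_le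
  have h1 := card_add_eq (fx V A) (fx V B)
  rw [← f.card_inf h, mul_comm (Nat.card A), mul_assoc, f.card, h.card B f.memB] at h1
  exact (Nat.eq_of_mul_eq_mul_left Nat.card_pos h1).le

theorem exists_add (v : V) : ∃ x ∈ fx V A, ∃ y ∈ fx V B, x + y = v := by
  rw [← AddSubgroup.mem_sup, f.sup_eq_top h]; trivial

theorem inj {u : V} (hu : u ∉ fx V A) {a : P} (ha : a ∈ A) (k : dl a u ∈ fx V B) : a = 1 := by
  obtain ⟨x, hx, y, hy, rfl⟩ := f.exists_add h u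
  rw [map_add, dl_of_mem_fx ha hx, zero_add] at k
  exact f.inj0 h hy (fun k2 => hu ((fx V A).add_mem hx k2)) a ha k

theorem surj {u : V} (hu : u ∉ fx V A) {x : V} (hx : x ∈ fx V A) :
    ∃ a ∈ A, dl a u - x ∈ fx V B :=
  h.surj_aux f.memA (fun _ ha k => f.inj h hu ha k) (f.card_inf h).ge hx

theorem exists_smul_mem {u : V} (hu : u ∉ fx V A) : ∃ a ∈ A, a • u ∈ fx V B := by
  obtain ⟨x, hx, y, hy, rfl⟩ := f.exists_add h u
  obtain ⟨a, ha, k⟩ := f.surj h hu ((fx V A).neg_mem hx)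
  refine ⟨a, ha, ?_⟩
  have : a • (x + y) = (dl a (x + y) - -x) + y := by rw [smul_eq_add_dl]; abel
  rw [this]; exact (fx V B).add_mem k hy

/-- `[V, a] ∩ C_V(B) = 0`. -/
theorem dl_eq_zero {a : P} (ha : a ∈ A) (h1 : a ≠ 1) {v : V} (k : dl a v ∈ fx V B) :
    dl a v = 0 := by
  by_cases hv : v ∈ fx V A
  · exact dl_of_mem_fx ha hv
  · exact (h1 (f.inj h hv ha k)).elim

theorem range_inf {a : P} (ha : a ∈ A) (h1 : a ≠ 1) : (dl a : V →+ V).range ⊓ fx V B = ⊥ := by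
  rw [eq_bot_iff]
  rintro _ ⟨⟨v, rfl⟩, k⟩
  exact f.dl_eq_zero h ha h1 k

theorem range_sup {a : P} (ha : a ∈ A) (h1 : a ≠ 1) : (dl a : V →+ V).range ⊔ fx V B = ⊤ := by
  apply add_eq_top_of_card_le
  have h2 := card_add_eq (dl a : V →+ V).range (fx V B)
  rw [f.range_inf h ha h1, AddSubgroup.card_bot, one_mul, h.card_range f.memA ha h1, f.card,
    h.card B f.memB] at h2
  exact h2.le

/-- `V = [V, a] + C_V(B)`. -/
theorem exists_dl_add {a : P} (ha : a ∈ A) (h1 : a ≠ 1) (v : V) :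
    ∃ w : V, ∃ y ∈ fx V B, dl a w + y = v := by
  have : v ∈ (dl a : V →+ V).range ⊔ fx V B := by rw [f.range_sup h ha h1]; trivial
  obtain ⟨_, ⟨w, rfl⟩, y, hy, e⟩ := AddSubgroup.mem_sup.1 this
  exact ⟨w, y, hy, e⟩

/-- `C_V(A) = [V, a] + C_V(A ⊔ B)`. -/
theorem exists_dl_add' {a : P} (ha : a ∈ A) (h1 : a ≠ 1) {v : V} (hv : v ∈ fx V A) :
    ∃ w : V, ∃ y ∈ fx V (A ⊔ B), dl a w + y = v := by
  obtain ⟨w, y, hy, e⟩ := f.exists_dl_add h ha h1 v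
  refine ⟨w, y, ?_, e⟩
  rw [fx_sup]
  exact ⟨by rw [← sub_eq_iff_eq_add'.2 e.symm]; exact (fx V A).sub_mem hv (h.dl_mem f.memA ha w), hy⟩

theorem fx_sup_cm : fx V (A ⊔ B) ⊔ cm V (A ⊔ B) = ⊤ := by
  rw [eq_top_iff]
  intro v _
  obtain ⟨a, ha, ha1⟩ := h.exists_ne_one f.memA
  obtain ⟨b, hb, hb1⟩ := h.exists_ne_one f.memB
  obtain ⟨w, y, hy, rfl⟩ := f.exists_dl_add h ha ha1 v
  obtain ⟨w', y', hy', rfl⟩ := f.symm.exists_dl_add' h hb hb1 hy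
  rw [sup_comm B] at hy'
  exact AddSubgroup.add_mem _ (AddSubgroup.mem_sup_right (dl_mem_cm (mem_sup_left ha) _))
    (AddSubgroup.add_mem _ (AddSubgroup.mem_sup_right (dl_mem_cm (mem_sup_right hb) _))
      (AddSubgroup.mem_sup_left hy'))

theorem exists_dl_ne {a : P} (ha : a ∈ A) (h1 : a ≠ 1) : ∃ v : V, dl a v ∉ fx V B := by
  obtain ⟨u, -, hu⟩ := f.exists_not_mem h
  exact ⟨u, fun k => h1 (f.inj h hu ha k)⟩

theorem eq_one_of_cj_eq {a : P} (ha : a ∈ A) (e : cj(a, B) = B) : a = 1 := by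
  obtain ⟨u, hu, hu'⟩ := f.exists_not_mem h
  exact f.injA a ha u hu (smul_mem_fx (cj_eq_iff.1 e) hu) hu'

theorem not_comm : ¬ A ≤ 𝐂[B] := fun hc => by
  obtain ⟨a, ha, ha1⟩ := h.exists_ne_one f.memA
  exact ha1 (f.eq_one_of_cj_eq h ha (cj_of_mem_normalizer (centralizer_le_normalizer' B (hc ha))))

/-- An element normalizing `B` and acting trivially on `C_V(A)` and `C_V(B)` modulo
`C_V(A) ∩ C_V(B)` centralizes `B`. -/
theorem comm_of_trivial {g : P} (hg : g ∈ 𝐍[B]) (h1 : ∀ u ∈ fx V A, dl g u ∈ fx V B)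
    (h2 : ∀ u ∈ fx V B, dl g u ∈ fx V A) {b : P} (hb : b ∈ B) : g * b = b * g := by
  obtain ⟨u, hu, hu'⟩ := f.symm.exists_not_mem h
  have hb' := conj_mem_of_mem_normalizer hg hb
  have k : dl (g * b * g⁻¹ * b⁻¹) (g • u) ∈ fx V A := by
    rw [h.dl_mul_eq f.memB hb' (B.inv_mem hb), h.dl_inv_eq f.memB hb, ← smul_dl, smul_eq_add_dl g u,
      map_add, dl_of_mem_fx hb (h1 u hu), add_zero, ← sub_eq_add_neg, ← dl_apply]
    exact h2 _ (h.dl_mem f.memB hb u)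
  have := f.symm.inj h (fun k2 => hu' ((mem_fx_iff_smul hg).1 k2)) (B.mul_mem hb' (B.inv_mem hb)) k
  calc g * b = (g * b * g⁻¹ * b⁻¹) * (b * g) := by group
    _ = b * g := by rw [this, one_mul]

/-- A `p`-subgroup centralizing `A` and normalizing `B` centralizes `B` and `V / C_V(A ⊔ B)`. -/
theorem trivial_of_pgroup [Fact p.Prime] {R : Subgroup P} (hR : IsPGroup p R) (hRA : R ≤ 𝐂[A])
    (hRB : R ≤ 𝐍[B]) : cm V R ≤ fx V A ⊓ fx V B ∧ R ≤ 𝐂[B] := by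
  obtain ⟨⟨b, hb, hbR⟩, hb1⟩ := ne_bot_iff_exists_ne_one.1
    (inf_centralizer_ne_bot hR (h.pgrp f.memB) hRB (h.ne_bot B f.memB))
  replace hb1 : b ≠ 1 := fun e => hb1 (Subtype.ext e)
  have hRA' : R ≤ 𝐍[A] := hRA.trans (centralizer_le_normalizer' A)
  obtain ⟨u, ⟨v, hv⟩, hu0, hu⟩ := exists_fixed h.exp hR (U := (dl b : V →+ V).range)
    (by
      rintro r hr _ ⟨v, rfl⟩
      exact ⟨r • v, (smul_dl_of_comm ((mem_centralizer_iff.1 hbR) r hr) v).symm⟩)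
    (by
      obtain ⟨v, hv⟩ := f.symm.exists_dl_ne h hb hb1
      intro e
      have : dl b v ∈ (dl b : V →+ V).range := ⟨v, rfl⟩
      rw [e, AddSubgroup.mem_bot] at this
      exact hv (this ▸ (fx V A).zero_mem))
  have huA : u ∉ fx V A := fun k => hu0 (hv ▸ f.symm.dl_eq_zero h hb hb1 (hv ▸ k))
  have h1 : ∀ r ∈ R, ∀ x ∈ fx V A, dl r x ∈ fx V B := fun r hr x hx => by
    obtain ⟨a, ha, k⟩ := f.surj h huA hx
    have e : dl r x = -dl r (dl a u - x) := by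
      rw [map_sub, ← dl_dl_comm (mul_comm_of_le_cent hRA hr ha).symm, dl_of_mem_fx hr hu, map_zero,
        zero_sub, neg_neg]
    rw [e, dl_apply]
    exact (fx V B).neg_mem ((fx V B).sub_mem (smul_mem_fx (hRB hr) k) k)
  have h2 : ∀ r ∈ R, ∀ y ∈ fx V B, dl r y ∈ fx V A := fun r hr y _ => by
    by_contra k
    obtain ⟨a, ha, ha1⟩ := h.exists_ne_one f.memA
    refine ha1 (f.inj h k ha ?_)
    rw [← dl_dl_comm (mul_comm_of_le_cent hRA hr ha)]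
    exact h1 r hr _ (h.dl_mem f.memA ha y)
  refine ⟨cm_le_iff.2 fun r hr v => ?_, le_cent_of_forall fun r hr b hb =>
    f.comm_of_trivial h (hRB hr) (h1 r hr) (h2 r hr) hb⟩
  obtain ⟨x, hx, y, hy, rfl⟩ := f.exists_add h v
  rw [map_add]
  exact AddSubgroup.add_mem _
    ⟨(fx V A).sub_mem (smul_mem_fx (hRA' hr) hx) hx, h1 r hr x hx⟩
    ⟨h2 r hr y hy, (fx V B).sub_mem (smul_mem_fx (hRB hr) hy) hy⟩

end FW

end Cfsg.Agent.PLocal.TV
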