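import Mathlib
import Cfsg.Agent.PLocal.ZCa
import Cfsg.Agent.FT.B12Rank
import Cfsg.Agent.S0217

/-! Kurzweil-Stellmacher 12.1, Theorem 2 (ZC-groups). -/

set_option autoImplicit false

namespace Cfsg.Agent.PLocal.ZC

open Cfsg Cfsg.Agent.PLocal.Amb Cfsg.Agent.Inv Cfsg.Agent.Inv.CoreSig Subgroup

variable {G : Type*} [Group G] [Finite G]

theorem closure_odd (hC : ∀ t : G, orderOf t = 2 → Group.IsSolvable ↥(centralizer ({t} : Set G)))
    {F : Subgroup G} (hF : IsElementaryAbelian 2 F) (h8 : 8 ≤ Nat.card F) :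
    ¬ 2 ∣ Nat.card (signalizerClosure F (centralizerPPrimeCore 2)) := by
  have hθ : EqFun (centralizerPPrimeCore 2 : G → Subgroup G) :=
    eqFun_core_of_constrained fun t ht => PCA.isPConstrained_of_isSolvable (hC t ht)
  have ho : ∀ a ∈ F, a ≠ 1 → orderOf a = 2 := fun a ha h1 => orderOf_eq_prime (hF.2 a ha) h1
  refine (S0217.result (p := 2) F (fun a ha b hb => ea_comm hF ha hb) hF.2 h8
    (centralizerPPrimeCore 2) (fun a ha h1 => hθ.le a (ho a ha h1))
    (fun a ha h1 => hθ.odd a (ho a ha h1)) (fun a ha _ b hb x hx => ?_)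
    (fun a ha h1 => Solv.isSolvable_of_le (hθ.le a (ho a ha h1)) (hC a (ho a ha h1)))
    (fun a ha h1 b hb h2 => hθ.bal a b (ho a ha h1) (ho b hb h2) (ea_comm hF ha hb))).1
  exact conj_mem_of_mem_normalizer (hθ.centralizer_le_normalizer a
    (mem_centralizer_singleton_iff.2 (ea_comm hF hb ha))) hx

/-- The case of a central four-group and `2`-rank at least three. -/
theorem strEmb_or_core_bot (heven : Even (Nat.card G))
    (hC : ∀ t : G, orderOf t = 2 → Group.IsSolvable ↥(centralizer ({t} : Set G)))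
    (hO' : pPrimeCore 2 G = ⊥) (hO : pCore 2 G = ⊥) {S V : Subgroup G} (hS : IsSyl 2 S ⊤)
    (hV : IsKleinFour V) (hVS : V ≤ S) (hVc : V ≤ 𝐂[S]) {t₀ : G} (ht₀S : t₀ ∈ S)
    (ht₀ : orderOf t₀ = 2) (ht₀V : t₀ ∉ V) :
    (∃ M : Subgroup ↥(pResidual 2 G), IsStronglyEmbedded M) ∨
      ∀ t : G, orderOf t = 2 → centralizerPPrimeCore 2 t = ⊥ := by
  have hc : ∀ t : G, orderOf t = 2 → IsPConstrained 2 (centralizer ({t} : Set G)) :=
    fun t ht => PCA.isPConstrained_of_isSolvable (hC t ht)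
  have hθ := eqFun_core_of_constrained hc
  set W := signalizerClosure V (centralizerPPrimeCore 2 : G → Subgroup G) with hW
  have hF : ∀ t ∈ S, orderOf t = 2 → t ∉ V → IsElementaryAbelian 2 (V ⊔ zpowers t) ∧
      Nat.card ↥(V ⊔ zpowers t) = 8 := by
    intro t htS ht htV
    have hcm : ∀ a ∈ V, t * a = a * t := fun a ha => hVc ha t htS
    refine ⟨Misc.isElementaryAbelian_two_iff.2 (Misc.sq_eq_one_sup_zpowers (ea_of_klein hV).2
      (mul_self_of_orderOf_two ht) hcm), ?_⟩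
    rw [Misc.card_sup_zpowers_two (mul_self_of_orderOf_two ht) htV
      (Misc.mem_normalizer_of_comm hcm), hV.card_four]
  have hodd : ¬ 2 ∣ Nat.card W := by
    obtain ⟨h1, h2⟩ := hF t₀ ht₀S ht₀ ht₀V
    rw [hW, ← hθ.closure_eq_of_le_ea h1 hV le_sup_left]
    exact closure_odd hC h1 h2.ge
  have hgood : EqFun.Good (centralizerPPrimeCore 2) W S := fun U hUS hU =>
    hθ.closure_eq_of_commute hU hV fun a ha b hb => hVc hb a (hUS ha)
  have hle : ∀ t ∈ S, orderOf t = 2 → centralizerPPrimeCore 2 t ≤ W := fun t htS ht =>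
    hθ.le_closure_of_commute_klein ht hV fun v hv => (hVc hv t htS).symm
  by_cases hW1 : W = ⊥
  · right
    intro t ht
    obtain ⟨g, -, hg⟩ := hS.exists_cj_le (isPGroup_zpowers_of_orderOf_two ht) le_top
    have := hle _ (hg (conj_mem_cj g (mem_zpowers t))) (by rw [orderOf_conj, ht])
    rwa [hW1, le_bot_iff, hθ.conj, cj_eq_bot] at this
  left
  have hSW : S ≤ 𝐍[W] := le_normalizer.trans (hθ.normalizer_le_of_good hgood le_rfl hVS hV)
  have hgood' : ∀ S' : Subgroup G, IsSyl 2 S' ⊤ → V ≤ S' →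
      EqFun.Good (centralizerPPrimeCore 2) W S' := by
    intro S' hS' hVS'
    obtain ⟨g, -, rfl⟩ := hS'.exists_cj_eq hS
    have h1 : ∀ U, U ≤ cj(g, S) → IsKleinFour U → signalizerClosure U (centralizerPPrimeCore 2) =
        signalizerClosure cj(g, V) (centralizerPPrimeCore 2) := fun U hUS hU =>
      hθ.closure_eq_of_commute hU (klein_cj hV g) fun a ha b hb => by
        have := cj_mono g hVc
        rw [← centralizer_cj] at this
        exact this hb a (hUS ha)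
    intro U hUS hU
    rw [h1 U hUS hU, hW, h1 V hVS' hV]
  have hcent : ∀ t ∈ S, orderOf t = 2 → centralizer {t} ≤ 𝐍[W] := by
    intro t htS ht
    obtain ⟨F, hVF, hFt, hF, hF8⟩ : ∃ F, V ≤ F ∧ F ≤ centralizer {t} ∧ IsElementaryAbelian 2 F ∧
        8 ≤ Nat.card F := by
      by_cases htV : t ∈ V
      · obtain ⟨h1, h2⟩ := hF t₀ ht₀S ht₀ ht₀V
        exact ⟨_, le_sup_left, fun x hx => mem_centralizer_singleton_iff.2
          (ea_comm h1 hx (mem_sup_left htV)), h1, h2.ge⟩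
      · obtain ⟨h1, h2⟩ := hF t htS ht htV
        exact ⟨_, le_sup_left, fun x hx => mem_centralizer_singleton_iff.2
          (ea_comm h1 hx (mem_sup_right (mem_zpowers t))), h1, h2.ge⟩
    obtain ⟨T, hT, hFT⟩ := exists_isSyl_ge (isPGroup_of_ea hF) hFt
    obtain ⟨S', hS', hTS'⟩ := exists_isSyl_ge hT.pgrp (le_top : T ≤ ⊤)
    obtain ⟨Q, hQT, ⟨U', hU'Q, hU'⟩, hle'⟩ :=
      exists_rank_two_of_constrained_amb (hc t ht) hT hFt hF hF8
    exact hle'.trans (sup_le ((hle t htS ht).trans le_normalizer) (hθ.normalizer_le_of_good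
      (hgood' S' hS' ((hVF.trans hFT).trans hTS')) (hQT.trans hTS') hU'Q hU'))
  have key : ∀ Y, Y ≤ S → Y ≠ ⊥ → 𝐍[Y] ≤ 𝐍[W] := by
    intro Y hY hY1
    have hYp : IsPGroup 2 Y := hS.pgrp.to_le hY
    by_cases hu : ∀ x ∈ Y, ∀ y ∈ Y, orderOf x = 2 → orderOf y = 2 → x = y
    · obtain ⟨t, htY, ht⟩ := exists_involution_of_isPGroup hYp hY1
      refine le_trans (fun g hg => ?_) (hcent t (hY htY) ht)
      rw [mem_centralizer_singleton_iff]
      exact mul_inv_eq_iff_eq_mul.1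
        (hu _ (conj_mem_of_mem_normalizer hg htY) t htY (by rw [orderOf_conj, ht]) ht)
    · obtain ⟨U, hUY, hU⟩ := exists_klein_of_not_unique hYp hu
      exact hθ.normalizer_le_of_good hgood hY hUY hU
  refine exists_strEmb heven hO' hO hS hodd hW1 hSW fun t _ htW ht g _ hg => ?_
  refine mem_of_normalizers_le (p := 2) (fun X hX hXp hX1 => ?_)
    (isPGroup_zpowers_of_orderOf_two ht) (by simpa using ne_one_of_orderOf_two ht)
    (zpowers_le.2 htW) ?_
  · obtain ⟨m, hm, hmX⟩ := (hS.mono hSW le_top).exists_cj_le hXp hX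
    have := key _ hmX (by rwa [Ne, cj_eq_bot])
    rwa [normalizer_cj, cj_le_iff, cj_of_mem (inv_mem hm)] at this
  · rw [MonoidHom.map_zpowers, zpowers_le]; exact hg

/-- The case of a unique central involution which is not weakly closed. -/
theorem Zs.strEmb_or_core_bot (heven : Even (Nat.card G))
    (hC : ∀ t : G, orderOf t = 2 → Group.IsSolvable ↥(centralizer ({t} : Set G)))
    (hO' : pPrimeCore 2 G = ⊥) (hO : pCore 2 G = ⊥) {z : G} {S : Subgroup G} (h : Zs z S)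
    {g : G} (hg : g * z * g⁻¹ ∈ S) (hne : g * z * g⁻¹ ≠ z) :
    (∃ M : Subgroup ↥(pResidual 2 G), IsStronglyEmbedded M) ∨
      ∀ t ∈ pResidual 2 G, orderOf t = 2 → centralizerPPrimeCore 2 t = ⊥ := by
  have hθ : EqFun (centralizerPPrimeCore 2 : G → Subgroup G) :=
    eqFun_core_of_constrained fun t ht => PCA.isPConstrained_of_isSolvable (hC t ht)
  have hn := pResidual_normal (G := G) 2
  by_cases hW1 : centralizerPPrimeCore 2 z = ⊥
  · right
    intro t htH ht
    obtain ⟨k, -, hk⟩ := h.syl.exists_cj_le (isPGroup_zpowers_of_orderOf_two ht) le_top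
    have := h.core_eq hθ hg hne (hk (conj_mem_cj k (mem_zpowers t))) (hn.conj_mem t htH k)
      (by rw [orderOf_conj, ht])
    rwa [hW1, hθ.conj, cj_eq_bot] at this
  left
  have hSW : S ≤ 𝐍[centralizerPPrimeCore 2 z] := h.cent.trans (hθ.centralizer_le_normalizer z)
  have key : ∀ t ∈ pResidual 2 G, t ∈ 𝐍[centralizerPPrimeCore 2 z] → orderOf t = 2 →
      centralizerPPrimeCore 2 t = centralizerPPrimeCore 2 z := by
    intro t htH htN ht
    obtain ⟨k, hkN, hk⟩ := (h.syl.mono hSW le_top).exists_cj_le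
      (isPGroup_zpowers_of_orderOf_two ht) (zpowers_le.2 htN)
    have := h.core_eq hθ hg hne (hk (conj_mem_cj k (mem_zpowers t))) (hn.conj_mem t htH k)
      (by rw [orderOf_conj, ht])
    rw [hθ.conj] at this
    exact cj_inj.1 (this.trans (cj_of_mem_normalizer hkN).symm)
  refine exists_strEmb heven hO' hO h.syl (hθ.odd z h.ord) hW1 hSW fun t htH htN ht k _ hk => ?_
  have := key _ (hn.conj_mem t htH k) hk (by rw [orderOf_conj, ht])
  rwa [hθ.conj, key t htH htN ht, cj_eq_iff] at this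

omit [Finite G] in
theorem mem_omega_center {S : Subgroup G} {x : G} :
    x ∈ omegaOne 2 (S ⊓ 𝐂[S]) ↔ x ∈ S ∧ x ∈ 𝐂[S] ∧ x ^ 2 = 1 :=
  ⟨fun h => ⟨(FT.B12.omegaOne_le _ _ h).1, (FT.B12.omegaOne_le _ _ h).2,
    (FT.B12.isEA_omegaOne (FT.abelian_center S)).2 x h⟩,
    fun h => FT.B12.mem_omegaOne ⟨h.1, h.2.1⟩ h.2.2⟩

theorem normal_pResidual_sup {S K : Subgroup G} (hS : IsSyl 2 S ⊤) (hK : S ≤ 𝐍[K]) :
    (pResidual 2 G ⊔ K).Normal := by
  have hn := pResidual_normal (G := G) 2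
  rw [← normalizer_eq_top_iff, eq_top_iff, ← pResidual_sup hS]
  exact sup_le (le_sup_left.trans le_normalizer)
    (le_normalizer_sup (by rw [normalizer_eq_top]; exact le_top) hK)

theorem zc (heven : Even (Nat.card G))
    (hC : ∀ t : G, orderOf t = 2 → Group.IsSolvable ↥(centralizer ({t} : Set G)))
    (hO' : pPrimeCore 2 G = ⊥) (hO : pCore 2 G = ⊥) {S : Subgroup G} (hS : IsSyl 2 S ⊤)
    (hZ : 𝐂[omegaOne 2 (S ⊓ 𝐂[S])] ≤ 𝐍[S]) :
    (∃ M : Subgroup ↥(pResidual 2 G), IsStronglyEmbedded M) ∨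
      (Nat.card ↥(omegaOne 2 (S ⊓ 𝐂[S]) ⊓ pResidual 2 G) = 2 ∧ ∀ h ∈ pResidual 2 G,
        ∀ z ∈ omegaOne 2 (S ⊓ 𝐂[S]) ⊓ pResidual 2 G, h * z * h⁻¹ ∈ S →
          h * z * h⁻¹ ∈ omegaOne 2 (S ⊓ 𝐂[S])) ∨
      (Nat.card ↥(omegaOne 2 (S ⊓ 𝐂[S])) = 4 ∧
        omegaOne 2 (S ⊓ pResidual 2 G) = omegaOne 2 (S ⊓ 𝐂[S])) ∨
      IsCharacteristicTwoType ↥(pResidual 2 G ⊔ omegaOne 2 (S ⊓ 𝐂[S])) := by
  have hc : ∀ t : G, orderOf t = 2 → IsPConstrained 2 (centralizer ({t} : Set G)) :=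
    fun t ht => PCA.isPConstrained_of_isSolvable (hC t ht)
  have hn := pResidual_normal (G := G) 2
  set Z := omegaOne 2 (S ⊓ 𝐂[S]) with hZdef
  have hZe : IsElementaryAbelian 2 Z := FT.B12.isEA_omegaOne (FT.abelian_center S)
  have hZS : Z ≤ S := fun x hx => (mem_omega_center.1 hx).1
  have hZc : Z ≤ 𝐂[S] := fun x hx => (mem_omega_center.1 hx).2.1
  have hSZ : S ≤ 𝐍[Z] := (le_centralizer_iff.1 hZc).trans (centralizer_le_normalizer' Z)
  obtain ⟨z, hz, hz2⟩ := exists_involution_of_isPGroup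
    ((hS.pgrp.to_le inf_le_left).to_le inf_le_left)
    (inf_centralizer_ne_bot hS.pgrp (hS.pgrp.to_le inf_le_left)
      (le_normalizer_inf le_normalizer (by rw [normalizer_eq_top]; exact le_top))
      (syl_inf_pResidual_ne_bot heven hO' hO hS))
  have hzZ : z ∈ Z := mem_omega_center.2 ⟨hz.1.1, hz.2, sq_of_orderOf_two hz2⟩
  have hKn := normal_pResidual_sup hS hSZ
  have hKe : Even (Nat.card ↥(pResidual 2 G ⊔ Z)) := even_card_of_involution (mem_sup_right hzZ) hz2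
  by_cases hu : ∀ y ∈ Z, orderOf y = 2 → y = z
  · have hZz : Z = zpowers z := by
      refine le_antisymm (fun y hy => ?_) (zpowers_le.2 hzZ)
      by_cases hy1 : y = 1
      · rw [hy1]; exact one_mem _
      · rw [hu y hy (orderOf_eq_prime (hZe.2 y hy) hy1)]; exact mem_zpowers z
    have hZH : Z ≤ pResidual 2 G := hZz ▸ zpowers_le.2 hz.1.2
    have hZs : Zs z S := ⟨hS, hz2, hz.1.1,
      fun s hs => mem_centralizer_singleton_iff.2 (hz.2 s hs),
      by rw [← centralizer_zpowers, ← hZz]; exact hZ,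
      fun y hy hyc hy2 => hu y (mem_omega_center.2 ⟨hy, hyc, sq_of_orderOf_two hy2⟩) hy2⟩
    by_cases hw : ∀ g : G, g * z * g⁻¹ ∈ S → g * z * g⁻¹ = z
    · right; left
      refine ⟨by rw [inf_eq_left.2 hZH, hZz, Nat.card_zpowers, hz2], fun h _ y hy hyS => ?_⟩
      by_cases hy1 : y = 1
      · rw [hy1]; simp
      · have := hu y hy.1 (orderOf_eq_prime (hZe.2 y hy.1) hy1)
        subst this
        rw [hw h hyS]; exact hzZ
    · push Not at hw
      obtain ⟨g, hg, hne⟩ := hw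
      rcases hZs.strEmb_or_core_bot heven hC hO' hO hg hne with h | h
      · exact Or.inl h
      · right; right; right
        refine charTwoType_of_core_bot hc hKn hKe fun t ht => h t ?_
        rwa [sup_eq_left.2 hZH] at ht
  obtain ⟨V, hVZ, hV⟩ := exists_klein_of_not_unique (isPGroup_of_ea hZe)
    (fun h => hu fun y hy hy2 => h y hy z hzZ hy2 hz2)
  by_cases ht : ∃ t ∈ S, orderOf t = 2 ∧ t ∉ V
  · obtain ⟨t, htS, ht2, htV⟩ := ht
    rcases strEmb_or_core_bot heven hC hO' hO hS hV (hVZ.trans hZS) (hVZ.trans hZc) htS ht2 htV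
      with h | h
    · exact Or.inl h
    · exact Or.inr (Or.inr (Or.inr (charTwoType_of_core_bot hc hKn hKe fun t _ => h t)))
  push Not at ht
  have hin : ∀ y ∈ S, y ^ 2 = 1 → y ∈ V := by
    intro y hy hy2
    by_cases hy1 : y = 1
    · rw [hy1]; exact one_mem _
    · exact ht y hy (orderOf_eq_prime hy2 hy1)
  have hVeq : V = Z := le_antisymm hVZ fun y hy => hin y (hZS hy) (hZe.2 y hy)
  have h4 : Nat.card Z = 4 := hVeq ▸ hV.card_four
  by_cases hZH : Z ≤ pResidual 2 G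
  · right; right; left
    refine ⟨h4, le_antisymm ?_ fun y hy => FT.B12.mem_omegaOne
      (mem_inf.2 ⟨hZS hy, hZH hy⟩) (hZe.2 y hy)⟩
    rw [omegaOne, closure_le]
    exact fun y hy => hVZ (hin y hy.1.1 hy.2)
  · right; left
    refine ⟨FT.B12.card_eq_of_lt_sq Nat.prime_two (h4.trans (by norm_num)) inf_le_left
      (fun e => ?_) (fun e => hZH (inf_eq_left.1 e)), fun h _ y hy hyS => hVZ (hin _ hyS ?_)⟩
    · have : z ∈ Z ⊓ pResidual 2 G := ⟨hzZ, hz.1.2⟩
      rw [e, mem_bot] at this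
      exact ne_one_of_orderOf_two hz2 this
    · rw [conj_pow, hZe.2 y hy.1]; group

end Cfsg.Agent.PLocal.ZC
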