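import Mathlib
import Cfsg.Agent.PLocal.ZCb
import Cfsg.Agent.PLocal.ZCs4
import Cfsg.Agent.S0518

/-! Kurzweil-Stellmacher 12.1, Theorem 1 (ZN-groups), from Theorem 2 and Theorem 3. -/

set_option autoImplicit false

namespace Cfsg.Agent.PLocal.ZC

open Cfsg Cfsg.Agent.PLocal.Amb Cfsg.Agent.Inv Cfsg.Agent.Inv.CoreSig Subgroup

variable {G : Type*} [Group G] [Finite G]

omit [Finite G] in
theorem isQuasiDihedral_of_mulEquiv {H : Type*} [Group H] (e : G ≃* H) (h : IsQuasiDihedral G) :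
    IsQuasiDihedral H := by
  obtain ⟨n, hn, hc, x, y, hx, hy, hxy⟩ := h
  refine ⟨n, hn, (Nat.card_congr e.toEquiv).symm.trans hc, e x, e y, ?_, ?_, ?_⟩
  · rw [e.orderOf_eq, hx]
  · rw [e.orderOf_eq, hy]
  · rw [← map_inv, ← map_mul, ← map_mul, hxy, map_pow]

/-- A strongly embedded subgroup of `K` restricts to a normal subgroup of even order. -/
theorem strEmb_comap {K H : Subgroup G} (hHK : H ≤ K) (hH : H.Normal) {z : G} (hz : z ∈ H)
    (hz2 : orderOf z = 2) {M : Subgroup K} (hM : IsStronglyEmbedded M) :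
    IsStronglyEmbedded (M.comap (inclusion hHK)) := by
  have hall : ∀ t : K, orderOf t = 2 → (t : G) ∈ H := by
    intro t ht
    have hz' : orderOf (⟨z, hHK hz⟩ : K) = 2 := by rw [← Subgroup.orderOf_coe]; exact hz2
    obtain ⟨c, hc⟩ := isConj_iff.1 (SE.isConj hM hz' ht)
    rw [← hc]
    exact hH.conj_mem z hz c
  have hord : ∀ x : H, orderOf (inclusion hHK x) = orderOf x :=
    fun x => orderOf_injective _ (inclusion_injective hHK) x
  rw [isStronglyEmbedded_iff]
  refine ⟨?_, ?_, fun t ht ht2 g hg => ?_⟩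
  · obtain ⟨s, hs, hs2⟩ := SE.exists_involution_not_mem hM
    intro htop
    have : (⟨s, hall s hs2⟩ : H) ∈ M.comap (inclusion hHK) := htop ▸ mem_top _
    exact hs this
  · obtain ⟨t, ht, ht2⟩ := SE.exists_involution hM
    have hm : (⟨t, hall t ht2⟩ : H) ∈ M.comap (inclusion hHK) := ht
    have h2 : orderOf (⟨t, hall t ht2⟩ : H) = 2 := by rw [← hord]; exact ht2
    exact even_iff_two_dvd.2 (h2 ▸ Subgroup.orderOf_dvd_natCard _ hm)
  · exact SE.mem_of_conj_mem hM (t := inclusion hHK t) ht (by rw [hord, ht2])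
      (by simpa using hg)

theorem zn (heven : Even (Nat.card G))
    (hN : ∀ L : Subgroup G, IsTwoLocal L → Group.IsSolvable L)
    (hZ : ∀ S : Sylow 2 G, 𝐂[omegaOne 2 ((S : Subgroup G) ⊓ 𝐂[(S : Subgroup G)])] ≤
      𝐍[(S : Subgroup G)])
    (hO' : pPrimeCore 2 G = ⊥) (hO : pCore 2 G = ⊥) {S : Subgroup G} (hS : IsSyl 2 S ⊤)
    (hK : IsCharacteristicTwoType ↥(pResidual 2 G ⊔ omegaOne 2 (S ⊓ 𝐂[S]))) :
    (∃ M : Subgroup ↥(pResidual 2 G), IsStronglyEmbedded M) ∨
      ((∃ n : ℕ, 2 ≤ n ∧ Nonempty (↥(S ⊓ pResidual 2 G) ≃* DihedralGroup n)) ∨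
        IsQuasiDihedral ↥(S ⊓ pResidual 2 G)) := by
  set H := pResidual 2 G with hHdef
  set Z := omegaOne 2 (S ⊓ 𝐂[S]) with hZdef
  set K := H ⊔ Z with hKdef
  have hHn : H.Normal := pResidual_normal 2
  have hKn : K.Normal := by
    refine normal_pResidual_sup hS fun s hs => centralizer_le_normalizer' _ fun z hz => ?_
    exact ((mem_omega_center.1 hz).2.1 s hs).symm
  have hO2 : pCore 2 K = ⊥ := by
    rw [← pCoreOf_eq_bot_iff, eq_bot_iff, ← hO, ← pCoreOf_top]
    exact pCoreOf_mono_of_normal le_top (by rw [normalizer_eq_top])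
  have hNK : ∀ N : Subgroup K, IsTwoLocal N → Group.IsSolvable N := by
    rintro _ ⟨T, hT, hT1, rfl⟩
    have hs := hN 𝐍[T.map K.subtype] ⟨_, hT.map _, by
      rwa [Ne, map_eq_bot_iff_of_injective _ K.subtype_injective], rfl⟩
    have hle : (𝐍[T]).map K.subtype ≤ 𝐍[T.map K.subtype] := le_normalizer_map _
    have := Solv.isSolvable_of_le hle hs
    exact Group.isSolvable_of_isSolvable_injective (f := (equivMapOfInjective 𝐍[T] _ K.subtype_injective).toMonoidHom)
      (MulEquiv.injective _)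
  have hZK : ∀ P : Sylow 2 K, centralizer {z : K | z ∈ (P : Subgroup K) ∧ z ^ 2 = 1 ∧
      ∀ s ∈ (P : Subgroup K), s * z = z * s} ≤ 𝐍[(P : Subgroup K)] := by
    intro P c hc
    have hP := isSyl_map_subtype P
    obtain ⟨S', hS', hPS'⟩ := exists_isSyl_ge hP.2 (le_top (a := (P : Subgroup K).map K.subtype))
    have hPe : S' ⊓ K = (P : Subgroup K).map K.subtype :=
      hP.eq (hS'.2.to_inf_left) (le_inf hPS' (map_subtype_le _)) inf_le_right
    obtain ⟨g, -, hg⟩ := hS'.exists_cj_eq hS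
    obtain ⟨Q, hQ⟩ := hS'.exists_sylow_top
    have hcS : (c : G) ∈ 𝐍[S'] := by
      rw [← hQ]
      refine hZ Q fun w hw => ?_
      rw [hQ] at hw
      obtain ⟨hw1, hw2, hw3⟩ := mem_omega_center.1 hw
      have hwK : w ∈ K := by
        have : g⁻¹ * w * g ∈ Z := by
          refine mem_omega_center.2 ⟨?_, ?_, ?_⟩
          · rw [← hg] at hw1; exact mem_cj.1 hw1
          · rw [← hg, centralizer_cj] at hw2; exact mem_cj.1 hw2
          · have : (g⁻¹ * w * g) ^ 2 = g⁻¹ * w ^ 2 * g := by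
              simp only [sq, mul_assoc, mul_inv_cancel_left]
            rw [this, hw3]; simp
        have h2 := hKn.conj_mem _ (mem_sup_right this : _ ∈ K) g
        simpa [mul_assoc] using h2
      have hwP : (⟨w, hwK⟩ : K) ∈ (P : Subgroup K) := by
        rw [← mem_map_subtype, ← hPe]; exact ⟨hw1, hwK⟩
      have := hc ⟨w, hwK⟩ ⟨hwP, Subtype.ext hw3, fun s hs => Subtype.ext
        (hw2 s (hPS' (mem_map_subtype.2 hs)))⟩
      exact congrArg Subtype.val this
    rw [normalizer_eq_subgroupOf, mem_subgroupOf, ← hPe]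
    exact le_normalizer_inf (L := zpowers (c : G)) (zpowers_le.2 hcS)
      (by rw [normalizer_eq_top]; exact le_top) (mem_zpowers _)
  have hR1 : S ⊓ H ≠ ⊥ := syl_inf_pResidual_ne_bot heven hO' hO hS
  have hR : IsSyl 2 (S ⊓ H) H := hS.inf_of_le le_top (by rw [normalizer_eq_top])
  obtain ⟨H', hH'⟩ : ∃ H' : Subgroup K, H' = closure {g : K | Odd (orderOf g)} := ⟨_, rfl⟩
  rcases S0518.result hK hO2 hNK hZK H' hH' with ⟨M, hM⟩ | ⟨M₁, -, -, ⟨⟨T, hT2, hT1, hTM⟩, -⟩, -, ⟨e⟩, -⟩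
  · left
    obtain ⟨z, hz, hz2⟩ : ∃ z ∈ S ⊓ H, orderOf z = 2 := by
      have h2 : 2 ∣ Nat.card ↥(S ⊓ H) := by
        rcases hR.2.card_eq_or_dvd with h | h
        · exact absurd (card_eq_one.1 h) hR1
        · exact h
      obtain ⟨z, hz⟩ := exists_prime_orderOf_dvd_card' 2 h2
      exact ⟨z, z.2, by rw [Subgroup.orderOf_coe]; exact hz⟩
    exact ⟨_, strEmb_comap (le_sup_left : H ≤ K) hHn hz.2 hz2 hM⟩
  · right
    subst hTM
    obtain ⟨a, b, c⟩ := klein_of_normalizer_s4 hT2 hT1 e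
    obtain ⟨R, hRs, hTR⟩ := exists_isSyl_ge hT2 (le_top (a := T))
    have hH'e : H'.map K.subtype = H := by
      have h1 : H' = pResidual 2 K := by
        rw [hH', pResidual]
        congr 1
        ext g
        simp
      have h2 : 𝐎[2, K] = 𝐎[2, (⊤ : Subgroup G)] :=
        pRes_eq_of_le (by rw [pRes_top]; exact le_sup_left) le_top
      rw [h1, ← pRes_subgroupOf, map_subgroupOf_of_le (pRes_le _ _), h2, pRes_top]
    let f : H' →* G := K.subtype.comp H'.subtype
    have hf : Function.Injective f := K.subtype_injective.comp H'.subtype_injective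
    have hRf : IsSyl 2 (R.map f) H := by
      have := hRs.map f
      rwa [show (⊤ : Subgroup H').map f = H by
        rw [← hH'e, ← map_map, ← MonoidHom.range_eq_map, range_subtype]] at this
    obtain ⟨g, -, hg⟩ := hR.exists_cj_eq hRf
    have e2 : R ≃* ↥(S ⊓ H) :=
      (equivMapOfInjective R f hf).trans
        ((equivMapOfInjective (R.map f) (MulAut.conj g).toMonoidHom (MulAut.conj g).injective).trans
          (MulEquiv.subgroupCongr hg))
    rcases dihedral_of_klein hRs.2 hTR a b c with ⟨n, hn, ⟨e3⟩⟩ | h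
    · exact Or.inl ⟨n, hn, ⟨e2.symm.trans e3⟩⟩
    · exact Or.inr (isQuasiDihedral_of_mulEquiv e2 h)

end Cfsg.Agent.PLocal.ZC
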